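import Cfsg.Agent.OddLocal.KappaDualBasics
import Cfsg.Agent.SolvStruct.ConjPi

/-!
# The set `A₀(M) \ A(M)`
-/

set_option linter.unusedSectionVars false
set_option linter.unusedVariables false
set_option linter.style.haveILetI false

namespace Cfsg.Lib.OddLocal.RankTwoMax

open Subgroup Uniqueness Sigma
open Cfsg.Lib.Coprime (conjMap)
open scoped commutatorElement

universe u

variable {G : Type u} [Group G] [Finite G] {M L K U : Subgroup G} {x : G}

local notation "fix(" M ", " K ")" => Cfsg.sigmaCore M ⊓ centralizer (SetLike.coe K)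
local notation "hat(" M ", " K ")" =>
  ((SetLike.coe (K ⊔ (Cfsg.sigmaCore M ⊓ centralizer (SetLike.coe K)))) \
    ((SetLike.coe K) ∪ (SetLike.coe (Cfsg.sigmaCore M ⊓ centralizer (SetLike.coe K)))))

/-- An element of `M` of order coprime to the index of a normal subgroup lies in it. -/
theorem mem_of_coprime_relIndex {N : Subgroup G} (hn : M ≤ normalizer (N : Set G)) (hx : x ∈ M)
    (h : ∀ t : ℕ, t.Prime → t ∣ orderOf x → ¬ t ∣ N.relIndex M) : x ∈ N := by
  haveI : (N.subgroupOf M).Normal := normal_subgroupOf_of_le_normalizer hn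
  have h1 := Subgroup.pow_index_mem (N.subgroupOf M) (⟨x, hx⟩ : M)
  rw [mem_subgroupOf, SubgroupClass.coe_pow] at h1
  obtain ⟨m, hm⟩ := exists_pow_eq_self_of_coprime (x := x) (n := (N.subgroupOf M).index)
    (Nat.coprime_of_dvd fun t ht h2 h3 => h t ht h3 h2)
  rw [← hm]
  exact pow_mem h1 m

/-- The `M`-conjugates of `Ẑ`. -/
theorem KappaDual.hat_conj_eq (hG : Cfsg.IsMinSimpleOddOrder G) (d : KappaDual M K L)
    (hd : Cfsg.IsSigmaDecomposition M K U) :
    {a : G | ∃ m ∈ M, ∃ z ∈ hat(M, K), a = m * z * m⁻¹} = Cfsg.sigmaA0 M K \ Cfsg.sigmaA M U := by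
  have hM := d.pair.max
  have hU := decomp_hall hG hM hd
  obtain ⟨E, hE⟩ := decomp_split hG hM hd
  have hn := hE.sup_normal
  have hrel : ∀ t : ℕ, t.Prime → t ∣ (U ⊔ Cfsg.sigmaCore M).relIndex M → t ∈ Cfsg.kappa M := fun t ht htd => by
    have hσ : t ∉ Cfsg.sigma M := fun hσ => (sigmaCore_hall hG hM).2.2 t ht hσ
      (htd.trans (relIndex_dvd_of_le_left M le_sup_right))
    by_contra hκ
    exact hU.2.2 t ht ⟨ht, hκ, hσ⟩ (htd.trans (relIndex_dvd_of_le_left M le_sup_left))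
  ext a
  constructor
  · rintro ⟨m, hm, z, hz, rfl⟩
    obtain ⟨k, hk, y, hy, rfl⟩ := d.pair.exists_mul hz.1
    have hk1 : k ≠ 1 := fun e => hz.2 (Or.inr (by rw [e, one_mul]; exact hy))
    have hy1 : y ≠ 1 := fun e => hz.2 (Or.inl (by rw [e, mul_one]; exact hk))
    have hzM : k * y ∈ M := d.pair.le_max hz.1
    have ho : orderOf (m * (k * y) * m⁻¹) = orderOf k * orderOf y := by
      rw [← (d.pair.commute hk hy).orderOf_mul_eq_mul_orderOf_of_coprime (Nat.coprime_of_dvd fun t ht h1 h2 =>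
        d.pair.not_sigma hk ht h1 (d.pair.sigma_fix hy ht h2))]
      exact orderOf_injective (MulAut.conj m).toMonoidHom (MulEquiv.injective _) (k * y)
    obtain ⟨t, ht, htk⟩ := exists_pow_prime hk1
    obtain ⟨s, hs, hsy⟩ := exists_pow_prime hy1
    refine ⟨⟨⟨mul_mem (mul_mem hm hzM) (inv_mem hm), m * y * m⁻¹,
      (mem_normalizer_iff.mp (le_normalizer_sigmaCore M hm) _).mp hy.1, by rwa [Ne, conj_eq_one_iff], ?_⟩, ?_⟩, ?_⟩
    · calc m * (k * y) * m⁻¹ * (m * y * m⁻¹) = m * (k * y * y) * m⁻¹ := by group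
        _ = m * (y * (k * y)) * m⁻¹ := by rw [← mul_assoc y, ← (d.pair.commute hk hy).eq]
        _ = _ := by group
    · rintro ⟨k', hk', -, m', -, he⟩
      have h1 : orderOf (m * (k * y) * m⁻¹) = orderOf k' :=
        he ▸ orderOf_injective (MulAut.conj m').toMonoidHom (MulEquiv.injective _) k'
      exact d.pair.not_sigma hk' hs (h1 ▸ ho ▸ hsy.mul_left _) (d.pair.sigma_fix hy hs hsy)
    · rintro ⟨-, hmem⟩
      have h1 : orderOf (m * (k * y) * m⁻¹) ∣ Nat.card ↥(U ⊔ Cfsg.sigmaCore M) :=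
        Nat.card_zpowers (m * (k * y) * m⁻¹) ▸ card_dvd_of_le (zpowers_le.mpr hmem)
      have htκ : t ∈ Cfsg.kappa M :=
        d.pair.hall.2.1 t ht (htk.trans ((Nat.card_zpowers k).symm ▸ card_dvd_of_le (zpowers_le.mpr hk)))
      rw [sup_comm] at h1
      rcases dvd_card_sup (hU.1.trans (le_normalizer_sigmaCore M)) ht
          ((htk.trans (ho ▸ dvd_mul_right _ _)).trans h1) with hh | hh
      · exact htκ.2.2.1 (sigmaCore_isPi t ht hh)
      · exact (hU.2.1 t ht hh).2.1 htκ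
  · rintro ⟨⟨⟨haM, y, hy, hy1, hay⟩, hnK⟩, hnA⟩
    have hnU : a ∉ U ⊔ Cfsg.sigmaCore M := fun h => hnA ⟨⟨haM, y, hy, hy1, hay⟩, h⟩
    obtain ⟨b, c, hb, hc, rfl, hbπ, hcπ⟩ := Cfsg.Lib.SolvStruct.exists_piPart (fun t => t ∈ Cfsg.sigma M) a
    have hbM : b ∈ M := zpowers_le.mpr haM hb
    have hcM : c ∈ M := zpowers_le.mpr haM hc
    have hbσ : b ∈ Cfsg.sigmaCore M := mem_of_coprime_relIndex (le_normalizer_sigmaCore M) hbM
      fun t ht h1 h2 => (sigmaCore_hall hG hM).2.2 t ht (hbπ t ht h1) h2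
    have hc1 : c ≠ 1 := fun e => hnU (by rw [e, mul_one]; exact mem_sup_right hbσ)
    have hbc : Commute b c := Cfsg.Lib.SolvStruct.commute_of_mem_zpowers hb hc
    have hcy : c * y = y * c := by
      obtain ⟨i, hi⟩ := mem_zpowers_iff.mp hc
      rw [← hi]
      exact ((show Commute (b * c) y from hay).zpow_left i).eq
    have hκ : ∀ t : ℕ, t.Prime → t ∣ orderOf c → t ∈ Cfsg.kappa M := by
      rcases centralizer_split hG hM hy hy1 (y := c) ⟨hcM, mem_centralizer_singleton_iff.mpr hcy⟩ hc1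
        hcπ with ⟨hh, -⟩ | ⟨hh, -, -⟩
      · exact hh
      · refine absurd (mul_mem (mem_sup_right hbσ) (mem_of_coprime_relIndex hn hcM fun t ht h1 h2 => ?_)) hnU
        exact (hh t ht h1).2.2.2 (kappa_rank (hp := Fact.mk ht) hG hM (hrel t ht h2))
    haveI : Group.IsSolvable M := hG.2.2.2 M (FittingUniqueness.ne_top_of_le_coatom hM le_rfl)
    have hhall : Cfsg.IsPiHall (Cfsg.kappa M) (K.subgroupOf M) := ⟨fun t ht htd => d.pair.hall.2.1 t ht
      (htd.trans (dvd_of_eq (Nat.card_congr (subgroupOfEquivOfLe d.pair.hall.1).toEquiv))),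
      fun t ht htκ => d.pair.hall.2.2 t ht htκ⟩
    obtain ⟨m, hm⟩ := Cfsg.Lib.Coprime.le_conj_piHall hhall (K := zpowers (⟨c, hcM⟩ : M)) fun t ht htd =>
      hκ t ht (by rwa [Nat.card_zpowers, orderOf_mk] at htd)
    obtain ⟨k, hk, hkc⟩ := hm (mem_zpowers _)
    set μ : G := (m : G) with hμ
    have hkc' : μ * (k : G) * μ⁻¹ = c := congrArg Subtype.val hkc
    have hkK : (k : G) ∈ K := hk
    have hk1 : (k : G) ≠ 1 := fun e => hc1 (by rw [← hkc', e]; group)
    set w := μ⁻¹ * b * μ with hw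
    have hwσ : w ∈ Cfsg.sigmaCore M := by
      have := (mem_normalizer_iff.mp (le_normalizer_sigmaCore M (inv_mem m.2)) _).mp hbσ
      simpa [hw, hμ] using this
    have hwk : w * k = k * w := by
      have h1 : b * (μ * k * μ⁻¹) = μ * k * μ⁻¹ * b := by rw [hkc']; exact hbc
      calc w * k = μ⁻¹ * (b * (μ * k * μ⁻¹)) * μ := by rw [hw]; group
        _ = μ⁻¹ * (μ * k * μ⁻¹ * b) * μ := by rw [h1]
        _ = k * w := by rw [hw]; group
    have hwW : w ∈ fix(M, K) := by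
      rw [← kappa_group_fixed hG hM d.pair.hall.1 d.pair.hall.2.1 hkK hk1]
      exact ⟨hwσ, mem_centralizer_singleton_iff.mpr hwk⟩
    have ha : b * c = μ * ((k : G) * w) * μ⁻¹ := by
      rw [← hwk, ← hkc', hw]; group
    have hw1 : w ≠ 1 := fun e => hnK ⟨k, hkK, hk1, μ, m.2, by rw [ha, e, mul_one]⟩
    exact ⟨μ, m.2, (k : G) * w, ⟨mul_mem_sup hkK hwW, fun h => h.elim
      (d.pair.mul_notMem hkK hk1 hwW hw1).1 (d.pair.mul_notMem hkK hk1 hwW hw1).2⟩, ha⟩

theorem KappaDual.hat_conj_ti (hG : Cfsg.IsMinSimpleOddOrder G) (d : KappaDual M K L) :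
    Cfsg.IsTISubset {a : G | ∃ m ∈ M, ∃ z ∈ hat(M, K), a = m * z * m⁻¹} := by
  rintro g hg _ ⟨m, hm, z, hz, rfl⟩ ⟨m', hm', z', hz', he⟩
  refine absurd (Subgroup.mem_set_normalizer_iff.mpr fun a => ?_) hg
  have hgM : g ∈ M := by
    have h2 : m'⁻¹ * g * m ∈ K ⊔ fix(M, K) := d.pair.conj_mem hG hz.1 (fun h => hz.2 (Or.inl h))
      (fun h => hz.2 (Or.inr h)) (by
        rw [show m'⁻¹ * g * m * z * (m'⁻¹ * g * m)⁻¹ = m'⁻¹ * (g * (m * z * m⁻¹) * g⁻¹) * m' by group, he,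
          show m'⁻¹ * (m' * z' * m'⁻¹) * m' = z' by group]
        exact hz'.1)
    have h3 := mul_mem (mul_mem hm' (d.pair.le_max h2)) (inv_mem hm)
    simpa [mul_assoc] using h3
  constructor
  · rintro ⟨n, hn, w, hw, rfl⟩
    exact ⟨g * n, mul_mem hgM hn, w, hw, by group⟩
  · rintro ⟨n, hn, w, hw, he'⟩
    refine ⟨g⁻¹ * n, mul_mem (inv_mem hgM) hn, w, hw, ?_⟩
    calc a = g⁻¹ * (g * a * g⁻¹) * g := by group
      _ = _ := by rw [he']; group

end Cfsg.Lib.OddLocal.RankTwoMax
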