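import Cfsg.Agent.OddLocal.SigmaSupport

/-!
# The number of elements in the cosets `x R(x)`
-/

set_option linter.unusedSectionVars false
set_option linter.unusedVariables false
set_option linter.style.haveILetI false

namespace Cfsg.Lib.OddLocal.RankTwoMax

open Subgroup Uniqueness Sigma
open Cfsg.Lib.Coprime (conjMap)
open scoped commutatorElement

universe u

variable {G : Type u} [Group G] [Finite G] {M N : Subgroup G} {x : G}

theorem centralizer_singleton_conj (g x : G) :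
    centralizer ({g * x * g⁻¹} : Set G) = conjMap g (centralizer ({x} : Set G)) := by
  ext y
  rw [Cfsg.Lib.Coprime.mem_conjMap, mem_centralizer_singleton_iff, mem_centralizer_singleton_iff]
  constructor
  · intro h
    calc g⁻¹ * y * g * x = g⁻¹ * (y * (g * x * g⁻¹)) * g := by group
      _ = g⁻¹ * (g * x * g⁻¹ * y) * g := by rw [h]
      _ = x * (g⁻¹ * y * g) := by group
  · intro h
    calc y * (g * x * g⁻¹) = g * (g⁻¹ * y * g * x) * g⁻¹ := by group
      _ = g * (x * (g⁻¹ * y * g)) * g⁻¹ := by rw [h]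
      _ = g * x * g⁻¹ * y := by group

theorem mem_core_conj (hG : Cfsg.IsMinSimpleOddOrder G) (hM : IsCoatom M) (hx : x ∈ Cfsg.sigmaCore M) (g : G) :
    g * x * g⁻¹ ∈ Cfsg.sigmaCore (conjMap g M) := by
  rw [sigmaCore_conj hG hM g]
  exact ⟨x, hx, rfl⟩

/-- `R(x)` is equivariant. -/
theorem supportR_conj (hG : Cfsg.IsMinSimpleOddOrder G) (hM : IsCoatom M) (hx : x ∈ Cfsg.sigmaCore M)
    (hx1 : x ≠ 1) (g : G) :
    Cfsg.supportR (conjMap g M) (g * x * g⁻¹) = conjMap g (Cfsg.supportR M x) := by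
  have hgx : g * x * g⁻¹ ∈ Cfsg.sigmaCore (conjMap g M) := mem_core_conj hG hM hx g
  have hgx1 : g * x * g⁻¹ ≠ 1 := by rwa [Ne, conj_eq_one_iff]
  by_cases hle : centralizer ({x} : Set G) ≤ M
  · rw [supportR_eq_bot hle, supportR_eq_bot (centralizer_singleton_conj g x ▸
      Cfsg.Lib.Coprime.conjMap_mono hle)]
    exact (Subgroup.map_bot _).symm
  have hle' : ¬ centralizer ({g * x * g⁻¹} : Set G) ≤ conjMap g M := fun h => hle (by
    rw [centralizer_singleton_conj] at h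
    exact (map_le_map_iff_of_injective (MulAut.conj g).injective).mp h)
  obtain ⟨N, h⟩ := exists_supportPair hG hM hx hx1 hle
  obtain ⟨N', h'⟩ := exists_supportPair hG (conjMap_coatom hM g) hgx hgx1 hle'
  have hN' : conjMap g N = N' := h'.unique _ (conjMap_coatom h.maxN g)
    (centralizer_singleton_conj g x ▸ Cfsg.Lib.Coprime.conjMap_mono h.le)
  rw [h.supportR_eq hG, h'.supportR_eq hG, ← hN', sigmaCore_conj hG h.maxN, centralizer_singleton_conj,
    Cfsg.Lib.Coprime.conjMap_inf]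

/-- `R(x)` does not depend on the conjugate containing `x`. -/
theorem supportR_indep (hG : Cfsg.IsMinSimpleOddOrder G) (hM : IsCoatom M) (hx : x ∈ Cfsg.sigmaCore M)
    (hx1 : x ≠ 1) {g : G} (hg : x ∈ conjMap g M) :
    x ∈ Cfsg.sigmaCore (conjMap g M) ∧ Cfsg.supportR (conjMap g M) x = Cfsg.supportR M x := by
  obtain ⟨c, hc, hcM⟩ := exists_centralizer_conj hG hM hx hx1 hg
  have hcx : c * x * c⁻¹ = x := by
    rw [mem_centralizer_singleton_iff.mp hc, mul_inv_cancel_right]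
  rw [← hcM]
  refine ⟨hcx ▸ mem_core_conj hG hM hx c, ?_⟩
  have h := supportR_conj hG hM hx hx1 c
  rw [hcx] at h
  rw [h, Cfsg.Lib.Coprime.conjMap_eq_self ((supportR_normal hG hM hx hx1).2.1 hc)]

/-- The elements `a R(a)`, `a` in a conjugate of `M_σ`, are `[G : M](|M_σ| - 1)` in number. -/
theorem tilde_card (hG : Cfsg.IsMinSimpleOddOrder G) (hM : IsCoatom M) :
    Set.ncard (Cfsg.tildeOf M ((Cfsg.sigmaCore M : Set G) \ {1})) =
      (Nat.card (Cfsg.sigmaCore M) - 1) * M.index := by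
  classical
  let A : Set G := {a | a ≠ 1 ∧ ∃ g : G, a ∈ Cfsg.sigmaCore (conjMap g M)}
  choose g hg using fun a : A => a.2.2
  let B : A → Subgroup G := fun a => conjMap (g a) M
  have hB : ∀ a : A, IsCoatom (B a) := fun a => conjMap_coatom hM _
  let S := Σ a : A, Cfsg.supportR (B a) (a : G)
  set T := Cfsg.tildeOf M ((Cfsg.sigmaCore M : Set G) \ {1}) with hT
  -- the elements
  have hmem : ∀ s : S, (s.1 : G) * s.2 ∈ T := fun s => by
    obtain ⟨⟨a, ha⟩, r, hr⟩ := s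
    set c := g ⟨a, ha⟩
    have hb : c⁻¹ * a * c ∈ Cfsg.sigmaCore M := by
      have h1 := hg ⟨a, ha⟩
      rw [sigmaCore_conj hG hM] at h1
      exact Cfsg.Lib.Coprime.mem_conjMap.mp h1
    have hb1 : c⁻¹ * a * c ≠ 1 := fun h => ha.1 (by
      calc a = c * (c⁻¹ * a * c) * c⁻¹ := by group
        _ = 1 := by rw [h]; group)
    have h2 := supportR_conj hG hM hb hb1 c
    rw [show c * (c⁻¹ * a * c) * c⁻¹ = a by group] at h2
    have hr' : r ∈ Cfsg.supportR (conjMap c M) a := hr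
    rw [h2] at hr'
    obtain ⟨r₀, hr₀, hre⟩ := hr'
    obtain rfl : c * r₀ * c⁻¹ = r := hre
    refine ⟨_, ⟨hb, hb1⟩, r₀, hr₀, c, ?_⟩
    show a * (c * r₀ * c⁻¹) = _
    group
  have hF : Function.Bijective fun s : S => (⟨(s.1 : G) * s.2, hmem s⟩ : T) := by
    constructor
    · rintro ⟨⟨a, ha⟩, r, hr⟩ ⟨⟨b, hb⟩, s, hs⟩ he
      have he' : a * r = b * s := congrArg Subtype.val he
      have hab : a = b := by
        by_contra hne
        exact supportR_disjoint hG (hB ⟨a, ha⟩) (hB ⟨b, hb⟩) (hg ⟨a, ha⟩) (hg ⟨b, hb⟩) ha.1 hb.1 hne r hr s hs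
          he'
      subst hab
      obtain rfl : r = s := mul_left_cancel he'
      rfl
    · rintro ⟨t, b, ⟨hb, hb1⟩, r, hr, y, rfl⟩
      have hb1' : b ≠ 1 := hb1
      have ha : y * b * y⁻¹ ∈ A := ⟨by rwa [Ne, conj_eq_one_iff], y, mem_core_conj hG hM hb y⟩
      have hr' : y * r * y⁻¹ ∈ Cfsg.supportR (conjMap y M) (y * b * y⁻¹) :=
        supportR_conj hG hM hb hb1' y ▸ ⟨r, hr, rfl⟩
      obtain ⟨-, hind⟩ := supportR_indep hG (hB ⟨_, ha⟩) (hg ⟨_, ha⟩) ha.1 (g := y * (g ⟨_, ha⟩)⁻¹) (by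
        rw [Cfsg.Lib.Coprime.conjMap_mul, inv_mul_cancel_right]
        exact sigmaCore_le _ (mem_core_conj hG hM hb y))
      rw [Cfsg.Lib.Coprime.conjMap_mul, inv_mul_cancel_right] at hind
      refine ⟨⟨⟨_, ha⟩, ⟨y * r * y⁻¹, hind ▸ hr'⟩⟩, Subtype.ext ?_⟩
      show y * b * y⁻¹ * (y * r * y⁻¹) = y * (b * r) * y⁻¹
      group
  -- the incidences
  let P : Type u := {q : G × Subgroup G // ∃ h : G, q.2 = conjMap h M ∧ q.1 ∈ Cfsg.sigmaCore q.2 ∧ q.1 ≠ 1}
  have hinc : ∀ s : S, (s.1 : G) ∈ Cfsg.sigmaCore (conjMap (s.2 : G) (B s.1)) := fun s => by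
    have hc := (supportR_regular hG (hB s.1) (hg s.1) s.1.2.1).1 s.2.2
    have h1 := mem_core_conj hG (hB s.1) (hg s.1) (s.2 : G)
    rwa [mem_centralizer_singleton_iff.mp hc, mul_inv_cancel_right] at h1
  have hH : Function.Bijective fun s : S =>
      (⟨((s.1 : G), conjMap (s.2 : G) (B s.1)),
        ⟨(s.2 : G) * g s.1, Cfsg.Lib.Coprime.conjMap_mul _ _ _, hinc s, s.1.2.1⟩⟩ : P) := by
    constructor
    · rintro ⟨⟨a, ha⟩, r, hr⟩ ⟨⟨b, hb⟩, s, hs⟩ he
      have he' : (a, conjMap r (B ⟨a, ha⟩)) = (b, conjMap s (B ⟨b, hb⟩)) := congrArg Subtype.val he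
      obtain ⟨he1, he2⟩ := Prod.mk.inj he'
      subst he1
      have hin : a ∈ conjMap r (B ⟨a, ha⟩) := sigmaCore_le _ (hinc ⟨⟨a, ha⟩, r, hr⟩)
      obtain ⟨c, -, hu⟩ := (supportR_regular hG (hB ⟨a, ha⟩) (hg ⟨a, ha⟩) ha.1).2 r hin
      obtain rfl : r = s := (hu r ⟨hr, rfl⟩).trans (hu s ⟨hs, he2.symm⟩).symm
      rfl
    · rintro ⟨⟨a, C⟩, hP⟩
      obtain ⟨h, hC', haC, ha1⟩ := id hP
      have hC'' : C = conjMap h M := hC'
      subst hC''
      have ha : a ∈ A := ⟨ha1, h, haC⟩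
      obtain ⟨r, ⟨hr, hrC⟩, -⟩ := (supportR_regular hG (hB ⟨a, ha⟩) (hg ⟨a, ha⟩) ha1).2
        (h * (g ⟨a, ha⟩)⁻¹) (by
          rw [Cfsg.Lib.Coprime.conjMap_mul, inv_mul_cancel_right]; exact sigmaCore_le _ haC)
      have hhC : conjMap (h * (g ⟨a, ha⟩)⁻¹) (B ⟨a, ha⟩) = conjMap h M := by
        rw [Cfsg.Lib.Coprime.conjMap_mul, inv_mul_cancel_right]
      rw [hhC] at hrC
      exact ⟨⟨⟨a, ha⟩, r, hr⟩, Subtype.ext (Prod.ext rfl hrC)⟩
  let Z : Type u := {z : G // z ∈ (Cfsg.sigmaCore M : Set G) \ {1}}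
  have hQ : Function.Bijective fun qz : (G ⧸ M) × Z =>
      (⟨(qz.1.out * qz.2.1 * qz.1.out⁻¹, conjMap qz.1.out M),
        ⟨qz.1.out, rfl, mem_core_conj hG hM qz.2.2.1 _, fun e => qz.2.2.2 (conj_eq_one_iff.mp e)⟩⟩ : P) := by
    constructor
    · rintro ⟨a, z, hz⟩ ⟨b, w, hw⟩ he
      have he' : (a.out * z * a.out⁻¹, conjMap a.out M) = (b.out * w * b.out⁻¹, conjMap b.out M) :=
        congrArg Subtype.val he
      obtain ⟨h1, h2⟩ := Prod.mk.inj he'
      have h3 : a.out⁻¹ * b.out ∈ M := eq_of_conj_fix hG hM (by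
        rw [← Cfsg.Lib.Coprime.conjMap_mul, ← h2, Cfsg.Lib.Coprime.conjMap_inv_conjMap])
      have hab : a = b := by
        rw [← QuotientGroup.out_eq' a, ← QuotientGroup.out_eq' b]
        exact QuotientGroup.eq.mpr h3
      subst hab
      exact Prod.ext rfl (Subtype.ext (mul_left_cancel (mul_right_cancel h1)))
    · rintro ⟨⟨a, C⟩, hP⟩
      obtain ⟨h, hC', haC, ha1⟩ := id hP
      have hC'' : C = conjMap h M := hC'
      subst hC''
      set o := (QuotientGroup.mk h : G ⧸ M).out with ho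
      obtain ⟨m, hm⟩ := QuotientGroup.mk_out_eq_mul M h
      have hC : conjMap o M = conjMap h M := by
        rw [ho, hm, ← Cfsg.Lib.Coprime.conjMap_mul, Cfsg.Lib.Coprime.conjMap_eq_self (le_normalizer m.2)]
      have hz : o⁻¹ * a * o ∈ Cfsg.sigmaCore M := by
        have h1 : a ∈ Cfsg.sigmaCore (conjMap o M) := hC ▸ haC
        rw [sigmaCore_conj hG hM] at h1
        exact Cfsg.Lib.Coprime.mem_conjMap.mp h1
      have hz1 : o⁻¹ * a * o ≠ 1 := fun e => ha1 (by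
        calc a = o * (o⁻¹ * a * o) * o⁻¹ := by group
          _ = 1 := by rw [e]; group)
      refine ⟨⟨QuotientGroup.mk h, ⟨_, hz, hz1⟩⟩, Subtype.ext (Prod.ext ?_ hC)⟩
      show o * (o⁻¹ * a * o) * o⁻¹ = a
      group
  rw [← Nat.card_coe_set_eq T, ← Nat.card_eq_of_bijective _ hF, Nat.card_eq_of_bijective _ hH,
    ← Nat.card_eq_of_bijective _ hQ, Nat.card_prod, mul_comm, Subgroup.index_eq_card]
  congr 1
  rw [show Nat.card Z = Set.ncard ((Cfsg.sigmaCore M : Set G) \ {1}) from Nat.card_coe_set_eq _,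
    Set.ncard_diff_singleton_of_mem (one_mem (Cfsg.sigmaCore M) : (1 : G) ∈ (Cfsg.sigmaCore M : Set G))]
  rw [← Nat.card_coe_set_eq]
  rfl

theorem support_theorem (hG : Cfsg.IsMinSimpleOddOrder G) (hM : IsCoatom M) (hx : x ∈ Cfsg.sigmaCore M)
    (hx1 : x ≠ 1) :
    (Nat.card ↥(M ⊓ centralizer ({x} : Set G))).Coprime
        ((M ⊓ centralizer ({x} : Set G)).relIndex (centralizer ({x} : Set G))) ∧
      ∃ R : Subgroup G, centralizer ({x} : Set G) ≤ normalizer (R : Set G) ∧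
        Cfsg.IsComplIn (M ⊓ centralizer ({x} : Set G)) R (centralizer ({x} : Set G)) ∧
        ∀ g : G, x ∈ conjMap g M → ∃! r : G, r ∈ R ∧ conjMap r M = conjMap g M := by
  obtain ⟨h1, h2, h3⟩ := supportR_normal hG hM hx hx1
  exact ⟨h1, _, h2, h3, (supportR_regular hG hM hx hx1).2⟩

theorem support_maximal (hG : Cfsg.IsMinSimpleOddOrder G) (hM : IsCoatom M) (hx : x ∈ Cfsg.sigmaCore M)
    (hx1 : x ≠ 1) (hxM : ¬ centralizer ({x} : Set G) ≤ M) :
    ∃ N : Subgroup G, (IsCoatom N ∧ centralizer ({x} : Set G) ≤ N) ∧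
      (∀ L : Subgroup G, IsCoatom L → centralizer ({x} : Set G) ≤ L → L = N) ∧
        Cfsg.sigmaCore N = Cfsg.fittingHallOf N ∧
        centralizer ({x} : Set G) ≤
          normalizer ((Cfsg.sigmaCore N ⊓ centralizer ({x} : Set G) : Subgroup G) : Set G) ∧
        Cfsg.IsComplIn (M ⊓ centralizer ({x} : Set G)) (Cfsg.sigmaCore N ⊓ centralizer ({x} : Set G))
          (centralizer ({x} : Set G)) ∧
        Cfsg.IsComplIn (M ⊓ N) (Cfsg.sigmaCore N) N ∧
        ∀ K' U' : Subgroup G, Cfsg.IsSigmaDecomposition N K' U' →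
          U' ≠ ⊥ ∧ x ∈ Cfsg.sigmaA N U' ∧ x ∉ Cfsg.sigmaCore N := by
  obtain ⟨N, h⟩ := exists_supportPair hG hM hx hx1 hxM
  exact ⟨N, ⟨h.maxN, h.le⟩, h.unique, sigmaCore_eq_fittingHall hG h.maxN h.nilpotent,
    Cfsg.Lib.Coprime.le_normalizer_inf (h.le.trans (le_normalizer_sigmaCore N)) Subgroup.le_normalizer,
    h.split, h.compl, fun K' U' hd => h.decomp_mem hG hd⟩

end Cfsg.Lib.OddLocal.RankTwoMax
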