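import Cfsg.Agent.OddLocal.SigmaHatTI
import Cfsg.Agent.OddLocal.KappaHat
import Cfsg.Agent.OddLocal.SupportCount
import Cfsg.Agent.SolvStruct.ConjPi

/-!
# The partition of the non-identity elements
-/

set_option linter.unusedSectionVars false
set_option linter.unusedVariables false
set_option linter.style.haveILetI false

namespace Cfsg.Lib.OddLocal.RankTwoMax

open Subgroup Uniqueness Sigma
open Cfsg.Lib.Coprime (conjMap)
open Cfsg.Lib.SolvStruct (IsPi exists_piPart commute_of_mem_zpowers)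

universe u

variable {G : Type u} [Group G] [Finite G] {M N K U L : Subgroup G} {x y a b c n d g : G}

local notation "fix(" M ", " K ")" => Cfsg.sigmaCore M ⊓ centralizer (SetLike.coe K)
local notation "hat(" M ", " K ")" =>
  ((SetLike.coe (K ⊔ (Cfsg.sigmaCore M ⊓ centralizer (SetLike.coe K)))) \
    ((SetLike.coe K) ∪ (SetLike.coe (Cfsg.sigmaCore M ⊓ centralizer (SetLike.coe K)))))
local notation "tilde(" M ")" => Cfsg.tildeOf M ((Cfsg.sigmaCore M : Set _) \ {1})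

/-- `x` has a part in `M_σ` and a part of order in `κ(M)`, both in `M`. -/
def KappaCase (x : G) : Prop :=
  ∃ (M : Subgroup G) (a c : G), IsCoatom M ∧ a ∈ Cfsg.sigmaCore M ∧ a ≠ 1 ∧ a ∈ zpowers x ∧
    c ∈ M ∧ c ∈ zpowers x ∧ (orderOf c).Prime ∧ orderOf c ∈ Cfsg.kappa M

/-- The alternatives of the partition. -/
def Covered (x : G) : Prop :=
  (∃ M : Subgroup G, IsCoatom M ∧ x ∈ tilde(M)) ∨ KappaCase x

theorem conj_mem_zpowers (g : G) (h : a ∈ zpowers x) : g * a * g⁻¹ ∈ zpowers (g * x * g⁻¹) := by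
  obtain ⟨i, rfl⟩ := h
  exact ⟨i, map_zpow (MulAut.conj g) x i |>.symm⟩

theorem mem_tilde_conj_iff (g : G) : g * x * g⁻¹ ∈ tilde(M) ↔ x ∈ tilde(M) := by
  constructor <;> rintro ⟨a, ha, r, hr, y, hy⟩
  · exact ⟨a, ha, r, hr, g⁻¹ * y, by
      calc x = g⁻¹ * (g * x * g⁻¹) * g := by group
        _ = g⁻¹ * y * (a * r) * (g⁻¹ * y)⁻¹ := by rw [hy]; group⟩
  · exact ⟨a, ha, r, hr, g * y, by rw [hy]; group⟩

theorem Covered.conj (hG : Cfsg.IsMinSimpleOddOrder G) (g : G) (h : Covered x) : Covered (g * x * g⁻¹) := by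
  rcases h with ⟨M, hM, hx⟩ | ⟨M, a, c, hM, ha, ha1, hax, hc, hcx, hp, hκ⟩
  · exact Or.inl ⟨M, hM, (mem_tilde_conj_iff g).mpr hx⟩
  · refine Or.inr ⟨conjMap g M, g * a * g⁻¹, g * c * g⁻¹, conjMap_coatom hM g, mem_core_conj hG hM ha g,
      fun e => ha1 (conj_eq_one_iff.mp e), conj_mem_zpowers g hax, ?_, conj_mem_zpowers g hcx,
      (conj_orderOf g c).symm ▸ hp, ?_⟩
    · exact Cfsg.Lib.Coprime.mem_conjMap.mpr (by simpa [mul_assoc] using hc)
    · rw [conj_orderOf]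
      haveI := Fact.mk hp
      exact kappa_conjMap hG hM g hκ

theorem Covered.of_conj (hG : Cfsg.IsMinSimpleOddOrder G) (g : G) (h : Covered (g * x * g⁻¹)) : Covered x := by
  have := h.conj hG g⁻¹
  simpa [mul_assoc] using this

theorem isPi_of_zpowers_le {S : ℕ → Prop} (h : IsPi S x) (q : ℕ) (hq : q.Prime)
    (hd : q ∣ Nat.card (zpowers x)) : S q :=
  h q hq (Nat.card_zpowers x ▸ hd)

/-- The part of `x` centralizing a supported `a ∈ M_σ` and outside both cores. -/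
theorem support_step (hG : Cfsg.IsMinSimpleOddOrder G) (hsp : SupportPair M N a) (hax : a ∈ zpowers x)
    (hnx : n ∈ zpowers x) (hn : n ∈ Cfsg.sigmaCore N) (hdx : d ∈ zpowers x) (he : x = a * n * d)
    (hdM : IsPi (fun q => q ∉ Cfsg.sigma M) d) (hdN : IsPi (fun q => q ∉ Cfsg.sigma N) d) :
    Covered x ∨ (n = 1 ∧ ∃ r : G, r⁻¹ * a * r = a ∧ r⁻¹ * d * r ∈ M ∧
      ∃ t : ℕ, t.Prime ∧ t ∣ orderOf d ∧ t ∈ Cfsg.tau2 M) := by
  have hM := hsp.max
  have hR := hsp.supportR_eq hG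
  have hnR : n ∈ Cfsg.supportR M a := hR ▸ (⟨hn, mem_centralizer_singleton_iff.mpr
    (commute_of_mem_zpowers hnx hax)⟩ : n ∈ Cfsg.sigmaCore N ⊓ centralizer ({a} : Set G))
  rcases eq_or_ne d 1 with rfl | hd1
  · exact Or.inl (Or.inl ⟨M, hM, a, ⟨hsp.mem, hsp.ne_one⟩, n, hnR, 1, by rw [he]; group⟩)
  obtain ⟨hcop, hnorm, hsplit⟩ := supportR_normal hG hM hsp.mem hsp.ne_one
  set R := Cfsg.supportR M a with hRdef
  set C := M ⊓ centralizer ({a} : Set G) with hCdef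
  have hRN : R ≤ Cfsg.sigmaCore N := hR.le.trans inf_le_left
  have hcopRC : (Nat.card R).Coprime (Nat.card C) := by
    have e : Nat.card C * C.relIndex (centralizer ({a} : Set G)) = Nat.card C * Nat.card R :=
      (card_mul_relIndex hsplit.1).trans (compl_card hsplit)
    rwa [Nat.eq_of_mul_eq_mul_left Nat.card_pos e, Nat.coprime_comm] at hcop
  have hdC : d ∈ centralizer ({a} : Set G) :=
    mem_centralizer_singleton_iff.mpr (commute_of_mem_zpowers hdx hax)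
  have hdRC : zpowers d ≤ R ⊔ C := zpowers_le.mpr (by
    obtain ⟨u, hu, v, hv, e⟩ := hsplit.2.2.2 d hdC
    rw [e, sup_comm]
    exact mul_mem_sup hu hv)
  obtain ⟨r, hr, hle⟩ := Cfsg.Lib.Coprime.exists_conj_le_of_coprime (hsplit.1.trans hnorm) hcopRC
    (Or.inl (Cfsg.Lib.Coprime.isSolvable_of_le (hRN.trans (sigmaCore_le N)) (hG.2.2.2 N hsp.maxN.1))) hdRC
    (Nat.coprime_of_dvd fun q hq h1 h2 => hdN q hq (Nat.card_zpowers d ▸ h2)
      (sigmaCore_isPi q hq (h1.trans (card_dvd_of_le hRN))))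
  have hd' : r⁻¹ * d * r ∈ C := Cfsg.Lib.Coprime.mem_conjMap.mp (hle (mem_zpowers d))
  have hra : r⁻¹ * a * r = a := by
    rw [mul_assoc, ← mem_centralizer_singleton_iff.mp (hsplit.2.1 hr), inv_mul_cancel_left]
  obtain ⟨t, ht, htd⟩ := exists_pow_prime hd1
  have hod : orderOf (r⁻¹ * d * r) = orderOf d := by simpa using conj_orderOf r⁻¹ d
  haveI := Fact.mk ht
  have hhat : r⁻¹ * d * r ∈ Cfsg.sigmaHat M :=
    ⟨hd'.1, a, hsp.mem, hsp.ne_one, mem_centralizer_singleton_iff.mp hd'.2⟩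
  set d₀ := (r⁻¹ * d * r) ^ (orderOf (r⁻¹ * d * r) / t) with hd₀def
  have htd' : t ∣ orderOf (r⁻¹ * d * r) := hod.symm ▸ htd
  have hd₀ : orderOf d₀ = t := orderOf_pow_orderOf_div (orderOf_pos _).ne' htd'
  have hzp : ∀ {v : G}, v ∈ zpowers x → r⁻¹ * v * r ∈ zpowers (r⁻¹ * x * r) := fun hv => by
    simpa using conj_mem_zpowers r⁻¹ hv
  rcases prime_of_hat hG hM hhat htd' (hdM t ht htd) with hτ | hκ
  · refine Or.inr ⟨?_, r, hra, hd'.1, t, ht, htd, hτ⟩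
    have hu := unique_centralizer_of_tau_two hG hM (pow_mem hd'.1 _)
      (fun e => ht.one_lt.ne' (hd₀ ▸ (orderOf_eq_one_iff.mpr e)))
      (fun s hs hds => by rw [← hd₀def, hd₀] at hds; rwa [(Nat.prime_dvd_prime_iff_eq hs ht).mp hds])
      hsp.mem hsp.ne_one (show Commute d₀ a from Commute.pow_left (mem_centralizer_singleton_iff.mp hd'.2) _)
    have h1 : r⁻¹ * n * r ∈ M := hu.1 (mem_centralizer_singleton_iff.mpr
      ((commute_of_mem_zpowers (hzp hnx) (hzp hdx)).pow_right _))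
    have hrN : r ∈ Cfsg.sigmaCore N := hRN hr
    have h2 : r⁻¹ * n * r ∈ Cfsg.sigmaCore N := mul_mem (mul_mem (inv_mem hrN) hn) hrN
    have h3 : r⁻¹ * n * r = 1 := mem_bot.mp
      (hsp.compl.2.2.1.le ⟨⟨h1, sigmaCore_le N h2⟩, h2⟩)
    calc n = r * (r⁻¹ * n * r) * r⁻¹ := by group
      _ = 1 := by rw [h3]; group
  · refine Or.inl (Covered.of_conj hG r⁻¹ (Or.inr ⟨M, a, d₀, hM, hsp.mem, hsp.ne_one, ?_, pow_mem hd'.1 _,
      pow_mem ?_ _, hd₀.symm ▸ ht, hd₀.symm ▸ hκ⟩))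
    · rw [inv_inv]; simpa [hra] using hzp hax
    · rw [inv_inv]; exact hzp hdx

/-- A part with a prime in `τ₂(M)` beside a part in `M_σ`. -/
theorem tau_two_step (hG : Cfsg.IsMinSimpleOddOrder G) (hM : IsCoatom M) (ha : a ∈ Cfsg.sigmaCore M)
    (ha1 : a ≠ 1) (hax : a ∈ zpowers x) (hbx : b ∈ zpowers x) (he : a * b = x) (hb : b ∈ M)
    (hbσ : IsPi (fun q => q ∉ Cfsg.sigma M) b) {t : ℕ} (ht : t.Prime) (htb : t ∣ orderOf b)
    (hτ : t ∈ Cfsg.tau2 M) : Covered x := by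
  haveI := Fact.mk ht
  obtain ⟨M', hM', htσ⟩ := (sigma_partition hG).1 t ht (htb.trans (orderOf_dvd_natCard b))
  obtain ⟨c, e, hcb, heb, hce, hcπ, heπ⟩ := exists_piPart (fun q => q ∈ Cfsg.sigma M') b
  have htc : t ∣ orderOf c := by
    have h := htb.trans (hce ▸ (commute_of_mem_zpowers hcb heb).orderOf_mul_dvd_mul_orderOf)
    exact (ht.dvd_mul.mp h).resolve_right fun h => heπ t ht h htσ
  have hc1 : c ≠ 1 := fun e => by rw [e, orderOf_one] at htc; exact ht.not_dvd_one htc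
  obtain ⟨g, hg⟩ := exists_conj_le_sigmaCore hG hM' (zpowers_ne_bot.mpr hc1) (isPi_of_zpowers_le hcπ)
  set M₃ := conjMap g⁻¹ M' with hM₃def
  have hM₃ : IsCoatom M₃ := conjMap_coatom hM' _
  have hgc : g * c * g⁻¹ ∈ Cfsg.sigmaCore M' :=
    hg (Cfsg.Lib.Coprime.mem_conjMap.mpr (by simp [mul_assoc]))
  have hc3 : c ∈ Cfsg.sigmaCore M₃ := by
    rw [sigmaCore_conj hG hM', Cfsg.Lib.Coprime.mem_conjMap, inv_inv]
    exact hgc
  have hσ₃ : Cfsg.sigma M₃ = Cfsg.sigma M' := sigma_conj hM' _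
  have hbM : zpowers b ≤ M := zpowers_le.mpr hb
  have hxb : zpowers b ≤ zpowers x := zpowers_le.mpr hbx
  have hac : Commute c a := commute_of_mem_zpowers (hxb hcb) hax
  set c₀ := c ^ (orderOf c / t) with hc₀def
  have hc₀ : orderOf c₀ = t := orderOf_pow_orderOf_div (orderOf_pos _).ne' htc
  obtain ⟨hle, huniq⟩ := unique_centralizer_of_tau_two hG hM (pow_mem (hbM hcb) _)
    (fun e => ht.one_lt.ne' (hc₀ ▸ (orderOf_eq_one_iff.mpr e)))
    (fun s hs hds => by rw [← hc₀def, hc₀] at hds; rwa [(Nat.prime_dvd_prime_iff_eq hs ht).mp hds])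
    ha ha1 (show Commute c₀ a from hac.pow_left _)
  have hne : ¬ centralizer ({c₀} : Set G) ≤ M₃ := fun h => by
    have e := huniq M₃ hM₃ h
    exact hτ.2.1 (e ▸ hσ₃.symm ▸ htσ)
  obtain ⟨N₀, hN₀, hle₀, -, -, -, hcompl⟩ := exists_support hG hM₃ hc3 htc hne
  obtain rfl := huniq N₀ hN₀ hle₀
  have haM₃ : a ∉ M₃ := fun h => ha1 (mem_bot.mp (hcompl.2.2.1.le ⟨⟨h, sigmaCore_le _ ha⟩, ha⟩))
  have hcM₃ : ¬ centralizer ({c} : Set G) ≤ M₃ := fun h =>
    haM₃ (h (mem_centralizer_singleton_iff.mpr hac.symm))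
  obtain ⟨N, hsp⟩ := exists_supportPair hG hM₃ hc3 hc1 hcM₃
  obtain rfl := hsp.unique _ hM ((centralizer_le_pow c _).trans hle)
  refine (support_step hG hsp (x := x) (hxb hcb) hax ha (hxb heb) ?_ (fun q hq hd h => heπ q hq hd (hσ₃ ▸ h))
    fun q hq hd => hbσ q hq (hd.trans (orderOf_dvd_of_mem_zpowers heb))).resolve_right fun h => ha1 h.1
  rw [← he, ← hce, ← mul_assoc, hac.eq]

/-- Every non-identity element is covered. -/
theorem covered_of_ne (hG : Cfsg.IsMinSimpleOddOrder G) (hx : x ≠ 1) : Covered x := by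
  obtain ⟨p, hp, hpd⟩ := exists_pow_prime hx
  obtain ⟨M, hM, hpσ⟩ := (sigma_partition hG).1 p hp (hpd.trans (orderOf_dvd_natCard x))
  obtain ⟨a, b, hax, hbx, he, haπ, hbπ⟩ := exists_piPart (fun q => q ∈ Cfsg.sigma M) x
  have ha1 : a ≠ 1 := fun e => by
    rw [e, one_mul] at he
    exact hbπ p hp (he ▸ hpd) hpσ
  obtain ⟨g, hg⟩ := exists_conj_le_sigmaCore hG hM (zpowers_ne_bot.mpr ha1) (isPi_of_zpowers_le haπ)
  refine Covered.of_conj hG g ?_
  have hga : g * a * g⁻¹ ∈ Cfsg.sigmaCore M := hg (Cfsg.Lib.Coprime.mem_conjMap.mpr (by simp [mul_assoc]))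
  have he' : g * a * g⁻¹ * (g * b * g⁻¹) = g * x * g⁻¹ := by rw [← he]; group
  have hax' := conj_mem_zpowers g hax
  have hbx' := conj_mem_zpowers g hbx
  have ha1' : g * a * g⁻¹ ≠ 1 := fun e => ha1 (conj_eq_one_iff.mp e)
  have hbπ' : IsPi (fun q => q ∉ Cfsg.sigma M) (g * b * g⁻¹) :=
    (Cfsg.Lib.SolvStruct.isPi_conj_iff g).mpr hbπ
  revert he' hax' hbx' ha1' hbπ' hga
  generalize g * a * g⁻¹ = a, g * b * g⁻¹ = b, g * x * g⁻¹ = x
  intro ha he hax hbx ha1 hbπ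
  have hcom : Commute b a := commute_of_mem_zpowers hbx hax
  by_cases hle : centralizer ({a} : Set G) ≤ M
  · rcases eq_or_ne b 1 with rfl | hb1
    · exact Or.inl ⟨M, hM, a, ⟨ha, ha1⟩, 1, one_mem _, 1, by rw [← he]; group⟩
    obtain ⟨t, ht, htb⟩ := exists_pow_prime hb1
    haveI := Fact.mk ht
    have hbM : b ∈ M := hle (mem_centralizer_singleton_iff.mpr hcom)
    rcases prime_of_hat hG hM (u := b) ⟨hbM, a, ha, ha1, hcom⟩ htb (hbπ t ht htb) with hτ | hκ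
    · exact tau_two_step hG hM ha ha1 hax hbx he hbM hbπ ht htb hτ
    · have ho : orderOf (b ^ (orderOf b / t)) = t := orderOf_pow_orderOf_div (orderOf_pos _).ne' htb
      exact Or.inr ⟨M, a, _, hM, ha, ha1, hax, pow_mem hbM _, pow_mem hbx _, ho.symm ▸ ht, ho.symm ▸ hκ⟩
  obtain ⟨N, hsp⟩ := exists_supportPair hG hM ha ha1 hle
  obtain ⟨n, d, hnb, hdb, hnd, hnπ, hdπ⟩ := exists_piPart (fun q => q ∈ Cfsg.sigma N) b
  have hxb : zpowers b ≤ zpowers x := zpowers_le.mpr hbx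
  have hnN : n ∈ Cfsg.sigmaCore N := mem_sigmaCore_of_primes hG hsp.maxN
    (hsp.le (mem_centralizer_singleton_iff.mpr (commute_of_mem_zpowers (hxb hnb) hax))) hnπ
  rcases support_step hG hsp hax (hxb hnb) hnN (hxb hdb) (by rw [← he, ← hnd, mul_assoc])
    (fun q hq hd => hbπ q hq (hd.trans (orderOf_dvd_of_mem_zpowers hdb))) hdπ with h | ⟨rfl, r, hra, hdM, t, ht, htd, hτ⟩
  · exact h
  rw [one_mul] at hnd
  subst hnd
  refine Covered.of_conj hG r⁻¹ ?_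
  rw [inv_inv]
  refine tau_two_step hG hM ha ha1 (b := r⁻¹ * d * r) ?_ ?_ ?_ hdM ?_ ht ?_ hτ
  · simpa [hra] using conj_mem_zpowers r⁻¹ hax
  · simpa using conj_mem_zpowers r⁻¹ hbx
  · calc a * (r⁻¹ * d * r) = r⁻¹ * a * r * (r⁻¹ * d * r) := by rw [hra]
      _ = r⁻¹ * x * r := by rw [← he]; group
  · simpa using (Cfsg.Lib.SolvStruct.isPi_conj_iff r⁻¹).mpr hbπ
  · simpa [conj_orderOf] using (show t ∣ orderOf (r⁻¹ * d * (r⁻¹)⁻¹) by rw [conj_orderOf]; exact htd)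

/-- The `κ`-case lands in the mixed part of `K × C_{M_σ}(K)`. -/
theorem mem_hat_of_kappaCase (hG : Cfsg.IsMinSimpleOddOrder G) (hM : IsCoatom M)
    (hd : Cfsg.IsSigmaDecomposition M K U) (ha : a ∈ Cfsg.sigmaCore M) (ha1 : a ≠ 1)
    (hax : a ∈ zpowers x) (hc : c ∈ M) (hcx : c ∈ zpowers x) (hp : (orderOf c).Prime)
    (hκ : orderOf c ∈ Cfsg.kappa M) : ∃ m ∈ M, ∃ z ∈ hat(M, K), x = m * z * m⁻¹ := by
  haveI : Group.IsSolvable M := hG.2.2.2 M hM.1
  have hH : Cfsg.IsPiHall (Cfsg.kappa M) (K.subgroupOf M) :=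
    ⟨fun r hr h => hd.hall.2.1 r hr (by rwa [Nat.card_congr (subgroupOfEquivOfLe hd.hall.1).toEquiv] at h),
      fun r hr h => hd.hall.2.2 r hr h⟩
  obtain ⟨m, hm⟩ := Cfsg.Lib.Coprime.le_conj_piHall hH (K := zpowers (⟨c, hc⟩ : M)) fun r hr h => by
    rw [Nat.card_zpowers, orderOf_mk] at h
    rwa [(Nat.prime_dvd_prime_iff_eq hr hp).mp h]
  have hcK : (m : G)⁻¹ * c * m ∈ K := by
    simpa [mem_subgroupOf] using Cfsg.Lib.Coprime.mem_conjMap.mp (hm (mem_zpowers _))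
  have hzp : ∀ {v : G}, v ∈ zpowers x → (m : G)⁻¹ * v * m ∈ zpowers ((m : G)⁻¹ * x * m) := fun hv => by
    simpa using conj_mem_zpowers (m : G)⁻¹ hv
  refine ⟨m, m.2, (m : G)⁻¹ * x * m, ?_, by group⟩
  have ha' : (m : G)⁻¹ * a * m ∈ Cfsg.sigmaCore M := by
    simpa using (conj_mem_sigmaCore (inv_mem m.2)).mpr ha
  have ha1' : (m : G)⁻¹ * a * m ≠ 1 := fun e => ha1 (by
    calc a = m * ((m : G)⁻¹ * a * m) * (m : G)⁻¹ := by group
      _ = 1 := by rw [e]; group)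
  have hax' := hzp hax
  have hcx' := hzp hcx
  have hc1 : (m : G)⁻¹ * c * m ≠ 1 := fun e => hp.ne_one (by
    have h := conj_orderOf (m : G)⁻¹ c
    rw [inv_inv, e, orderOf_one] at h
    exact h.symm)
  have hp' : (orderOf ((m : G)⁻¹ * c * m)).Prime := by
    have h := conj_orderOf (m : G)⁻¹ c
    rw [inv_inv] at h
    rwa [h]
  revert hcK ha' ha1' hax' hcx' hc1 hp'
  generalize (m : G)⁻¹ * a * m = a, (m : G)⁻¹ * c * m = c, (m : G)⁻¹ * x * m = x
  intro hcK ha ha1 hax hcx hc1 hp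
  have hK : K ≠ ⊥ := fun e => hc1 (mem_bot.mp (e ▸ hcK))
  have h : KappaPair M K := ⟨hM, hd.hall, hK⟩
  obtain ⟨L, dl⟩ := h.exists_dual hG
  have hfix : a ∈ fix(M, K) := h.mem_fix ((dl.centralizers hG hcK hc1).le
      ⟨sigmaCore_le M ha, mem_centralizer_singleton_iff.mpr (commute_of_mem_zpowers hax hcx)⟩)
    fun t ht hdv => prime_of_mem_core ha ht hdv
  have hXK : zpowers c ≤ fix(L, fix(M, K)) := le_of_le_of_eq (zpowers_le.mpr hcK) dl.eq
  have hxL : x ∈ L := (line_unique hG dl.pair'.max dl.pair'.hall dl.pair'.ne (Nat.card_zpowers c ▸ hp) hXK).1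
    (mem_centralizer_iff.mpr fun v hv => (commute_of_mem_zpowers (zpowers_le.mpr hcx hv) (mem_zpowers x)).eq)
  have hxZ : x ∈ K ⊔ fix(M, K) := (dl.centralizers' hG hfix ha1).le
    ⟨hxL, mem_centralizer_singleton_iff.mpr (commute_of_mem_zpowers (mem_zpowers x) hax)⟩
  refine ⟨hxZ, ?_⟩
  rintro (hx | hx)
  · exact ha1 (mem_bot.mp (h.disjoint.le ⟨zpowers_le.mpr hx hax, hfix⟩))
  · exact hc1 (mem_bot.mp (h.disjoint.le ⟨hcK, zpowers_le.mpr hx hcx⟩))

theorem tilde_conjMap (hG : Cfsg.IsMinSimpleOddOrder G) (hM : IsCoatom M) (g : G) :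
    tilde(conjMap g M) = tilde(M) := by
  have key : ∀ (M : Subgroup G), IsCoatom M → ∀ g : G, tilde(M) ⊆ tilde(conjMap g M) := by
    rintro M hM g _ ⟨a, ⟨ha, ha1⟩, r, hr, y, rfl⟩
    refine ⟨g * a * g⁻¹, ⟨mem_core_conj hG hM ha g, fun e => ha1 (conj_eq_one_iff.mp e)⟩, g * r * g⁻¹, ?_,
      y * g⁻¹, by group⟩
    rw [supportR_conj hG hM ha ha1 g]
    exact ⟨r, hr, rfl⟩
  refine (subset_antisymm (key M hM g) ?_).symm
  refine (key _ (conjMap_coatom hM g) g⁻¹).trans (le_of_eq ?_)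
  rw [Cfsg.Lib.Coprime.conjMap_inv_conjMap]

/-- The partition theorem. -/
theorem partition_theorem (hG : Cfsg.IsMinSimpleOddOrder G) :
    (∀ M N : Subgroup G, IsCoatom M → IsCoatom N → (∀ g : G, N ≠ M.map (MulAut.conj g).toMonoidHom) →
      tilde(M) ∩ tilde(N) = ∅) ∧
    ((∀ M : Subgroup G, IsCoatom M → Cfsg.kappa M = ∅) →
      ∀ g : G, g ≠ 1 → ∃ M : Subgroup G, IsCoatom M ∧ g ∈ tilde(M)) ∧
    ∀ (M K U : Subgroup G), IsCoatom M → Cfsg.IsSigmaDecomposition M K U → K ≠ ⊥ →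
      (∀ g : G, g ≠ 1 → (∃ N : Subgroup G, IsCoatom N ∧ g ∈ tilde(N)) ∨
        ∃ y : G, ∃ z ∈ hat(M, K), g = y * z * y⁻¹) ∧
      ∀ N : Subgroup G, IsCoatom N → ∀ y : G, ∀ z ∈ hat(M, K), y * z * y⁻¹ ∉ tilde(N) := by
  refine ⟨fun M N hM hN hne => ?_, fun hκ g hg => ?_, fun M K U hM hd hK => ⟨fun g hg => ?_, ?_⟩⟩
  · exact Set.disjoint_iff_inter_eq_empty.mp (tilde_disjoint hG hM hN fun h => by
      obtain ⟨g, hg⟩ := (sigma_partition hG).2 M N hM hN h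
      exact hne g hg)
  · refine (covered_of_ne hG hg).resolve_right ?_
    rintro ⟨M, a, c, hM, -, -, -, -, -, -, hc⟩
    simp [hκ M hM] at hc
  · have h : KappaPair M K := ⟨hM, hd.hall, hK⟩
    obtain ⟨L, dl⟩ := h.exists_dual hG
    refine (covered_of_ne hG hg).imp id ?_
    rintro ⟨H, a, c, hH, ha, ha1, hax, hc, hcx, hp, hκ⟩
    obtain ⟨w, hw⟩ := dl.classes hG hH ⟨_, hκ⟩
    have hC : Covered g := Or.inr ⟨H, a, c, hH, ha, ha1, hax, hc, hcx, hp, hκ⟩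
    have key : ∀ (T J : Subgroup G), IsCoatom T → H = conjMap w T →
        (∃ V, Cfsg.IsSigmaDecomposition T J V) → ∃ y : G, ∃ z ∈ hat(T, J), g = y * z * y⁻¹ := by
      rintro T J hT rfl ⟨V, hd'⟩
      have hκ' : orderOf c ∈ Cfsg.kappa T := by
        haveI := Fact.mk hp
        have := kappa_conjMap hG hH w⁻¹ hκ
        rwa [Cfsg.Lib.Coprime.conjMap_inv_conjMap] at this
      have hco : orderOf (w⁻¹ * c * w) = orderOf c := by simpa using conj_orderOf w⁻¹ c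
      obtain ⟨m, hm, z, hz, e⟩ := mem_hat_of_kappaCase hG hT hd' (a := w⁻¹ * a * w) (c := w⁻¹ * c * w)
        (x := w⁻¹ * g * w) (by rw [sigmaCore_conj hG hT] at ha; exact Cfsg.Lib.Coprime.mem_conjMap.mp ha)
        (fun e => ha1 (by
          calc a = w * (w⁻¹ * a * w) * w⁻¹ := by group
            _ = 1 := by rw [e]; group))
        (by simpa using conj_mem_zpowers w⁻¹ hax) (Cfsg.Lib.Coprime.mem_conjMap.mp hc)
        (by simpa using conj_mem_zpowers w⁻¹ hcx) (hco.symm ▸ hp) (hco.symm ▸ hκ')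
      refine ⟨w * m, z, hz, ?_⟩
      calc g = w * (w⁻¹ * g * w) * w⁻¹ := by group
        _ = w * m * z * (w * m)⁻¹ := by rw [e]; group
    rcases hw with hw | hw
    · exact key M K hM hw ⟨U, hd⟩
    · obtain ⟨E, V, hEV⟩ := exists_kappaSplit hG dl.pair'.max dl.pair'.hall
      obtain ⟨y, z, hz, e⟩ := key L _ dl.pair'.max hw
        ⟨V, hEV.decomposition dl.pair'.hall (kappa_hall_cyclic hG dl.pair'.max dl.pair'.hall)⟩
      rw [← dl.eq, sup_comm, Set.union_comm] at hz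
      exact ⟨y, z, hz, e⟩
  · intro N hN y z hz hmem
    have h : KappaPair M K := ⟨hM, hd.hall, hK⟩
    obtain ⟨L, dl⟩ := h.exists_dual hG
    have hnW : z ∉ fix(M, K) := fun e => hz.2 (Or.inr e)
    have hnK : z ∉ fix(L, fix(M, K)) := fun e => hz.2 (Or.inl (dl.eq.symm.le e))
    obtain ⟨a, ⟨ha, ha1⟩, r, hr, v, hv⟩ := hmem
    obtain ⟨k, hk, w, hw, rfl⟩ := h.exists_mul hz.1
    obtain ⟨t, ht, hta⟩ := exists_pow_prime (show a ≠ 1 from ha1)
    obtain ⟨har, hro⟩ := supportR_order hG hN ha ha1 hr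
    have hrσ : ∀ q : ℕ, q.Prime → q ∣ orderOf r → q ∉ Cfsg.sigma N := fun q hq hd' hσ => by
      rcases hro with rfl | ⟨L', hL, hrL⟩
      · rw [orderOf_one] at hd'; exact hq.not_dvd_one hd'
      · obtain ⟨g, hg⟩ := (sigma_partition hG).2 N L' hN hL.maxN ⟨q, hσ, prime_of_mem_core hrL hq hd'⟩
        exact hL.not_conj g hg
    have hod : orderOf a ∣ orderOf k * orderOf w := by
      have e1 := (show Commute a r from har).orderOf_mul_eq_mul_orderOf_of_coprime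
        (Nat.coprime_of_dvd fun q hq h1 h2 => hrσ q hq h2 (prime_of_mem_core ha hq h1))
      have e2 : orderOf (k * w) = orderOf (a * r) := by rw [← conj_orderOf y (k * w), hv, conj_orderOf]
      exact (Dvd.intro _ (e1.symm.trans e2.symm)).trans (h.commute hk hw).orderOf_mul_dvd_mul_orderOf
    have htN := prime_of_mem_core ha ht hta
    have hmem' : y * (k * w) * y⁻¹ ∈ tilde(N) := ⟨a, ⟨ha, ha1⟩, r, hr, v, hv⟩
    rcases ht.dvd_mul.mp (hta.trans hod) with htk | htw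
    · have htL : t ∈ Cfsg.sigma L := prime_of_mem_core (dl.eq.le hk).1 ht htk
      obtain ⟨g, hg⟩ := (sigma_partition hG).2 L N dl.pair'.max hN ⟨t, htL, htN⟩
      rw [hg, tilde_conjMap hG dl.pair'.max g] at hmem'
      exact dl.pair'.conj_notMem_tilde hG (dl.Z_eq.symm.le hz.1) hnK hmem'
    · obtain ⟨g, hg⟩ := (sigma_partition hG).2 M N hM hN ⟨t, h.sigma_fix hw ht htw, htN⟩
      rw [hg, tilde_conjMap hG hM g] at hmem'
      exact h.conj_notMem_tilde hG hz.1 hnW hmem'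

end Cfsg.Lib.OddLocal.RankTwoMax
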