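import Cfsg.Agent.OddLocal.TypeData
import Cfsg.Agent.OddChar.PF.TypeI

/-!
# The types of a maximal subgroup in terms of `K` and `U`
-/

set_option linter.unusedSectionVars false
set_option linter.unusedVariables false
set_option linter.style.haveILetI false

namespace Cfsg.Lib.OddLocal.RankTwoMax

open Subgroup Uniqueness Sigma
open Cfsg.Lib.Coprime (conjMap)
open scoped commutatorElement

universe u

variable {G : Type u} [Group G] [Finite G] {M K U D W₁ W₂ : Subgroup G}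

local notation "fix(" M ", " K ")" => Cfsg.sigmaCore M ⊓ centralizer (SetLike.coe K)

/-- Either `M_F` is TI or `F(M)` meets a conjugate. -/
theorem fittingHall_ti_or (hG : Cfsg.IsMinSimpleOddOrder G) (hM : IsCoatom M) :
    Cfsg.IsTISubset (Cfsg.fittingHallOf M : Set G) ∨
      ∃ g : G, g ∉ M ∧ Cfsg.fittingOf M ⊓ (Cfsg.fittingOf M).map (MulAut.conj g).toMonoidHom ≠ ⊥ := by
  refine or_iff_not_imp_right.mpr fun h g hg x hx hgx => ?_
  have hgM : g ∉ M := fun hgM => hg (Cfsg.Lib.FittingHall.le_normalizer_fittingHallOf M hgM)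
  have h1 : g * x * g⁻¹ ∈ Cfsg.fittingOf M ⊓ (Cfsg.fittingOf M).map (MulAut.conj g).toMonoidHom :=
    ⟨Cfsg.Lib.FittingHall.fittingHallOf_le_fittingOf M hgx,
      ⟨x, Cfsg.Lib.FittingHall.fittingHallOf_le_fittingOf M hx, rfl⟩⟩
  rw [not_not.mp (fun hne => h ⟨g, hgM, hne⟩), mem_bot] at h1
  exact conj_eq_one_iff.mp h1

theorem dvd_fittingHall_of_meet {p : ℕ} {g : G}
    (h : Cfsg.fittingOf M ⊓ (Cfsg.fittingOf M).map (MulAut.conj g).toMonoidHom ≤ Cfsg.fittingHallOf M)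
    (hc : Nat.card ↥(Cfsg.fittingOf M ⊓ (Cfsg.fittingOf M).map (MulAut.conj g).toMonoidHom) = p) :
    p ∣ Nat.card (Cfsg.fittingHallOf M) := hc ▸ card_dvd_of_le h

/-- Type I, in the weak form, when `K = 1`. -/
theorem typeI'_of_kappa_trivial (hG : Cfsg.IsMinSimpleOddOrder G) (hM : IsCoatom M)
    (hd : Cfsg.IsSigmaDecomposition M K U) (hK : K = ⊥) : Cfsg.Agent.PF.IsTypeI' M := by
  refine ⟨typeF_of_kappa_trivial hG hM hd hK, ?_⟩
  rcases fittingHall_ti_or hG hM with h | ⟨g, hg, hX⟩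
  · exact Or.inl h
  obtain ⟨⟨hle, -⟩, -, h | ⟨p, hp, hc, -, -, -, hcyc, hexp⟩ | ⟨p, -, -, -, -, -, -, -, hK1, -, -⟩⟩ :=
    nonTI_fitting_structure hG hM hd hg hX
  · exact Or.inr (Or.inl h.2)
  · exact Or.inr (Or.inr ⟨hexp, p, hp, dvd_fittingHall_of_meet hle hc, hcyc⟩)
  · exact absurd hK hK1

theorem typeI'_iff (hG : Cfsg.IsMinSimpleOddOrder G) (hM : IsCoatom M)
    (hd : Cfsg.IsSigmaDecomposition M K U) : Cfsg.Agent.PF.IsTypeI' M ↔ (K = ⊥ ∧ U ≠ ⊥) :=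
  ⟨fun h => ⟨kappa_trivial_of_typeF hG hM hd h.1, U_ne_bot hG hM hd (kappa_trivial_of_typeF hG hM hd h.1)⟩,
    fun h => typeI'_of_kappa_trivial hG hM hd h.1⟩

theorem derived_eq_core (hG : Cfsg.IsMinSimpleOddOrder G) (hM : IsCoatom M)
    (hd : Cfsg.IsSigmaDecomposition M K U) (hK : K ≠ ⊥) (hU : U = ⊥) : ⁅M, M⁆ = Cfsg.sigmaCore M := by
  rw [(derived_theorem hG hM hd hK).1, hU, bot_sup_eq]

theorem U_compl (hG : Cfsg.IsMinSimpleOddOrder G) (hM : IsCoatom M)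
    (hd : Cfsg.IsSigmaDecomposition M K U) (hK : K ≠ ⊥) (hU : U ≠ ⊥) :
    Cfsg.IsComplIn (Cfsg.fittingHallOf M) U ⁅M, M⁆ := by
  rw [fittingHall_eq_of_ne hG hM hd hU]
  refine ⟨sigmaCore_le_derived hG hM, ?_, core_inf_U hG hM hd, fun y hy => ?_⟩
  · rw [(derived_theorem hG hM hd hK).1]; exact le_sup_left
  · rw [(derived_theorem hG hM hd hK).1, sup_comm] at hy
    obtain ⟨s, hs, u, hu, rfl⟩ :=
      (Cfsg.Lib.Coprime.mem_sup_of_le_normalizer (hd.compl.1.trans (le_normalizer_sigmaCore M))).mp hy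
    exact ⟨s, hs, u, hu, rfl⟩

/-- Type II when `K ≠ 1` and `U ≠ 1`. -/
theorem typeII_of (hG : Cfsg.IsMinSimpleOddOrder G) (hM : IsCoatom M)
    (hd : Cfsg.IsSigmaDecomposition M K U) (hK : K ≠ ⊥) (hU : U ≠ ⊥) : Cfsg.IsOfTypeII M := by
  obtain ⟨E, hs⟩ := decomp_split hG hM hd
  obtain ⟨L, d⟩ := (KappaPair.mk hM hd.hall hK).exists_dual hG
  obtain ⟨hUc, hUN⟩ := complement_normalizer_not_le hG d hs
  have hF := fittingHall_eq_of_ne hG hM hd hU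
  haveI := hUc
  letI : CommGroup U := { (inferInstance : Group U) with mul_comm := hUc.is_comm.comm }
  obtain ⟨-, hcop, -⟩ := derived_kappa_compl hG hM hd hK
  have hFM' : Cfsg.fittingHallOf ⁅M, M⁆ = Cfsg.fittingHallOf M :=
    fittingHallOf_eq_of_hall (Subgroup.commutator_le_self M) (commutator_normal M)
      (hF ▸ sigmaCore_le_derived hG hM) hcop
  refine ⟨K, U, fix(M, K), typePWith_of hG hM hd hK (CommGroup.isNilpotent (G := U)) hd.normal (U_compl hG hM hd hK hU), hU,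
    hs.prime_card hG hM hd.hall hK hU, hs.fitting_ti hG hM hd.hall hK hU, hUc, hUN, ?_, hFM'⟩
  obtain ⟨U₀, hU₀, hexp, hfree⟩ := decomp_free hG hM hd
  refine isOfTypeF_of (U₁ := U) (U₀ := U₀) (U := U)
    (Cfsg.Lib.Coprime.isSolvable_of_le (Subgroup.commutator_le_self M) (hG.2.2.2 M hM.1))
    (hG.1.of_dvd_nat (card_subgroup_dvd_card _)) ?_ hU (hFM'.symm ▸ U_compl hG hM hd hK hU) le_rfl
    le_normalizer hUc (fun x _ _ => inf_le_left) hU₀ hexp fun u hu hu1 x hx hc => ?_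
  · rw [hFM', hF]; exact sigmaCore_ne_bot hG hM
  · by_contra hx1
    rw [hFM', hF] at hx
    exact hu1 (hfree u hu ⟨hd.compl.1 (hU₀ hu), x, hx, hx1, hc⟩)

theorem compl_ne_bot_of_ne (hne : Cfsg.fittingHallOf M ≠ Cfsg.sigmaCore M)
    (hder : ⁅M, M⁆ = Cfsg.sigmaCore M) (hc : Cfsg.IsComplIn (Cfsg.fittingHallOf M) D ⁅M, M⁆) : D ≠ ⊥ :=
  fun hD => hne (le_antisymm (hder ▸ hc.1) fun y hy => by
    obtain ⟨a, ha, b, hb, rfl⟩ := hc.2.2.2 y (hder.symm ▸ hy)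
    rw [hD, mem_bot] at hb
    rwa [hb, mul_one])

/-- Type III or IV when `K ≠ 1`, `U = 1` and `M_F ≠ M_σ`. -/
theorem typeIII_or_IV_of (hG : Cfsg.IsMinSimpleOddOrder G) (hM : IsCoatom M)
    (hd : Cfsg.IsSigmaDecomposition M K U) (hK : K ≠ ⊥) (hU : U = ⊥)
    (hne : Cfsg.fittingHallOf M ≠ Cfsg.sigmaCore M) : Cfsg.IsOfTypeIII M ∨ Cfsg.IsOfTypeIV M := by
  obtain ⟨-, hti, hpr⟩ := nonNilpotent_summary hG hM hd hne
  obtain ⟨D, hDn, hKD, hDc⟩ := exists_invariant_derived_compl hG hM hd.hall.1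
    fun r hr hdr => (hd.hall.2.1 r hr hdr).2.2.1
  have hder := derived_eq_core hG hM hd hK hU
  have hD1 := compl_ne_bot_of_ne hne hder hDc
  have hP := typePWith_of hG hM hd hK hDn hKD hDc
  have hN := hall_normalizer_le hG hM (hder ▸ hDc) hDn hD1
  by_cases hc : IsMulCommutative D
  · exact Or.inl ⟨K, D, fix(M, K), hP, hD1, hpr, hti, hc, hN⟩
  · exact Or.inr ⟨K, D, fix(M, K), hP, hD1, hpr, hti, hc, hN⟩

theorem exponent_kappa (hG : Cfsg.IsMinSimpleOddOrder G) (hM : IsCoatom M)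
    (hd : Cfsg.IsSigmaDecomposition M K U) {n : ℕ}
    (h : Monoid.exponent (↥M ⧸ Cfsg.fittingHall ↥M) ∣ n) : Nat.card K ∣ n := by
  haveI := hd.cyclic
  obtain ⟨k, hk⟩ := IsCyclic.exists_ofOrder_eq_natCard (α := K)
  rw [← hk, ← Subgroup.orderOf_coe]
  refine orderOf_dvd_of_pow_eq_one ?_
  have h1 : ((⟨k, hd.hall.1 k.2⟩ : M) : ↥M ⧸ Cfsg.fittingHall ↥M) ^ n = 1 :=
    orderOf_dvd_iff_pow_eq_one.mp ((Monoid.order_dvd_exponent _).trans h)
  rw [← QuotientGroup.mk_pow, QuotientGroup.eq_one_iff] at h1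
  have h2 : (k : G) ^ n ∈ Cfsg.fittingHallOf M := ⟨_, h1, rfl⟩
  by_contra hne
  obtain ⟨r, hr, hdr⟩ := exists_pow_prime hne
  exact (hd.hall.2.1 r hr (hdr.trans (Subgroup.orderOf_dvd_natCard K (pow_mem k.2 n)))).2.2.1
    (prime_of_mem_core (fittingHallOf_le_sigmaCore hG hM h2) hr hdr)

theorem relIndex_core (hG : Cfsg.IsMinSimpleOddOrder G) (hM : IsCoatom M)
    (hd : Cfsg.IsSigmaDecomposition M K U) (hU : U = ⊥) :
    (Cfsg.sigmaCore M).relIndex M = Nat.card K := by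
  have h1 := relIndex_mul_relIndex ⊥ (Cfsg.sigmaCore M) M bot_le (sigmaCore_le M)
  rw [relIndex_bot_left, relIndex_bot_left, trivial_card hG hM hd hU] at h1
  exact Nat.eq_of_mul_eq_mul_left Nat.card_pos h1

/-- Type V when `K ≠ 1`, `U = 1` and `M_F = M_σ`. -/
theorem typeV_of (hG : Cfsg.IsMinSimpleOddOrder G) (hM : IsCoatom M)
    (hd : Cfsg.IsSigmaDecomposition M K U) (hK : K ≠ ⊥) (hU : U = ⊥)
    (hF : Cfsg.fittingHallOf M = Cfsg.sigmaCore M) : Cfsg.IsOfTypeV M := by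
  have hder := derived_eq_core hG hM hd hK hU
  have hc : Cfsg.IsComplIn (Cfsg.fittingHallOf M) (⊥ : Subgroup G) ⁅M, M⁆ :=
    ⟨by rw [hF, hder], bot_le, inf_bot_eq _, fun y hy => ⟨y, by rwa [hF, ← hder], 1, one_mem _, (mul_one y).symm⟩⟩
  refine ⟨K, ⊥, fix(M, K), typePWith_of hG hM hd hK inferInstance
    (normalizer_eq_top (H := (⊥ : Subgroup G)) ▸ le_top) hc, rfl, ?_⟩
  rcases fittingHall_ti_or hG hM with h | ⟨g, hg, hX⟩
  · exact Or.inl h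
  obtain ⟨⟨hle, -⟩, -, h | ⟨p, hp, hcard, -, -, -, hcyc, hexp⟩ | ⟨p, hp, hcard, -, -, hcyc, hp3, -, -, -, hidx⟩⟩ :=
    nonTI_fitting_structure hG hM hd hg hX
  · exact absurd h.1 hK
  · exact Or.inr (Or.inl ⟨p, hp, dvd_fittingHall_of_meet hle hcard,
      exponent_kappa hG hM hd (hexp p hp (dvd_fittingHall_of_meet hle hcard)), hcyc⟩)
  · refine Or.inr (Or.inr ⟨p, hp, dvd_fittingHall_of_meet hle hcard, hp3, ?_, hcyc⟩)
    rwa [hF, relIndex_core hG hM hd hU] at hidx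

/-- In type P data `U' ≠ 1` forces, when `U = 1`, that `M_F ≠ M_σ`. -/
theorem core_ne_of_data (hG : Cfsg.IsMinSimpleOddOrder G) (hM : IsCoatom M)
    (hd : Cfsg.IsSigmaDecomposition M K U) (hK : K ≠ ⊥) (hU : U = ⊥)
    (hP : Cfsg.IsTypePWith M W₁ D W₂) (hD : D ≠ ⊥) :
    Cfsg.fittingHallOf M ≠ Cfsg.sigmaCore M := fun hF => hD (le_bot_iff.mp (by
  rw [← hP.U_compl.2.2.1]
  exact le_inf (hP.U_compl.2.1.trans (by rw [derived_eq_core hG hM hd hK hU, hF])) le_rfl))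

theorem typeII_iff (hG : Cfsg.IsMinSimpleOddOrder G) (hM : IsCoatom M)
    (hd : Cfsg.IsSigmaDecomposition M K U) : Cfsg.IsOfTypeII M ↔ (K ≠ ⊥ ∧ U ≠ ⊥) := by
  refine ⟨?_, fun h => typeII_of hG hM hd h.1 h.2⟩
  rintro ⟨W₁, D, W₂, hP, hD, -, -, -, hN, -, -⟩
  have hK := kappa_of_typeP hG hM hd hP
  refine ⟨hK, fun hU => hN (hall_normalizer_le hG hM ?_ hP.U_nilpotent hD)⟩
  rw [← derived_eq_core hG hM hd hK hU]
  exact hP.U_compl

theorem typeIII_IV_iff (hG : Cfsg.IsMinSimpleOddOrder G) (hM : IsCoatom M)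
    (hd : Cfsg.IsSigmaDecomposition M K U) :
    (Cfsg.IsOfTypeIII M ∨ Cfsg.IsOfTypeIV M) ↔
      (K ≠ ⊥ ∧ U = ⊥ ∧ Cfsg.fittingHallOf M ≠ Cfsg.sigmaCore M) := by
  refine ⟨fun h => ?_, fun h => typeIII_or_IV_of hG hM hd h.1 h.2.1 h.2.2⟩
  obtain ⟨W₁, D, W₂, hP, hD, hN⟩ : ∃ W₁ D W₂ : Subgroup G, Cfsg.IsTypePWith M W₁ D W₂ ∧ D ≠ ⊥ ∧
      normalizer (D : Set G) ≤ M := by
    rcases h with ⟨W₁, D, W₂, hP, hD, -, -, -, hN⟩ | ⟨W₁, D, W₂, hP, hD, -, -, -, hN⟩ <;>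
      exact ⟨W₁, D, W₂, hP, hD, hN⟩
  have hK := kappa_of_typeP hG hM hd hP
  by_cases hU : U = ⊥
  · exact ⟨hK, hU, core_ne_of_data hG hM hd hK hU hP hD⟩
  exfalso
  obtain ⟨E, hs⟩ := decomp_split hG hM hd
  obtain ⟨L, d⟩ := (KappaPair.mk hM hd.hall hK).exists_dual hG
  obtain ⟨hUc, hUN⟩ := complement_normalizer_not_le hG d hs
  have hF := fittingHall_eq_of_ne hG hM hd hU
  have hc := U_compl hG hM hd hK hU
  have hn : U ≤ normalizer (Cfsg.sigmaCore M : Set G) := hd.compl.1.trans (le_normalizer_sigmaCore M)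
  have hcop : (Nat.card (Cfsg.sigmaCore M)).Coprime (Nat.card U) := Nat.coprime_of_dvd fun r hr h1 h2 =>
    ((decomp_hall hG hM hd).2.1 r hr h2).2.2 (sigmaCore_isPi r hr h1)
  have hDle : D ≤ Cfsg.sigmaCore M ⊔ U := by
    rw [sup_comm, ← (derived_theorem hG hM hd hK).1]; exact hP.U_compl.2.1
  have hcard : Nat.card D = Nat.card U :=
    Nat.eq_of_mul_eq_mul_left Nat.card_pos ((compl_card hP.U_compl).symm.trans (compl_card hc))
  haveI := hUc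
  letI : CommGroup U := { (inferInstance : Group U) with mul_comm := hUc.is_comm.comm }
  obtain ⟨w, hw, hDw⟩ := Cfsg.Lib.Coprime.exists_conj_eq_of_coprime hn hcop
    (Or.inr inferInstance) hDle hcard
  have hwM : w ∈ M := sigmaCore_le M hw
  refine hUN fun g hg => ?_
  have h1 : w * g * w⁻¹ ∈ normalizer (D : Set G) := by
    rw [hDw, Cfsg.Lib.Coprime.normalizer_conjMap, Cfsg.Lib.Coprime.mem_conjMap]
    simpa [mul_assoc] using hg
  simpa [mul_assoc] using mul_mem (mul_mem (inv_mem hwM) (hN h1)) hwM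

theorem typeV_iff (hG : Cfsg.IsMinSimpleOddOrder G) (hM : IsCoatom M)
    (hd : Cfsg.IsSigmaDecomposition M K U) :
    Cfsg.IsOfTypeV M ↔ (K ≠ ⊥ ∧ U = ⊥ ∧ Cfsg.fittingHallOf M = Cfsg.sigmaCore M) := by
  refine ⟨?_, fun h => typeV_of hG hM hd h.1 h.2.1 h.2.2⟩
  rintro ⟨W₁, D, W₂, hP, hD, -⟩
  have hK := kappa_of_typeP hG hM hd hP
  have hder : ⁅M, M⁆ ≤ Cfsg.fittingHallOf M := fun y hy => by
    obtain ⟨a, ha, b, hb, rfl⟩ := hP.U_compl.2.2.2 y hy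
    rw [hD, mem_bot] at hb
    rwa [hb, mul_one]
  refine ⟨hK, le_bot_iff.mp ?_, le_antisymm (fittingHallOf_le_sigmaCore hG hM)
    ((sigmaCore_le_derived hG hM).trans hder)⟩
  rw [← core_inf_U hG hM hd]
  refine le_inf ?_ le_rfl
  exact ((le_sup_left (b := Cfsg.sigmaCore M)).trans (derived_theorem hG hM hd hK).1.ge).trans
    (hder.trans (fittingHallOf_le_sigmaCore hG hM))

end Cfsg.Lib.OddLocal.RankTwoMax
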