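import Cfsg.Agent.OddLocal.TypeTheorems

/-!
# The classes of maximal subgroups and their cores
-/

set_option linter.unusedSectionVars false
set_option linter.unusedVariables false
set_option linter.style.haveILetI false

namespace Cfsg.Lib.OddLocal.RankTwoMax

open Subgroup Uniqueness Sigma
open Cfsg.Lib.Coprime (conjMap)
open scoped commutatorElement

universe u

variable {G : Type u} [Group G] [Finite G] {M K U L : Subgroup G}

local notation "fix(" M ", " K ")" => Cfsg.sigmaCore M ⊓ centralizer (SetLike.coe K)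

theorem kappa_nonempty (hd : Cfsg.IsSigmaDecomposition M K U) (hK : K ≠ ⊥) : (Cfsg.kappa M).Nonempty := by
  obtain ⟨r, hr, hd'⟩ := Nat.exists_prime_and_dvd (mt card_eq_one.mp hK)
  exact ⟨r, hd.hall.2.1 r hr hd'⟩

/-- The type-P data of a maximal subgroup with `κ ≠ ∅`. -/
theorem exists_typePWith (hG : Cfsg.IsMinSimpleOddOrder G) (hM : IsCoatom M)
    (hd : Cfsg.IsSigmaDecomposition M K U) (hK : K ≠ ⊥) :
    ∃ D : Subgroup G, Cfsg.IsTypePWith M K D (fix(M, K)) := by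
  obtain ⟨D, hDn, hKD, hDc⟩ := exists_invariant_derived_compl hG hM hd.hall.1
    fun r hr hdr => (hd.hall.2.1 r hr hdr).2.2.1
  exact ⟨D, typePWith_of hG hM hd hK hDn hKD hDc⟩

theorem typeP_cases (hG : Cfsg.IsMinSimpleOddOrder G) (hM : IsCoatom M)
    (hd : Cfsg.IsSigmaDecomposition M K U) (hK : K ≠ ⊥) :
    Cfsg.IsOfTypeII M ∨ Cfsg.IsOfTypeIII M ∨ Cfsg.IsOfTypeIV M ∨ Cfsg.IsOfTypeV M := by
  by_cases hU : U = ⊥
  · by_cases hF : Cfsg.fittingHallOf M = Cfsg.sigmaCore M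
    · exact Or.inr (Or.inr (Or.inr (typeV_of hG hM hd hK hU hF)))
    · rcases typeIII_or_IV_of hG hM hd hK hU hF with h | h
      · exact Or.inr (Or.inl h)
      · exact Or.inr (Or.inr (Or.inl h))
  · exact Or.inl (typeII_of hG hM hd hK hU)

theorem typeCore_eq (hG : Cfsg.IsMinSimpleOddOrder G) (hM : IsCoatom M) :
    Cfsg.typeCore M = Cfsg.sigmaCore M := by
  obtain ⟨K, U, hd⟩ := exists_decomposition hG hM
  unfold Cfsg.typeCore
  by_cases h : Cfsg.IsOfTypeIII M ∨ Cfsg.IsOfTypeIV M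
  · obtain ⟨hK, hU, -⟩ := (typeIII_IV_iff hG hM hd).mp h
    rw [if_pos h, derived_eq_core hG hM hd hK hU]
  · rw [if_neg h]
    by_contra hne
    have hU := (nonNilpotent_summary hG hM hd hne).1
    exact h (typeIII_or_IV_of hG hM hd (fun hK => U_ne_bot hG hM hd hK hU) hU hne)

theorem core_hall_coprime (hG : Cfsg.IsMinSimpleOddOrder G) (hM : IsCoatom M) :
    (Nat.card (Cfsg.sigmaCore M)).Coprime (Cfsg.sigmaCore M).index :=
  Nat.coprime_of_dvd fun r hr h1 h2 => (sigmaCore_hall_top hG hM).2 r hr (sigmaCore_isPi r hr h1) h2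

theorem fittingHall_hall_coprime (hG : Cfsg.IsMinSimpleOddOrder G) (hM : IsCoatom M) :
    (Nat.card (Cfsg.fittingHallOf M)).Coprime (Cfsg.fittingHallOf M).index := by
  have hle := fittingHallOf_le_sigmaCore hG hM
  have h2 : (Nat.card (Cfsg.fittingHallOf M)).Coprime ((Cfsg.fittingHallOf M).relIndex M) := by
    rw [Cfsg.fittingHallOf, card_map_of_injective M.subtype_injective, relIndex, subgroupOf,
      comap_map_eq_self_of_injective M.subtype_injective]
    exact Cfsg.Lib.FittingHall.fittingHall_coprime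
  rw [← relIndex_mul_index hle]
  refine Nat.Coprime.mul_right ?_ ((core_hall_coprime hG hM).coprime_dvd_left (card_dvd_of_le hle))
  rw [← relIndex_mul_relIndex _ (Cfsg.sigmaCore M) M hle (sigmaCore_le M)] at h2
  exact h2.coprime_dvd_right (dvd_mul_right _ _)

theorem core_theorem (hG : Cfsg.IsMinSimpleOddOrder G) (hM : IsCoatom M) :
    (∀ (p : ℕ), p.Prime → ∀ (P : Sylow p ↥(Cfsg.typeCore M)), (P : Subgroup ↥(Cfsg.typeCore M)) ≠ ⊥ →
        Subgroup.normalizer ((((P : Subgroup ↥(Cfsg.typeCore M)).map (Cfsg.typeCore M).subtype : Subgroup G)) : Set G) ≤ M) ∧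
      (Nat.card (Cfsg.fittingHallOf M)).Coprime (Cfsg.fittingHallOf M).index ∧
      (Nat.card (Cfsg.typeCore M)).Coprime (Cfsg.typeCore M).index := by
  rw [typeCore_eq hG hM]
  refine ⟨fun p hp P hP => ?_, fittingHall_hall_coprime hG hM, core_hall_coprime hG hM⟩
  haveI := Fact.mk hp
  have hσ : p ∈ Cfsg.sigma M :=
    sigmaCore_isPi p hp ((dvd_card_of_isPGroup P.2 hP).trans (card_subgroup_dvd_card _))
  exact normalizer_le hσ (isSylowOf_of_sigmaCore hG hM hσ P)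

theorem classes_theorem (hG : Cfsg.IsMinSimpleOddOrder G) :
    (∀ M : Subgroup G, IsCoatom M → Cfsg.Agent.PF.IsTypeI' M) ∨
      ∃ W₁ W₂ S T : Subgroup G, Cfsg.IsSelfNormalizingCyclic W₁ W₂ ∧ IsCoatom S ∧ IsCoatom T ∧
        Cfsg.IsComplIn ⁅S, S⁆ W₁ S ∧ Cfsg.IsComplIn ⁅T, T⁆ W₂ T ∧ S ⊓ T = W₁ ⊔ W₂ ∧
        (Cfsg.IsOfTypeII S ∨ Cfsg.IsOfTypeII T) ∧
        (Cfsg.IsOfTypeII S ∨ Cfsg.IsOfTypeIII S ∨ Cfsg.IsOfTypeIV S ∨ Cfsg.IsOfTypeV S) ∧
        (Cfsg.IsOfTypeII T ∨ Cfsg.IsOfTypeIII T ∨ Cfsg.IsOfTypeIV T ∨ Cfsg.IsOfTypeV T) ∧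
        ∀ M : Subgroup G, IsCoatom M → Cfsg.Agent.PF.IsTypeI' M ∨
          ∃ g : G, M = S.map (MulAut.conj g).toMonoidHom ∨ M = T.map (MulAut.conj g).toMonoidHom := by
  by_cases hall : ∀ M : Subgroup G, IsCoatom M → Cfsg.Agent.PF.IsTypeI' M
  · exact Or.inl hall
  push_neg at hall
  obtain ⟨S, hS, hnI⟩ := hall
  obtain ⟨K, U, hd⟩ := exists_decomposition hG hS
  have hK : K ≠ ⊥ := fun h => hnI (typeI'_of_kappa_trivial hG hS hd h)
  obtain ⟨T, d⟩ := (KappaPair.mk hS hd.hall hK).exists_dual hG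
  have hT := d.pair'.max
  have hK' := d.pair'.ne
  obtain ⟨E', U', hs'⟩ := exists_kappaSplit hG hT d.pair'.hall
  have hd' := hs'.decomposition d.pair'.hall (d.pair'.cyclic hG)
  obtain ⟨D, hP⟩ := exists_typePWith hG hS hd hK
  refine Or.inr ⟨K, fix(S, K), S, T, hP.selfNormalizing, hS, hT,
    (derived_kappa_compl hG hS hd hK).1, (derived_kappa_compl hG hT hd' hK').1, d.meet_eq hG, ?_,
    typeP_cases hG hS hd hK, typeP_cases hG hT hd' hK', fun M hM => ?_⟩
  · by_cases hU : U = ⊥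
    · by_cases hU' : U' = ⊥
      · exact absurd ⟨trivial_card hG hS hd hU, trivial_card hG hT hd' hU'⟩ (d.count hG)
      · exact Or.inr (typeII_of hG hT hd' hK' hU')
    · exact Or.inl (typeII_of hG hS hd hK hU)
  · obtain ⟨K₁, U₁, hd₁⟩ := exists_decomposition hG hM
    by_cases hK₁ : K₁ = ⊥
    · exact Or.inl (typeI'_of_kappa_trivial hG hM hd₁ hK₁)
    · exact Or.inr (d.classes hG hM (kappa_nonempty hd₁ hK₁))

end Cfsg.Lib.OddLocal.RankTwoMax
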