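import Cfsg.Agent.OddLocal.TypeClasses

/-!
# The elements of `A(M)` outside the core
-/

set_option linter.unusedSectionVars false
set_option linter.unusedVariables false
set_option linter.style.haveILetI false

namespace Cfsg.Lib.OddLocal.RankTwoMax

open Subgroup Uniqueness Sigma
open Cfsg.Lib.Coprime (conjMap)
open scoped commutatorElement

universe u

variable {G : Type u} [Group G] [Finite G] {M K U V : Subgroup G} {a x g : G}

theorem not_kappa_of_dvd_sup (hG : Cfsg.IsMinSimpleOddOrder G) (hM : IsCoatom M)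
    (hd : Cfsg.IsSigmaDecomposition M K U) {r : ℕ} (hr : r.Prime)
    (h : r ∣ Nat.card ↥(U ⊔ Cfsg.sigmaCore M)) : r ∉ Cfsg.kappa M := fun hκ => by
  rcases dvd_card_sup (hd.compl.1.trans (le_normalizer_sigmaCore M)) hr (sup_comm U _ ▸ h) with h1 | h1
  · exact hκ.2.2.1 (sigmaCore_isPi r hr h1)
  · exact ((decomp_hall hG hM hd).2.1 r hr h1).2.1 hκ

/-- The power of prime order `r ∉ σ(M)` of an element of `A(M)` has its centralizer in `M` only. -/
theorem power_unique (hG : Cfsg.IsMinSimpleOddOrder G) (hM : IsCoatom M)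
    (hd : Cfsg.IsSigmaDecomposition M K U) (ha : a ∈ Cfsg.sigmaA M U) {r : ℕ} (hr : r.Prime)
    (hd' : r ∣ orderOf a) (hrσ : r ∉ Cfsg.sigma M) :
    centralizer ({a ^ (orderOf a / r)} : Set G) ≤ M ∧
      ∀ L : Subgroup G, IsCoatom L → centralizer ({a ^ (orderOf a / r)} : Set G) ≤ L → L = M := by
  obtain ⟨⟨haM, z, hz, hz1, haz⟩, haU⟩ := ha
  haveI := Fact.mk hr
  have hκ := not_kappa_of_dvd_sup hG hM hd hr (hd'.trans (Subgroup.orderOf_dvd_natCard _ haU))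
  have hτ := (prime_of_hat hG hM ⟨haM, z, hz, hz1, haz⟩ hd' hrσ).resolve_right hκ
  have hco := orderOf_pow_orderOf_div (orderOf_pos a).ne' hd'
  refine unique_centralizer_of_tau_two hG hM (pow_mem haM _) (fun e => ?_) (fun s hs hds => ?_) hz hz1
    ((show Commute a z from haz).pow_left _)
  · rw [e, orderOf_one] at hco; exact hr.one_lt.ne hco
  · rw [hco] at hds
    rwa [(Nat.prime_dvd_prime_iff_eq hs hr).mp hds]

theorem exists_prime_outside (hG : Cfsg.IsMinSimpleOddOrder G) (hM : IsCoatom M) (haM : a ∈ M)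
    (hσ : a ∉ Cfsg.sigmaCore M) : ∃ r : ℕ, r.Prime ∧ r ∣ orderOf a ∧ r ∉ Cfsg.sigma M := by
  by_contra hno
  push_neg at hno
  exact hσ (mem_sigmaCore_of_primes hG hM haM hno)

theorem centralizer_le_of_hat (hG : Cfsg.IsMinSimpleOddOrder G) (hM : IsCoatom M)
    (hd : Cfsg.IsSigmaDecomposition M K U) (ha : a ∈ Cfsg.sigmaA M U) (hσ : a ∉ Cfsg.sigmaCore M) :
    centralizer ({a} : Set G) ≤ M := by
  obtain ⟨r, hr, hd', hrσ⟩ := exists_prime_outside hG hM ha.1.1 hσ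
  exact (centralizer_le_pow a _).trans (power_unique hG hM hd ha hr hd' hrσ).1

theorem mem_of_conj_hat (hG : Cfsg.IsMinSimpleOddOrder G) (hM : IsCoatom M)
    (hd : Cfsg.IsSigmaDecomposition M K U) (ha : a ∈ Cfsg.sigmaA M U) (hσ : a ∉ Cfsg.sigmaCore M)
    (hb : g * a * g⁻¹ ∈ Cfsg.sigmaA M U) : g ∈ M := by
  obtain ⟨r, hr, hd', hrσ⟩ := exists_prime_outside hG hM ha.1.1 hσ
  have hle := (power_unique hG hM hd ha hr hd' hrσ).1
  have huniq := (power_unique hG hM hd hb hr ((conj_orderOf g a).symm ▸ hd') hrσ).2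
  rw [conj_orderOf g a] at huniq
  refine eq_of_conj_fix hG hM (huniq _ (conjMap_coatom hM g) fun c hc => ?_)
  rw [Cfsg.Lib.Coprime.mem_conjMap]
  refine hle (mem_centralizer_singleton_iff.mpr ?_)
  rw [mem_centralizer_singleton_iff,
    show (g * a * g⁻¹) ^ (orderOf a / r) = g * a ^ (orderOf a / r) * g⁻¹ from (map_pow (MulAut.conj g) a _).symm] at hc
  calc g⁻¹ * c * g * a ^ (orderOf a / r) = g⁻¹ * (c * (g * a ^ (orderOf a / r) * g⁻¹)) * g := by group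
    _ = a ^ (orderOf a / r) * (g⁻¹ * c * g) := by rw [hc]; group

theorem conj_mem_sigmaCore {m : G} (hm : m ∈ M) : m * a * m⁻¹ ∈ Cfsg.sigmaCore M ↔ a ∈ Cfsg.sigmaCore M :=
  ((mem_normalizer_iff.mp (le_normalizer_sigmaCore M hm)) a).symm

theorem sigmaA_diff_ti (hG : Cfsg.IsMinSimpleOddOrder G) (hM : IsCoatom M)
    (hd : Cfsg.IsSigmaDecomposition M K U) :
    Cfsg.IsTISubset (Cfsg.sigmaA M U \ (Cfsg.sigmaCore M : Set G)) := by
  intro g hg x hx hgx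
  exfalso
  refine hg ?_
  have hgM := mem_of_conj_hat hG hM hd hx.1 hx.2 hgx.1
  obtain ⟨E, hs⟩ := decomp_split hG hM hd
  have key : ∀ m ∈ M, ∀ a : G, a ∈ Cfsg.sigmaA M U \ (Cfsg.sigmaCore M : Set G) →
      m * a * m⁻¹ ∈ Cfsg.sigmaA M U \ (Cfsg.sigmaCore M : Set G) := by
    rintro m hm a ⟨⟨⟨haM, z, hz, hz1, haz⟩, haU⟩, haσ⟩
    refine ⟨⟨⟨mul_mem (mul_mem hm haM) (inv_mem hm), m * z * m⁻¹, (conj_mem_sigmaCore hm).mpr hz,
      fun e => hz1 (conj_eq_one_iff.mp e), ?_⟩, (mem_normalizer_iff.mp (hs.sup_normal hm) a).mp haU⟩,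
      fun h => haσ ((conj_mem_sigmaCore hm).mp h)⟩
    calc m * a * m⁻¹ * (m * z * m⁻¹) = m * (a * z) * m⁻¹ := by group
      _ = m * z * m⁻¹ * (m * a * m⁻¹) := by rw [haz]; group
  refine Subgroup.mem_set_normalizer_iff.mpr fun a => ⟨key g hgM a, fun h => ?_⟩
  have := key g⁻¹ (inv_mem hgM) _ h
  simpa [mul_assoc] using this

/-- A decomposition through any complement `V` of `M_F` (in `M` for Type I, in `M'` for Type II). -/
theorem exists_decomp_complement (hG : Cfsg.IsMinSimpleOddOrder G) (hM : IsCoatom M)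
    (hV : (Cfsg.Agent.PF.IsTypeI' M ∧ Cfsg.IsComplIn (Cfsg.fittingHallOf M) V M) ∨
      (Cfsg.IsOfTypeII M ∧ Cfsg.IsComplIn (Cfsg.fittingHallOf M) V ⁅M, M⁆)) :
    ∃ K U : Subgroup G, Cfsg.IsSigmaDecomposition M K U ∧ U ≠ ⊥ ∧
      ∃ w ∈ Cfsg.sigmaCore M, V = conjMap w U := by
  obtain ⟨K, U, hd⟩ := exists_decomposition hG hM
  have hU : U ≠ ⊥ := by
    rcases hV with ⟨h, -⟩ | ⟨h, -⟩
    · exact ((typeI'_iff hG hM hd).mp h).2
    · exact ((typeII_iff hG hM hd).mp h).2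
  have hF := fittingHall_eq_of_ne hG hM hd hU
  have hn : U ≤ normalizer (Cfsg.sigmaCore M : Set G) := hd.compl.1.trans (le_normalizer_sigmaCore M)
  have hcop : (Nat.card (Cfsg.sigmaCore M)).Coprime (Nat.card U) := Nat.coprime_of_dvd fun r hr h1 h2 =>
    ((decomp_hall hG hM hd).2.1 r hr h2).2.2 (sigmaCore_isPi r hr h1)
  obtain ⟨hc, hle⟩ : (∃ X : Subgroup G, Cfsg.IsComplIn (Cfsg.fittingHallOf M) V X ∧
      Cfsg.IsComplIn (Cfsg.fittingHallOf M) U X) ∧ V ≤ Cfsg.sigmaCore M ⊔ U := by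
    rcases hV with ⟨h, hc⟩ | ⟨h, hc⟩
    · obtain ⟨hK, -⟩ := (typeI'_iff hG hM hd).mp h
      refine ⟨⟨M, hc, hF ▸ ⟨sigmaCore_le M, hd.compl.1, core_inf_U hG hM hd, fun m hm => ?_⟩⟩, fun v hv => ?_⟩
      · obtain ⟨a, ha, b, hb, rfl⟩ := hd.compl.2.2.2 m hm
        rw [hK, bot_sup_eq] at hb
        exact ⟨a * b * a⁻¹, (conj_mem_sigmaCore (hd.compl.1 ha)).mpr hb, a, ha, by group⟩
      · obtain ⟨a, ha, b, hb, rfl⟩ := hd.compl.2.2.2 v (hc.2.1 hv)
        rw [hK, bot_sup_eq] at hb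
        exact mul_mem (mem_sup_right ha) (mem_sup_left hb)
    · obtain ⟨hK, -⟩ := (typeII_iff hG hM hd).mp h
      refine ⟨⟨⁅M, M⁆, hc, U_compl hG hM hd hK hU⟩, hc.2.1.trans ?_⟩
      rw [(derived_theorem hG hM hd hK).1, sup_comm]
  obtain ⟨X, hV', hU'⟩ := hc
  have hcard : Nat.card V = Nat.card U :=
    Nat.eq_of_mul_eq_mul_left Nat.card_pos ((compl_card hV').symm.trans (compl_card hU'))
  obtain ⟨w, hw, he⟩ := Cfsg.Lib.Coprime.exists_conj_eq_of_coprime hn hcop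
    (Or.inl (Cfsg.Lib.Coprime.isSolvable_of_le (sigmaCore_le M) (hG.2.2.2 M hM.1))) hle hcard
  exact ⟨K, U, hd, hU, w, hw, he⟩

theorem mem_conj_centralizer {w : G} {X : Set G} {c : G} :
    c ∈ centralizer X ↔ w⁻¹ * c * w ∈ centralizer ((fun y => w⁻¹ * y * w) '' X) := by
  simp only [mem_centralizer_iff, Set.forall_mem_image]
  refine forall₂_congr fun y _ => ⟨fun h => ?_, fun h => ?_⟩
  · calc w⁻¹ * y * w * (w⁻¹ * c * w) = w⁻¹ * (y * c) * w := by group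
      _ = w⁻¹ * c * w * (w⁻¹ * y * w) := by rw [h]; group
  · calc y * c = w * (w⁻¹ * y * w * (w⁻¹ * c * w)) * w⁻¹ := by group
      _ = c * y := by rw [h]; group

theorem typeA'_diff (hG : Cfsg.IsMinSimpleOddOrder G) (hM : IsCoatom M)
    (hd : Cfsg.IsSigmaDecomposition M K U) (hU : U ≠ ⊥) :
    Cfsg.Agent.PF.typeA' M \ Cfsg.typeA1 M = Cfsg.sigmaA M U \ (Cfsg.sigmaCore M : Set G) := by
  have hF := fittingHall_eq_of_ne hG hM hd hU
  have hA : Cfsg.Agent.PF.typeA' M = {a | a ≠ 1 ∧ a ∈ Cfsg.sigmaA M U} := by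
    unfold Cfsg.Agent.PF.typeA'
    ext a
    by_cases hI : Cfsg.Agent.PF.IsTypeI' M
    · obtain ⟨hK, -⟩ := (typeI'_iff hG hM hd).mp hI
      rw [if_pos hI, hF]
      constructor
      · rintro ⟨haM, ha1, z, hz, hz1, hc⟩
        refine ⟨ha1, ⟨haM, z, hz, hz1, hc⟩, ?_⟩
        obtain ⟨u, hu, s, hs, rfl⟩ := hd.compl.2.2.2 a haM
        rw [hK, bot_sup_eq] at hs
        exact mul_mem_sup hu hs
      · rintro ⟨ha1, ⟨haM, z, hz, hz1, hc⟩, -⟩
        exact ⟨haM, ha1, z, hz, hz1, hc⟩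
    · have hK : K ≠ ⊥ := fun h => hI ((typeI'_iff hG hM hd).mpr ⟨h, hU⟩)
      rw [if_neg hI, typeCore_eq hG hM, (derived_theorem hG hM hd hK).1]
      constructor
      · rintro ⟨haU, ha1, z, hz, hz1, hc⟩
        exact ⟨ha1, ⟨sup_le hd.compl.1 (sigmaCore_le M) haU, z, hz, hz1, hc⟩, haU⟩
      · rintro ⟨ha1, ⟨-, z, hz, hz1, hc⟩, haU⟩
        exact ⟨haU, ha1, z, hz, hz1, hc⟩
  rw [hA, Cfsg.typeA1, typeCore_eq hG hM]
  ext a
  constructor
  · rintro ⟨⟨ha1, ha⟩, hn⟩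
    exact ⟨ha, fun h => hn ⟨h, ha1⟩⟩
  · rintro ⟨ha, hn⟩
    exact ⟨⟨fun e => hn (e ▸ one_mem _), ha⟩, fun h => hn h.1⟩

/-- The complements of Type I and II subgroups. -/
theorem complement_theorem (hG : Cfsg.IsMinSimpleOddOrder G) (hM : IsCoatom M)
    (hV : (Cfsg.Agent.PF.IsTypeI' M ∧ Cfsg.IsComplIn (Cfsg.fittingHallOf M) V M) ∨
      (Cfsg.IsOfTypeII M ∧ Cfsg.IsComplIn (Cfsg.fittingHallOf M) V ⁅M, M⁆)) :
    (∀ (p : ℕ), p.Prime → ∀ P : Sylow p V, IsMulCommutative (P : Subgroup V) ∧ Cfsg.PRankLE p 2 (P : Subgroup V)) ∧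
      (∀ X : Set G, X ⊆ (V : Set G) \ {1} → X.Nonempty →
        Cfsg.fittingHallOf M ⊓ Subgroup.centralizer X ≠ ⊥ →
        Subgroup.centralizer X ≤ M ∧
          ∀ L : Subgroup G, IsCoatom L → Subgroup.centralizer X ≤ L → L = M) ∧
      Cfsg.IsTISubset (Cfsg.Agent.PF.typeA' M \ Cfsg.typeA1 M) := by
  obtain ⟨K, U, hd, hU, w, hw, rfl⟩ := exists_decomp_complement hG hM hV
  refine ⟨fun p hp P => ?_, fun X hX hne hfix => ?_, (typeA'_diff hG hM hd hU).symm ▸ sigmaA_diff_ti hG hM hd⟩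
  · haveI := Fact.mk hp
    let e : U ≃* ↥(conjMap w U) := U.equivMapOfInjective _ (MulAut.conj w).injective
    obtain ⟨T⟩ : Nonempty (Sylow p U) := inferInstance
    obtain ⟨hc, hr⟩ := decomp_sylow hG hM hd T
    let T' : Sylow p ↥(conjMap w U) := T.mapSurjective (f := e.toMonoidHom) e.surjective
    let e' : (T : Subgroup U) ≃* (P : Subgroup ↥(conjMap w U)) :=
      ((T : Subgroup U).equivMapOfInjective e.toMonoidHom e.injective).trans (Sylow.equiv T' P)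
    refine ⟨⟨⟨fun a b => e'.symm.injective ?_⟩⟩, Cfsg.Lib.OddP.pRankLE_of_injective e'.symm.toMonoidHom
      e'.symm.injective hr⟩
    rw [map_mul, map_mul]
    exact hc.is_comm.comm _ _
  · obtain ⟨z, hz, hz1⟩ := (Subgroup.bot_or_exists_ne_one _).resolve_left hfix
    have hF := fittingHall_eq_of_ne hG hM hd hU
    have hwM : w ∈ M := sigmaCore_le M hw
    set Y := Subgroup.closure ((fun y => w⁻¹ * y * w) '' X) with hY
    have hYU : Y ≤ U := (closure_le U).mpr (by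
      rintro _ ⟨y, hy, rfl⟩
      exact Cfsg.Lib.Coprime.mem_conjMap.mp (hX hy).1)
    have hY1 : Y ≠ ⊥ := fun h => by
      obtain ⟨y, hy⟩ := hne
      have h1 : w⁻¹ * y * w ∈ Y := subset_closure ⟨y, hy, rfl⟩
      rw [h, mem_bot] at h1
      refine (hX hy).2 (Set.mem_singleton_iff.mpr ?_)
      calc y = w * (w⁻¹ * y * w) * w⁻¹ := by group
        _ = 1 := by rw [h1, mul_one, mul_inv_cancel]
    have hC : ∀ c : G, c ∈ centralizer X ↔ w⁻¹ * c * w ∈ centralizer (Y : Set G) := fun c => by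
      rw [hY, centralizer_closure, ← mem_conj_centralizer]
    have hfix' : Cfsg.sigmaCore M ⊓ centralizer (Y : Set G) ≠ ⊥ := fun h => hz1 (by
      have hz' : z ∈ Cfsg.sigmaCore M := hF ▸ hz.1
      have h0 : w⁻¹ * z * w ∈ Cfsg.sigmaCore M := mul_mem (mul_mem (inv_mem hw) hz') hw
      have h1 : w⁻¹ * z * w ∈ Cfsg.sigmaCore M ⊓ centralizer (Y : Set G) := ⟨h0, (hC z).mp hz.2⟩
      rw [h, mem_bot] at h1
      calc z = w * (w⁻¹ * z * w) * w⁻¹ := by group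
        _ = 1 := by rw [h1, mul_one, mul_inv_cancel])
    obtain ⟨hle, huniq⟩ := (decomp_hat hG hM hd).2 Y hYU hY1 hfix'
    refine ⟨fun c hc => ?_, fun L hL hLc => ?_⟩
    · have h1 := hle ((hC c).mp hc)
      simpa [mul_assoc] using mul_mem (mul_mem hwM h1) (inv_mem hwM)
    · have h1 : conjMap w⁻¹ L = M := huniq _ (conjMap_coatom hL _) fun c hc => by
        rw [Cfsg.Lib.Coprime.mem_conjMap, inv_inv]
        refine hLc ((hC _).mpr ?_)
        rwa [show w⁻¹ * (w * c * w⁻¹) * w = c by group]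
      rw [← Cfsg.Lib.Coprime.conjMap_conjMap_inv w L, h1]
      exact Cfsg.Lib.Coprime.conjMap_eq_self (le_normalizer hwM)

end Cfsg.Lib.OddLocal.RankTwoMax
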