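import Cfsg.Agent.OddLocal.SupportKappa

/-!
# Support by a maximal subgroup with a nonempty `κ`
-/

set_option linter.unusedSectionVars false
set_option linter.unusedVariables false
set_option linter.style.haveILetI false

namespace Cfsg.Lib.OddLocal.RankTwoMax

open Subgroup Uniqueness Sigma
open Cfsg.Lib.Coprime (conjMap)

universe u

variable {G : Type u} [Group G] [Finite G] {M N : Subgroup G} {x : G}

/-- If a supporting subgroup has nonempty `κ`, then the supported one is Frobenius of type I. -/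
theorem frobenius_of_kappa_support (hG : Cfsg.IsMinSimpleOddOrder G) (hM : IsCoatom M)
    (hx : x ∈ Cfsg.sigmaCore M) (hx1 : x ≠ 1) (hxM : ¬ centralizer ({x} : Set G) ≤ M) (hN : IsCoatom N)
    (hxN : centralizer ({x} : Set G) ≤ N) (hkN : (Cfsg.kappa N).Nonempty) :
    Cfsg.kappa M = ∅ ∧ (∃ E : Subgroup ↥M, Cfsg.IsFrobeniusComplement E ∧ IsCyclic E) ∧
      ¬ Cfsg.IsTISubset (Cfsg.fittingHallOf M : Set G) := by
  obtain ⟨N', hsp⟩ := exists_supportPair hG hM hx hx1 hxM
  obtain rfl := hsp.unique N hN hxN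
  obtain ⟨q, hq, A, A₀, x₁, d⟩ := exists_supportData hG hsp
  set E := M ⊓ N with hE
  -- a Hall subgroup for `κ(N)` in the complement
  haveI : Group.IsSolvable E := hG.2.2.2 E (FittingUniqueness.ne_top_of_le_coatom hN inf_le_right)
  obtain ⟨H, hH⟩ := Cfsg.Lib.Coprime.exists_piHall (G := E) (Cfsg.kappa N)
  set K := H.map E.subtype with hKdef
  have hKE : K ≤ E := map_subtype_le _
  have hKc : Nat.card K = Nat.card H := card_map_of_injective E.subtype_injective
  have hEN : E.relIndex N = Nat.card (Cfsg.sigmaCore N) :=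
    Nat.eq_of_mul_eq_mul_left (Nat.card_pos (α := E)) ((card_mul_relIndex inf_le_right).trans (compl_card hsp.compl))
  have hK : Cfsg.IsPiHallOf (Cfsg.kappa N) K N := by
    refine ⟨hKE.trans inf_le_right, fun r hr hd => hH.1 r hr (hKc ▸ hd), fun r hr hrκ hd => ?_⟩
    rw [← relIndex_mul_relIndex K E N hKE inf_le_right, hEN] at hd
    rcases hr.dvd_mul.mp hd with h | h
    · have h2 : K.relIndex E = H.index := by
        rw [hKdef, ← relIndex_top_right H, ← relIndex_map_map_of_injective H ⊤ E.subtype_injective,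
          ← MonoidHom.range_eq_map, range_subtype]
      exact hH.2 r hr hrκ (h2 ▸ h)
    · exact absurd (sigmaCore_isPi r hr h) hrκ.2.2.1
  have hKne : K ≠ ⊥ := fun e => by
    obtain ⟨r, hrκ⟩ := hkN
    have hr := hrκ.1
    refine hK.2.2 r hr hrκ ?_
    rw [e, relIndex_bot_left]
    exact hrκ.2.1
  obtain ⟨U, hsplit⟩ := exists_kappaSplit_of hG hN hK hsp.compl hKE
  have hU : U ≠ ⊥ := fun e => by
    have h1 : x₁ ∈ K := by
      have h2 := d.le d.mem
      rw [← hsplit.prod, e, bot_sup_eq] at h2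
      exact h2
    refine d.tau.2.2.2 (kappa_rank hG hN (hK.2.1 q hq.out ?_))
    exact d.order ▸ (Nat.card_zpowers x₁).symm ▸ card_dvd_of_le (zpowers_le.mpr h1)
  have hpair : KappaPair N K := ⟨hN, hK, hKne⟩
  obtain ⟨L, hdual⟩ := hpair.exists_dual hG
  have o : OverU N K L E U M := ⟨hdual, hsplit, hU, hM, inf_le_left, fun g e => hsp.not_conj g⁻¹ (by
    rw [e, Cfsg.Lib.Coprime.conjMap_inv_conjMap])⟩
  obtain ⟨F, hF, hKF⟩ := exists_complement_ge hG hM o.K_le fun r hr hd =>
    (Nat.prime_dvd_prime_iff_eq hr (o.prime_K hG)).mp hd ▸ o.prime_not_sigma hG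
  refine ⟨o.kappa_empty hG, ⟨F.subgroupOf M, frobenius_of_regular hG hM hF ?_ fun y hy hy1 =>
    o.regular_all hG d hF hy hy1, ?_⟩, fun hTI => ?_⟩
  · exact fun e => hKne (le_bot_iff.mp (e ▸ hKF))
  · haveI := o.complement_cyclic hG d hF hKF
    exact (subgroupOfEquivOfLe hF.1).isCyclic.mpr this
  · rw [← sigmaCore_eq_fittingHall hG hM (o.nilpotent hG)] at hTI
    obtain ⟨c, hc, hcM⟩ := SetLike.not_le_iff_exists.mp hxM
    have hcx : c * x * c⁻¹ = x := by
      rw [mem_centralizer_singleton_iff.mp hc, mul_inv_cancel_right]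
    refine hx1 (hTI c (fun h => hcM ?_) x hx (by rw [hcx]; exact hx))
    rw [← FittingUniqueness.normalizer_le_coatom hG hM (sigmaCore_ne_bot hG hM)
      (FittingUniqueness.ne_top_of_le_coatom hM (sigmaCore_le M)) (le_normalizer_sigmaCore M)]
    exact h

end Cfsg.Lib.OddLocal.RankTwoMax
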