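import Cfsg.Agent.OddLocal.SigmaHatTI
import Cfsg.Agent.OddLocal.SupportFrob
import Cfsg.Agent.OddLocal.KappaHat
import Cfsg.Agent.Frobenius.Kernel

/-!
# The embedding of `A(M)` and `A₀(M)` in the group
-/

set_option linter.unusedSectionVars false
set_option linter.unusedVariables false
set_option linter.style.haveILetI false

namespace Cfsg.Lib.OddLocal.RankTwoMax

open Subgroup Uniqueness Sigma
open Cfsg.Lib.Coprime (conjMap)
open scoped commutatorElement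

universe u

variable {G : Type u} [Group G] [Finite G] {M K U L W₁ W₂ D : Subgroup G} {x y g v : G}

local notation "fix(" M ", " K ")" => Cfsg.sigmaCore M ⊓ centralizer (SetLike.coe K)
local notation "hat(" M ", " K ")" =>
  ((SetLike.coe (K ⊔ (Cfsg.sigmaCore M ⊓ centralizer (SetLike.coe K)))) \
    ((SetLike.coe K) ∪ (SetLike.coe (Cfsg.sigmaCore M ⊓ centralizer (SetLike.coe K)))))

/-- `A(M)` from any decomposition. -/
theorem typeA'_eq (hG : Cfsg.IsMinSimpleOddOrder G) (hM : IsCoatom M)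
    (hd : Cfsg.IsSigmaDecomposition M K U) :
    Cfsg.Agent.PF.typeA' M = {a | a ≠ 1 ∧ a ∈ Cfsg.sigmaA M U} := by
  unfold Cfsg.Agent.PF.typeA'
  ext a
  by_cases hI : Cfsg.Agent.PF.IsTypeI' M
  · obtain ⟨hK, hU⟩ := (typeI'_iff hG hM hd).mp hI
    rw [if_pos hI, fittingHall_eq_of_ne hG hM hd hU]
    constructor
    · rintro ⟨haM, ha1, z, hz, hz1, hc⟩
      refine ⟨ha1, ⟨haM, z, hz, hz1, hc⟩, ?_⟩
      obtain ⟨u, hu, s, hs, rfl⟩ := hd.compl.2.2.2 a haM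
      rw [hK, bot_sup_eq] at hs
      exact mul_mem_sup hu hs
    · rintro ⟨ha1, ⟨haM, z, hz, hz1, hc⟩, -⟩
      exact ⟨haM, ha1, z, hz, hz1, hc⟩
  · have hK : K ≠ ⊥ := fun h => hI (typeI'_of_kappa_trivial hG hM hd h)
    rw [if_neg hI, typeCore_eq hG hM, (derived_theorem hG hM hd hK).1]
    constructor
    · rintro ⟨haU, ha1, z, hz, hz1, hc⟩
      exact ⟨ha1, ⟨sup_le hd.compl.1 (sigmaCore_le M) haU, z, hz, hz1, hc⟩, haU⟩
    · rintro ⟨ha1, ⟨-, z, hz, hz1, hc⟩, haU⟩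
      exact ⟨haU, ha1, z, hz, hz1, hc⟩

theorem typeA'_no_kappa (hG : Cfsg.IsMinSimpleOddOrder G) (hM : IsCoatom M)
    (hd : Cfsg.IsSigmaDecomposition M K U) (hx : x ∈ Cfsg.Agent.PF.typeA' M) {r : ℕ} (hr : r.Prime)
    (hdv : r ∣ orderOf x) : r ∉ Cfsg.kappa M := by
  rw [typeA'_eq hG hM hd] at hx
  exact not_kappa_of_dvd_sup hG hM hd hr (hdv.trans (Subgroup.orderOf_dvd_natCard _ hx.2.2))

theorem hat_kappa (hd : Cfsg.IsSigmaDecomposition M K U) (hM : IsCoatom M) (hK : K ≠ ⊥)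
    (hx : x ∈ hat(M, K)) : ∃ r : ℕ, r.Prime ∧ r ∣ orderOf x ∧ r ∈ Cfsg.kappa M := by
  have h : KappaPair M K := ⟨hM, hd.hall, hK⟩
  obtain ⟨k, hk, y, hy, rfl⟩ := h.exists_mul hx.1
  have hk1 : k ≠ 1 := fun e => hx.2 (Or.inr (by simpa [e] using hy))
  obtain ⟨r, hr, hdv⟩ := exists_pow_prime hk1
  refine ⟨r, hr, hdv.trans (orderOf_dvd_of_pow_eq_one ?_), hd.hall.2.1 r hr (hdv.trans (Subgroup.orderOf_dvd_natCard K hk))⟩
  have e := pow_orderOf_eq_one (k * y)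
  rw [(h.commute hk hy).mul_pow] at e
  have h2 : y ^ orderOf (k * y) ∈ fix(M, K) := pow_mem hy _
  have h3 : k ^ orderOf (k * y) ∈ fix(M, K) := by
    rw [eq_inv_of_mul_eq_one_left e]
    exact inv_mem h2
  exact mem_bot.mp (h.disjoint.le ⟨pow_mem hk _, h3⟩)

/-- The factors `W₁`, `W₂` of type-P data are conjugate to `K` and `C_{M_σ}(K)`. -/
theorem typePWith_conj (hG : Cfsg.IsMinSimpleOddOrder G) (hM : IsCoatom M)
    (hd : Cfsg.IsSigmaDecomposition M K U) (hK : K ≠ ⊥) (hP : Cfsg.IsTypePWith M W₁ D W₂) :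
    ∃ w ∈ M, W₁ = conjMap w K ∧ W₂ = conjMap w (fix(M, K)) := by
  obtain ⟨hc, hcop, -⟩ := derived_kappa_compl hG hM hd hK
  obtain ⟨D', hP'⟩ := exists_typePWith hG hM hd hK
  have hn : M ≤ normalizer ((⁅M, M⁆ : Subgroup G) : Set G) :=
    Cfsg.Lib.Coprime.le_normalizer_commutator_right M M
  have hcard : Nat.card W₁ = Nat.card K :=
    Nat.eq_of_mul_eq_mul_left Nat.card_pos ((compl_card hP.W₁_compl).symm.trans (compl_card hc))
  have hcop' : (Nat.card ↥⁅M, M⁆).Coprime (Nat.card K) := by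
    have e : Nat.card ↥⁅M, M⁆ * ⁅M, M⁆.relIndex M = Nat.card ↥⁅M, M⁆ * Nat.card K :=
      (card_mul_relIndex hc.1).trans (compl_card hc)
    rwa [Nat.eq_of_mul_eq_mul_left Nat.card_pos e] at hcop
  have hle : W₁ ≤ ⁅M, M⁆ ⊔ K := fun a ha => by
    obtain ⟨b, hb, c, hc', rfl⟩ := hc.2.2.2 a (hP.W₁_compl.2.1 ha)
    exact mul_mem_sup hb hc'
  obtain ⟨w, hw, he⟩ := Cfsg.Lib.Coprime.exists_conj_eq_of_coprime (hc.2.1.trans hn) hcop'
    (Or.inl (Cfsg.Lib.Coprime.isSolvable_of_le hc.1 (hG.2.2.2 M hM.1))) hle hcard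
  have hwM : w ∈ M := hc.1 hw
  refine ⟨w, hwM, he, ?_⟩
  obtain ⟨x, hx, hx1⟩ := (Subgroup.bot_or_exists_ne_one W₁).resolve_left hP.W₁_ne
  have hk : w⁻¹ * x * w ∈ K := Cfsg.Lib.Coprime.mem_conjMap.mp (he ▸ hx)
  have hk1 : w⁻¹ * x * w ≠ 1 := fun e => hx1 (by
    calc x = w * (w⁻¹ * x * w) * w⁻¹ := by group
      _ = 1 := by rw [e]; group)
  rw [← hP.W₂_centralizer x hx hx1, ← hP'.W₂_centralizer _ hk hk1]
  ext a
  have hN : a ∈ ⁅M, M⁆ ↔ w⁻¹ * a * w ∈ ⁅M, M⁆ := by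
    simpa using mem_normalizer_iff.mp (inv_mem (hn hwM)) a
  rw [Cfsg.Lib.Coprime.mem_conjMap, mem_inf, mem_inf, hN, mem_conj_centralizer (w := w), Set.image_singleton]

/-- `A₀(M)` is the union of `A(M)` and the `M`-conjugates of the mixed elements of `K × C_{M_σ}(K)`. -/
theorem typeA0'_cases (hG : Cfsg.IsMinSimpleOddOrder G) (hM : IsCoatom M)
    (hd : Cfsg.IsSigmaDecomposition M K U) (hv : v ∈ Cfsg.Agent.PF.typeA0' M) :
    v ∈ Cfsg.Agent.PF.typeA' M ∨ (K ≠ ⊥ ∧ ∃ m ∈ M, ∃ z ∈ hat(M, K), v = m * z * m⁻¹) := by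
  rcases hv with h | ⟨hI, W₁, D, W₂, hP, m, hm, z, hz, hz1, hz2, rfl⟩
  · exact Or.inl h
  have hK : K ≠ ⊥ := fun h => hI (typeI'_of_kappa_trivial hG hM hd h)
  obtain ⟨w, hw, e1, e2⟩ := typePWith_conj hG hM hd hK hP
  rw [e1, e2] at hz
  rw [e1, Cfsg.Lib.Coprime.mem_conjMap] at hz1
  rw [e2, Cfsg.Lib.Coprime.mem_conjMap] at hz2
  have hz' : w⁻¹ * z * w ∈ K ⊔ fix(M, K) := by
    rw [← Cfsg.Lib.Coprime.mem_conjMap, Cfsg.Lib.Coprime.conjMap, Subgroup.map_sup]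
    exact hz
  refine Or.inr ⟨hK, m * w, mul_mem hm hw, w⁻¹ * z * w, ⟨hz', ?_⟩, by group⟩
  rintro (h | h)
  · exact hz1 h
  · exact hz2 h

theorem mem_typeA0'_of_hat (hG : Cfsg.IsMinSimpleOddOrder G) (hM : IsCoatom M)
    (hd : Cfsg.IsSigmaDecomposition M K U) (hK : K ≠ ⊥) {m z : G} (hm : m ∈ M) (hz : z ∈ hat(M, K)) :
    m * z * m⁻¹ ∈ Cfsg.Agent.PF.typeA0' M := by
  obtain ⟨D, hP⟩ := exists_typePWith hG hM hd hK
  exact Or.inr ⟨fun h => hK ((typeI'_iff hG hM hd).mp h).1, K, D, _, hP, m, hm, z, hz.1,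
    fun h => hz.2 (Or.inl h), fun h => hz.2 (Or.inr h), rfl⟩

theorem typeA0'_eq (hG : Cfsg.IsMinSimpleOddOrder G) (hM : IsCoatom M)
    (hd : Cfsg.IsSigmaDecomposition M K U) (hK : K ≠ ⊥) :
    Cfsg.Agent.PF.typeA0' M =
      Cfsg.Agent.PF.typeA' M ∪ {v | ∃ m ∈ M, ∃ z ∈ hat(M, K), v = m * z * m⁻¹} := by
  ext v
  refine ⟨fun h => (typeA0'_cases hG hM hd h).imp id And.right, ?_⟩
  rintro (h | ⟨m, hm, z, hz, rfl⟩)
  · exact Or.inl h
  · exact mem_typeA0'_of_hat hG hM hd hK hm hz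

theorem hat_centralizer_le (hG : Cfsg.IsMinSimpleOddOrder G) (hM : IsCoatom M)
    (hd : Cfsg.IsSigmaDecomposition M K U) (hK : K ≠ ⊥) {m z : G} (hm : m ∈ M) (hz : z ∈ hat(M, K)) :
    centralizer ({m * z * m⁻¹} : Set G) ≤ M := by
  have h : KappaPair M K := ⟨hM, hd.hall, hK⟩
  obtain ⟨L, d⟩ := h.exists_dual hG
  rw [centralizer_singleton_conj, d.centralizer_mixed hG hz]
  exact le_of_le_of_eq (map_mono h.le_max) (Cfsg.Lib.Coprime.conjMap_eq_self (le_normalizer hm))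

/-- Fusion in `A₀(M)` is controlled by `M`. -/
theorem typeA0'_fusion (hG : Cfsg.IsMinSimpleOddOrder G) (hM : IsCoatom M)
    (hx : x ∈ Cfsg.Agent.PF.typeA0' M) (hgx : g * x * g⁻¹ ∈ Cfsg.Agent.PF.typeA0' M) :
    ∃ m ∈ M, m * x * m⁻¹ = g * x * g⁻¹ := by
  obtain ⟨K, U, hd⟩ := exists_decomposition hG hM
  have hκ : ∀ {v : G}, K ≠ ⊥ → (∃ m ∈ M, ∃ z ∈ hat(M, K), v = m * z * m⁻¹) →
      ∃ r : ℕ, r.Prime ∧ r ∣ orderOf v ∧ r ∈ Cfsg.kappa M := by
    rintro v hK ⟨m, hm, z, hz, rfl⟩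
    obtain ⟨r, hr, h1, h2⟩ := hat_kappa hd hM hK hz
    exact ⟨r, hr, (conj_orderOf m z).symm ▸ h1, h2⟩
  rcases typeA0'_cases hG hM hd hx with hA | ⟨hK, m, hm, z, hz, e⟩ <;>
    rcases typeA0'_cases hG hM hd hgx with hA' | ⟨hK', m', hm', z', hz', e'⟩
  · have ha := typeA'_eq hG hM hd ▸ hA
    have ha' := typeA'_eq hG hM hd ▸ hA'
    by_cases hσ : x ∈ Cfsg.sigmaCore M
    · obtain ⟨n, hn, he⟩ := hall_fusion hG hM le_rfl (by rw [relIndex_self]; exact Nat.coprime_one_right _)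
        x hσ g (mem_sigmaCore_of_primes hG hM ha'.2.1.1 fun r hr hdv =>
          prime_of_mem_core hσ hr (conj_orderOf g x ▸ hdv))
      exact ⟨n, hn.1, he⟩
    · exact ⟨g, mem_of_conj_hat hG hM hd ha.2 hσ ha'.2, rfl⟩
  · obtain ⟨r, hr, h1, h2⟩ := hκ hK' ⟨m', hm', z', hz', e'⟩
    exact absurd h2 (typeA'_no_kappa hG hM hd hA hr (conj_orderOf g x ▸ h1))
  · obtain ⟨r, hr, h1, h2⟩ := hκ hK ⟨m, hm, z, hz, e⟩
    exact absurd h2 (typeA'_no_kappa hG hM hd hA' hr ((conj_orderOf g x).symm ▸ h1))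
  · have h : KappaPair M K := ⟨hM, hd.hall, hK⟩
    have hgM := h.le_max (h.conj_mem hG (g := m'⁻¹ * g * m) hz.1 (fun e => hz.2 (Or.inl e))
      (fun e => hz.2 (Or.inr e)) (by
        rw [show m'⁻¹ * g * m * z * (m'⁻¹ * g * m)⁻¹ = m'⁻¹ * (g * (m * z * m⁻¹) * g⁻¹) * m' by group,
          ← e, e', show m'⁻¹ * (m' * z' * m'⁻¹) * m' = z' by group]
        exact hz'.1))
    refine ⟨g, ?_, rfl⟩
    simpa [mul_assoc] using mul_mem (mul_mem hm' hgM) (inv_mem hm)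

/-- An element of `A₀(M)` with centralizer outside `M` lies in `M_σ`. -/
theorem mem_core_of_not_le (hG : Cfsg.IsMinSimpleOddOrder G) (hM : IsCoatom M)
    (hx : x ∈ Cfsg.Agent.PF.typeA0' M) (hxM : ¬ centralizer ({x} : Set G) ≤ M) :
    x ∈ Cfsg.sigmaCore M ∧ x ≠ 1 := by
  obtain ⟨K, U, hd⟩ := exists_decomposition hG hM
  rcases typeA0'_cases hG hM hd hx with hA | ⟨hK, m, hm, z, hz, rfl⟩
  · rw [typeA'_eq hG hM hd] at hA
    exact ⟨by_contra fun h => hxM (centralizer_le_of_hat hG hM hd hA.2 h), hA.1⟩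
  · exact absurd (hat_centralizer_le hG hM hd hK hm hz) hxM

theorem complIn_swap {A B T : Subgroup G} (h : Cfsg.IsComplIn A B T) (hn : T ≤ normalizer (B : Set G)) :
    Cfsg.IsComplIn B A T :=
  ⟨h.2.1, h.1, inf_comm A B ▸ h.2.2.1, fun m hm => by
    obtain ⟨a, ha, b, hb, rfl⟩ := h.2.2.2 m hm
    exact ⟨a * b * a⁻¹, (mem_normalizer_iff.mp (hn (h.1 ha)) b).mp hb, a, ha, by group⟩⟩

/-- For a Frobenius group the kernel is the largest normal nilpotent Hall subgroup. -/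
theorem fittingHall_eq_kernel {X : Type u} [Group X] [Finite X] {E : Subgroup X}
    (hE : Cfsg.IsFrobeniusComplement E) :
    Cfsg.frobeniusKernel E = ((Cfsg.fittingHall X : Subgroup X) : Set X) := by
  obtain ⟨N, hNk, hNn, hNc⟩ := Cfsg.Lib.Frobenius.exists_kernel hE
  haveI := hNn
  have hN : Group.IsNilpotent N := Cfsg.Lib.Frobenius.isNilpotent_kernel hE hNk
  have hi : N.index = Nat.card E := hNc.symm.index_eq_card
  have hk : Nat.card N = E.index := by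
    rw [show Nat.card N = Nat.card (N : Set X) from rfl, hNk, Cfsg.Lib.Frobenius.card_kernel hE]
  have hcop : (Nat.card N).Coprime N.index := by
    rw [hi, hk]
    have h := Cfsg.Lib.Frobenius.card_dvd_card_kernel_sub_one hE
    have hpos : 0 < E.index := hk ▸ Nat.card_pos
    refine Nat.coprime_of_dvd fun r hr h1 h2 => hr.one_lt.ne' (Nat.dvd_one.mp ?_)
    have := Nat.dvd_sub h1 (h2.trans h)
    rwa [Nat.sub_sub_self hpos] at this
  have hle : N ≤ Cfsg.fittingHall X := le_sSup ⟨hNn, hN, hcop⟩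
  refine hNk.symm.trans (congrArg SetLike.coe (le_antisymm hle fun f hf => ?_))
  by_contra hfN
  have hN1 : N ≠ ⊥ := fun e => hE.2.1 (index_eq_one.mp (by rw [← hk, e, Subgroup.card_bot]))
  obtain ⟨n, hn, hn1⟩ := (Subgroup.bot_or_exists_ne_one N).resolve_left hN1
  obtain ⟨⟨a, b⟩, hab⟩ := hNc.existsUnique f |>.exists
  simp only at hab
  have hb : (b : X) ∈ Cfsg.fittingHall X := by
    simpa [← hab] using mul_mem (inv_mem (hle a.2)) hf
  have hb1 : (b : X) ≠ 1 := fun e => hfN (by rw [← hab, e, mul_one]; exact a.2)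
  haveI : Group.IsNilpotent ↥(Cfsg.fittingHall X) := CN.nilpotent_of_le
    Cfsg.Lib.FittingHall.fittingHall_le_fitting Cfsg.Lib.Components.isNilpotent_fitting
  haveI : Nontrivial ↥(Cfsg.fittingHall X) := ⟨⟨⟨b, hb⟩, 1, fun e => hb1 (congrArg Subtype.val e)⟩⟩
  obtain ⟨z, hz, hz1⟩ := (Subgroup.bot_or_exists_ne_one (Subgroup.center ↥(Cfsg.fittingHall X))).resolve_left
    (Group.IsNilpotent.center_ne_bot _)
  have hcm : ∀ w ∈ Cfsg.fittingHall X, (z : X) * w = w * z := fun w hw =>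
    (congrArg Subtype.val (Subgroup.mem_center_iff.mp hz ⟨w, hw⟩)).symm
  have hzE : (z : X) ∈ E := Cfsg.Lib.Frobenius.mem_of_commute hE b.2 hb1 (hcm b hb)
  have hnE : n ∈ E := Cfsg.Lib.Frobenius.mem_of_commute hE hzE (fun e => hz1 (Subtype.ext e))
    (hcm n (hle hn)).symm
  exact hn1 (mem_bot.mp (hNc.disjoint.le_bot ⟨hn, hnE⟩))

/-- The tame embedding theorem on `IsTypeI'`. -/
theorem embedding_theorem (hG : Cfsg.IsMinSimpleOddOrder G) : Cfsg.Agent.PF.P1391' G := by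
  intro M hM X hX
  have hsub : ∀ {v : G}, v ∈ X → v ∈ Cfsg.Agent.PF.typeA0' M := by
    intro v hv
    rcases hX with rfl | rfl
    · exact Or.inl hv
    · exact hv
  refine ⟨fun x hx g hgx => typeA0'_fusion hG hM (hsub hx) (hsub hgx), fun x hx hxM => ?_,
    fun x hx hxM L hL hxL => ?_⟩
  · obtain ⟨hσ, hx1⟩ := mem_core_of_not_le hG hM (hsub hx) hxM
    obtain ⟨N, hN⟩ := exists_supportPair hG hM hσ hx1 hxM
    exact ⟨⟨(typeCore_eq hG hM).symm ▸ hσ, hx1⟩, N, ⟨hN.maxN, hN.le⟩, fun L hL => hN.unique L hL.1 hL.2⟩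
  obtain ⟨hσ, hx1⟩ := mem_core_of_not_le hG hM (hsub hx) hxM
  obtain ⟨L', hsp⟩ := exists_supportPair hG hM hσ hx1 hxM
  obtain rfl := hsp.unique L hL hxL
  rw [← sigmaCore_eq_fittingHall hG hL hsp.nilpotent]
  obtain ⟨K', U', hd'⟩ := exists_decomposition hG hL
  obtain ⟨hU', hxA, hxσ⟩ := hsp.decomp_mem hG hd'
  have hCn : centralizer ({x} : Set G) ≤
      normalizer ((Cfsg.sigmaCore L ⊓ centralizer ({x} : Set G) : Subgroup G) : Set G) := by
    rw [← hsp.supportR_eq hG]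
    exact (supportR_normal hG hM hσ hx1).2.1
  refine ⟨complIn_swap hsp.compl (le_normalizer_sigmaCore L), hCn, complIn_swap hsp.split hCn,
    fun y hy => Nat.coprime_of_dvd fun r hr h1 h2 => ?_, ?_, ?_, fun hII => ?_⟩
  · have hrL := sigmaCore_isPi r hr h1
    obtain ⟨hκ, hτ⟩ := support_sigma_dvd hG hM hσ hx1 hxM hL hxL
      ⟨r, hrL, h2.trans (card_dvd_of_le inf_le_left)⟩
    obtain ⟨q, hq, A, A₀, x₁, sd⟩ := exists_supportData hG hsp
    have hrσ : r ∉ Cfsg.sigma M := fun h => sd.not_sigma hG h hrL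
    obtain ⟨K, U, hd⟩ := exists_decomposition hG hM
    rcases typeA0'_cases hG hM hd (hsub hy) with hA | ⟨hK, -⟩
    swap
    · obtain ⟨t, ht⟩ := kappa_nonempty hd hK
      simp [hκ] at ht
    rw [typeA'_eq hG hM hd] at hA
    haveI := Fact.mk hr
    obtain ⟨⟨b, hb⟩, hbo⟩ := exists_prime_orderOf_dvd_card' r h2
    rw [orderOf_mk] at hbo
    have hyσ : y ∈ Cfsg.sigmaCore M := by_contra fun h => by
      obtain ⟨t, ht, htd, htσ⟩ := exists_prime_outside hG hM hA.2.1.1 h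
      haveI := Fact.mk ht
      rcases prime_of_hat hG hM hA.2.1 htd htσ with h' | h' <;> simp [hκ, hτ] at h'
    rcases prime_of_hat hG hM (u := b) ⟨hb.1, y, hyσ, hA.1, mem_centralizer_singleton_iff.mp hb.2⟩
      (dvd_of_eq hbo.symm) hrσ with h' | h' <;> simp [hκ, hτ] at h'
  · rw [typeA'_eq hG hL hd', Cfsg.typeA1, typeCore_eq hG hL]
    exact ⟨⟨hx1, hxA⟩, fun h => hxσ h.1⟩
  · by_cases hK : K' = ⊥
    · exact Or.inl ((typeI'_iff hG hL hd').mpr ⟨hK, hU'⟩)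
    · exact Or.inr (typeII_of hG hL hd' hK hU')
  · obtain ⟨-, ⟨E, hE, -⟩, -⟩ := frobenius_of_kappa_support hG hM hσ hx1 hxM hL hxL
      (kappa_nonempty hd' ((typeII_iff hG hL hd').mp hII).1)
    exact ⟨E, hE, fittingHall_eq_kernel hE⟩

end Cfsg.Lib.OddLocal.RankTwoMax
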