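import Cfsg.Agent.OddLocal.FittingStructure

/-!
# The second derived subgroup and the Fitting subgroup
-/

set_option linter.unusedSectionVars false
set_option linter.unusedVariables false
set_option linter.style.haveILetI false

namespace Cfsg.Lib.OddLocal.RankTwoMax

open Subgroup Uniqueness Sigma
open Cfsg.Lib.Coprime (conjMap)
open scoped commutatorElement

universe u

variable {G : Type u} [Group G] [Finite G] {M H K E U D X : Subgroup G}

local notation "fix(" M ", " K ")" => Cfsg.sigmaCore M ⊓ centralizer (SetLike.coe K)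
set_option quotPrecheck false in
local notation "qof(" M ", " K ")" => Nat.card ↥(Cfsg.sigmaCore M ⊓ centralizer (SetLike.coe K))
set_option quotPrecheck false in
local notation "syl(" M ", " K ")" => FittingParts.O qof(M, K) (Cfsg.sigmaCore M)

/-- `M' = M_σ (E ∩ M')`. -/
theorem derived_product (hG : Cfsg.IsMinSimpleOddOrder G) (hM : IsCoatom M)
    (hE : Cfsg.IsComplIn E (Cfsg.sigmaCore M) M) {y : G} (hy : y ∈ ⁅M, M⁆) :
    ∃ e ∈ E ⊓ ⁅M, M⁆, ∃ s ∈ Cfsg.sigmaCore M, y = e * s := by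
  obtain ⟨e, he, s, hs, rfl⟩ := hE.2.2.2 y (Subgroup.commutator_le_self M hy)
  exact ⟨e, ⟨he, by simpa using mul_mem hy (inv_mem (sigmaCore_le_derived hG hM hs))⟩, s, hs, rfl⟩

/-- `E ∩ M'` is abelian. -/
theorem derived_complement_comm (hG : Cfsg.IsMinSimpleOddOrder G) (hM : IsCoatom M)
    (hE : Cfsg.IsComplIn E (Cfsg.sigmaCore M) M) :
    IsMulCommutative ↥(E ⊓ ⁅M, M⁆) ∧ Group.IsNilpotent ↥(E ⊓ ⁅M, M⁆) := by
  obtain ⟨W, hW, hWn⟩ := exists_nilpotent_hall hG hM (inf_le_right : E ⊓ ⁅M, M⁆ ≤ _)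
  have hσ : ∀ r : ℕ, r.Prime → r ∣ Nat.card ↥(E ⊓ ⁅M, M⁆) → r ∉ Cfsg.sigma M := fun r hr hd => by
    haveI := Fact.mk hr
    exact not_sigma_of_dvd hG hM hE hr (hd.trans (card_dvd_of_le inf_le_left))
  have heq : W = E ⊓ ⁅M, M⁆ := le_antisymm hW.1 (relIndex_eq_one.mp (by
    by_contra h1
    obtain ⟨r, hr, hd⟩ := Nat.exists_prime_and_dvd h1
    refine hW.2.2 r hr ⟨hr, fun hβ => ?_⟩ hd
    exact hσ r hr (hd.trans (relIndex_dvd_card _ _)) (alpha_subset_sigma hG hM hβ.1)))
  subst heq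
  exact ⟨comm_of_nilpotent hG hM (inf_le_left.trans hE.1) hWn hσ, hWn⟩

theorem fittingHall_theorem (hG : Cfsg.IsMinSimpleOddOrder G) (hM : IsCoatom M) :
    Cfsg.fittingHallOf M ≠ ⊥ ∧ Cfsg.fittingHallOf M ≤ Cfsg.sigmaCore M ∧ Cfsg.sigmaCore M ≤ ⁅M, M⁆ ∧ ⁅M, M⁆ < M ∧
      Group.IsNilpotent ↥((commutator ↥M).map (QuotientGroup.mk' (Cfsg.fittingHall ↥M))) := by
  obtain ⟨K, U, hKU⟩ := exists_decomposition hG hM
  -- a nilpotent `D` with `M' = M_F D`
  have key : Cfsg.fittingHallOf M ≠ ⊥ ∧ ∃ D : Subgroup G, Group.IsNilpotent D ∧ D ≤ ⁅M, M⁆ ∧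
      ∀ y ∈ ⁅M, M⁆, ∃ d ∈ D, ∃ f ∈ Cfsg.fittingHallOf M, y = d * f := by
    by_cases hne : Cfsg.fittingHallOf M = Cfsg.sigmaCore M
    · obtain ⟨E, hE⟩ := exists_complement hG hM
      rw [hne]
      exact ⟨sigmaCore_ne_bot hG hM, E ⊓ ⁅M, M⁆, (derived_complement_comm hG hM hE).2, inf_le_right,
        fun y hy => derived_product hG hM hE hy⟩
    obtain ⟨-, n⟩ := nonNil_of_ne hG hM hKU hne
    obtain ⟨D, hD, hKD⟩ := n.exists_invariant_compl hG
    refine ⟨fun e => ?_, D, n.invariant_nilpotent hG hD hKD, hD.2.1.trans (sigmaCore_le_derived hG hM), fun y hy => ?_⟩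
    · exact n.pair.fix_ne hG (le_bot_iff.mp (e ▸ fix_le_fittingHall hG hM hKU))
    · obtain ⟨u, hu, d, hd, rfl⟩ := n.mem_mul hD (n.derived.le hy)
      refine ⟨d, hd, d⁻¹ * u * d, ?_, by group⟩
      exact (mem_normalizer_iff''.mp (Cfsg.Lib.FittingHall.le_normalizer_fittingHallOf M
        (sigmaCore_le M (hD.2.1 hd))) u).mp (n.syl_le_fittingHall hG hu)
  obtain ⟨hne0, D, hDn, hDM, hprod⟩ := key
  refine ⟨hne0, fittingHallOf_le_sigmaCore hG hM, sigmaCore_le_derived hG hM, derived_lt hG hM, ?_⟩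
  haveI := hDn
  set π := QuotientGroup.mk' (Cfsg.fittingHall ↥M) with hπ
  have hmem : ∀ d : D, π ⟨d, Subgroup.commutator_le_self M (hDM d.2)⟩ ∈ (commutator ↥M).map π := fun d => by
    refine mem_map_of_mem π ?_
    obtain ⟨y, hy, hye⟩ : (d : G) ∈ (commutator M).map M.subtype := by rw [map_subtype_commutator]; exact hDM d.2
    have h2 : y = ⟨d, Subgroup.commutator_le_self M (hDM d.2)⟩ := Subtype.ext hye
    exact h2 ▸ hy
  let f : D →* ↥((commutator ↥M).map π) :=
    { toFun := fun d => ⟨π ⟨d, Subgroup.commutator_le_self M (hDM d.2)⟩, hmem d⟩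
      map_one' := Subtype.ext (map_one π)
      map_mul' := fun a b => Subtype.ext (map_mul π ⟨(a : G), Subgroup.commutator_le_self M (hDM a.2)⟩
        ⟨(b : G), Subgroup.commutator_le_self M (hDM b.2)⟩) }
  refine Group.nilpotent_of_surjective f ?_
  rintro ⟨_, y, hy, rfl⟩
  obtain ⟨d, hd, f', hf', he⟩ := hprod (y : G) (by rw [← map_subtype_commutator]; exact ⟨y, hy, rfl⟩)
  obtain ⟨w, hw, hwe⟩ := hf'
  refine ⟨⟨d, hd⟩, Subtype.ext ?_⟩
  show π ⟨d, _⟩ = π y
  rw [show y = ⟨d, Subgroup.commutator_le_self M (hDM hd)⟩ * w from Subtype.ext (by rw [he, ← hwe]; rfl), map_mul,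
    show π w = 1 from (QuotientGroup.eq_one_iff w).mpr hw, mul_one]

theorem NonNil.derived_compl_centralizes (hG : Cfsg.IsMinSimpleOddOrder G) (n : NonNil M K)
    (hD : Cfsg.IsComplIn (syl(M, K)) D (Cfsg.sigmaCore M)) (hKD : K ≤ normalizer (D : Set G)) :
    ⁅D, D⁆ ≤ centralizer (syl(M, K) : Set G) := by
  haveI := Fact.mk n.prime_fix
  haveI hDnil := n.invariant_nilpotent hG hD hKD
  set Q := syl(M, K) with hQ
  set Q₀ := Q ⊓ centralizer (D : Set G) with hQ₀
  obtain ⟨hQ₀n, hlt, helem⟩ := n.fixed_normal hG hD hKD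
  have hQn : M ≤ normalizer (Q : Set G) := NonNil.le_normalizer_syl M K
  have hDM : D ≤ M := hD.2.1.trans (sigmaCore_le M)
  have hcn : M ≤ normalizer (centralizer (Q : Set G) : Set G) :=
    hQn.trans (FittingParts.normalizer_centralizer_le Q)
  set D₀ := (centralizer (Q : Set G)).subgroupOf D with hD₀
  haveI : D₀.Normal := ⟨fun y hy d => (mem_normalizer_iff.mp (hcn (hDM d.2)) (y : G)).mp hy⟩
  set Z := ((center (D ⧸ D₀)).comap (QuotientGroup.mk' D₀)).map D.subtype with hZdef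
  have hZD : Z ≤ D := map_subtype_le _
  have hZmem : ∀ d : G, ∀ hd : d ∈ D, (d ∈ Z ↔ ∀ e ∈ D, ⁅d, e⁆ ∈ centralizer (Q : Set G)) := fun d hd => by
    constructor
    · rintro ⟨y, hy, rfl⟩ e he
      have h1 := mem_center_iff.mp hy (QuotientGroup.mk' D₀ ⟨e, he⟩)
      have h2 : QuotientGroup.mk' D₀ ⁅y, ⟨e, he⟩⁆ = 1 := by
        rw [map_commutatorElement, commutatorElement_eq_one_iff_mul_comm]
        exact h1.symm
      exact ((QuotientGroup.eq_one_iff _).mp h2 :)
    · intro h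
      refine ⟨⟨d, hd⟩, mem_center_iff.mpr fun c => ?_, rfl⟩
      induction c using QuotientGroup.induction_on with
      | _ e =>
        have h2 : QuotientGroup.mk' D₀ ⁅(⟨d, hd⟩ : D), e⁆ = 1 := (QuotientGroup.eq_one_iff _).mpr (h e e.2)
        rw [map_commutatorElement, commutatorElement_eq_one_iff_mul_comm] at h2
        exact h2.symm
  have hKc : K ≤ normalizer (centralizer (Q : Set G) : Set G) := n.K_le.trans hcn
  have hZn : D ⊔ K ≤ normalizer (Z : Set G) := by
    intro a ha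
    have haD : a ∈ normalizer (D : Set G) := (sup_le le_normalizer hKD) ha
    have haC : a ∈ normalizer (centralizer (Q : Set G) : Set G) := (sup_le (hDM.trans hcn) hKc) ha
    have hmove : ∀ g : G, g ∈ normalizer (D : Set G) → g ∈ normalizer (centralizer (Q : Set G) : Set G) →
        ∀ z ∈ Z, g * z * g⁻¹ ∈ Z := fun g hgD hgC z hz => by
      refine (hZmem _ ((mem_normalizer_iff.mp hgD z).mp (hZD hz))).mpr fun e he => ?_
      have he' : g⁻¹ * e * g ∈ D := (mem_normalizer_iff''.mp hgD e).mp he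
      have h1 := (mem_normalizer_iff.mp hgC _).mp ((hZmem z (hZD hz)).mp hz _ he')
      rwa [show g * ⁅z, g⁻¹ * e * g⁆ * g⁻¹ = ⁅g * z * g⁻¹, e⁆ by rw [commutatorElement_def, commutatorElement_def]; group]
        at h1
    exact Cfsg.Lib.Coprime.mem_normalizer_of_conj_mem (hmove a haD haC)
      fun z hz => by simpa using hmove a⁻¹ (inv_mem haD) (inv_mem haC) z hz
  have hZne : ¬ Z ≤ centralizer (Q : Set G) := fun hle => by
    haveI : Nontrivial (D ⧸ D₀) := by
      rw [QuotientGroup.nontrivial_iff]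
      exact fun e => n.not_centralized hG hD hDnil (le_centralizer_iff.mp (subgroupOf_eq_top.mp e))
    obtain ⟨c, hc, hc1⟩ := (Subgroup.bot_or_exists_ne_one (center (D ⧸ D₀))).resolve_left
      (Group.IsNilpotent.center_ne_bot (D ⧸ D₀))
    obtain ⟨y, rfl⟩ := QuotientGroup.mk'_surjective D₀ c
    exact hc1 ((QuotientGroup.eq_one_iff y).mpr (hle ⟨y, hc, rfl⟩))
  have hZQ : Z ≤ normalizer (Q : Set G) := hZD.trans (hDM.trans hQn)
  -- subgroups between `Q₀` and `Q` are normalized by `Q`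
  have hbetween : ∀ W : Subgroup G, Q₀ ≤ W → W ≤ Q → Q ≤ normalizer (W : Set G) := fun W h1 h2 a ha =>
    Cfsg.Lib.Coprime.mem_normalizer_of_conj_mem
      (fun y hy => by
        have := mul_mem (h1 (helem a ha y (h2 hy)).2) hy
        rwa [inv_mul_cancel_right] at this)
      (fun y hy => by
        have := mul_mem (h1 (helem a⁻¹ (inv_mem ha) y (h2 hy)).2) hy
        rwa [inv_mul_cancel_right, inv_inv] at this)
  have hC₁ : Q ⊓ centralizer (Z : Set G) = Q₀ := by
    by_contra hne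
    have hle : Q₀ ≤ Q ⊓ centralizer (Z : Set G) :=
      inf_le_inf_left _ (Subgroup.centralizer_le (SetLike.coe_subset_coe.mpr hZD))
    refine n.minimal hG hD hKD (lt_of_le_of_ne hle (Ne.symm hne))
      (inf_le_left.lt_of_ne fun e => hZne (le_centralizer_iff.mp (e.ge.trans inf_le_right))) ?_
    have hDKn : D ⊔ K ≤ normalizer ((Q ⊓ centralizer (Z : Set G) : Subgroup G) : Set G) :=
      Cfsg.Lib.Coprime.le_normalizer_inf (n.norm_syl_sup hD) (hZn.trans (FittingParts.normalizer_centralizer_le Z))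
    refine le_of_eq_of_le n.sup.symm (sup_le (fun m hm => ?_) (le_sup_right.trans hDKn))
    obtain ⟨u, hu, d, hd, rfl⟩ := n.mem_mul hD hm
    exact mul_mem (hbetween _ hle inf_le_left hu) (hDKn (mem_sup_left hd))
  -- the subgroup generated by the `Z`-translates of `K*`
  obtain ⟨k₀, hk₀, hk₀1⟩ := (Subgroup.bot_or_exists_ne_one _).resolve_left (n.pair.fix_ne hG)
  have hk₀gen := line_eq_of_mem rfl hk₀ hk₀1
  have hfQ := n.fix_le_syl hG
  set S : Set G := (Q₀ : Set G) ∪ {y | ∃ z ∈ Z, ∃ k ∈ fix(M, K), y = z * k * z⁻¹} with hS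
  set W := Subgroup.closure S with hW
  have hWQ : W ≤ Q := (closure_le _).mpr (by
    rintro y (hy | ⟨z, hz, k, hk, rfl⟩)
    exacts [hy.1, (mem_normalizer_iff.mp (hZQ hz) k).mp (hfQ hk)])
  have hQ₀W : Q₀ ≤ W := fun y hy => subset_closure (Or.inl hy)
  have hfW : fix(M, K) ≤ W := fun k hk => subset_closure (Or.inr ⟨1, one_mem _, k, hk, by group⟩)
  have hQ₀n' : ∀ a ∈ Z ⊔ K, ∀ y ∈ Q₀, a * y * a⁻¹ ∈ Q₀ := fun a ha y hy =>
    (mem_normalizer_iff.mp (hQ₀n ((sup_le (hZD.trans hDM) n.K_le) ha)) y).mp hy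
  have hWn : Z ⊔ K ≤ normalizer (W : Set G) := by
    have hmove : ∀ a : G, (a ∈ Z ∨ a ∈ K) → ∀ y ∈ W, a * y * a⁻¹ ∈ W := fun a ha y hy => by
      refine (closure_le (K := W.comap (MulAut.conj a).toMonoidHom)).mpr ?_ hy
      rintro y (hy | ⟨z, hz, k, hk, rfl⟩)
      · exact hQ₀W (hQ₀n' a (ha.elim (fun h => mem_sup_left h) (fun h => mem_sup_right h)) y hy)
      · show a * (z * k * z⁻¹) * a⁻¹ ∈ W
        rcases ha with ha | ha
        · exact subset_closure (Or.inr ⟨a * z, mul_mem ha hz, k, hk, by group⟩)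
        · refine subset_closure (Or.inr ⟨a * z * a⁻¹, (mem_normalizer_iff.mp (hZn (mem_sup_right ha)) z).mp hz, k, hk, ?_⟩)
          have hak : a * k = k * a := mem_centralizer_iff.mp hk.2 a ha
          calc a * (z * k * z⁻¹) * a⁻¹ = a * z * a⁻¹ * (a * k) * z⁻¹ * a⁻¹ := by group
            _ = a * z * a⁻¹ * (k * a) * z⁻¹ * a⁻¹ := by rw [hak]
            _ = _ := by group
    refine sup_le (fun a ha => Cfsg.Lib.Coprime.mem_normalizer_of_conj_mem (hmove a (Or.inl ha))
      fun y hy => by simpa using hmove a⁻¹ (Or.inl (inv_mem ha)) y hy)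
      fun a ha => Cfsg.Lib.Coprime.mem_normalizer_of_conj_mem (hmove a (Or.inr ha))
        fun y hy => by simpa using hmove a⁻¹ (Or.inr (inv_mem ha)) y hy
  obtain ⟨x₀, hx₀, hx₀1⟩ := (Subgroup.bot_or_exists_ne_one K).resolve_left n.pair.ne
  have hcount := Cfsg.Lib.FixedDim.frobenius_fixed_solvable Z K
    (le_bot_iff.mp fun y hy => mem_bot.mpr (Cfsg.Lib.Coprime.eq_one_of_coprime
      (coprime_card_of_disjoint fun r hr h1 h2 => (n.pair.hall.2.1 r hr h2).2.2.1 (sigmaCore_isPi r hr h1))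
      (hD.2.1 (hZD hy.1)) hy.2))
    (le_sup_right.trans hZn) (fun e he he1 u hu hc => by
      have h1 : u ∈ fix(M, K) := by
        rw [← kappa_group_fixed hG n.max n.K_le n.pair.hall.2.1 he he1]
        exact ⟨hD.2.1 (hZD hu), mem_centralizer_singleton_iff.mpr hc.symm⟩
      exact Cfsg.Lib.Coprime.eq_one_of_coprime (n.compl_coprime hG hD) (hZD hu) h1)
    (Nat.card W) W le_rfl hWn
    (Cfsg.Lib.Coprime.isSolvable_of_le (hWQ.trans (NonNil.syl_le M K)) (n.core_solvable hG))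
    (coprime_card_of_disjoint fun r hr h1 h2 => by
      rcases dvd_card_sup (le_sup_right.trans hZn) hr h2 with h | h
      · exact (n.compl_hall hG hD).2.1 r hr (h.trans (card_dvd_of_le hZD))
          (eq_of_dvd_pgroup (n.syl_isPGroup.to_le hWQ) hr h1)
      · exact (n.pair.hall.2.1 r hr h).2.2.1
          (sigmaCore_isPi r hr (h1.trans (card_dvd_of_le (hWQ.trans (NonNil.syl_le M K))))))
  have hWK : W ⊓ centralizer (K : Set G) = fix(M, K) :=
    le_antisymm (le_inf (inf_le_left.trans (hWQ.trans (NonNil.syl_le M K))) inf_le_right) (le_inf hfW inf_le_right)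
  have hWZ : W ⊓ centralizer (Z : Set G) = Q₀ := le_antisymm ((inf_le_inf_right _ hWQ).trans hC₁.le)
    (le_inf hQ₀W (hC₁.ge.trans inf_le_right))
  have hWZK : W ⊓ centralizer ((Z ⊔ K : Subgroup G) : Set G) = ⊥ := by
    refine le_bot_iff.mp ((le_inf ?_ ?_).trans (n.fix_free hG hD hKD).le)
    · exact (inf_le_inf_left _ (Subgroup.centralizer_le (SetLike.coe_subset_coe.mpr le_sup_right))).trans hWK.le
    · exact (inf_le_inf_left _ (Subgroup.centralizer_le (SetLike.coe_subset_coe.mpr le_sup_left))).trans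
        (hWZ.le.trans inf_le_right)
  rw [hWZK, hWK, hWZ, Subgroup.card_bot, one_pow, one_mul, ← n.card_syl hG hD hKD] at hcount
  have hWeq : W = Q := Cfsg.Lib.Coprime.eq_of_le_of_card_eq hWQ hcount
  -- the action on `Q / Q₀`
  set N := Q₀.subgroupOf Q with hN
  haveI : N.Normal := normal_subgroupOf_of_le_normalizer (hbetween Q₀ le_rfl inf_le_left)
  letI : CommGroup (Q ⧸ N) := { (inferInstance : Group (Q ⧸ N)) with
    mul_comm := fun a b => by
      induction a using QuotientGroup.induction_on with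
      | _ a =>
        induction b using QuotientGroup.induction_on with
        | _ b =>
          rw [← commutatorElement_eq_one_iff_mul_comm]
          exact (map_commutatorElement (QuotientGroup.mk' N) a b).symm.trans ((QuotientGroup.eq_one_iff _).mpr
            (show ⁅(a : Q), b⁆ ∈ N from (helem a a.2 b b.2).2)) }
  have hdn : ∀ d : D, (d : G) ∈ normalizer (Q : Set G) := fun d => hQn (hDM d.2)
  have hcomap : ∀ d : D, N ≤ N.comap (Q.normalizerMonoidHom ⟨d, hdn d⟩).toMonoidHom := fun d y hy =>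
    (mem_normalizer_iff.mp (hQ₀n (hDM d.2)) (y : G)).mp hy
  let c : D → (Q ⧸ N) →* (Q ⧸ N) := fun d => QuotientGroup.map N N _ (hcomap d)
  have hcv : ∀ (d : D) (u : Q), c d (QuotientGroup.mk u) =
      QuotientGroup.mk (⟨(d : G) * u * (d : G)⁻¹, (mem_normalizer_iff.mp (hdn d) u).mp u.2⟩ : Q) :=
    fun d u => rfl
  have key := comm_of_orbit_generated c {d : D | (d : G) ∈ Z} (QuotientGroup.mk ⟨k₀, hfQ hk₀⟩) (by
      refine eq_top_iff.mpr fun y _ => ?_
      induction y using QuotientGroup.induction_on with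
      | _ u =>
        have hu : (u : G) ∈ W := hWeq.ge u.2
        set T := Subgroup.closure ((fun z => c z (QuotientGroup.mk ⟨k₀, hfQ hk₀⟩)) '' {d : D | (d : G) ∈ Z}) with hT
        have hle : W ≤ (T.comap (QuotientGroup.mk' N)).map Q.subtype := (closure_le _).mpr (by
          rintro y (hy | ⟨z, hz, k, hk, rfl⟩)
          · refine ⟨⟨y, hy.1⟩, ?_, rfl⟩
            show QuotientGroup.mk' N ⟨y, hy.1⟩ ∈ T
            rw [QuotientGroup.mk'_apply, (QuotientGroup.eq_one_iff _).mpr (show (⟨y, hy.1⟩ : Q) ∈ N from hy)]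
            exact one_mem _
          · refine ⟨⟨z * k * z⁻¹, (mem_normalizer_iff.mp (hZQ hz) k).mp (hfQ hk)⟩, ?_, rfl⟩
            obtain ⟨i, hi⟩ := mem_zpowers_iff.mp (hk₀gen.ge hk)
            show QuotientGroup.mk' N _ ∈ T
            have h1 : QuotientGroup.mk' N ⟨z * k * z⁻¹, (mem_normalizer_iff.mp (hZQ hz) k).mp (hfQ hk)⟩ =
                (c ⟨z, hZD hz⟩ (QuotientGroup.mk ⟨k₀, hfQ hk₀⟩)) ^ i := by
              rw [hcv, QuotientGroup.mk'_apply, ← QuotientGroup.mk_zpow]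
              congr 1
              apply Subtype.ext
              rw [SubgroupClass.coe_zpow]
              simp only [conj_zpow, hi]
            rw [h1]
            exact zpow_mem (subset_closure (Set.mem_image_of_mem _ (show (⟨z, hZD hz⟩ : D) ∈ {d : D | (d : G) ∈ Z} from hz))) i)
        obtain ⟨u', hu', hue⟩ := hle hu
        rw [show u = u' from Subtype.ext hue.symm]
        exact hu') (by
      intro d z hz
      refine MonoidHom.ext fun y => ?_
      induction y using QuotientGroup.induction_on with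
      | _ u =>
        show c d (c z (QuotientGroup.mk u)) = c z (c d (QuotientGroup.mk u))
        rw [hcv, hcv, hcv, hcv]
        congr 1
        apply Subtype.ext
        show (d : G) * ((z : G) * u * (z : G)⁻¹) * (d : G)⁻¹ = (z : G) * ((d : G) * u * (d : G)⁻¹) * (z : G)⁻¹
        have h1 : (u : G) * ⁅(z : G)⁻¹, (d : G)⁻¹⁆ = ⁅(z : G)⁻¹, (d : G)⁻¹⁆ * u :=
          mem_centralizer_iff.mp ((hZmem _ (inv_mem z.2)).mp (inv_mem hz) _ (inv_mem d.2)) u u.2
        rw [commutatorElement_def, inv_inv, inv_inv] at h1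
        calc (d : G) * ((z : G) * u * (z : G)⁻¹) * (d : G)⁻¹ = d * z * (u * ((z : G)⁻¹ * (d : G)⁻¹ * z * d)) * ((d : G)⁻¹ * (z : G)⁻¹) := by
              group
          _ = d * z * (((z : G)⁻¹ * (d : G)⁻¹ * z * d) * u) * ((d : G)⁻¹ * (z : G)⁻¹) := by rw [h1]
          _ = _ := by group)
  rw [commutator_le]
  intro d hd e he
  refine mem_centralizer_iff.mpr fun u hu => ?_
  set w := ⁅d, e⁆ with hw
  have hwD : w ∈ D := commutator_le_self D (commutator_mem_commutator hd he)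
  have hwQ : w * u * w⁻¹ ∈ Q := (mem_normalizer_iff.mp (hQn (hDM hwD)) u).mp hu
  set t := u⁻¹ * (w * u * w⁻¹) with ht
  have htQ₀ : t ∈ Q₀ := by
    have hv : e * d * e⁻¹ ∈ D := mul_mem (mul_mem he hd) (inv_mem he)
    have hu' : d⁻¹ * e⁻¹ * u * e * d ∈ Q := by
      have := (mem_normalizer_iff''.mp (hQn (hDM (mul_mem he hd))) u).mp hu
      simpa [mul_assoc] using this
    have h1 := DFunLike.congr_fun (key ⟨d, hd⟩ ⟨e, he⟩) (QuotientGroup.mk (⟨_, hu'⟩ : Q))
    change c ⟨d, hd⟩ (c ⟨e, he⟩ (QuotientGroup.mk (⟨_, hu'⟩ : Q))) = c ⟨e, he⟩ (c ⟨d, hd⟩ (QuotientGroup.mk (⟨_, hu'⟩ : Q))) at h1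
    rw [hcv, hcv, hcv, hcv, QuotientGroup.eq] at h1
    have h2 : (d * (e * (d⁻¹ * e⁻¹ * u * e * d) * e⁻¹) * d⁻¹)⁻¹ * (e * (d * (d⁻¹ * e⁻¹ * u * e * d) * d⁻¹) * e⁻¹) ∈ Q₀ := h1
    have h3 : t = ((d * (e * (d⁻¹ * e⁻¹ * u * e * d) * e⁻¹) * d⁻¹)⁻¹ * (e * (d * (d⁻¹ * e⁻¹ * u * e * d) * d⁻¹) * e⁻¹))⁻¹ := by
      rw [ht, hw, commutatorElement_def]; group
    rw [h3]
    exact inv_mem h2
  have hwt : w * t = t * w := mem_centralizer_iff.mp htQ₀.2 w hwD
  have hpow : ∀ m : ℕ, w ^ m * u * (w ^ m)⁻¹ = u * t ^ m := by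
    intro m
    induction m with
    | zero => simp
    | succ m ih =>
      have h5 : w * t ^ m = t ^ m * w := (show Commute w t from hwt).pow_right m
      calc w ^ (m + 1) * u * (w ^ (m + 1))⁻¹ = w * (w ^ m * u * (w ^ m)⁻¹) * w⁻¹ := by rw [pow_succ']; group
        _ = w * u * (t ^ m * w⁻¹) := by rw [ih]; group
        _ = w * u * (w⁻¹ * (w * t ^ m) * w⁻¹) := by group
        _ = w * u * (w⁻¹ * (t ^ m * w) * w⁻¹) := by rw [h5]
        _ = u * t * t ^ m := by rw [ht]; group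
        _ = _ := by rw [mul_assoc, ← pow_succ']
  have h6 := hpow (orderOf w)
  rw [pow_orderOf_eq_one, one_mul, inv_one, mul_one] at h6
  have h7 : t ^ orderOf w = 1 := by simpa using h6.symm
  have h8 : orderOf t = 1 := Nat.eq_one_of_dvd_coprimes
    (((n.coprime_syl hG hD).coprime_dvd_left (orderOf_dvd_natCard _ htQ₀.1)).coprime_dvd_right
      (orderOf_dvd_natCard _ hwD)) dvd_rfl (orderOf_dvd_of_pow_eq_one h7)
  rw [orderOf_eq_one_iff, ht, inv_mul_eq_one] at h8
  calc u * w = (w * u * w⁻¹) * w := by rw [← h8]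
    _ = _ := by group

theorem NonNil.second_derived_le (hG : Cfsg.IsMinSimpleOddOrder G) (n : NonNil M K) :
    ⁅⁅M, M⁆, ⁅M, M⁆⁆ ≤ Cfsg.fittingOf M := by
  obtain ⟨D, hD, hKD⟩ := n.exists_invariant_compl hG
  have hD' := n.derived_compl_centralizes hG hD hKD
  have hQF : syl(M, K) ≤ Cfsg.fittingOf M :=
    (n.syl_le_fittingHall hG).trans (Cfsg.Lib.FittingHall.fittingHallOf_le_fittingOf M)
  rw [n.derived, commutator_le]
  have hFn := FittingParts.le_normalizer_fittingOf M
  have hDF : ⁅D, D⁆ ≤ Cfsg.fittingOf M := (le_inf ((commutator_le_self D).trans (hD.2.1.trans (sigmaCore_le M))) hD').trans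
    (n.centralizer_le_fitting hG)
  haveI : ((Cfsg.fittingOf M).subgroupOf M).Normal := normal_subgroupOf_of_le_normalizer hFn
  intro a ha b hb
  obtain ⟨u, hu, d, hd, rfl⟩ := n.mem_mul hD ha
  obtain ⟨v, hv, e, he, rfl⟩ := n.mem_mul hD hb
  have hdM : d ∈ M := sigmaCore_le M (hD.2.1 hd)
  have heM : e ∈ M := sigmaCore_le M (hD.2.1 he)
  set π := QuotientGroup.mk' ((Cfsg.fittingOf M).subgroupOf M)
  have huM : u ∈ M := FittingParts.fittingOf_le M (hQF hu)
  have hvM : v ∈ M := FittingParts.fittingOf_le M (hQF hv)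
  have h1 : ∀ (z : G) (hz : z ∈ M), z ∈ Cfsg.fittingOf M → π ⟨z, hz⟩ = 1 := fun z hz h =>
    (QuotientGroup.eq_one_iff _).mpr h
  have h2 : π ⁅(⟨u, huM⟩ : M) * ⟨d, hdM⟩, (⟨v, hvM⟩ : M) * ⟨e, heM⟩⁆ = 1 := by
    rw [map_commutatorElement, map_mul, map_mul, h1 u huM (hQF hu), h1 v hvM (hQF hv), one_mul, one_mul,
      ← map_commutatorElement]
    exact h1 _ (⁅(⟨d, hdM⟩ : M), (⟨e, heM⟩ : M)⁆ : M).2 (hDF (commutator_mem_commutator hd he))
  exact ((QuotientGroup.eq_one_iff _).mp h2 :)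

theorem fitting_theorem (hG : Cfsg.IsMinSimpleOddOrder G) (hM : IsCoatom M) :
    ⁅⁅M, M⁆, ⁅M, M⁆⁆ ≤ Cfsg.fittingOf M ∧
      Cfsg.fittingOf M = (M ⊓ centralizer (Cfsg.fittingHallOf M : Set G)) ⊔ Cfsg.fittingHallOf M ∧
      ((Cfsg.kappa M).Nonempty → Cfsg.fittingOf M ≤ ⁅M, M⁆) := by
  obtain ⟨K, U, hKU⟩ := exists_decomposition hG hM
  refine ⟨?_, le_antisymm ?_ (sup_le ?_ (Cfsg.Lib.FittingHall.fittingHallOf_le_fittingOf M)), fun hκ => ?_⟩
  · by_cases hne : Cfsg.fittingHallOf M = Cfsg.sigmaCore M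
    · obtain ⟨E, hE⟩ := exists_complement hG hM
      refine le_trans ?_ (hne.ge.trans (Cfsg.Lib.FittingHall.fittingHallOf_le_fittingOf M))
      refine commutator_le_of_prod (derived_complement_comm hG hM hE).1
        ((Subgroup.commutator_le_self M).trans (le_normalizer_sigmaCore M)) inf_le_right
        (sigmaCore_le_derived hG hM) fun a ha => derived_product hG hM hE ha
    obtain ⟨-, n⟩ := nonNil_of_ne hG hM hKU hne
    exact n.second_derived_le hG
  · rw [FittingParts.fittingOf_eq]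
    refine iSup_le fun ⟨r, hr⟩ => ?_
    haveI := Fact.mk hr
    set H := Cfsg.fittingHallOf M with hH
    by_cases hrd : r ∣ Nat.card H
    · refine le_trans (fun y hy => ?_) le_sup_right
      refine mem_of_coprime_relIndex (Cfsg.Lib.FittingHall.le_normalizer_fittingHallOf M)
        (PiCoreOf.le _ _ hy) fun s hs h1 h2 => ?_
      have hsr := eq_of_dvd_pgroup (FittingParts.isPGroup (q := r) M) hs
        (h1.trans ((Nat.card_zpowers y).symm ▸ card_dvd_of_le (zpowers_le.mpr hy)))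
      subst hsr
      rw [hH, Cfsg.fittingHallOf, card_map_of_injective M.subtype_injective] at hrd
      rw [hH, Cfsg.fittingHallOf, relIndex, subgroupOf, comap_map_eq_self_of_injective M.subtype_injective] at h2
      exact hs.ne_one (Nat.eq_one_of_dvd_coprimes Cfsg.Lib.FittingHall.fittingHall_coprime hrd h2)
    · refine le_trans (le_inf (PiCoreOf.le _ _) ?_) le_sup_left
      refine FittingParts.le_centralizer_of_disjoint
        ((PiCoreOf.le _ _).trans (Cfsg.Lib.FittingHall.le_normalizer_fittingHallOf M))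
        ((Cfsg.Lib.FittingHall.fittingHallOf_le M).trans (PiCoreOf.le_normalizer' _ M))
        (coprime_card_of_disjoint fun s hs h1 h2 => hrd ?_)
      exact eq_of_dvd_pgroup (FittingParts.isPGroup (q := r) M) hs h1 ▸ h2
  · by_cases hne : Cfsg.fittingHallOf M = Cfsg.sigmaCore M
    · rw [hne]
      obtain ⟨X, hXc, -, hX⟩ := hall_centralizer hG hM (le_refl (Cfsg.sigmaCore M)) (sigmaCore_ne_bot hG hM)
        (by rw [relIndex_self]; exact Nat.coprime_one_right _)
      have hnil : Group.IsNilpotent (Cfsg.sigmaCore M) := hne ▸ fittingHallOf_nilpotent M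
      refine le_fittingOf_of_normal inf_le_left (Cfsg.Lib.Coprime.le_normalizer_inf le_normalizer
        ((le_normalizer_sigmaCore M).trans (FittingParts.normalizer_centralizer_le _))) ?_
      set C := M ⊓ centralizer (Cfsg.sigmaCore M : Set G) with hC
      set A := Cfsg.sigmaCore M ⊓ centralizer (Cfsg.sigmaCore M : Set G) with hA
      have hXC : X ≤ C := hX ▸ le_sup_right
      have hAn : X ≤ normalizer (A : Set G) := (le_centralizer_iff.mp
        ((inf_le_left : A ≤ _).trans (le_centralizer_iff.mp (hXC.trans inf_le_right)))).trans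
          (centralizer_le_normalizer _)
      haveI := hXc
      letI := IsCyclic.commGroup (α := X)
      refine nilpotent_sup_of_commute (A := A) (B := X) (CN.nilpotent_of_le inf_le_left hnil)
        (CommGroup.isNilpotent (G := X)) (inf_le_inf_right _ (sigmaCore_le M)) hXC
        ((inf_le_left : A ≤ _).trans (le_centralizer_iff.mp (hXC.trans inf_le_right))) fun c hc => ?_
      rw [hX, SetLike.mem_coe.symm, SetLike.mem_coe, Cfsg.Lib.Coprime.mem_sup_of_le_normalizer hAn] at hc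
      obtain ⟨a, ha, b, hb, rfl⟩ := hc
      exact ⟨a, ha, b, hb, rfl⟩
    obtain ⟨-, n⟩ := nonNil_of_ne hG hM hKU hne
    exact le_trans (inf_le_inf_left _ (Subgroup.centralizer_le (SetLike.coe_subset_coe.mpr (n.syl_le_fittingHall hG))))
      (n.centralizer_le_fitting hG)
  · obtain ⟨E, h⟩ := decomp_split hG hM hKU
    have hK1 : K ≠ ⊥ := fun e => by
      obtain ⟨r, hr⟩ := hκ
      refine hKU.hall.2.2 r hr.1 hr ?_
      rw [e, relIndex_bot_left]
      exact hr.2.1
    have hKc : IsMulCommutative K := by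
      haveI := hKU.cyclic
      exact IsCyclic.isMulCommutative
    rw [FittingParts.fittingOf_eq, h.derived_eq hG hM hKU.hall hKc hK1]
    refine iSup_le fun ⟨r, hr⟩ => fun y hy => ?_
    haveI := Fact.mk hr
    by_cases hrκ : r ∈ Cfsg.kappa M
    · by_cases h0 : FittingParts.O r M = ⊥
      · rw [h0, mem_bot] at hy; subst hy; exact one_mem _
      exact absurd (kappa_rank hG hM hrκ) (core_outside_sigma hG hM (q := r) hrκ.2.2.1 h0).2.2.2.2
    refine mem_of_coprime_relIndex h.sup_normal (PiCoreOf.le _ _ hy) fun s hs h1 h2 => hrκ ?_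
    exact eq_of_dvd_pgroup (FittingParts.isPGroup (q := r) M) hs
      (h1.trans ((Nat.card_zpowers y).symm ▸ card_dvd_of_le (zpowers_le.mpr hy))) ▸
      (h.derived_part hG hM hKU.hall hKc).1 s hs h2

end Cfsg.Lib.OddLocal.RankTwoMax
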