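import Cfsg.Agent.OddLocal.HallFusion

/-!
# `M_F`, `F(M)` and `M'`
-/

set_option linter.unusedSectionVars false
set_option linter.unusedVariables false
set_option linter.style.haveILetI false

namespace Cfsg.Lib.OddLocal.RankTwoMax

open Subgroup Uniqueness Sigma
open Cfsg.Lib.Coprime (conjMap)
open scoped commutatorElement

universe u

variable {G : Type u} [Group G] [Finite G] {M H K E U D X : Subgroup G}

local notation "fix(" M ", " K ")" => Cfsg.sigmaCore M ⊓ centralizer (SetLike.coe K)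
set_option quotPrecheck false in
local notation "qof(" M ", " K ")" => Nat.card ↥(Cfsg.sigmaCore M ⊓ centralizer (SetLike.coe K))
set_option quotPrecheck false in
local notation "syl(" M ", " K ")" => FittingParts.O qof(M, K) (Cfsg.sigmaCore M)

theorem exists_decomposition (hG : Cfsg.IsMinSimpleOddOrder G) (hM : IsCoatom M) :
    ∃ K U : Subgroup G, Cfsg.IsSigmaDecomposition M K U := by
  obtain ⟨K, hK⟩ := exists_kappa_hall hG hM
  obtain ⟨E, U, h⟩ := exists_kappaSplit hG hM hK
  exact ⟨K, U, h.decomposition hK (kappa_hall_cyclic hG hM hK)⟩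

theorem fittingHallOf_nilpotent (M : Subgroup G) : Group.IsNilpotent (Cfsg.fittingHallOf M) := by
  haveI : Group.IsNilpotent (Cfsg.fittingHall M) := CN.nilpotent_of_le
    Cfsg.Lib.FittingHall.fittingHall_le_fitting Cfsg.Lib.Components.isNilpotent_fitting
  exact Group.nilpotent_of_mulEquiv (Subgroup.equivMapOfInjective _ _ M.subtype_injective)

theorem fittingOf_nilpotent (M : Subgroup G) : Group.IsNilpotent (Cfsg.fittingOf M) := by
  haveI := Cfsg.Lib.Components.isNilpotent_fitting (G := M)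
  exact Group.nilpotent_of_mulEquiv (Subgroup.equivMapOfInjective _ _ M.subtype_injective)

theorem le_fittingOf_of_normal {X : Subgroup G} (hXM : X ≤ M) (hn : M ≤ normalizer (X : Set G))
    (hX : Group.IsNilpotent X) : X ≤ Cfsg.fittingOf M := fun y hy => by
  haveI : (X.subgroupOf M).Normal := normal_subgroupOf_of_le_normalizer hn
  refine ⟨⟨y, hXM hy⟩, (le_sSup (show X.subgroupOf M ∈ {N : Subgroup M | N.Normal ∧ Group.IsNilpotent N} from
    ⟨inferInstance, (Group.isNilpotent_congr (subgroupOfEquivOfLe hXM)).mpr hX⟩) : _ ≤ Cfsg.fittingSubgroup M) hy, rfl⟩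

/-- The product of two commuting nilpotent subgroups is nilpotent. -/
theorem nilpotent_sup_of_commute {A B C : Subgroup G} (hA : Group.IsNilpotent A) (hB : Group.IsNilpotent B)
    (hAC : A ≤ C) (hBC : B ≤ C) (hc : A ≤ centralizer (B : Set G)) (h : ∀ c ∈ C, ∃ a ∈ A, ∃ b ∈ B, c = a * b) :
    Group.IsNilpotent C := by
  haveI := hA
  haveI := hB
  let f : A × B →* C := MonoidHom.noncommCoprod (inclusion hAC) (inclusion hBC)
    fun a b => Subtype.ext (mem_centralizer_iff.mp (hc a.2) b b.2).symm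
  refine Group.nilpotent_of_surjective f fun c => ?_
  obtain ⟨a, ha, b, hb, hcab⟩ := h c c.2
  exact ⟨(⟨a, ha⟩, ⟨b, hb⟩), Subtype.ext hcab.symm⟩

/-- An element whose action on a normal subgroup agrees with one of coprime order centralizes it. -/
theorem centralizes_of_coprime_action {Q : Subgroup G} {a b : G} (ha : a ∈ normalizer (Q : Set G))
    (hb : b ∈ normalizer (Q : Set G)) (hcop : (orderOf a).Coprime (orderOf b))
    (hab : a * b ∈ centralizer (Q : Set G)) : a ∈ centralizer (Q : Set G) ∧ b ∈ centralizer (Q : Set G) := by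
  set φ := Q.normalizerMonoidHom
  have hker : ∀ y : normalizer (Q : Set G), φ y = 1 → (y : G) ∈ centralizer (Q : Set G) := fun y hy => by
    have h2 : y ∈ φ.ker := hy
    rw [normalizerMonoidHom_ker] at h2
    exact h2
  have h1 : φ ⟨a, ha⟩ * φ ⟨b, hb⟩ = 1 := by
    rw [← map_mul]
    have h2 : (⟨a, ha⟩ : normalizer (Q : Set G)) * ⟨b, hb⟩ ∈ Q.normalizerMonoidHom.ker := by
      rw [normalizerMonoidHom_ker]; exact hab
    exact h2
  have h3 : orderOf (φ ⟨a, ha⟩) = 1 := by
    refine Nat.eq_one_of_dvd_coprimes hcop ((orderOf_map_dvd φ _).trans (dvd_of_eq (orderOf_mk a ha))) ?_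
    rw [eq_inv_of_mul_eq_one_left h1, orderOf_inv]
    exact (orderOf_map_dvd φ _).trans (dvd_of_eq (orderOf_mk b hb))
  have h4 := orderOf_eq_one_iff.mp h3
  rw [h4, one_mul] at h1
  exact ⟨hker _ h4, hker _ h1⟩

/-! ### The non-nilpotent case -/

theorem NonNil.centralizer_le_core (hG : Cfsg.IsMinSimpleOddOrder G) (n : NonNil M K) :
    M ⊓ centralizer (syl(M, K) : Set G) ≤ Cfsg.sigmaCore M := by
  rintro m ⟨hm, hmc⟩
  have hKn : K ≤ normalizer (Cfsg.sigmaCore M : Set G) := n.K_le.trans (le_normalizer_sigmaCore M)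
  have hm' : m ∈ Cfsg.sigmaCore M ⊔ K := n.sup.ge hm
  rw [Cfsg.Lib.Coprime.mem_sup_of_le_normalizer hKn] at hm'
  obtain ⟨s, hs, k, hk, rfl⟩ := hm'
  by_cases hk1 : k = 1
  · rw [hk1, mul_one]; exact hs
  exfalso
  have hcop : (orderOf s).Coprime (orderOf k) := (coprime_card_of_disjoint fun r hr h1 h2 =>
    (n.pair.hall.2.1 r hr h2).2.2.1 (sigmaCore_isPi r hr h1)).coprime_dvd_left (orderOf_dvd_natCard _ hs)
    |>.coprime_dvd_right (orderOf_dvd_natCard _ hk)
  have hQn := NonNil.le_normalizer_syl M K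
  obtain ⟨-, hkc⟩ := centralizes_of_coprime_action (hQn (sigmaCore_le M hs)) (hQn (n.K_le hk)) hcop hmc
  have hle : syl(M, K) ≤ fix(M, K) := (le_inf (NonNil.syl_le M K) fun y hy =>
      mem_centralizer_singleton_iff.mpr (mem_centralizer_iff.mp hkc y hy) :
    syl(M, K) ≤ Cfsg.sigmaCore M ⊓ centralizer ({k} : Set G)).trans
      (kappa_group_fixed hG n.max n.K_le n.pair.hall.2.1 hk hk1).le
  obtain ⟨D, hD, hKD⟩ := n.exists_invariant_compl hG
  have h1 := Nat.le_of_dvd n.prime_fix.pos (card_dvd_of_le hle)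
  rw [n.card_syl hG hD hKD] at h1
  exact absurd ((Nat.le_mul_of_pos_right _ Nat.card_pos).trans h1)
    (not_le.mpr (lt_self_pow₀ n.prime_fix.one_lt (n.prime_K hG).one_lt))

theorem NonNil.mem_centralizer_parts (hG : Cfsg.IsMinSimpleOddOrder G) (n : NonNil M K)
    (hD : Cfsg.IsComplIn (syl(M, K)) D (Cfsg.sigmaCore M)) {c : G}
    (hc : c ∈ Cfsg.sigmaCore M ⊓ centralizer (syl(M, K) : Set G)) :
    ∃ u ∈ syl(M, K) ⊓ centralizer (syl(M, K) : Set G), ∃ d ∈ D ⊓ centralizer (syl(M, K) : Set G), c = u * d := by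
  obtain ⟨u, hu, d, hd, rfl⟩ := n.mem_mul hD hc.1
  have hn := NonNil.core_le_normalizer_syl M K
  obtain ⟨h1, h2⟩ := centralizes_of_coprime_action (hn (NonNil.syl_le M K hu)) (hn (hD.2.1 hd))
    (((n.coprime_syl hG hD).coprime_dvd_left (orderOf_dvd_natCard _ hu)).coprime_dvd_right
      (orderOf_dvd_natCard _ hd)) hc.2
  exact ⟨u, ⟨hu, h1⟩, d, ⟨hd, h2⟩, rfl⟩

theorem NonNil.centralizer_le_fitting (hG : Cfsg.IsMinSimpleOddOrder G) (n : NonNil M K) :
    M ⊓ centralizer (syl(M, K) : Set G) ≤ Cfsg.fittingOf M := by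
  haveI := Fact.mk n.prime_fix
  obtain ⟨D, hD, hKD⟩ := n.exists_invariant_compl hG
  haveI := n.invariant_nilpotent hG hD hKD
  set C := M ⊓ centralizer (syl(M, K) : Set G) with hC
  refine le_fittingOf_of_normal inf_le_left (Cfsg.Lib.Coprime.le_normalizer_inf le_normalizer
    ((NonNil.le_normalizer_syl M K).trans (FittingParts.normalizer_centralizer_le _))) ?_
  set A := syl(M, K) ⊓ centralizer (syl(M, K) : Set G) with hA
  set B := D ⊓ centralizer (syl(M, K) : Set G) with hB
  haveI : Group.IsNilpotent A := ((n.syl_isPGroup).to_le inf_le_left).isNilpotent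
  haveI : Group.IsNilpotent B := CN.nilpotent_of_le (inf_le_left : B ≤ D) inferInstance
  refine nilpotent_sup_of_commute (A := A) (B := B) inferInstance inferInstance
    (inf_le_inf_right _ ((NonNil.syl_le M K).trans (sigmaCore_le M)))
    (inf_le_inf_right _ (hD.2.1.trans (sigmaCore_le M))) ?_
    fun c hc => n.mem_centralizer_parts hG hD ⟨n.centralizer_le_core hG hc, hc.2⟩
  exact le_centralizer_iff.mp ((inf_le_right : B ≤ _).trans
    (Subgroup.centralizer_le (SetLike.coe_subset_coe.mpr inf_le_left)))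

theorem NonNil.fitting_le_core (hG : Cfsg.IsMinSimpleOddOrder G) (n : NonNil M K) :
    Cfsg.fittingOf M ≤ Cfsg.sigmaCore M := by
  rw [FittingParts.fittingOf_eq]
  refine iSup_le fun ⟨r, hr⟩ => ?_
  haveI := Fact.mk hr
  by_cases hσ : r ∈ Cfsg.sigma M
  · exact le_sigmaCore_of_pgroup hG n.max hσ (FittingParts.isPGroup M) (PiCoreOf.le _ _)
  by_contra hne
  obtain ⟨-, hτ⟩ := core_outside_sigma hG n.max (q := r) hσ fun e => hne (e ▸ bot_le)
  by_cases hκ : r ∈ Cfsg.kappa M
  · exact hτ.2.2.2 (kappa_rank hG n.max hκ)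
  · refine n.not_nil (sigmaCore_nilpotent_of_prime (p := r) hG n.max ?_ hσ hκ)
    by_contra hd
    refine hne (le_of_eq_of_le (card_eq_one.mp ?_) bot_le)
    obtain ⟨k, hk⟩ := IsPGroup.iff_card.mp (FittingParts.isPGroup (q := r) M)
    rcases k with _ | k
    · rw [hk, pow_zero]
    · exact absurd ((hk ▸ dvd_pow_self r k.succ_ne_zero : r ∣ Nat.card (FittingParts.O r M)).trans
        (card_dvd_of_le (PiCoreOf.le _ _))) hd

/-- `F(M)` is a TI-subset when `M_σ` is not nilpotent. -/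
theorem NonNil.fitting_ti (hG : Cfsg.IsMinSimpleOddOrder G) (n : NonNil M K) :
    Cfsg.IsTISubset (Cfsg.fittingOf M : Set G) := by
  haveI := Fact.mk n.prime_fix
  have hM := n.max
  intro g hg x hx hgx
  by_contra hx1
  have hxσ : x ∈ Cfsg.sigmaCore M := n.fitting_le_core hG hx
  have hCx : centralizer ({x} : Set G) ≤ M := by
    by_contra hxM
    obtain ⟨y, hy, hyp, hyC⟩ := exists_prime_pow_mem hx1
    haveI := Fact.mk hyp
    have hyM : ¬ centralizer ({y} : Set G) ≤ M := fun h => hxM (hyC.trans h)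
    have hy1 : y ≠ 1 := fun e => hyp.ne_one (by rw [e, orderOf_one])
    have hyF : y ∈ Cfsg.fittingOf M := zpowers_le.mpr hx hy
    have hyσ : y ∈ Cfsg.sigmaCore M := n.fitting_le_core hG hyF
    obtain ⟨N, hsp⟩ := exists_supportPair hG hM hyσ hy1 hyM
    have hqN : qof(M, K) ∉ Cfsg.sigma N := fun h => by
      obtain ⟨c, hc⟩ := (sigma_partition hG).2 M N hM hsp.maxN ⟨_, n.sigma_q, h⟩
      exact hsp.not_conj c hc
    have hτ := hsp.tau (orderOf y) hyp dvd_rfl
    by_cases hrq : orderOf y = qof(M, K)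
    · obtain ⟨B, hBE, hB, hBc⟩ := exists_sq_complement hG hsp.maxN hsp.compl hτ
      obtain ⟨B₀, hexc⟩ := exists_exc hG hsp.maxN hτ.2.1 (hBE.trans inf_le_right) hB hBc
      exact (hexc.maxSq hG).not_beta M (by rw [hrq]; exact n.q_beta hG)
    · obtain ⟨B, hBM, hB, hBc⟩ := exists_elementary (p := qof(M, K)) (n.q_beta hG).1.2
      have hBp : IsPGroup qof(M, K) B := isPGroup_of_pow hB.2
      have hBQ : B ≤ syl(M, K) := n.le_syl hG hBp (le_sigmaCore_of_pgroup hG hM n.sigma_q hBp hBM)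
      have hQF : syl(M, K) ≤ Cfsg.fittingOf M :=
        (n.syl_le_fittingHall hG).trans (Cfsg.Lib.FittingHall.fittingHallOf_le_fittingOf M)
      haveI := fittingOf_nilpotent M
      have hBy : B ≤ centralizer ({y} : Set G) := fun b hb => by
        obtain ⟨i, hi⟩ := IsPGroup.iff_orderOf.mp hBp ⟨b, hb⟩
        rw [orderOf_mk] at hi
        have h1 := Cfsg.Lib.FittingHall.commute_coprime
          (x := (⟨b, hQF (hBQ hb)⟩ : Cfsg.fittingOf M)) (y := ⟨y, hyF⟩) (by
            rw [orderOf_mk, orderOf_mk, hi]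
            exact ((Nat.coprime_primes n.prime_fix hyp).mpr (Ne.symm hrq)).pow_left i)
        exact mem_centralizer_singleton_iff.mpr (congrArg Subtype.val h1.eq)
      exact hqN (alpha_subset_sigma hG hsp.maxN ⟨n.prime_fix, not_pRankLE_of hB (hBy.trans hsp.le) hBc⟩)
  have hNM : normalizer (M : Set G) = M := FittingUniqueness.normalizer_le_coatom hG hM
    (fun e => sigmaCore_ne_bot hG hM (le_bot_iff.mp (e ▸ sigmaCore_le M))) hM.1 le_normalizer
  have hmem : x ∈ conjMap g⁻¹ M := by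
    rw [Cfsg.Lib.Coprime.mem_conjMap, inv_inv]
    exact FittingParts.fittingOf_le M hgx
  obtain ⟨c, hc, hcM⟩ := exists_centralizer_conj hG hM hxσ hx1 hmem
  rw [Cfsg.Lib.Coprime.conjMap_eq_self (le_normalizer (hCx hc))] at hcM
  have hgM : g⁻¹ ∈ M := by
    rw [← hNM]; exact Cfsg.Lib.Coprime.conjMap_eq_self_iff.mp hcM.symm
  exact hg (FittingParts.le_normalizer_fittingOf M (by simpa using inv_mem hgM))

theorem nonNilpotent_summary (hG : Cfsg.IsMinSimpleOddOrder G) (hM : IsCoatom M)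
    (hKU : Cfsg.IsSigmaDecomposition M K U) (hne : Cfsg.fittingHallOf M ≠ Cfsg.sigmaCore M) :
    U = ⊥ ∧ Cfsg.IsTISubset (Cfsg.fittingOf M : Set G) ∧ (Nat.card K).Prime := by
  obtain ⟨hU, n⟩ := nonNil_of_ne hG hM hKU hne
  exact ⟨hU, n.fitting_ti hG, n.prime_K hG⟩

end Cfsg.Lib.OddLocal.RankTwoMax
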