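import Cfsg.Agent.OddLocal.CNSolvable
import Cfsg.Agent.Transfer.Fusion
import Cfsg.Agent.Components.ZJ.Functor
import Cfsg.Agent.Quadratic.StableQd
import Cfsg.Prelude.Def_CaseTheorems
import Cfsg.Prelude.Def_OddOrder
import Mathlib.GroupTheory.Focal

/-!
# A minimal simple CN-group of odd order has no three step subgroup
-/

set_option linter.unusedSectionVars false
set_option linter.style.haveILetI false

namespace Cfsg.Lib.CN

open Subgroup

universe u

variable {G : Type u} [Group G] [Finite G]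

theorem normalizer_le_normalizer_char (H : Subgroup G) (C : Subgroup H) [hC : C.Characteristic] :
    normalizer (H : Set G) ≤ normalizer (C.map H.subtype : Set G) := by
  intro g hg
  set e := H.normalizerMonoidHom ⟨g, hg⟩
  have h1 : C.map e.toMonoidHom = C := characteristic_iff_map_eq.mp hC e
  have key : (C.map H.subtype).map (MulAut.conj g).toMonoidHom = C.map H.subtype := by
    ext x
    constructor
    · rintro ⟨_, ⟨c, hc, rfl⟩, rfl⟩
      exact ⟨e c, h1.le ⟨c, hc, rfl⟩, rfl⟩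
    · rintro ⟨c, hc, rfl⟩
      obtain ⟨c', hc', rfl⟩ := h1.ge hc
      exact ⟨c', ⟨c', hc', rfl⟩, rfl⟩
  exact Cfsg.Lib.Transfer.map_conj_eq_self_iff.mp key

/-- `H` has a largest `p`-subgroup. -/
def PClosed (p : ℕ) (H : Subgroup G) : Prop :=
  ∃ T : Subgroup G, IsPGroup p T ∧ ∀ R : Subgroup G, R ≤ H → IsPGroup p R → R ≤ T

theorem PClosed.mono {p : ℕ} {H K : Subgroup G} (h : PClosed p K) (hle : H ≤ K) : PClosed p H :=
  let ⟨T, hT, hR⟩ := h
  ⟨T, hT, fun R hRH hRp => hR R (hRH.trans hle) hRp⟩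

theorem PClosed.map_equiv {p : ℕ} {H : Subgroup G} (h : PClosed p H) (g : G) :
    PClosed p (H.map (MulAut.conj g).toMonoidHom) := by
  obtain ⟨T, hT, hR⟩ := h
  refine ⟨T.map (MulAut.conj g).toMonoidHom, hT.map _, fun R hRH hRp x hx => ?_⟩
  have h1 : R.map (MulAut.conj g⁻¹).toMonoidHom ≤ H := by
    rintro _ ⟨r, hr, rfl⟩
    obtain ⟨k, hk, rfl⟩ := hRH hr
    simpa [mul_assoc] using hk
  have h2 := hR _ h1 (hRp.map _) ⟨x, hx, rfl⟩
  exact ⟨_, h2, by simp [mul_assoc]⟩

theorem pClosed_of_normal_sylow {p : ℕ} [Fact p.Prime] {H : Subgroup G} (S : Sylow p H)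
    (hS : (S : Subgroup H).Normal) : PClosed p H := by
  refine ⟨(S : Subgroup H).map H.subtype, S.2.map _, fun R hRH hRp x hx => ?_⟩
  obtain ⟨S', hS'⟩ := (hRp.comap_subtype (K := H)).exists_le_sylow
  haveI := Sylow.unique_of_normal S hS
  rw [Subsingleton.elim S' S] at hS'
  exact ⟨⟨x, hRH hx⟩, hS' hx, rfl⟩

/-- A three step group has no largest `p`-subgroup. -/
theorem not_pClosed_of_threeStep {p : ℕ} [hp : Fact p.Prime] {H : Subgroup G}
    (h : Cfsg.IsThreeStepGroup p ↥H) : ¬ PClosed p H := by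
  rintro ⟨T, hT, hR⟩
  obtain ⟨-, A, -, -, -, -, hn, htop, ⟨k, hk⟩, -⟩ := h
  haveI hTn : (T.subgroupOf H).Normal := by
    refine ⟨fun x hx g => ?_⟩
    have hle : (zpowers ((g : G) * x * (g : G)⁻¹)) ≤ T := by
      refine hR _ (zpowers_le.mpr (mul_mem (mul_mem g.2 x.2) (inv_mem g.2))) ?_
      have h1 := (hT.to_le (zpowers_le.mpr (show (x : G) ∈ T from hx))).map (MulAut.conj (g : G)).toMonoidHom
      rwa [MonoidHom.map_zpowers] at h1
    exact mem_subgroupOf.mpr (by simpa using hle (mem_zpowers _))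
  have hle : T.subgroupOf H ≤ Cfsg.pCore p H := Cfsg.Lib.Components.le_pCore (hT.comap_subtype)
  obtain ⟨S⟩ := (inferInstance : Nonempty (Sylow p H))
  have hS : (S : Subgroup H) ≤ Cfsg.pCore p H ⊔ A := fun x hx =>
    mem_sup_left (hle (hR _ (map_subtype_le _) (S.2.map H.subtype) ⟨x, hx, rfl⟩))
  have h1 := index_dvd_of_le hS
  have hk0 : k ≠ 0 := fun e => htop (index_eq_one.mp (by rw [hk, e, pow_zero]))
  exact S.not_dvd_index ((dvd_pow_self p hk0).trans (hk ▸ h1))

theorem exists_maximal_nilpotent {A : Subgroup G} (hA : Group.IsNilpotent A) :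
    ∃ L : Subgroup G, A ≤ L ∧ Group.IsNilpotent L ∧
      ∀ M : Subgroup G, Group.IsNilpotent M → L ≤ M → M = L := by
  obtain ⟨L, ⟨hAL, hL⟩, hmax⟩ := Set.Finite.exists_maximal
    (s := {L : Subgroup G | A ≤ L ∧ Group.IsNilpotent L}) (Set.toFinite _) ⟨A, le_rfl, hA⟩
  exact ⟨L, hAL, hL, fun M hM hLM => le_antisymm (hmax ⟨hAL.trans hLM, hM⟩ hLM) hLM⟩

theorem two_dvd_card_qd {p : ℕ} [hp : Fact p.Prime] (hp2 : p ≠ 2) : 2 ∣ Nat.card (Cfsg.qd p) := by
  let w : Matrix.SpecialLinearGroup (Fin 3) (ZMod p) :=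
    ⟨!![-1, 0, 0; 0, -1, 0; 0, 0, 1], by simp [Matrix.det_fin_three]⟩
  have hw : w ∈ Cfsg.qd p := subset_closure ⟨by simp [w], by simp [w], by simp [w]⟩
  have hw1 : w ≠ 1 := fun e => by
    have h1 : (w : Matrix (Fin 3) (Fin 3) (ZMod p)) 0 0 = (1 : Matrix (Fin 3) (Fin 3) (ZMod p)) 0 0 := by
      rw [e]; rfl
    simp [w] at h1
    have h2 : ((2 : ℕ) : ZMod p) = 0 := by push_cast; linear_combination -h1
    rw [ZMod.natCast_eq_zero_iff] at h2
    exact hp2 ((Nat.prime_dvd_prime_iff_eq hp.out Nat.prime_two).mp h2)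
  have hw2 : w ^ 2 = 1 := by
    rw [pow_two]
    apply Subtype.ext
    show (w : Matrix (Fin 3) (Fin 3) (ZMod p)) * (w : Matrix (Fin 3) (Fin 3) (ZMod p)) = 1
    ext i j
    fin_cases i <;> fin_cases j <;> simp [w, Matrix.mul_apply, Fin.sum_univ_three]
  have ho : orderOf (⟨w, hw⟩ : Cfsg.qd p) = 2 := by
    rw [Subgroup.orderOf_mk]; exact orderOf_eq_prime hw2 hw1
  exact ho ▸ orderOf_dvd_natCard _

theorem stable_of_odd {L : Type u} [Group L] [Finite L] (hodd : Odd (Nat.card L)) {p : ℕ}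
    [Fact p.Prime] (hp2 : p ≠ 2) : Cfsg.Lib.ZJ.Stable p L := by
  refine Cfsg.Lib.ZJ.stable_of_isPStableOn fun B _ hB =>
    Cfsg.Lib.QuadPair.stable_of_qd_free hp2 (Nat.card B) L ?_ B hB rfl
  rintro ⟨K, R, hR, ⟨e⟩⟩
  haveI := hR
  have h1 : Nat.card (Cfsg.qd p) ∣ Nat.card L := by
    rw [← Nat.card_congr e.toEquiv]
    exact (card_quotient_dvd_card _).trans (card_subgroup_dvd_card K)
  exact (Nat.not_even_iff_odd.mpr hodd) (even_iff_two_dvd.mpr ((two_dvd_card_qd hp2).trans h1))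

theorem isCN_subgroup (hCN : Cfsg.IsCNGroup G) (M : Subgroup G) : Cfsg.IsCNGroup M := fun x hx => by
  set C := centralizer ({x} : Set M)
  have hle : C.map M.subtype ≤ centralizer ({(x : G)} : Set G) := by
    rintro _ ⟨y, hy, rfl⟩
    exact mem_centralizer_singleton_iff.mpr (congrArg Subtype.val (mem_centralizer_singleton_iff.mp hy))
  haveI := nilpotent_of_le hle (hCN x (fun e => hx (Subtype.ext e)))
  exact Group.nilpotent_of_mulEquiv (C.equivMapOfInjective M.subtype M.subtype_injective).symm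

section MinSimple

variable (hG : Cfsg.IsMinSimpleOddOrder G) (hCN : Cfsg.IsCNGroup G)

include hG in
theorem not_nilpotent : ¬ Group.IsNilpotent G := by
  intro h
  haveI := hG.2.1
  haveI := h
  rcases (inferInstance : (center G).Normal).eq_bot_or_eq_top with hc | hc
  · exact Group.IsNilpotent.center_ne_bot G hc
  · exact hG.2.2.1 ⟨⟨fun a b => mem_center_iff.mp (hc ▸ mem_top b) a⟩⟩

include hG in
theorem normalizer_ne_top {H : Subgroup G} (hH : H ≠ ⊥) (hn : Group.IsNilpotent H) :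
    normalizer (H : Set G) ≠ ⊤ := by
  intro h
  haveI := hG.2.1
  rcases (normalizer_eq_top_iff.mp h).eq_bot_or_eq_top with h1 | h1
  · exact hH h1
  · subst h1
    haveI := hn
    exact not_nilpotent hG (Group.nilpotent_of_mulEquiv Subgroup.topEquiv)

include hG hCN in
/-- The Sylow `p`-subgroups are maximal nilpotent when some `p`-local is not `p`-closed. -/
theorem maximal_sylow_of_local {p : ℕ} [Fact p.Prime] {D : Subgroup G} (hD : D ≠ ⊥)
    (hDp : IsPGroup p D) (hnc : ¬ PClosed p (normalizer (D : Set G))) (T : Sylow p G) :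
    ∀ L : Subgroup G, Group.IsNilpotent L → (T : Subgroup G) ≤ L → L = (T : Subgroup G) := by
  classical
  intro L₀ hL₀ hTL₀
  obtain ⟨L, hL₀L, hL, hmax⟩ := exists_maximal_nilpotent hL₀
  have hTL : (T : Subgroup G) ≤ L := hTL₀.trans hL₀L
  suffices L = (T : Subgroup G) from le_antisymm (hL₀L.trans this.le) hTL₀
  by_contra hne
  have hpp : ¬ IsPrimePow (Nat.card L) := by
    intro hpp
    obtain ⟨q, k, hq, hk, hqk⟩ := (isPrimePow_nat_iff _).mp hpp
    obtain ⟨S, hS⟩ := hDp.exists_le_sylow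
    have hpT : p ∣ Nat.card (T : Subgroup G) := by
      refine T.dvd_card_of_dvd_card (hDp.card_eq_or_dvd.resolve_left (fun e => hD (card_eq_one.mp e)) |>.trans ?_)
      exact card_subgroup_dvd_card D
    have hpq : p = q := (Nat.prime_dvd_prime_iff_eq Fact.out hq).mp
      ((Fact.out : p.Prime).dvd_of_dvd_pow (hqk ▸ hpT.trans (card_dvd_of_le hTL)))
    subst hpq
    exact hne (T.3 (IsPGroup.of_card hqk.symm) hTL)
  -- conjugate `D` into `T`
  obtain ⟨S, hS⟩ := hDp.exists_le_sylow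
  obtain ⟨a, ha⟩ := MulAction.exists_smul_eq G S T
  have hTeq : (S : Subgroup G).map (MulAut.conj a).toMonoidHom = (T : Subgroup G) := by
    rw [← Cfsg.Lib.Transfer.sylow_smul_coe, ha]
  apply hnc
  have hDN : normalizer (D : Set G) ≤ (normalizer (L : Set G)).map (MulAut.conj a⁻¹).toMonoidHom := by
    intro w hw
    refine ⟨a * w * a⁻¹, ?_, by simp [mul_assoc]⟩
    obtain ⟨x, hx, hx1⟩ := (bot_or_exists_ne_one D).resolve_left hD
    have h1 : a * x * a⁻¹ ∈ L := hTL (hTeq ▸ mem_map_of_mem (MulAut.conj a).toMonoidHom (hS hx))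
    have h2 : a * (w * x * w⁻¹) * a⁻¹ ∈ L :=
      hTL (hTeq ▸ mem_map_of_mem (MulAut.conj a).toMonoidHom (hS ((mem_normalizer_iff.mp hw x).mp hx)))
    rw [SetLike.mem_coe, ← Cfsg.Lib.Transfer.map_conj_eq_self_iff]
    by_contra hne'
    have hmem : a * (w * x * w⁻¹) * a⁻¹ ∈ L ⊓ L.map (MulAut.conj (a * w * a⁻¹)).toMonoidHom :=
      ⟨h2, a * x * a⁻¹, h1, by simp [mul_assoc]⟩
    rw [isTI_of_not_primePow hCN hL hmax hpp _ hne', mem_bot] at hmem
    exact hx1 (by simpa using hmem)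
  refine PClosed.mono (PClosed.map_equiv ?_ a⁻¹) hDN
  refine ⟨(T : Subgroup G), T.2, fun R hR hRp => ?_⟩
  -- `T` is normalised by `N(L)`
  have hnorm : normalizer (L : Set G) ≤ normalizer ((T : Subgroup G) : Set G) := by
    set S' : Sylow p L := T.subtype hTL
    haveI := hL
    haveI := sylow_normal_of_nilpotent S'
    haveI := Sylow.characteristic_of_normal S' ‹_›
    have hmap : (S' : Subgroup L).map L.subtype = (T : Subgroup G) := by
      show ((T : Subgroup G).subgroupOf L).map L.subtype = _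
      rw [subgroupOf_map_subtype, inf_of_le_left hTL]
    rw [← hmap]
    exact normalizer_le_normalizer_char L (S' : Subgroup L)
  have hsup := IsPGroup.to_sup_of_normal_left' T.2 hRp (hR.trans hnorm)
  exact le_sup_right.trans (T.3 hsup le_sup_left).le

variable {p : ℕ} [hp : Fact p.Prime]

include hG hCN in
/-- The locals for `p` have trivial `p'`-core when some local is not `p`-closed. -/
theorem centralizing_eq_one_of_local (hmaxT : ∀ T : Sylow p G, ∀ L : Subgroup G, Group.IsNilpotent L →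
      (T : Subgroup G) ≤ L → L = (T : Subgroup G))
    {Q : Subgroup G} (hQ : Q ≠ ⊥) (hQp : IsPGroup p Q) {k : G} (hk : (orderOf k).Coprime p)
    (hkQ : ∀ q ∈ Q, Commute k q) : k = 1 := by
  obtain ⟨T, hT⟩ := hQp.exists_le_sylow
  have hTb : (T : Subgroup G) ≠ ⊥ := fun h => hQ (le_bot_iff.mp (h ▸ hT))
  obtain ⟨z, hzT, hz1, hzc⟩ := exists_central_in le_rfl hTb T.2 le_normalizer
  obtain ⟨q, hq, hq1⟩ := (bot_or_exists_ne_one Q).resolve_left hQ
  have hord : ∀ t ∈ (T : Subgroup G), ∃ i, orderOf t = p ^ i := fun t ht => by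
    obtain ⟨i, hi⟩ := IsPGroup.iff_orderOf.mp T.2 ⟨t, ht⟩
    exact ⟨i, by rwa [Subgroup.orderOf_mk] at hi⟩
  obtain ⟨i, hi⟩ := hord z hzT
  have hkz : Commute k z := commute_of_mem (hCN q hq1) (mem_centralizer_singleton_iff.mpr (hkQ q hq).eq)
    (mem_centralizer_singleton_iff.mpr (hzc q (hT hq)).symm) (by rw [hi]; exact hk.pow_right i)
  have hkT : k ∈ (T : Subgroup G) :=
    (centralizer_central_eq hCN (hmaxT T) hz1 hzc).le (mem_centralizer_singleton_iff.mpr hkz.eq)
  obtain ⟨j, hj⟩ := hord k hkT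
  exact orderOf_eq_one_iff.mp (Nat.eq_one_of_dvd_coprimes (hk.pow_right j) dvd_rfl (hj ▸ dvd_rfl))

include hG hCN in
theorem pPrimeCore_local_eq_bot (hmaxT : ∀ T : Sylow p G, ∀ L : Subgroup G, Group.IsNilpotent L →
      (T : Subgroup G) ≤ L → L = (T : Subgroup G))
    {Q : Subgroup G} (hQ : Q ≠ ⊥) (hQp : IsPGroup p Q) :
    Cfsg.pPrimeCore p ↥(normalizer (Q : Set G)) = ⊥ := by
  set N := normalizer (Q : Set G)
  haveI : (Q.subgroupOf N).Normal := (normal_subgroupOf_iff_le_normalizer le_normalizer).mpr le_rfl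
  have hcop := Cfsg.Lib.Components.coprime_card_pPrimeCore (G := N) p
  have hdis : Disjoint (Cfsg.pPrimeCore p N) (Q.subgroupOf N) := by
    obtain ⟨i, hi⟩ := IsPGroup.iff_card.mp (hQp.comap_subtype (K := N))
    change Nat.card ↥(Q.subgroupOf N) = _ at hi
    exact disjoint_iff.mpr (Cfsg.Lib.Coprime.inf_eq_bot_of_coprime (by rw [hi]; exact hcop.pow_right i))
  rw [eq_bot_iff]
  intro k hk
  refine mem_bot.mpr (Subtype.ext (centralizing_eq_one_of_local hG hCN hmaxT hQ hQp ?_ fun q hq => ?_))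
  · rw [Subgroup.orderOf_coe]; exact hcop.coprime_dvd_left (orderOf_dvd_natCard _ hk)
  · exact congrArg Subtype.val (Subgroup.commute_of_normal_of_disjoint _ _ inferInstance inferInstance
      hdis k ⟨q, le_normalizer hq⟩ hk (mem_subgroupOf.mpr hq)).eq

include hG hCN in
theorem localNormal_centerThompsonA (hmaxT : ∀ T : Sylow p G, ∀ L : Subgroup G, Group.IsNilpotent L →
      (T : Subgroup G) ≤ L → L = (T : Subgroup G)) (hp2 : p ≠ 2) :
    Cfsg.Lib.ZJ.LocalNormal (fun T : Subgroup G => Cfsg.centerThompsonAOf T) p := by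
  intro Q T hQ1 hQ hTN hT hTnd
  set H := Subgroup.normalizer (Q : Set G)
  haveI : Group.IsSolvable H := hG.2.2.2 H (by
    intro h
    haveI := hG.2.1
    rcases (normalizer_eq_top_iff.mp h).eq_bot_or_eq_top with h1 | h1
    · exact hQ1 h1
    · subst h1
      haveI : Group.IsNilpotent (⊤ : Subgroup G) := hQ.isNilpotent
      exact not_nilpotent hG (Group.nilpotent_of_mulEquiv Subgroup.topEquiv))
  let S : Sylow p H := (hT.comap_subtype (K := H)).toSylow hTnd
  have hn := Cfsg.Lib.ZJ.centerThompsonA_normal (S := S) hp2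
    (stable_of_odd (hG.1.of_dvd_nat (card_subgroup_dvd_card H)) hp2)
    (Cfsg.Lib.Coprime.centralizer_pCore_le p (pPrimeCore_local_eq_bot hG hCN hmaxT hQ1 hQ))
    (Cfsg.Lib.ZJ.stronglyClosed_self _)
  have hmap := Cfsg.Lib.ZJ.centerThompsonAOf_map_injOn (f := H.subtype) (D := (S : Subgroup H))
    H.subtype_injective.injOn
  rw [show (S : Subgroup H).map H.subtype = T by
    show (T.subgroupOf H).map H.subtype = T
    rw [Subgroup.subgroupOf_map_subtype, inf_eq_left.mpr hTN]] at hmap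
  show H ≤ Subgroup.normalizer (Cfsg.centerThompsonAOf T : Set G)
  rw [← hmap]
  intro x hx
  exact Subgroup.le_normalizer_map H.subtype
    ⟨⟨x, hx⟩, (Subgroup.normalizer_eq_top_iff.mpr hn).ge (Subgroup.mem_top _), rfl⟩

/-- A subgroup containing all the locals of a Sylow subgroup controls its fusion. -/
theorem mem_of_fusion (P : Sylow p G) (M : Subgroup G)
    (hloc : ∀ Q : Subgroup G, Q ≤ (P : Subgroup G) → Q ≠ ⊥ → normalizer (Q : Set G) ≤ M) :
    ∀ R : Subgroup G, R ≠ ⊥ → R ≤ (P : Subgroup G) → ∀ g : G,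
      R.map (MulAut.conj g).toMonoidHom ≤ (P : Subgroup G) → g ∈ M := by
  suffices key : ∀ n : ℕ, ∀ R : Subgroup G, R ≠ ⊥ → R ≤ (P : Subgroup G) →
      Nat.card (P : Subgroup G) - Nat.card R = n → ∀ g : G,
      R.map (MulAut.conj g).toMonoidHom ≤ (P : Subgroup G) → g ∈ M from
    fun R hR hRP => key _ R hR hRP rfl
  intro n
  induction n using Nat.strong_induction_on with
  | _ n ih =>
  intro R hR hRP hn g hg
  rcases eq_or_lt_of_le hRP with hRe | hlt
  · apply hloc R hRP hR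
    rw [← Cfsg.Lib.Transfer.map_conj_eq_self_iff]
    exact eq_of_le_of_card_ge (hg.trans hRe.ge) (Cfsg.Lib.Transfer.card_map_conj R g).ge
  · set R' := R.map (MulAut.conj g).toMonoidHom
    have hR' : R' ≠ ⊥ := fun h => hR ((map_eq_bot_iff_of_injective _ (MulAut.conj g).injective).mp h)
    have hgrow := Cfsg.Lib.Fusion.lt_inf_normalizer P.2 hlt le_rfl
    set R₁ := (P : Subgroup G) ⊓ normalizer (R : Set G)
    have hPM : (P : Subgroup G) ≤ M :=
      le_normalizer.trans (hloc _ le_rfl (fun h => hR (le_bot_iff.mp (h ▸ hRP))))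
    have hX : R₁.map (MulAut.conj g).toMonoidHom ≤ M := by
      refine le_trans ?_ (hloc R' hg hR')
      rw [show normalizer (R' : Set G) = (normalizer (R : Set G)).map (MulAut.conj g).toMonoidHom from
        Cfsg.Lib.Coprime.normalizer_conjMap g R]
      exact map_mono inf_le_right
    obtain ⟨S', hS'⟩ := (((P.2.to_le (inf_le_left : R₁ ≤ _)).map
      (MulAut.conj g).toMonoidHom).comap_subtype (K := M)).exists_le_sylow
    obtain ⟨m, hm⟩ := MulAction.exists_smul_eq M S' (P.subtype hPM)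
    have hmem : R₁.map (MulAut.conj ((m : G) * g)).toMonoidHom ≤ (P : Subgroup G) := by
      rintro _ ⟨r, hr, rfl⟩
      have h2 : (⟨g * r * g⁻¹, hX ⟨r, hr, rfl⟩⟩ : M) ∈ (S' : Subgroup M) := hS' ⟨r, hr, rfl⟩
      have h3 : m * ⟨g * r * g⁻¹, hX ⟨r, hr, rfl⟩⟩ * m⁻¹ ∈ ((m • S' : Sylow p M) : Subgroup M) := by
        rw [Cfsg.Lib.Transfer.sylow_smul_coe]; exact ⟨_, h2, rfl⟩
      rw [hm] at h3
      have h4 : (m : G) * (g * r * g⁻¹) * (m : G)⁻¹ ∈ (P : Subgroup G) := h3
      show (m : G) * g * r * ((m : G) * g)⁻¹ ∈ _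
      rw [show (m : G) * g * r * ((m : G) * g)⁻¹ = (m : G) * (g * r * g⁻¹) * (m : G)⁻¹ by group]
      exact h4
    have hlt' : Nat.card (P : Subgroup G) - Nat.card R₁ < n := by
      have h1 : Nat.card R < Nat.card R₁ := by
        rcases (Nat.le_of_dvd Nat.card_pos (card_dvd_of_le hgrow.le)).eq_or_lt with h | h
        · exact absurd (eq_of_le_of_card_ge hgrow.le h.ge) hgrow.ne
        · exact h
      have h2 : Nat.card R₁ ≤ Nat.card (P : Subgroup G) :=
        Nat.le_of_dvd Nat.card_pos (card_dvd_of_le inf_le_left)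
      omega
    have := ih _ hlt' R₁ (ne_bot_of_gt hgrow) inf_le_left rfl _ hmem
    simpa using M.mul_mem (M.inv_mem m.2) this

include hG hCN in
theorem not_threeStep_prime (H : Subgroup G) : ¬ Cfsg.IsThreeStepGroup p ↥H := by
  classical
  intro h
  haveI := hG.2.1
  have hnc : ¬ PClosed p H := not_pClosed_of_threeStep h
  set D := (Cfsg.pCore p H).map H.subtype
  have hDb : D ≠ ⊥ := fun e => h.1 (by
    rwa [map_eq_bot_iff_of_injective _ H.subtype_injective] at e)
  have hDp : IsPGroup p D := (Cfsg.Lib.Components.isPGroup_pCore p).map _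
  have hHD : H ≤ normalizer (D : Set G) := fun x hx =>
    le_normalizer_map H.subtype ⟨⟨x, hx⟩, (normalizer_eq_top_iff.mpr
      (inferInstance : (Cfsg.pCore p H).Normal)).ge (mem_top _), rfl⟩
  have hlocnc : ¬ PClosed p (normalizer (D : Set G)) := fun hc => hnc (hc.mono hHD)
  have hmaxT := fun T : Sylow p G => maximal_sylow_of_local hG hCN hDb hDp hlocnc T
  have hp2 : p ≠ 2 := by
    intro e
    have h1 : p ∣ Nat.card G :=
      (hDp.card_eq_or_dvd.resolve_left fun e => hDb (card_eq_one.mp e)).trans (card_subgroup_dvd_card D)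
    exact Nat.not_even_iff_odd.mpr hG.1 (even_iff_two_dvd.mpr (e ▸ h1))
  obtain ⟨S', hS'⟩ := hDp.exists_le_sylow
  obtain ⟨P⟩ := (inferInstance : Nonempty (Sylow p G))
  obtain ⟨a, ha⟩ := MulAction.exists_smul_eq G S' P
  have hPb : (P : Subgroup G) ≠ ⊥ := by
    intro e
    rw [← ha, Cfsg.Lib.Transfer.sylow_smul_coe,
      map_eq_bot_iff_of_injective _ (MulAut.conj a).injective] at e
    exact hDb (le_bot_iff.mp (e ▸ hS'))
  set W := Cfsg.centerThompsonAOf (P : Subgroup G)
  set M := normalizer (W : Set G)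
  have hWne : ∀ T : Subgroup G, IsPGroup p T → T ≠ ⊥ → Cfsg.centerThompsonAOf T ≠ ⊥ := fun T hT hne h0 => by
    apply Cfsg.Lib.Thompson.center_ne_bot hT hne
    refine le_bot_iff.mp (le_trans ?_ h0.le)
    rw [Cfsg.Lib.Fusion.centerThompsonAOf_eq]
    exact le_iInf₂ fun A hA => Cfsg.Lib.Fusion.centralizerIn_self_le_maxAb hA
  have hWle : ∀ T : Subgroup G, Cfsg.centerThompsonAOf T ≤ T := fun T =>
    inf_le_left.trans (Subgroup.map_subtype_le _)
  have hloc : ∀ Q : Subgroup G, Q ≤ (P : Subgroup G) → Q ≠ ⊥ → normalizer (Q : Set G) ≤ M :=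
    fun Q hQP hQ1 => Cfsg.Lib.ZJ.normalizer_le (fun T : Subgroup G => Cfsg.centerThompsonAOf T)
      (fun g T => Cfsg.Lib.ZJ.centerThompsonAOf_map (MulAut.conj g) T)
      (fun T hT => ⟨hWle T, hWne T hT⟩) (localNormal_centerThompsonA hG hCN hmaxT hp2) P Q hQP hQ1
  have hWb : W ≠ ⊥ := hWne _ P.2 hPb
  have hWp : IsPGroup p W := P.2.to_le (hWle _)
  have hMtop : M ≠ ⊤ := normalizer_ne_top hG hWb hWp.isNilpotent
  -- `M` is not `p`-closed
  have hMnc : ¬ PClosed p M := by
    intro hc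
    set D' := D.map (MulAut.conj a).toMonoidHom
    have hD'P : D' ≤ (P : Subgroup G) := by
      rw [← ha, Cfsg.Lib.Transfer.sylow_smul_coe]; exact map_mono hS'
    have hD'b : D' ≠ ⊥ := fun e => hDb ((map_eq_bot_iff_of_injective _ (MulAut.conj a).injective).mp e)
    have h1 : (normalizer (D : Set G)).map (MulAut.conj a).toMonoidHom ≤ M := by
      have h0 : normalizer (D' : Set G) = (normalizer (D : Set G)).map (MulAut.conj a).toMonoidHom :=
        Cfsg.Lib.Coprime.normalizer_conjMap a D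
      exact h0 ▸ hloc D' hD'P hD'b
    exact hlocnc (((hc.mono h1).map_equiv a⁻¹).mono fun x hx => ⟨_, ⟨x, hx, rfl⟩, by simp [mul_assoc]⟩)
  haveI : Group.IsSolvable M := hG.2.2.2 M hMtop
  have hCNM : Cfsg.IsCNGroup M := isCN_subgroup hCN M
  have hPM : (P : Subgroup G) ≤ M := le_normalizer.trans (hloc _ le_rfl hPb)
  have hMnn : ¬ Group.IsNilpotent M := fun hn => by
    haveI := hn
    exact hMnc (pClosed_of_normal_sylow _ (sylow_normal_of_nilpotent (P.subtype hPM)))
  have hcore : Cfsg.pPrimeCore p M = ⊥ := pPrimeCore_local_eq_bot hG hCN hmaxT hWb hWp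
  have hnoM : ∀ (r : ℕ) [Fact r.Prime] (R : Sylow r M), (R : Subgroup M) ≠ ⊥ → ¬ (R : Subgroup M).Normal := by
    intro r _ R hR hRn
    by_cases hrp : r = p
    · subst hrp
      exact hMnc (pClosed_of_normal_sylow R hRn)
    · refine hR (le_bot_iff.mp (hcore ▸ Cfsg.Lib.Components.le_pPrimeCore (hn := hRn) ?_))
      obtain ⟨i, hi⟩ := IsPGroup.iff_card.mp R.2
      rw [hi]
      exact ((Nat.coprime_primes Fact.out hp.out).mpr hrp).pow_left i
  obtain ⟨p', hp', hM3⟩ := threeStep_of_no_normal_sylow hCNM hMnn hnoM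
  haveI := Fact.mk hp'
  have hpp : p' = p := by
    by_contra hne
    exact hM3.1 (le_bot_iff.mp ((Cfsg.Lib.Coprime.pCore_le_pPrimeCore hp.out hne).trans hcore.le))
  subst hpp
  obtain ⟨-, A, -, -, -, -, hLn, hLtop, ⟨n, hn⟩, -⟩ := hM3
  set L := Cfsg.pCore p' M ⊔ A
  haveI := hLn
  -- transfer
  have hperf : commutator G = ⊤ := by
    rcases (inferInstance : (commutator G).Normal).eq_bot_or_eq_top with hc | hc
    · exfalso
      refine hG.2.2.1 ⟨⟨fun x y => ?_⟩⟩
      rw [← commutatorElement_eq_one_iff_mul_comm]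
      have h1 := commutator_mem_commutator (mem_top x) (mem_top y)
      rw [← _root_.commutator_def, hc] at h1
      exact mem_bot.mp h1
    · exact hc
  have hfoc : (P : Subgroup G) ≤ ⁅M, M⁆ := by
    have h1 := commutator_inf_eq_focalSubgroup P
    rw [hperf, top_inf_eq] at h1
    refine h1.le.trans ((Cfsg.Lib.Transfer.focalSubgroup_le_of_control (P : Subgroup G) M
      fun x hx g hg => ?_).trans (commutator_mono hPM le_rfl))
    by_cases hx1 : x = 1
    · exact ⟨1, M.one_mem, by simp [hx1]⟩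
    · refine ⟨g, ?_, rfl⟩
      refine mem_of_fusion P M hloc (zpowers x) (by rwa [Ne, zpowers_eq_bot]) (zpowers_le.mpr hx) g ?_
      rw [MonoidHom.map_zpowers, zpowers_le]
      exact hg
  set PM : Sylow p' M := P.subtype hPM
  have hPMc : (PM : Subgroup M) ≤ commutator M := fun x hx => by
    have h1 : (x : G) ∈ (commutator M).map M.subtype := by
      rw [map_subtype_commutator]
      exact hfoc hx
    obtain ⟨y, hy, he⟩ := h1
    rwa [← Subtype.ext (show (y : G) = x from he)]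
  have hn0 : n ≠ 0 := fun e => hLtop (index_eq_one.mp (by rw [hn, e, pow_zero]))
  have hsup : L ⊔ (PM : Subgroup M) = ⊤ := by
    rw [← index_eq_one]
    obtain ⟨i, -, hi⟩ := (Nat.dvd_prime_pow hp').mp (hn ▸ index_dvd_of_le (le_sup_left : L ≤ L ⊔ (PM : Subgroup M)))
    rw [hi]
    by_contra hne
    have hi0 : i ≠ 0 := fun e => hne (by rw [e, pow_zero])
    exact PM.not_dvd_index ((dvd_pow_self p' hi0).trans
      (hi ▸ index_dvd_of_le (le_sup_right : (PM : Subgroup M) ≤ L ⊔ (PM : Subgroup M))))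
  haveI : Nontrivial (M ⧸ L) := QuotientGroup.nontrivial_iff.mpr hLtop
  refine (Group.IsSolvable.commutator_lt_top_of_nontrivial (M ⧸ L)).ne (eq_top_iff.mpr ?_)
  have hmap : (PM : Subgroup M).map (QuotientGroup.mk' L) = ⊤ := by
    have h1 := congrArg (Subgroup.map (QuotientGroup.mk' L)) hsup
    rwa [Subgroup.map_sup, QuotientGroup.map_mk'_self, bot_sup_eq,
      map_top_of_surjective _ (QuotientGroup.mk'_surjective L)] at h1
  rw [← hmap]
  refine (map_mono hPMc).trans ?_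
  rw [_root_.commutator_def, map_commutator, _root_.commutator_def]
  exact commutator_mono le_top le_top

end MinSimple

/-- A solvable CN-group with a normal Sylow subgroup is not a three step group. -/
theorem not_threeStep_of_normal_sylow [Group.IsSolvable G] (hCN : Cfsg.IsCNGroup G) (hnn : ¬ Group.IsNilpotent G)
    {r : ℕ} [Fact r.Prime] (R : Sylow r G) (hR1 : (R : Subgroup G) ≠ ⊥) (hRn : (R : Subgroup G).Normal)
    (q : ℕ) : ¬ Cfsg.IsThreeStepGroup q G := by
  classical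
  rintro ⟨hFb, A, hAb, -, -, hAq, hLn, hLtop, ⟨n, hn⟩, hfix, hfrob⟩
  set F := Cfsg.pCore q G
  have hF : IsPGroup q F := Cfsg.Lib.Components.isPGroup_pCore q
  obtain ⟨-, -, ⟨E, hE, -, hEfix⟩, hquot⟩ := structure_of_normal_sylow hCN hnn R hR1 hRn
  set K := Cfsg.fittingHall G
  have hKcop := Cfsg.Lib.FittingHall.fittingHall_coprime (M := G)
  haveI hKnil : Group.IsNilpotent K :=
    nilpotent_of_le Cfsg.Lib.FittingHall.fittingHall_le_fitting (Cfsg.Lib.Components.isNilpotent_fitting (G := G))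
  have hKb : K ≠ ⊥ := fun e => by
    haveI : Group.IsNilpotent (R : Subgroup G) := R.2.isNilpotent
    exact hR1 (le_bot_iff.mp (e ▸ le_sSup ⟨hRn, inferInstance, R.card_coprime_index⟩))
  have hAo : ∀ a ∈ A, (orderOf a).Coprime q := fun a ha =>
    hAq.coprime_dvd_left (orderOf_dvd_natCard _ ha)
  have hFo : ∀ f ∈ F, ∃ i, orderOf f ∣ q ^ i := fun f hf => by
    obtain ⟨i, hi⟩ := hF ⟨f, hf⟩
    exact ⟨i, orderOf_dvd_of_pow_eq_one (congrArg Subtype.val hi)⟩
  obtain ⟨v, hv, hv1, hvc⟩ : ∃ v ∈ K, v ≠ 1 ∧ ∀ k ∈ K, k * v = v * k := by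
    haveI : Nontrivial K := (nontrivial_iff_ne_bot K).mpr hKb
    obtain ⟨v, hv, hv1⟩ := (bot_or_exists_ne_one _).resolve_left (Group.IsNilpotent.center_ne_bot K)
    exact ⟨v, v.2, fun e => hv1 (Subtype.ext e),
      fun k hk => congrArg Subtype.val (mem_center_iff.mp hv ⟨k, hk⟩)⟩
  obtain ⟨t, htF, htK, ht1⟩ : ∃ t, t ∈ F ∧ t ∈ K ∧ t ≠ 1 := by
    by_contra hc
    push Not at hc
    have hdis : Disjoint F K := disjoint_def.mpr fun {x} hx hx' => hc x hx hx'
    obtain ⟨f, hf, hf1⟩ := (bot_or_exists_ne_one F).resolve_left hFb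
    obtain ⟨⟨⟨k, hk⟩, ⟨e, he⟩⟩, hke⟩ := hE.surjective f
    have hke' : k * e = f := hke
    have hfv : f * v = v * f :=
      (Subgroup.commute_of_normal_of_disjoint F K inferInstance inferInstance hdis f v hf hv).eq
    have hev : e * v = v * e := by
      have h1 : k⁻¹ * f = e := by rw [← hke', inv_mul_cancel_left]
      rw [← h1, mul_assoc, hfv, ← mul_assoc, ← mul_assoc,
        (show Commute k v from hvc k hk).inv_left.eq]
    have he1 : e = 1 := by
      by_contra he1
      have hmem : v ∈ K ⊓ centralizer ({e} : Set G) := ⟨hv, mem_centralizer_singleton_iff.mpr hev.symm⟩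
      rw [hEfix e he he1, mem_bot] at hmem
      exact hv1 hmem
    exact hf1 (hc f hf (by rw [← hke', he1, mul_one]; exact hk))
  have hsK : ∀ s : ℕ, s.Prime → s ∣ Nat.card K → ¬ s ∣ Nat.card A := by
    intro s hs hsK hsA
    haveI := Fact.mk hs
    obtain ⟨⟨b, hb⟩, hbo⟩ := exists_prime_orderOf_dvd_card' (G := A) s hsA
    rw [Subgroup.orderOf_mk] at hbo
    have hbK : b ∈ K := by
      rw [← QuotientGroup.eq_one_iff, ← orderOf_eq_one_iff]
      refine Nat.eq_one_of_dvd_coprimes hKcop ?_ (by rw [index_eq_card]; exact orderOf_dvd_natCard _)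
      have h1 : orderOf (QuotientGroup.mk' K b) ∣ s := hbo ▸ orderOf_map_dvd (QuotientGroup.mk' K) b
      exact h1.trans hsK
    obtain ⟨i, hi⟩ := hFo t htF
    have hc := commute_of_mem hKnil hbK htK
      ((((hAo b hb).pow_right i)).coprime_dvd_right hi)
    have hmem : t ∈ F ⊓ centralizer ({b} : Set G) := ⟨htF, mem_centralizer_singleton_iff.mpr hc.symm.eq⟩
    rw [hfix b hb (fun e => hs.one_lt.ne (by rw [← hbo, e, orderOf_one])), mem_bot] at hmem
    exact ht1 hmem
  have hKF : K ≤ F := by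
    refine le_sSup ⟨inferInstance, fun x => ⟨Nat.card K, ?_⟩⟩
    refine orderOf_dvd_iff_pow_eq_one.mp ((orderOf_dvd_natCard x).trans ?_)
    rw [Nat.dvd_iff_prime_pow_dvd_dvd]
    intro s j hs hsj
    rcases Nat.eq_zero_or_pos j with rfl | hj
    · simp
    have hsK' : s ∣ Nat.card K := (dvd_pow_self s hj.ne').trans hsj
    have hsq : s ∣ q := by
      by_contra hsq
      have h1 : s ∣ Nat.card ↥(F ⊔ A) * (F ⊔ A).index := by
        rw [card_mul_index]; exact hsK'.trans (card_subgroup_dvd_card K)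
      rcases hs.dvd_mul.mp h1 with h2 | h2
      · rcases hs.dvd_mul.mp (h2.trans (Cfsg.Lib.Components.card_sup_dvd_mul F A)) with h3 | h3
        · haveI := Fact.mk hs
          obtain ⟨⟨f, hf⟩, hfo⟩ := exists_prime_orderOf_dvd_card' (G := F) s h3
          rw [Subgroup.orderOf_mk] at hfo
          obtain ⟨i, hi⟩ := hFo f hf
          exact hsq (hs.dvd_of_dvd_pow (hfo ▸ hi))
        · exact hsK s hs hsK' h3
      · rw [hn] at h2; exact hsq (hs.dvd_of_dvd_pow h2)
    refine (pow_dvd_pow_of_dvd hsq j).trans (pow_dvd_pow q ?_)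
    exact le_of_lt (lt_of_lt_of_le (Nat.lt_pow_self hs.one_lt) (Nat.le_of_dvd Nat.card_pos hsj))
  have hidx : (F ⊔ A).index ≠ 1 := fun e => hLtop (index_eq_one.mp e)
  obtain ⟨r', hr', hr'd⟩ := Nat.exists_prime_and_dvd hidx
  haveI := Fact.mk hr'
  have hr'q : r' ∣ q := hr'.dvd_of_dvd_pow (hn ▸ hr'd)
  obtain ⟨T⟩ := (inferInstance : Nonempty (Sylow r' G))
  obtain ⟨x, hxT, hx⟩ : ∃ x ∈ (T : Subgroup G), x ∉ F ⊔ A := by
    by_contra hc
    push Not at hc
    exact T.not_dvd_index (hr'd.trans (index_dvd_of_le fun x hx => hc x hx))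
  obtain ⟨i, hi⟩ := IsPGroup.iff_orderOf.mp T.2 ⟨x, hxT⟩
  rw [Subgroup.orderOf_mk] at hi
  obtain ⟨a, ha, ha1⟩ := (bot_or_exists_ne_one A).resolve_left hAb
  refine hfrob x hx a ha ha1 (hKF ?_)
  haveI := hquot
  have hcop : (orderOf (x : G ⧸ K)).Coprime (orderOf (a : G ⧸ K)) := by
    refine ((?_ : (orderOf x).Coprime (orderOf a)).coprime_dvd_left
      (orderOf_map_dvd (QuotientGroup.mk' K) x)).coprime_dvd_right (orderOf_map_dvd (QuotientGroup.mk' K) a)
    rw [hi]
    exact (((hAo a ha).coprime_dvd_right hr'q).symm).pow_left i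
  rw [← QuotientGroup.eq_one_iff]
  have hc := (Cfsg.Lib.FittingHall.commute_coprime hcop).eq
  show QuotientGroup.mk' K (x * a * x⁻¹ * a⁻¹) = 1
  rw [map_mul, map_mul, map_mul, map_inv, map_inv]
  show (x : G ⧸ K) * (a : G ⧸ K) * (x : G ⧸ K)⁻¹ * (a : G ⧸ K)⁻¹ = 1
  rw [hc, mul_inv_cancel_right, mul_inv_cancel]

variable (hG : Cfsg.IsMinSimpleOddOrder G) (hCN : Cfsg.IsCNGroup G)

include hG hCN in
/-- There are no three step subgroups. -/
theorem not_threeStep (H : Subgroup G) (q : ℕ) : ¬ Cfsg.IsThreeStepGroup q ↥H := by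
  classical
  intro h
  haveI := hG.2.1
  by_cases hq : q.Prime
  · haveI := Fact.mk hq
    exact not_threeStep_prime hG hCN H h
  have hHtop : H ≠ ⊤ := by
    intro e
    subst e
    haveI : IsSimpleGroup (⊤ : Subgroup G) := IsSimpleGroup.isSimpleGroup_of_surjective
      (Subgroup.topEquiv (G := G)).symm.toMonoidHom Subgroup.topEquiv.symm.surjective
    obtain ⟨hF, A, -, -, -, -, -, htop, -⟩ := h
    rcases (inferInstance : (Cfsg.pCore q (⊤ : Subgroup G)).Normal).eq_bot_or_eq_top with h1 | h1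
    · exact hF h1
    · exact htop (top_le_iff.mp (h1.ge.trans le_sup_left))
  haveI : Group.IsSolvable H := hG.2.2.2 H hHtop
  have hnn : ¬ Group.IsNilpotent H := by
    intro hn
    obtain ⟨hF, A, hA, -, -, hAq, -, -, -, hfix, -⟩ := h
    obtain ⟨a, ha, ha1⟩ := (bot_or_exists_ne_one A).resolve_left hA
    refine hF ((hfix a ha ha1) ▸ le_antisymm (fun f hf => ?_) inf_le_left : Cfsg.pCore q H = ⊥)
    refine ⟨hf, mem_centralizer_singleton_iff.mpr ?_⟩
    obtain ⟨i, hi⟩ := Cfsg.Lib.Components.isPGroup_pCore (G := H) q ⟨f, hf⟩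
    haveI := hn
    exact (Cfsg.Lib.FittingHall.commute_coprime
      (((hAq.pow_right i).symm.coprime_dvd_left
        (orderOf_dvd_of_pow_eq_one (congrArg Subtype.val hi))).coprime_dvd_right
        (orderOf_dvd_natCard _ ha))).eq
  by_cases hno : ∀ (r : ℕ) [Fact r.Prime] (R : Sylow r H), (R : Subgroup H) ≠ ⊥ → ¬ (R : Subgroup H).Normal
  · obtain ⟨r, hr, h3⟩ := threeStep_of_no_normal_sylow (isCN_subgroup hCN H) hnn hno
    haveI := Fact.mk hr
    exact not_threeStep_prime hG hCN H h3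
  · push Not at hno
    obtain ⟨r, hr, R, hR1, hRn⟩ := hno
    haveI := hr
    exact not_threeStep_of_normal_sylow (isCN_subgroup hCN H) hnn R hR1 hRn q h

end Cfsg.Lib.CN
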