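import Cfsg.Agent.Components.PComponents
import Cfsg.Agent.Components.ZJ.FullCenter
import Cfsg.Agent.Coprime.Fitting
import Cfsg.Agent.OddLocal.CNThreeStep

/-!
# `O_{p',p}(G)` in solvable groups of odd order
-/

set_option linter.unusedSectionVars false
set_option linter.style.haveILetI false

namespace Cfsg.Lib.OddP

open Subgroup

universe u

variable {G : Type u} [Group G] [Finite G] {p : ℕ} [Fact p.Prime]

theorem quotient_pPrimeCore_eq_bot : Cfsg.pPrimeCore p (G ⧸ Cfsg.pPrimeCore p G) = ⊥ :=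
  Cfsg.Lib.Components.pPrimeCore_quotient_eq_bot

theorem charP_quotient_pPrimeCore [Group.IsSolvable G] :
    centralizer (Cfsg.pCore p (G ⧸ Cfsg.pPrimeCore p G) : Set (G ⧸ Cfsg.pPrimeCore p G)) ≤
      Cfsg.pCore p (G ⧸ Cfsg.pPrimeCore p G) :=
  Cfsg.Lib.Coprime.centralizer_pCore_le p quotient_pPrimeCore_eq_bot

theorem injOn_pPrimeCore {R : Subgroup G} (hR : IsPGroup p R) :
    Set.InjOn (QuotientGroup.mk' (Cfsg.pPrimeCore p G)) R :=
  Cfsg.Lib.ZJ.injOn_mk (Cfsg.Lib.Components.coprime_card_pPrimeCore p) hR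

theorem odd_quotient (hodd : Odd (Nat.card G)) (N : Subgroup G) : Odd (Nat.card (G ⧸ N)) :=
  hodd.of_dvd_nat N.card_quotient_dvd_card

/-- in a group of odd order everything is `O_{2'}` -/
theorem pPrimeCore_two_eq_top (hodd : Odd (Nat.card G)) : Cfsg.pPrimeCore 2 G = ⊤ :=
  top_le_iff.mp (Cfsg.Lib.Components.le_pPrimeCore (p := 2)
    (by rw [card_top]; exact Nat.coprime_two_right.mpr hodd))

theorem pPrimeCore_le_pPrimePCore : Cfsg.pPrimeCore p G ≤ Cfsg.pPrimePCore p G := fun x hx => by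
  show QuotientGroup.mk' _ x ∈ Cfsg.pCore p _
  rw [show QuotientGroup.mk' (Cfsg.pPrimeCore p G) x = 1 from (QuotientGroup.eq_one_iff x).mpr hx]
  exact one_mem _

end Cfsg.Lib.OddP

namespace Cfsg.Lib.OddP

open Subgroup

universe u

variable {G : Type u} [Group G] [Finite G] {p : ℕ} [Fact p.Prime]

/-- `p`-stability in the normalizer form -/
theorem mk_mem_pCore_normalizer (hodd : Odd (Nat.card G)) (hp : p ≠ 2) {P : Subgroup G}
    (hP : IsPGroup p P) {a : G} (ha : IsPGroup p (zpowers a)) (haN : a ∈ normalizer (P : Set G))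
    (hquad : ⁅⁅P, zpowers a⁆, zpowers a⁆ = ⊥) :
    (QuotientGroup.mk (⟨a, haN⟩ : normalizer (P : Set G)) :
        normalizer (P : Set G) ⧸ (centralizer (P : Set G)).subgroupOf (normalizer (P : Set G))) ∈
      Cfsg.pCore p _ := by
  set N := normalizer (P : Set G)
  have hPN : P ≤ N := le_normalizer
  haveI : (P.subgroupOf N).Normal := normal_in_normalizer
  have hst := Cfsg.Lib.CN.stable_of_odd (L := N) (hodd.of_dvd_nat (card_subgroup_dvd_card N)) hp
  have hmap : (zpowers (⟨a, haN⟩ : N)).map N.subtype = zpowers a := MonoidHom.map_zpowers _ _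
  have h := hst (P.subgroupOf N) (hP.comap_of_injective N.subtype N.subtype_injective) ⟨a, haN⟩
    ((hmap ▸ ha).of_equiv ((zpowers (⟨a, haN⟩ : N)).equivMapOfInjective _ N.subtype_injective).symm)
    (map_injective N.subtype_injective (by
      rw [map_commutator, map_commutator, hmap, subgroupOf_map_subtype, inf_eq_left.mpr hPN, hquad,
        Subgroup.map_bot]))
  have hle : centralizer ((P.subgroupOf N : Subgroup N) : Set N) ≤
      (centralizer (P : Set G)).subgroupOf N := fun x hx =>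
    mem_centralizer_iff.mpr fun y hy =>
      congrArg Subtype.val (mem_centralizer_iff.mp hx (⟨y, hPN hy⟩ : N) hy)
  let f := QuotientGroup.map (centralizer ((P.subgroupOf N : Subgroup N) : Set N))
    ((centralizer (P : Set G)).subgroupOf N) (MonoidHom.id N) hle
  have hf : Function.Surjective f := by
    intro y
    induction y using QuotientGroup.induction_on with
    | H g => exact ⟨QuotientGroup.mk g, rfl⟩
  exact Cfsg.Lib.ZJ.map_pCore_le hf (mem_map_of_mem f h)

theorem quad_of_abelian {P B : Subgroup G} [IsMulCommutative B] (h : P ≤ normalizer (B : Set G))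
    {b : G} (hb : b ∈ B) : ⁅⁅P, zpowers b⁆, zpowers b⁆ = ⊥ :=
  Cfsg.Lib.ZJ.quadratic_of_normalizes h hb

/-- abelian normal subgroups of a Sylow subgroup lie in `O_p` -/
theorem le_pCore_of_abelian_normal {Γ : Type u} [Group Γ] [Finite Γ] (hodd : Odd (Nat.card Γ))
    (hp : p ≠ 2) (hc : centralizer (Cfsg.pCore p Γ : Set Γ) ≤ Cfsg.pCore p Γ) (T : Sylow p Γ)
    {A : Subgroup Γ} (hA : A ≤ (T : Subgroup Γ)) [IsMulCommutative A]
    (hAn : (T : Subgroup Γ) ≤ normalizer (A : Set Γ)) : A ≤ Cfsg.pCore p Γ := by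
  intro a ha
  set Q := Cfsg.pCore p Γ
  have hQp : IsPGroup p Q := Cfsg.Lib.Components.isPGroup_pCore p
  have h1 := Cfsg.Lib.CN.stable_of_odd hodd hp Q hQp a (T.2.to_le (zpowers_le.mpr (hA ha)))
    (Cfsg.Lib.ZJ.quadratic_of_normalizes ((Cfsg.Lib.Thompson.le_sylow_of_normal hQp T).trans hAn) ha)
  set π := QuotientGroup.mk' (centralizer (Q : Set Γ))
  have hLp : IsPGroup p ((Cfsg.pCore p (Γ ⧸ centralizer (Q : Set Γ))).comap π) :=
    (Cfsg.Lib.Components.isPGroup_pCore p).comap_of_ker_isPGroup π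
      (by rw [QuotientGroup.ker_mk']; exact hQp.to_le hc)
  exact Cfsg.Lib.Components.le_pCore hLp (show a ∈ (Cfsg.pCore p _).comap π from h1)

theorem abelian_normal_le_pPrimePCore [Group.IsSolvable G] (hodd : Odd (Nat.card G)) (S : Sylow p G)
    {A : Subgroup G} (hA : A ≤ (S : Subgroup G)) [IsMulCommutative A]
    (hAn : (S : Subgroup G) ≤ normalizer (A : Set G)) : A ≤ Cfsg.pPrimePCore p G := by
  by_cases hp2 : p = 2
  · subst hp2
    exact le_top.trans ((pPrimeCore_two_eq_top hodd).ge.trans pPrimeCore_le_pPrimePCore)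
  set π := QuotientGroup.mk' (Cfsg.pPrimeCore p G)
  refine map_le_iff_le_comap.mp (le_pCore_of_abelian_normal (odd_quotient hodd _) hp2
    charP_quotient_pPrimeCore (S.mapSurjective (QuotientGroup.mk'_surjective _))
    (map_mono hA) ?_)
  exact (map_mono hAn).trans (le_normalizer_map π)

end Cfsg.Lib.OddP
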