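import Cfsg.Agent.OddLocal.CoprimeFixed
import Cfsg.Agent.OddLocal.PLengthBasic

/-!
# Invariant `p'`-subgroups lie in the `p'`-core
-/

namespace Cfsg.Lib.OddLocal.InvariantCore

open Subgroup

universe u

variable {G : Type u} [Group G] [Finite G] {p : ℕ} [Fact p.Prime]

/-- The quotient by the `p'`-core is self-centralising at the `p`-core. -/
def QuotientConstrained (p : ℕ) (G : Type u) [Group G] : Prop :=
  centralizer (Cfsg.pCore p (G ⧸ Cfsg.pPrimeCore p G) : Set (G ⧸ Cfsg.pPrimeCore p G)) ≤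
    Cfsg.pCore p (G ⧸ Cfsg.pPrimeCore p G)

theorem quotientConstrained_of_solvable [Group.IsSolvable G] : QuotientConstrained p G :=
  Cfsg.Lib.OddP.charP_quotient_pPrimeCore

theorem quotientConstrained_of_isPConstrained (h : Cfsg.IsPConstrained p G) :
    QuotientConstrained p G := by
  set N := Cfsg.pPrimeCore p G with hN
  set π := QuotientGroup.mk' N with hπ
  have hπs : Function.Surjective π := QuotientGroup.mk'_surjective N
  set U := Cfsg.pCore p (G ⧸ N) with hU
  set L := Cfsg.pPrimePCore p G with hL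
  obtain ⟨P⟩ : Nonempty (Sylow p L) := inferInstance
  let π' : L →* U := (π.comp L.subtype).codRestrict U fun x => x.2
  have hπ's : Function.Surjective π' := fun u => by
    obtain ⟨x, hx⟩ := hπs u
    exact ⟨⟨x, by show π x ∈ U; rw [hx]; exact u.2⟩, Subtype.ext hx⟩
  have hPtop : (P : Subgroup L).map π' = ⊤ := by
    have h1 : (⊤ : Subgroup U) ≤ (P.mapSurjective hπ's : Sylow p U) :=
      ((P.mapSurjective hπ's).3 ((Cfsg.Lib.Components.isPGroup_pCore (G := G ⧸ N) p).of_equiv
        (topEquiv (G := U)).symm) le_top).le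
    exact top_le_iff.mp h1
  intro z hz
  obtain ⟨g, rfl⟩ := hπs z
  set P₀ := (P : Subgroup L).map L.subtype with hP₀
  -- `g` fixes `P₀` modulo `N`
  have hcomm : ∀ x ∈ P₀, g * x * g⁻¹ * x⁻¹ ∈ N := by
    rintro _ ⟨x, hx, rfl⟩
    rw [← QuotientGroup.eq_one_iff]
    show π (g * x * g⁻¹ * (x : G)⁻¹) = 1
    have h1 := mem_centralizer_iff.mp hz (π x) (show π x ∈ U from x.2)
    simp only [map_mul, map_inv]
    rw [← h1, mul_inv_cancel_right, mul_inv_cancel]
  have hP₀p : IsPGroup p P₀ := P.2.map _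
  have hcopN : (Nat.card N).Coprime p := Cfsg.Lib.Components.coprime_card_pPrimeCore p
  -- every element of `L` is an element of `N` times one of `P₀`
  have hLP : ∀ x ∈ L, x ∈ N ⊔ P₀ := by
    intro x hx
    have h1 : π' ⟨x, hx⟩ ∈ (P : Subgroup L).map π' := hPtop ▸ mem_top _
    obtain ⟨y, hy, hyx⟩ := h1
    have h2 : π (y : G) = π x := congrArg Subtype.val hyx
    have h3 : x * (y : G)⁻¹ ∈ N := by
      rw [← QuotientGroup.eq_one_iff]
      show π (x * (y : G)⁻¹) = 1
      rw [map_mul, map_inv, h2, mul_inv_cancel]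
    rw [show x = (x * (y : G)⁻¹) * y by group]
    exact mul_mem_sup h3 ⟨y, hy, rfl⟩
  obtain ⟨k, hk⟩ := IsPGroup.iff_card.mp hP₀p
  have hcop : (Nat.card N).Coprime (Nat.card P₀) := by rw [hk]; exact hcopN.pow_right k
  obtain ⟨n, hn, hneq⟩ := Cfsg.Lib.Coprime.exists_conj_eq_of_coprime (N := N) (H := P₀)
    (K := Cfsg.Lib.Coprime.conjMap g P₀) le_normalizer_of_normal hcop
    (Or.inr (have := hP₀p.isNilpotent; inferInstance))
    (by
      intro x hx
      rw [Cfsg.Lib.Coprime.mem_conjMap] at hx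
      have h1 := mul_mem_sup (hcomm _ hx) hx
      simpa [mul_assoc] using h1)
    (Cfsg.Lib.Coprime.card_conjMap _ _)
  -- the corrected element centralizes `P₀`
  have hcent : n⁻¹ * g ∈ centralizer (P₀ : Set G) := by
    refine mem_centralizer_iff.mpr fun x hx => ?_
    have hmem : n⁻¹ * g * x * (n⁻¹ * g)⁻¹ ∈ P₀ := by
      have h1 : g * x * g⁻¹ ∈ Cfsg.Lib.Coprime.conjMap g P₀ := by
        rw [Cfsg.Lib.Coprime.mem_conjMap]; simpa [mul_assoc] using hx
      rw [hneq, Cfsg.Lib.Coprime.mem_conjMap] at h1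
      simpa [mul_assoc] using h1
    have h2 : n⁻¹ * g * x * (n⁻¹ * g)⁻¹ * x⁻¹ ∈ N := by
      rw [show n⁻¹ * g * x * (n⁻¹ * g)⁻¹ * x⁻¹ =
        n⁻¹ * ((g * x * g⁻¹ * x⁻¹) * (x * n * x⁻¹)) by group]
      exact mul_mem (inv_mem hn) (mul_mem (hcomm x hx) ((inferInstance : N.Normal).conj_mem n hn x))
    have h3 := Cfsg.Lib.Coprime.eq_one_of_coprime hcop h2 (mul_mem hmem (inv_mem hx))
    have h4 := mul_inv_eq_one.mp h3
    exact (mul_inv_eq_iff_eq_mul.mp h4).symm
  have hgL : n⁻¹ * g ∈ L := h P hcent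
  show π g ∈ U
  have h5 : π (n⁻¹ * g) ∈ U := hgL
  rwa [map_mul, map_inv, show π n = 1 from (QuotientGroup.eq_one_iff n).mpr hn, inv_one, one_mul] at h5

/-- An invariant `p'`-subgroup of a constrained group lies in the `p'`-core. -/
theorem le_pPrimeCore (hc : QuotientConstrained p G)
    (h2 : p = 2 → ∀ S : Subgroup G, IsPGroup p S → ∀ x ∈ S, ∀ y ∈ S, ∀ z ∈ S,
      (x⁻¹ * (y * x * y⁻¹)) * z = z * (x⁻¹ * (y * x * y⁻¹)))
    {A Y : Subgroup G} (hA : IsPGroup p A)
    (hAfull : ∀ x ∈ centralizer (A : Set G), IsPGroup p (zpowers x) → x ∈ A)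
    (hY : (Nat.card Y).Coprime p) (hAY : A ≤ normalizer (Y : Set G)) :
    Y ≤ Cfsg.pPrimeCore p G := by
  set N := Cfsg.pPrimeCore p G with hN
  set π := QuotientGroup.mk' N with hπ
  have hπs : Function.Surjective π := QuotientGroup.mk'_surjective N
  set U := Cfsg.pCore p (G ⧸ N) with hU
  set A' := A.map π
  set Y' := Y.map π
  have hUp : IsPGroup p U := Cfsg.Lib.Components.isPGroup_pCore p
  have hA'p : IsPGroup p A' := hA.map π
  have hY'c : (Nat.card Y').Coprime p := hY.coprime_dvd_left (card_map_dvd _ _)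
  have hA'Y' : A' ≤ normalizer (Y' : Set (G ⧸ N)) :=
    (map_mono hAY).trans (le_normalizer_map _)
  have hA'U : A' ≤ normalizer (U : Set (G ⧸ N)) := le_normalizer_of_normal
  have hY'U : Y' ≤ normalizer (U : Set (G ⧸ N)) := le_normalizer_of_normal
  have hcopN : (Nat.card N).Coprime p := Cfsg.Lib.Components.coprime_card_pPrimeCore p
  -- fixed points lie in the image of `A`
  have hfix : U ⊓ centralizer (A' : Set (G ⧸ N)) ≤ centralizer (Y' : Set (G ⧸ N)) := by
    intro z hz
    obtain ⟨hzU, hzA⟩ := mem_inf.mp hz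
    have hzA' : z ∈ A' := by
      obtain ⟨g, rfl⟩ := hπs z
      obtain ⟨k, hk⟩ := IsPGroup.iff_card.mp hA
      obtain ⟨n, hn, hgn⟩ := Cfsg.Lib.Coprime.exists_fixed_of_commutator_mem
        (A := A) (N := N) le_normalizer_of_normal (by rw [hk]; exact (hcopN.pow_right k).symm)
        (Or.inl (have := hA.isNilpotent; inferInstance))
        (k := g) (le_normalizer_of_normal (K := ⊤) (mem_top g)) fun a ha => by
          rw [← QuotientGroup.eq_one_iff]
          show π (a * g * a⁻¹ * g⁻¹) = 1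
          have h1 := mem_centralizer_iff.mp hzA (π a) (mem_map_of_mem π ha)
          simp only [map_mul, map_inv]
          rw [h1, mul_inv_cancel_right, mul_inv_cancel]
      set x := g * n
      have hπx : π x = π g := by
        rw [map_mul, show π n = 1 from (QuotientGroup.eq_one_iff n).mpr hn, mul_one]
      obtain ⟨j, hj⟩ := hUp ⟨π g, hzU⟩
      have hj' : π g ^ p ^ j = 1 := congrArg Subtype.val hj
      obtain ⟨l, m, hm, hcard⟩ := Nat.exists_eq_pow_mul_and_not_dvd (n := orderOf x)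
        (orderOf_pos x).ne' p (Fact.out : p.Prime).ne_one
      have hcop : m.Coprime (p ^ j) :=
        ((Fact.out : p.Prime).coprime_iff_not_dvd.mpr hm).symm.pow_right j
      obtain ⟨i, hi⟩ := exists_pow_eq_self_of_coprime (x := π g) (n := m)
        (hcop.coprime_dvd_right (orderOf_dvd_of_pow_eq_one hj'))
      have hxA : (x ^ m) ^ i ∈ A := hAfull _ (pow_mem (pow_mem hgn m) i) (by
        refine IsPGroup.of_card_dvd_pow (n := l) ?_
        rw [Nat.card_zpowers]
        refine (orderOf_pow_dvd i).trans (orderOf_dvd_of_pow_eq_one ?_)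
        rw [← pow_mul, mul_comm m, ← hcard, pow_orderOf_eq_one])
      refine ⟨_, hxA, ?_⟩
      rw [map_pow, map_pow, hπx, hi]
    refine mem_centralizer_iff.mpr fun y hy => ?_
    have h1 : y * z * y⁻¹ * z⁻¹ ∈ U :=
      mul_mem ((mem_normalizer_iff.mp (hY'U hy) z).mp hzU) (inv_mem hzU)
    have h2' : y * z * y⁻¹ * z⁻¹ ∈ Y' := by
      rw [mul_assoc, mul_assoc]
      refine mul_mem hy ?_
      rw [← mul_assoc]
      exact (mem_normalizer_iff.mp (hA'Y' hzA') _).mp (inv_mem hy)
    obtain ⟨k, hk⟩ := IsPGroup.iff_card.mp hUp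
    have h3 := Cfsg.Lib.Coprime.eq_one_of_coprime (N := Y') (H := U)
      (by rw [hk]; exact hY'c.pow_right k) h2' h1
    exact mul_inv_eq_iff_eq_mul.mp (mul_inv_eq_one.mp h3)
  have hYU : Y' ≤ centralizer (U : Set (G ⧸ N)) := by
    by_cases hp : p = 2
    · refine CoprimeFixed.le_centralizer_of_fix_central (p := p) hY'c hUp hA'Y' hA'U hY'U hfix
        fun u hu a ha v hv => ?_
      have hT : IsPGroup p (U ⊔ A' : Subgroup (G ⧸ N)) := hUp.to_sup_of_normal_left hA'p
      obtain ⟨T, hT'⟩ := hT.exists_le_sylow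
      obtain ⟨S, hS⟩ := Sylow.mapSurjective_surjective hπs p T
      have hin : ∀ w ∈ U ⊔ A', ∃ s ∈ (S : Subgroup G), π s = w := fun w hw => by
        have h1 : w ∈ (T : Subgroup (G ⧸ N)) := hT' hw
        rw [← hS] at h1
        exact h1
      obtain ⟨u', hu', rfl⟩ := hin u (mem_sup_left hu)
      obtain ⟨a', ha', rfl⟩ := hin a (mem_sup_right ha)
      obtain ⟨v', hv', rfl⟩ := hin v hv
      rw [← map_inv, ← map_inv, ← map_mul, ← map_mul, ← map_mul, ← map_mul, ← map_mul,
        h2 hp _ S.2 u' hu' a' ha' v' hv']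
    · exact CoprimeFixed.le_centralizer_of_fix hp hA'p hY'c hA'Y' _ U rfl hUp hA'U hY'U hfix
  have hY'bot : Y' = ⊥ := by
    obtain ⟨k, hk⟩ := IsPGroup.iff_card.mp hUp
    exact (eq_bot_iff_forall _).mpr fun y hy =>
      Cfsg.Lib.Coprime.eq_one_of_coprime (N := Y') (H := U) (by rw [hk]; exact hY'c.pow_right k) hy
        (hc (hYU hy))
  intro y hy
  rw [← QuotientGroup.eq_one_iff]
  have h1 : π y ∈ Y' := mem_map_of_mem π hy
  rwa [hY'bot, mem_bot] at h1

end Cfsg.Lib.OddLocal.InvariantCore
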