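import Cfsg.Agent.OddLocal.PLengthBasic
import Cfsg.Agent.GaschutzYen.Basic
import Cfsg.Agent.GaschutzYen.Omega
import Cfsg.Agent.Components.ZJ.PCompl

/-!
# Groups of `p`-length one
-/

set_option linter.unusedSectionVars false
set_option linter.style.haveILetI false

namespace Cfsg.Lib.OddP

open Subgroup

universe u

variable {G : Type u} [Group G] [Finite G] {p : ℕ} [Fact p.Prime]

theorem upperPSeries_one : (Cfsg.upperPSeries p G 1).1 = Cfsg.pPrimeCore p G := by
  have key : ∀ (U : Subgroup G) [U.Normal], U = ⊥ →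
      (Cfsg.pPrimeCore p (G ⧸ U)).comap (QuotientGroup.mk' U) = Cfsg.pPrimeCore p G := by
    intro U _ hU
    refine Cfsg.Lib.Components.comap_pPrimeCore_of_coprime_ker (QuotientGroup.mk'_surjective U) ?_
    rw [QuotientGroup.ker_mk', hU, card_bot]
    exact Nat.coprime_one_left p
  exact key _ rfl

theorem upperPSeries_two : (Cfsg.upperPSeries p G 2).1 = Cfsg.pPrimePCore p G := by
  have key : ∀ (U : Subgroup G) [U.Normal], U = Cfsg.pPrimeCore p G →
      (Cfsg.pCore p (G ⧸ U)).comap (QuotientGroup.mk' U) = Cfsg.pPrimePCore p G := by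
    intro U _ hU; subst hU; rfl
  exact key _ upperPSeries_one

instance : (Cfsg.pPrimePCore p G).Normal := Subgroup.Normal.comap inferInstance _

/-- `p`-length at most one means that `O_{p',p}(G)` has index prime to `p` -/
theorem pLengthLE_one_iff : Cfsg.PLengthLE p 1 G ↔ ((Cfsg.pPrimePCore p G).index).Coprime p := by
  have key : ∀ (U : Subgroup G) [U.Normal], U = Cfsg.pPrimePCore p G →
      ((Cfsg.pPrimeCore p (G ⧸ U)).comap (QuotientGroup.mk' U) = ⊤ ↔
        ((Cfsg.pPrimePCore p G).index).Coprime p) := by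
    intro U _ hU
    constructor
    · intro h
      have h2 : Cfsg.pPrimeCore p (G ⧸ U) = ⊤ := eq_top_iff.mpr fun y _ => by
        obtain ⟨x, rfl⟩ := QuotientGroup.mk'_surjective U y
        exact h.ge (mem_top x)
      have h3 := Cfsg.Lib.Components.coprime_card_pPrimeCore (G := G ⧸ U) p
      rwa [h2, card_top, ← index_eq_card, hU] at h3
    · intro h
      rw [eq_top_iff]
      intro x _
      have htop : (⊤ : Subgroup (G ⧸ U)) ≤ Cfsg.pPrimeCore p (G ⧸ U) :=
        Cfsg.Lib.Components.le_pPrimeCore (by rwa [card_top, ← index_eq_card, hU])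
      exact htop (mem_top _)
  exact key _ upperPSeries_two

/-- with `p`-length one, `O_{p',p}(G)` contains every `p`-subgroup -/
theorem le_pPrimePCore_of_pLength (h : Cfsg.PLengthLE p 1 G) {Q : Subgroup G} (hQ : IsPGroup p Q) :
    Q ≤ Cfsg.pPrimePCore p G := by
  intro x hx
  rw [← QuotientGroup.eq_one_iff (N := Cfsg.pPrimePCore p G), ← orderOf_eq_one_iff]
  obtain ⟨k, hk⟩ := hQ ⟨x, hx⟩
  refine Nat.eq_one_of_dvd_coprimes ((pLengthLE_one_iff.mp h).pow_right k) ?_
    (orderOf_dvd_of_pow_eq_one (by rw [← QuotientGroup.mk_pow, show x ^ p ^ k = 1 from congrArg Subtype.val hk]; rfl))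
  rw [Subgroup.index_eq_card]
  exact orderOf_dvd_natCard _

theorem pPrimePCore_eq_sup (h : Cfsg.PLengthLE p 1 G) (S : Sylow p G) :
    Cfsg.pPrimePCore p G = Cfsg.pPrimeCore p G ⊔ (S : Subgroup G) := by
  refine le_antisymm ?_ (sup_le pPrimeCore_le_pPrimePCore (le_pPrimePCore_of_pLength h S.2))
  intro x hx
  set π := QuotientGroup.mk' (Cfsg.pPrimeCore p G)
  have h1 : π x ∈ (S : Subgroup G).map π :=
    Cfsg.Lib.Thompson.le_sylow_of_normal (Cfsg.Lib.Components.isPGroup_pCore p)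
      (S.mapSurjective (QuotientGroup.mk'_surjective _)) (show π x ∈ Cfsg.pCore p _ from hx)
  have h2 : x ∈ ((S : Subgroup G).map π).comap π := h1
  rwa [comap_map_eq, QuotientGroup.ker_mk', sup_comm] at h2

theorem pPrimeCore_sup_normalizer (h : Cfsg.PLengthLE p 1 G) (S : Sylow p G) :
    Cfsg.pPrimeCore p G ⊔ normalizer ((S : Subgroup G) : Set G) = ⊤ := by
  have hfr := Cfsg.Lib.ZJ.sup_normalizer_inf_eq_top (Cfsg.pPrimePCore p G) S
  rw [inf_eq_left.mpr (le_pPrimePCore_of_pLength h S.2), pPrimePCore_eq_sup h S, sup_assoc,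
    sup_eq_right.mpr le_normalizer] at hfr
  exact hfr

theorem exists_conj_le_sylow (h : Cfsg.PLengthLE p 1 G) (S : Sylow p G) {Q : Subgroup G}
    (hQ : IsPGroup p Q) : ∃ x ∈ centralizer ((Q ⊓ (S : Subgroup G) : Subgroup G) : Set G),
      Q.map (MulAut.conj x).toMonoidHom ≤ (S : Subgroup G) := by
  obtain ⟨R, hR⟩ := hQ.exists_le_sylow
  obtain ⟨y, hy⟩ := MulAction.exists_smul_eq G S R
  obtain ⟨n, hn, m, hm, rfl⟩ := mem_sup_of_normal_left.mp
    ((pPrimeCore_sup_normalizer h S).ge (mem_top y))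
  have hmS : ∀ s ∈ (S : Subgroup G), m * s * m⁻¹ ∈ (S : Subgroup G) := fun s hs =>
    (mem_normalizer_iff.mp hm s).mp hs
  have hin : ∀ q ∈ Q, n⁻¹ * q * n ∈ (S : Subgroup G) := by
    intro q hq
    have h1 : q ∈ ((n * m) • S : Sylow p G) := hy ▸ hR hq
    obtain ⟨s, hs, rfl⟩ := h1
    have h2 := hmS s hs
    convert h2 using 1
    show n⁻¹ * (n * m * s * (n * m)⁻¹) * n = m * s * m⁻¹
    group
  refine ⟨n⁻¹, mem_centralizer_iff.mpr ?_, ?_⟩
  · rintro q ⟨hqQ, hqS⟩
    have h1 : q⁻¹ * (n⁻¹ * q * n) ∈ (S : Subgroup G) := mul_mem (inv_mem hqS) (hin q hqQ)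
    have h2 : q⁻¹ * (n⁻¹ * q * n) ∈ Cfsg.pPrimeCore p G := by
      rw [show q⁻¹ * (n⁻¹ * q * n) = (q⁻¹ * n⁻¹ * q) * n by group]
      refine mul_mem ?_ hn
      simpa using (inferInstance : (Cfsg.pPrimeCore p G).Normal).conj_mem _ (inv_mem hn) q⁻¹
    have h3 := injOn_pPrimeCore S.2 h1 (one_mem (S : Subgroup G)) (by
      rw [map_one]; exact (QuotientGroup.eq_one_iff _).mpr h2)
    rw [inv_mul_eq_one] at h3
    exact mul_inv_eq_iff_eq_mul.mp (by rw [inv_inv]; exact h3.symm) |>.symm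
  · rintro _ ⟨q, hq, rfl⟩
    simpa using hin q hq

/-- `p'`-subgroups normalized by a maximal elementary abelian `p`-subgroup -/
theorem le_pPrimeCore_of_maximal_elementary [Group.IsSolvable G] (hp : p ≠ 2)
    (h : Cfsg.PLengthLE p 1 G) {E L : Subgroup G} (hE : Cfsg.IsElementaryAbelian p E)
    (hEmax : ∀ B : Subgroup G, Cfsg.IsElementaryAbelian p B → E ≤ B → B = E)
    (hL : (Nat.card L).Coprime p) (hEL : E ≤ normalizer (L : Set G)) : L ≤ Cfsg.pPrimeCore p G := by
  set N := Cfsg.pPrimeCore p G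
  set π := QuotientGroup.mk' N with hπ
  set T := Cfsg.pCore p (G ⧸ N) with hT
  have hTp : IsPGroup p T := Cfsg.Lib.Components.isPGroup_pCore p
  have hEp : IsPGroup p E := fun e => ⟨1, by rw [pow_one]; exact Subtype.ext (hE.2 e e.2)⟩
  obtain ⟨S, hES⟩ := hEp.exists_le_sylow
  have hST : (S : Subgroup G).map π ≤ T := map_le_iff_le_comap.mpr (le_pPrimePCore_of_pLength h S.2)
  have hTS : T ≤ (S : Subgroup G).map π :=
    Cfsg.Lib.Thompson.le_sylow_of_normal hTp (S.mapSurjective (QuotientGroup.mk'_surjective _))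
  have hinj := injOn_pPrimeCore S.2
  set Eb := E.map π with hEb
  set Lb := L.map π
  have hEbT : Eb ≤ T := (map_mono hES).trans hST
  have hLb : (Nat.card Lb).Coprime p := hL.coprime_dvd_left (card_map_dvd L π)
  have hEbL : Eb ≤ normalizer (Lb : Set (G ⧸ N)) := (map_mono hEL).trans (le_normalizer_map π)
  -- `L` centralizes `E` modulo `N`
  have hcEL : Eb ≤ centralizer (Lb : Set (G ⧸ N)) := by
    intro e he
    rw [mem_centralizer_iff]
    intro l hl
    have h1 : e * l * e⁻¹ * l⁻¹ ∈ Lb := mul_mem ((mem_normalizer_iff.mp (hEbL he) l).mp hl) (inv_mem hl)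
    have h2 : e * l * e⁻¹ * l⁻¹ ∈ T := by
      rw [show e * l * e⁻¹ * l⁻¹ = e * (l * e⁻¹ * l⁻¹) by group]
      exact mul_mem (hEbT he) ((inferInstance : T.Normal).conj_mem _ (inv_mem (hEbT he)) l)
    obtain ⟨j, hj⟩ := IsPGroup.iff_card.mp hTp
    have h3 := Cfsg.Lib.Coprime.eq_one_of_coprime
      (show (Nat.card Lb).Coprime (Nat.card T) from hj ▸ hLb.pow_right j) h1 h2
    rw [mul_inv_eq_one, mul_inv_eq_iff_eq_mul] at h3
    exact h3.symm
  -- hence centralizes the elements of order `p` of `C_T(E)`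
  set U := T ⊓ centralizer (Eb : Set (G ⧸ N)) with hU
  have hUp : IsPGroup p U := hTp.to_le inf_le_left
  have hLT : Lb ≤ normalizer (T : Set (G ⧸ N)) := le_normalizer_of_normal
  have hLU : Lb ≤ normalizer (U : Set (G ⧸ N)) := by
    refine Cfsg.Lib.Coprime.le_normalizer_inf hLT ((le_centralizer_iff.mp hcEL).trans ?_)
    intro g hg
    have key : ∀ g ∈ centralizer (Eb : Set (G ⧸ N)), ∀ x ∈ centralizer (Eb : Set (G ⧸ N)),
        g * x * g⁻¹ ∈ centralizer (Eb : Set (G ⧸ N)) := fun g hg x hx =>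
      mul_mem (mul_mem hg hx) (inv_mem hg)
    exact Cfsg.Lib.Coprime.mem_normalizer_of_conj_mem (key g hg)
      fun x hx => mul_mem (mul_mem (inv_mem hg) hx) hg
  have homega : ∀ u ∈ U, u ^ p = 1 → ∀ r ∈ Lb, r * u = u * r := by
    intro u hu hup r hr
    suffices huE : u ∈ Eb from mem_centralizer_iff.mp (hcEL huE) r hr
    obtain ⟨x, hx, rfl⟩ := hTS hu.1
    have hxp : x ^ p = 1 := hinj (pow_mem hx p) (one_mem (S : Subgroup G))
      (by rw [map_pow, map_one]; exact hup)
    have hxE : ∀ e ∈ E, e * x = x * e := fun e he =>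
      hinj (mul_mem (hES he) hx) (mul_mem hx (hES he)) (by
        rw [map_mul, map_mul]; exact mem_centralizer_iff.mp hu.2 _ (mem_map_of_mem π he))
    have hcE := hE.1
    have hgen : E ⊔ zpowers x = closure ((E : Set G) ∪ {x}) := by
      rw [Subgroup.closure_union, closure_eq, zpowers_eq_closure]
    have hc : IsMulCommutative ↥(E ⊔ zpowers x) := by
      rw [hgen]
      refine isMulCommutative_closure ?_
      rintro a (ha | ha) b (hb | hb)
      · exact congrArg Subtype.val (hcE.is_comm.comm (⟨a, ha⟩ : E) ⟨b, hb⟩)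
      · rw [Set.mem_singleton_iff] at hb
        exact hb ▸ hxE a ha
      · rw [Set.mem_singleton_iff] at ha
        exact ha ▸ (hxE b hb).symm
      · rw [Set.mem_singleton_iff] at ha hb
        rw [ha, hb]
    have hEl : Cfsg.IsElementaryAbelian p (E ⊔ zpowers x) := by
      refine ⟨hc, fun y hy => ?_⟩
      haveI := hc
      obtain ⟨a, ha, b, hb, rfl⟩ := (Cfsg.Lib.Coprime.mem_sup_of_le_normalizer (x := y)
        ((zpowers_le.mpr (mem_centralizer_iff.mpr hxE)).trans
          (Cfsg.Lib.ZJ.centralizer_le_normalizer' E))).mp hy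
      obtain ⟨i, rfl⟩ := hb
      rw [(show Commute a (x ^ i) from ((show Commute a x from hxE a ha).zpow_right i)).mul_pow,
        hE.2 a ha, one_mul, ← zpow_natCast, ← zpow_mul, mul_comm, zpow_mul, zpow_natCast, hxp, one_zpow]
    have hxE' := (hEmax _ hEl le_sup_left).le (mem_sup_right (mem_zpowers x))
    exact mem_map_of_mem π hxE'
  have hcU : Lb ≤ centralizer (U : Set (G ⧸ N)) :=
    Cfsg.Lib.GaschutzYen.le_centralizer_of_omega hp _ rfl hUp hLU hLb homega
  have hcT : Lb ≤ centralizer (T : Set (G ⧸ N)) :=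
    Cfsg.Lib.Coprime.pq_lemma (hEp.map π) hLb hTp hcEL (hEbT.trans le_normalizer) hLT
      (le_centralizer_iff.mp hcU)
  have hbot : Lb = ⊥ := by
    obtain ⟨j, hj⟩ := IsPGroup.iff_card.mp hTp
    refine eq_bot_iff.mpr fun l hl => mem_bot.mpr ?_
    exact Cfsg.Lib.Coprime.eq_one_of_coprime
      (show (Nat.card Lb).Coprime (Nat.card T) from hj ▸ hLb.pow_right j) hl
      ((hcT.trans charP_quotient_pPrimeCore) hl)
  exact (map_eq_bot_iff L).mp hbot |>.trans (QuotientGroup.ker_mk' N).le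

end Cfsg.Lib.OddP
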