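import Cfsg.Agent.OddLocal.FixedPrimeSubgroup
import Cfsg.Agent.OddLocal.PLengthOne
import Cfsg.Agent.Coprime.Generation
import Cfsg.Agent.Coprime.InvariantHall
import Cfsg.Agent.Components.GenFitting

/-!
# The commutator with a complement has `p`-length one
-/

set_option linter.unusedSectionVars false
set_option linter.style.haveILetI false

namespace Cfsg.Lib.OddP

open Subgroup Cfsg.Lib.Coprime
open scoped commutatorElement

universe u

variable {G : Type u} [Group G] [Finite G] {p : ℕ} [hp : Fact p.Prime]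

theorem le_normalizer_map_of_char {F : Subgroup G} (U : Subgroup F) [hU : U.Characteristic] :
    normalizer (F : Set G) ≤ normalizer ((U.map F.subtype : Subgroup G) : Set G) := by
  have key : ∀ g ∈ normalizer (F : Set G), ∀ z ∈ U.map F.subtype, g * z * g⁻¹ ∈ U.map F.subtype := by
    rintro g hg - ⟨z, hz, rfl⟩
    exact ⟨F.normalizerMonoidHom ⟨g, hg⟩ z, characteristic_iff_le_comap.mp hU _ hz, rfl⟩
  exact fun g hg => mem_normalizer_of_conj_mem (key g hg)
    fun z hz => by simpa using key g⁻¹ (inv_mem hg) z hz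

theorem isCyclic_of_zgroup {C A : Subgroup G} (hC : IsZGroup C) (hAC : A ≤ C)
    [Group.IsNilpotent A] : IsCyclic A := by
  haveI := IsZGroup.of_injective (f := inclusion hAC) (inclusion_injective hAC)
  infer_instance

theorem card_le_of_cyclic_pow {M : Type u} [Group M] [IsCyclic M] {n : ℕ} (hn : 0 < n)
    (h : ∀ m : M, m ^ n = 1) : Nat.card M ≤ n := by
  obtain ⟨g, hg⟩ := IsCyclic.exists_generator (α := M)
  rw [← orderOf_eq_card_of_forall_mem_zpowers hg]
  exact orderOf_le_of_pow_eq_one hn (h g)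

theorem mem_of_pow_coprime {N : Subgroup G} [N.Normal] {y : G} {c d : ℕ} (hc : y ^ c ∈ N)
    (hd : y ^ d = 1) (hcd : c.Coprime d) : y ∈ N := by
  rw [← QuotientGroup.eq_one_iff, ← orderOf_eq_one_iff]
  refine Nat.eq_one_of_dvd_coprimes hcd (orderOf_dvd_of_pow_eq_one ?_) (orderOf_dvd_of_pow_eq_one ?_)
  · rw [← QuotientGroup.mk_pow]
    exact (QuotientGroup.eq_one_iff _).mpr hc
  · rw [← QuotientGroup.mk_pow, hd]
    rfl

theorem pLengthLE_one_of_normal_pgroup (B : Subgroup G) [B.Normal] (hB : IsPGroup p B)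
    (hidx : B.index.Coprime p) : Cfsg.PLengthLE p 1 G := by
  refine pLengthLE_one_iff.mpr (hidx.coprime_dvd_left (index_dvd_of_le ?_))
  haveI : (B.map (QuotientGroup.mk' (Cfsg.pPrimeCore p G))).Normal :=
    Subgroup.Normal.map inferInstance _ (QuotientGroup.mk'_surjective _)
  exact map_le_iff_le_comap.mp (Cfsg.Lib.Components.le_pCore (hB.map _))

theorem pLengthLE_one_of_coprime_ker {G' : Type u} [Group G'] [Finite G'] (f : G →* G')
    (hf : Function.Surjective f) (hker : (Nat.card f.ker).Coprime p) (h : Cfsg.PLengthLE p 1 G') :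
    Cfsg.PLengthLE p 1 G := by
  refine pLengthLE_one_iff.mpr ((pLengthLE_one_iff.mp h).coprime_dvd_left ?_)
  rw [← index_comap_of_surjective _ hf]
  refine index_dvd_of_le fun x hx => ?_
  let g := QuotientGroup.map (Cfsg.pPrimeCore p G) (Cfsg.pPrimeCore p G') f
    (Cfsg.Lib.Components.comap_pPrimeCore_of_coprime_ker hf hker).ge
  have hg : Function.Injective g := by
    rw [injective_iff_map_eq_one]
    intro a ha
    induction a using QuotientGroup.induction_on with
    | H a =>
      rw [QuotientGroup.eq_one_iff]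
      exact (Cfsg.Lib.Components.comap_pPrimeCore_of_coprime_ker hf hker).le
        ((QuotientGroup.eq_one_iff (f a)).mp ha)
  haveI : ((Cfsg.pCore p (G' ⧸ Cfsg.pPrimeCore p G')).comap g).Normal :=
    Subgroup.Normal.comap inferInstance _
  exact Cfsg.Lib.Components.le_pCore
    ((Cfsg.Lib.Components.isPGroup_pCore p).comap_of_injective g hg)
    (show (QuotientGroup.mk x : G ⧸ Cfsg.pPrimeCore p G) ∈
      (Cfsg.pCore p (G' ⧸ Cfsg.pPrimeCore p G')).comap g from hx)

theorem pLengthLE_one_of_pgroup_ker {G' : Type u} [Group G'] [Finite G'] (f : G →* G')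
    (hf : Function.Surjective f) (hker : IsPGroup p f.ker) (hbot : Cfsg.pPrimeCore p G' = ⊥)
    (h : Cfsg.PLengthLE p 1 G') : Cfsg.PLengthLE p 1 G := by
  have h1 : IsPGroup p (Cfsg.pPrimePCore p G') :=
    (Cfsg.Lib.Components.isPGroup_pCore p).comap_of_ker_isPGroup _
      (by rw [QuotientGroup.ker_mk', hbot]; exact IsPGroup.of_bot)
  haveI : ((Cfsg.pPrimePCore p G').comap f).Normal := Subgroup.Normal.comap inferInstance _
  refine pLengthLE_one_of_normal_pgroup _ (h1.comap_of_ker_isPGroup f hker) ?_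
  rw [index_comap_of_surjective _ hf]
  exact pLengthLE_one_iff.mp h

theorem ker_subgroupMap_le (H N : Subgroup G) [N.Normal] :
    ((QuotientGroup.mk' N).subgroupMap H).ker ≤ N.subgroupOf H := fun x hx =>
  (QuotientGroup.eq_one_iff (x : G)).mp (congrArg Subtype.val hx)

/-- the preimage of `O_{p'}` of a quotient -/
theorem le_pPrimeCoreOver {H V W : Subgroup G} [V.Normal] [W.Normal] (hWH : W ≤ H) {c : ℕ}
    (hc : c.Coprime p) (hpow : ∀ w ∈ W, w ^ c ∈ V) :
    W ≤ ((Cfsg.pPrimeCore p (H.map (QuotientGroup.mk' V))).map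
      (H.map (QuotientGroup.mk' V)).subtype).comap (QuotientGroup.mk' V) := by
  set π := QuotientGroup.mk' V with hπ
  set Hb := H.map π
  haveI : (W.map π).Normal := Subgroup.Normal.map inferInstance _ (QuotientGroup.mk'_surjective _)
  haveI : ((W.map π).subgroupOf Hb).Normal := Subgroup.Normal.comap inferInstance _
  have hcop : (Nat.card ((W.map π).subgroupOf Hb)).Coprime p := by
    rw [Nat.coprime_comm, hp.out.coprime_iff_not_dvd]
    intro hd
    obtain ⟨y, hy⟩ := exists_prime_orderOf_dvd_card' p hd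
    obtain ⟨w, hw, hwy⟩ := y.2
    have h1 : y ^ c = 1 := by
      refine Subtype.ext (Subtype.ext ?_)
      show (((y : Hb) : G ⧸ V)) ^ c = 1
      rw [← show π w = ((y : Hb) : G ⧸ V) from hwy, ← map_pow]
      exact (QuotientGroup.eq_one_iff _).mpr (hpow w hw)
    exact hp.out.coprime_iff_not_dvd.mp (Nat.coprime_comm.mp hc) (hy ▸ orderOf_dvd_of_pow_eq_one h1)
  intro w hw
  exact ⟨⟨π w, mem_map_of_mem π (hWH hw)⟩,
    Cfsg.Lib.Components.le_pPrimeCore hcop (mem_map_of_mem π hw), rfl⟩

/-- `O_{p'}` of the quotient by a normal `p`-subgroup -/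
theorem pPrimeCore_map_eq_bot {H N : Subgroup G} [H.Normal] [N.Normal] (hNH : N ≤ H)
    (h : ∀ W : Subgroup G, W.Normal → W ≤ H → ∀ c : ℕ, c.Coprime p → (∀ w ∈ W, w ^ c ∈ N) →
      ∀ w ∈ W, ∀ s : ℕ, s.Prime → s ≠ p → w ^ s = 1 → w = 1) :
    Cfsg.pPrimeCore p (H.map (QuotientGroup.mk' N)) = ⊥ := by
  set π := QuotientGroup.mk' N with hπ
  set Hb := H.map π
  haveI : Hb.Normal := Subgroup.Normal.map inferInstance _ (QuotientGroup.mk'_surjective _)
  set O := (Cfsg.pPrimeCore p Hb).map Hb.subtype with hO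
  set W := O.comap π with hW
  have hOn : O.Normal := inferInstance
  haveI : W.Normal := Subgroup.Normal.comap hOn _
  have hWH : W ≤ H := by
    refine (comap_mono (map_subtype_le _)).trans ?_
    rw [comap_map_eq, QuotientGroup.ker_mk', sup_eq_left.mpr hNH]
  have hcop : (Nat.card O).Coprime p := by
    rw [hO, card_map_of_injective Hb.subtype_injective]
    exact Cfsg.Lib.Components.coprime_card_pPrimeCore p
  have hpow : ∀ w ∈ W, w ^ Nat.card O ∈ N := fun w hw => by
    rw [← QuotientGroup.eq_one_iff, QuotientGroup.mk_pow]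
    exact orderOf_dvd_iff_pow_eq_one.mp (Subgroup.orderOf_dvd_natCard O hw)
  have hWp : IsPGroup p W := IsPGroup.of_card (n := (Nat.card W).primeFactorsList.length)
    (Nat.eq_prime_pow_of_unique_prime_dvd Nat.card_pos.ne' fun {d} hd hdd => by
      by_contra hne
      haveI := Fact.mk hd
      obtain ⟨w, hw⟩ := exists_prime_orderOf_dvd_card' d hdd
      have h1 := h W inferInstance hWH _ hcop hpow w w.2 d hd hne
        (congrArg Subtype.val (hw ▸ pow_orderOf_eq_one w))
      rw [show w = 1 from Subtype.ext h1, orderOf_one] at hw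
      exact hd.ne_one hw.symm)
  have hOp : IsPGroup p O := by
    rw [← map_comap_eq_self_of_surjective (QuotientGroup.mk'_surjective N) O]
    exact hWp.map _
  rcases hOp.card_eq_or_dvd with h1 | h1
  · exact (map_eq_bot_iff_of_injective _ Hb.subtype_injective).mp (card_eq_one.mp h1)
  · exact absurd h1 (hp.out.coprime_iff_not_dvd.mp (Nat.coprime_comm.mp hcop))

theorem pLength_commutator_aux (n : ℕ) : ∀ (G : Type u) [Group G] [Finite G] [Group.IsSolvable G],
    Nat.card G ≤ n → Odd (Nat.card G) → ∀ H R R₀ : Subgroup G, H.Normal →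
      (Nat.card H).Coprime (Nat.card R) → H ⊔ R = ⊤ → R₀ ≤ R → (Nat.card R₀).Prime →
      IsZGroup ↥(H ⊓ centralizer (R₀ : Set G)) → ⁅H, R⁆ = H → Cfsg.PLengthLE p 1 H := by
  induction n with
  | zero => intro G _ _ _ hc; exact absurd hc (by have := Nat.card_pos (α := G); omega)
  | succ n ih =>
  intro G _ _ _ hcard hodd H R R₀ hHn hcop hsup hR₀ hr hZ hHR
  classical
  haveI := hHn
  by_cases hpd : p ∣ Nat.card H
  swap
  · refine pLengthLE_one_of_normal_pgroup (⊥ : Subgroup H) IsPGroup.of_bot ?_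
    rw [index_bot, Nat.coprime_comm, hp.out.coprime_iff_not_dvd]
    exact hpd
  have hdvdG : ∀ U : Subgroup G, Nat.card U ∣ Nat.card G := card_subgroup_dvd_card
  have hp2 : p ≠ 2 := by
    rintro rfl
    exact hodd.not_two_dvd_nat (hpd.trans (hdvdG H))
  set r := Nat.card R₀ with hrdef
  have hrR : r ∣ Nat.card R := card_dvd_of_le hR₀
  have hr2 : r ≠ 2 := fun h => hodd.not_two_dvd_nat (h ▸ hrR.trans (hdvdG R))
  have hrH : ¬ r ∣ Nat.card H := fun h => hr.ne_one (Nat.eq_one_of_dvd_coprimes hcop h hrR)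
  have hrp : r ≠ p := fun h => hrH (h ▸ hpd)
  have hquot : ∀ (N : Subgroup G) [N.Normal], N ≤ H → N ≠ ⊥ →
      Cfsg.PLengthLE p 1 (H.map (QuotientGroup.mk' N)) := by
    intro N _ hNH hN
    set π := QuotientGroup.mk' N with hπ
    have hsurj : Function.Surjective π := QuotientGroup.mk'_surjective N
    haveI : (H.map π).Normal := Subgroup.Normal.map inferInstance _ hsurj
    refine ih (G ⧸ N) (by have := card_quotient_lt (N := N) hN; omega) (odd_quotient hodd N)
      (H.map π) (R.map π) (R₀.map π) inferInstance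
      ((hcop.coprime_dvd_left (card_map_dvd H π)).coprime_dvd_right (card_map_dvd R π))
      (by rw [← Subgroup.map_sup, hsup, map_top_of_surjective π hsurj]) (map_mono hR₀) ?_ ?_
      (by rw [← map_commutator, hHR])
    · rcases (Nat.dvd_prime hr).mp (card_map_dvd R₀ π) with h | h
      · have h1 : R₀ ≤ N := ((map_eq_bot_iff R₀).mp (card_eq_one.mp h)).trans (QuotientGroup.ker_mk' N).le
        exact absurd (card_dvd_of_le (h1.trans hNH)) hrH
      · rw [h]; exact hr
    · haveI := hZ
      set C := H ⊓ centralizer (R₀ : Set G)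
      haveI : IsZGroup (C.map π) := IsZGroup.of_surjective (f := π.subgroupMap C) (π.subgroupMap_surjective C)
      have hle : H.map π ⊓ centralizer ((R₀.map π : Subgroup (G ⧸ N)) : Set (G ⧸ N)) ≤ C.map π := by
        rintro y ⟨⟨h, hh, rfl⟩, hy⟩
        obtain ⟨m, hm, hmc⟩ := exists_fixed_of_commutator_mem (A := R₀) (N := N) (k := h)
          le_normalizer_of_normal
          ((hcop.coprime_dvd_left (card_dvd_of_le hNH)).coprime_dvd_right hrR).symm
          (Or.inr inferInstance) (by rw [normalizer_eq_top]; trivial) fun a ha => by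
            rw [← QuotientGroup.eq_one_iff]
            show π (a * h * a⁻¹ * h⁻¹) = 1
            rw [map_mul, map_mul, map_mul, mem_centralizer_iff.mp hy (π a) (mem_map_of_mem π ha),
              map_inv, map_inv]
            group
        refine ⟨h * m, ⟨mul_mem hh (hNH hm), hmc⟩, ?_⟩
        rw [map_mul, show π m = 1 from (QuotientGroup.eq_one_iff m).mpr hm, mul_one]
      exact IsZGroup.of_injective (f := inclusion hle) (inclusion_injective hle)
  -- `O_{p'}(H) = 1`
  by_cases hO : Cfsg.pPrimeCore p H = ⊥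
  swap
  · set N := (Cfsg.pPrimeCore p H).map H.subtype with hN
    haveI hNn : N.Normal := inferInstance
    have hNH : N ≤ H := map_subtype_le _
    refine pLengthLE_one_of_coprime_ker ((QuotientGroup.mk' N).subgroupMap H)
      (MonoidHom.subgroupMap_surjective _ _) ?_
      (hquot N hNH fun h => hO ((map_eq_bot_iff_of_injective _ H.subtype_injective).mp h))
    refine Nat.Coprime.coprime_dvd_left (card_dvd_of_le (ker_subgroupMap_le H N)) ?_
    rw [Nat.card_congr (subgroupOfEquivOfLe hNH).toEquiv, hN, card_map_of_injective H.subtype_injective]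
    exact Cfsg.Lib.Components.coprime_card_pPrimeCore p
  -- the group `V = O_p(H)`
  set V := (Cfsg.pCore p H).map H.subtype with hVdef
  haveI hVn : V.Normal := inferInstance
  have hVH : V ≤ H := map_subtype_le _
  have hVp : IsPGroup p V := (Cfsg.Lib.Components.isPGroup_pCore p).map _
  have hVmax : ∀ U : Subgroup G, U ≤ H → H ≤ normalizer (U : Set G) → IsPGroup p U → U ≤ V := by
    intro U hUH hUn hU u hu
    haveI : (U.subgroupOf H).Normal := (normal_subgroupOf_iff_le_normalizer hUH).mpr hUn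
    exact ⟨⟨u, hUH hu⟩, Cfsg.Lib.Components.le_pCore (N := U.subgroupOf H)
      (hU.comap_of_injective H.subtype H.subtype_injective) hu, rfl⟩
  have hCV : H ⊓ centralizer (V : Set G) ≤ V := by
    rintro h ⟨hh, hhc⟩
    exact ⟨⟨h, hh⟩, centralizer_pCore_le p hO (mem_centralizer_iff.mpr fun z hz =>
      Subtype.ext (mem_centralizer_iff.mp hhc (z : G) ⟨z, hz, rfl⟩)), rfl⟩
  have hppow : ∀ y ∈ V, ∃ i, y ^ p ^ i = 1 := fun y hy => by
    obtain ⟨i, hi⟩ := hVp ⟨y, hy⟩
    exact ⟨i, congrArg Subtype.val hi⟩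
  have hWV : ∀ (N W : Subgroup G) [N.Normal], ∀ c : ℕ, c.Coprime p → (∀ w ∈ W, w ^ c ∈ N) →
      ∀ y ∈ W, y ∈ V → y ∈ N := fun N W _ c hc hpow y hyW hyV => by
    obtain ⟨i, hi⟩ := hppow y hyV
    exact mem_of_pow_coprime (hpow y hyW) hi (hc.pow_right i)
  have hone : ∀ w ∈ V, ∀ s : ℕ, s.Prime → s ≠ p → w ^ s = 1 → w = 1 := fun w hw s hs hsp hws => by
    obtain ⟨i, hi⟩ := hppow w hw
    exact mem_bot.mp (mem_of_pow_coprime (N := ⊥) (mem_bot.mpr hws) hi
      (((Nat.coprime_primes hs hp.out).mpr hsp).pow_right i))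
  have hcopV : ∀ w : G, ∀ s : ℕ, s.Prime → s ≠ p → w ^ s = 1 → ∀ U : Subgroup G, IsPGroup p U →
      (Nat.card (zpowers w)).Coprime (Nat.card U) := fun w s hs hsp hws U hU => by
    obtain ⟨i, hi⟩ := IsPGroup.iff_card.mp hU
    rw [Nat.card_zpowers, hi]
    exact Nat.Coprime.coprime_dvd_left (orderOf_dvd_of_pow_eq_one hws)
      (((Nat.coprime_primes hs hp.out).mpr hsp).pow_right i)
  -- `V` is elementary abelian
  haveI : (frattini V).Characteristic := frattini_characteristic
  set Φ := (frattini V).map V.subtype with hΦ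
  haveI hΦn : Φ.Normal := inferInstance
  by_cases hΦ1 : Φ = ⊥
  swap
  · have hΦV : Φ ≤ V := map_subtype_le _
    refine pLengthLE_one_of_pgroup_ker ((QuotientGroup.mk' Φ).subgroupMap H)
      (MonoidHom.subgroupMap_surjective _ _)
      (((hVp.to_le hΦV).comap_of_injective H.subtype H.subtype_injective).to_le (ker_subgroupMap_le H Φ))
      (pPrimeCore_map_eq_bot (hΦV.trans hVH) ?_) (hquot Φ (hΦV.trans hVH) hΦ1)
    intro W hWn hWH c hc hpow w hw s hs hsp hws
    haveI := hWn
    refine hone w (hCV ⟨hWH hw, ?_⟩) s hs hsp hws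
    refine le_centralizer_of_frattini (A := zpowers w) le_normalizer_of_normal ?_ ?_ (mem_zpowers w)
    · exact (hcopV w s hs hsp hws V hVp).coprime_dvd_right (card_subgroup_dvd_card _)
    · intro a ha k hk
      refine hWV Φ W c hc hpow _ ?_ (mul_mem (hVn.conj_mem k hk a) (inv_mem hk))
      rw [show a * k * a⁻¹ * k⁻¹ = a * (k * a⁻¹ * k⁻¹) by group]
      exact mul_mem (zpowers_le.mpr hw ha) (hWn.conj_mem _ (inv_mem (zpowers_le.mpr hw ha)) k)
  have hfr : frattini V = ⊥ := (map_eq_bot_iff_of_injective _ V.subtype_injective).mp hΦ1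
  have hVel : Cfsg.IsElementaryAbelian p V := by
    haveI := Cfsg.Lib.PGroups.isMulCommutative_quotient_frattini hVp
    refine ⟨⟨⟨fun a b => ?_⟩⟩, fun a ha => ?_⟩
    · have h1 : (QuotientGroup.mk (a * b) : V ⧸ frattini V) = QuotientGroup.mk (b * a) := by
        rw [QuotientGroup.mk_mul, QuotientGroup.mk_mul, mul_comm']
      rw [QuotientGroup.eq, hfr, mem_bot, inv_mul_eq_one] at h1
      exact h1
    · have h1 : (QuotientGroup.mk ((⟨a, ha⟩ : V) ^ p) : V ⧸ frattini V) = 1 := by
        rw [QuotientGroup.mk_pow]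
        exact Cfsg.Lib.PGroups.pow_prime_quotient_frattini hVp _
      rw [QuotientGroup.eq_one_iff, hfr, mem_bot] at h1
      exact congrArg Subtype.val h1
  haveI := hVel.1
  have hVab : V ≤ centralizer (V : Set G) := Subgroup.le_centralizer V
  -- the subgroup `M₁` and the complement `K`
  set πV := QuotientGroup.mk' V with hπV
  set Hb := H.map πV with hHb
  haveI : Hb.Normal := Subgroup.Normal.map inferInstance _ (QuotientGroup.mk'_surjective _)
  set Ob := (Cfsg.pPrimeCore p Hb).map Hb.subtype with hOb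
  have hObn : Ob.Normal := inferInstance
  set M₁ := Ob.comap πV with hM₁
  haveI hM₁n : M₁.Normal := Subgroup.Normal.comap hObn _
  have hM₁H : M₁ ≤ H := by
    refine (comap_mono (map_subtype_le _)).trans ?_
    rw [comap_map_eq, QuotientGroup.ker_mk', sup_eq_left.mpr hVH]
  have hVM₁ : V ≤ M₁ := fun v hv => by
    show πV v ∈ Ob
    rw [show πV v = 1 from (QuotientGroup.eq_one_iff v).mpr hv]
    exact one_mem _
  set c := Nat.card Ob with hcdef
  have hcp : c.Coprime p := by
    rw [hcdef, hOb, card_map_of_injective Hb.subtype_injective]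
    exact Cfsg.Lib.Components.coprime_card_pPrimeCore p
  have hcardM₁ : Nat.card M₁ = Nat.card V * c := card_comap_mk' Ob
  obtain ⟨K, ⟨hKM, hKπ, hKidx⟩, hRK, -⟩ := exists_invariantHall_ge (A := R) (K := M₁)
    (U := (⊥ : Subgroup G)) (π := {s : ℕ | s ≠ p}) le_normalizer_of_normal
    (hcop.coprime_dvd_left (card_dvd_of_le hM₁H)).symm inferInstance bot_le
    (by rw [normalizer_eq_top]; exact le_top)
    (fun s hs hd => absurd (by rwa [card_bot] at hd) hs.not_dvd_one)
  have hKp : (Nat.card K).Coprime p := by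
    rw [Nat.coprime_comm, hp.out.coprime_iff_not_dvd]
    exact fun h => hKπ p hp.out h rfl
  obtain ⟨i, hi⟩ := IsPGroup.iff_card.mp hVp
  have hKV : (Nat.card V).Coprime (Nat.card K) := hi ▸ (hKp.pow_right i).symm
  have hcardK : Nat.card K = c := by
    have h1 := relIndex_mul_relIndex (⊥ : Subgroup G) K M₁ bot_le hKM
    rw [relIndex_bot_left, relIndex_bot_left, hcardM₁] at h1
    refine Nat.dvd_antisymm (hKV.symm.dvd_of_dvd_mul_left ⟨_, h1.symm⟩) ?_
    refine (coprime_of_forall_prime fun s hs hsc hsi => ?_).dvd_of_dvd_mul_right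
      (h1 ▸ dvd_mul_left c _)
    refine hKidx s hs (fun h => hs.ne_one (Nat.eq_one_of_dvd_coprimes hcp hsc (h ▸ dvd_rfl))) hsi
  have hsupK : V ⊔ K = M₁ := eq_of_le_of_card_eq (sup_le hVM₁ hKM)
    (by rw [card_sup_coprime le_normalizer_of_normal hKV, hcardM₁, hcardK])
  have hfrat : ∀ g : G, ∃ v ∈ V, v⁻¹ * g ∈ normalizer (K : Set G) := by
    intro g
    obtain ⟨v, hv, hveq⟩ := exists_conj_eq_of_coprime (N := V) (H := K) (K := conjMap g K)
      le_normalizer_of_normal hKV (Or.inl inferInstance) (fun y hy => by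
        rw [hsupK]
        have h1 := hM₁n.conj_mem _ (hKM (mem_conjMap.mp hy)) g
        rwa [show g * (g⁻¹ * y * g) * g⁻¹ = y by group] at h1) (card_conjMap g K)
    refine ⟨v, hv, conjMap_eq_self_iff.mp ?_⟩
    rw [← conjMap_mul, hveq, conjMap_inv_conjMap]
  -- `C_V(K) = 1`
  set V₀ := V ⊓ centralizer (K : Set G) with hV₀
  haveI hV₀n : V₀.Normal := by
    refine ⟨fun z hz g => ?_⟩
    obtain ⟨v, hv, hn⟩ := hfrat g
    set n := v⁻¹ * g with hndef
    have h1 : n * z * n⁻¹ ∈ V₀ := by
      refine ⟨hVn.conj_mem z hz.1 n, mem_centralizer_iff.mpr fun k hk => ?_⟩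
      have h2 := mem_centralizer_iff.mp hz.2 (n⁻¹ * k * n)
        ((mem_normalizer_iff'.mp hn (n⁻¹ * k)).mpr (by simpa using hk))
      calc k * (n * z * n⁻¹) = n * ((n⁻¹ * k * n) * z) * n⁻¹ := by group
        _ = n * (z * (n⁻¹ * k * n)) * n⁻¹ := by rw [h2]
        _ = n * z * n⁻¹ * k := by group
    rw [show g * z * g⁻¹ = v * (n * z * n⁻¹) * v⁻¹ by rw [hndef]; group,
      ← mem_centralizer_iff.mp (hVab hv) _ h1.1, mul_inv_cancel_right]
    exact h1
  by_cases hV₀1 : V₀ = ⊥
  swap
  · have hV₀V : V₀ ≤ V := inf_le_left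
    refine pLengthLE_one_of_pgroup_ker ((QuotientGroup.mk' V₀).subgroupMap H)
      (MonoidHom.subgroupMap_surjective _ _)
      (((hVp.to_le hV₀V).comap_of_injective H.subtype H.subtype_injective).to_le (ker_subgroupMap_le H V₀))
      (pPrimeCore_map_eq_bot (hV₀V.trans hVH) ?_) (hquot V₀ (hV₀V.trans hVH) hV₀1)
    intro W hWn hWH d hd hpow w hw s hs hsp hws
    haveI := hWn
    have hWM : W ≤ M₁ := le_pPrimeCoreOver hWH hd fun y hy => hV₀V (hpow y hy)
    have hM₁c : M₁ ≤ centralizer (V₀ : Set G) := by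
      rw [← hsupK]
      exact sup_le (hVab.trans (centralizer_le hV₀V)) (le_centralizer_iff.mp inf_le_right)
    refine hone w (hCV ⟨hWH hw, mem_centralizer_iff.mpr fun k hk => ?_⟩) s hs hsp hws
    have h1 : k ∈ centralizer (zpowers w : Set G) := by
      refine centralizes_of_coprime_chain (hcopV w s hs hsp hws V₀ (hVp.to_le hV₀V))
        ((zpowers_le.mpr hw).trans (hWM.trans hM₁c)) fun a ha => ?_
      have haW := zpowers_le.mpr hw ha
      refine hWV V₀ W d hd hpow _ (mul_mem ?_ (inv_mem haW)) ?_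
      · simpa using hWn.conj_mem a haW k⁻¹
      · rw [show k⁻¹ * a * k * a⁻¹ = k⁻¹ * (a * k * a⁻¹) by group]
        exact mul_mem (inv_mem hk) (hVn.conj_mem k hk a)
    exact (mem_centralizer_iff.mp h1 w (mem_zpowers w)).symm
  -- the complement `L`
  set L := H ⊓ normalizer (K : Set G) with hLdef
  have hLH : L ≤ H := inf_le_left
  have hVL : V ⊓ L = ⊥ := by
    rw [eq_bot_iff, ← hV₀1]
    rintro v ⟨hv, -, hvK⟩
    refine ⟨hv, mem_centralizer_iff.mpr fun k hk => ?_⟩
    have h1 : v * k * v⁻¹ * k⁻¹ = 1 := eq_one_of_coprime hKV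
      (by rw [show v * k * v⁻¹ * k⁻¹ = v * (k * v⁻¹ * k⁻¹) by group]
          exact mul_mem hv (hVn.conj_mem _ (inv_mem hv) k))
      (mul_mem ((mem_normalizer_iff.mp hvK k).mp hk) (inv_mem hk))
    exact (mul_inv_eq_iff_eq_mul.mp (mul_inv_eq_one.mp h1)).symm
  have hsupL : V ⊔ L = H := le_antisymm (sup_le hVH hLH) fun h hh => by
    obtain ⟨v, hv, hn⟩ := hfrat h
    exact (mem_sup_of_le_normalizer (le_normalizer_of_normal : L ≤ _)).mpr
      ⟨v, hv, v⁻¹ * h, mem_inf.mpr ⟨mul_mem (inv_mem (hVH hv)) hh, hn⟩, by group⟩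
  by_cases hpL : p ∣ Nat.card L
  swap
  · haveI : (V.subgroupOf H).Normal := Subgroup.Normal.comap hVn _
    refine pLengthLE_one_of_normal_pgroup (V.subgroupOf H)
      (hVp.comap_of_injective H.subtype H.subtype_injective) ?_
    have h1 := relIndex_mul_relIndex (⊥ : Subgroup G) V H bot_le hVH
    rw [relIndex_bot_left, relIndex_bot_left, ← hsupL,
      card_sup_of_inf_eq_bot le_normalizer_of_normal hVL] at h1
    show (V.relIndex H).Coprime p
    rw [← hsupL, Nat.eq_of_mul_eq_mul_left Nat.card_pos h1, Nat.coprime_comm,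
      hp.out.coprime_iff_not_dvd]
    exact hpL
  exfalso
  have hRL : R ≤ normalizer (L : Set G) :=
    le_normalizer_inf le_normalizer_of_normal (hRK.trans le_normalizer)
  have hLR : ⁅L, R⁆ = L := by
    refine le_antisymm (commutator_le_of_le_normalizer hRL) fun l hl => ?_
    have hDL : ⁅L, R⁆ ≤ L := commutator_le_of_le_normalizer hRL
    have h1 : H ≤ V ⊔ ⁅L, R⁆ := by
      refine hHR.ge.trans (commutator_le.mpr fun h hh a ha => ?_)
      obtain ⟨v, hv, l, hl, rfl⟩ :=
        (mem_sup_of_le_normalizer (le_normalizer_of_normal : L ≤ _)).mp (hsupL.ge hh)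
      rw [show ⁅v * l, a⁆ = v * ⁅l, a⁆ * (a * v⁻¹ * a⁻¹) by
        simp only [commutatorElement_def]; group]
      exact mul_mem (mul_mem (mem_sup_left hv) (mem_sup_right (commutator_mem_commutator hl ha)))
        (mem_sup_left (hVn.conj_mem _ (inv_mem hv) a))
    obtain ⟨v, hv, d, hd, rfl⟩ :=
      (mem_sup_of_le_normalizer (le_normalizer_of_normal : ⁅L, R⁆ ≤ _)).mp (h1 (hLH hl))
    have h2 : v ∈ V ⊓ L := ⟨hv, by simpa using mul_mem hl (inv_mem (hDL hd))⟩
    rw [hVL, mem_bot] at h2
    rwa [h2, one_mul]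
  have hcoreL : Cfsg.pCore p L = ⊥ := by
    refine (map_eq_bot_iff_of_injective _ L.subtype_injective).mp (eq_bot_iff.mpr ?_)
    set U := (Cfsg.pCore p L).map L.subtype
    have hUL : U ≤ L := map_subtype_le _
    rw [← hVL]
    refine le_inf (le_sup_right.trans (hVmax (V ⊔ U) (sup_le hVH (hUL.trans hLH)) ?_
      (hVp.to_sup_of_normal_left ((Cfsg.Lib.Components.isPGroup_pCore p).map _)))) hUL
    refine hsupL.ge.trans (sup_le (le_sup_left.trans le_normalizer)
      (le_normalizer_sup le_normalizer_of_normal (le_normalizer.trans (le_normalizer_map_of_char _))))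
  -- the Fitting subgroup of `L`
  set F₀ := Cfsg.fittingSubgroup L with hF₀
  haveI : Group.IsNilpotent F₀ := Cfsg.Lib.Components.isNilpotent_fitting
  set F := F₀.map L.subtype with hF
  haveI : Group.IsNilpotent F :=
    Group.nilpotent_of_mulEquiv (F₀.equivMapOfInjective _ L.subtype_injective)
  have hFL : F ≤ L := map_subtype_le _
  have hpF : ¬ p ∣ Nat.card F := by
    rw [hF, card_map_of_injective L.subtype_injective]
    intro hd
    obtain ⟨P₀⟩ : Nonempty (Sylow p F₀) := inferInstance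
    haveI : (P₀ : Subgroup F₀).Characteristic := Sylow.characteristic_of_normal P₀ inferInstance
    haveI : ((P₀ : Subgroup F₀).map F₀.subtype).Normal := inferInstance
    have h1 := Cfsg.Lib.Components.le_pCore (P₀.2.map F₀.subtype)
    rw [hcoreL, le_bot_iff, map_eq_bot_iff_of_injective _ F₀.subtype_injective] at h1
    have h2 := P₀.dvd_card_of_dvd_card hd
    rw [h1, card_bot] at h2
    exact hp.out.not_dvd_one h2
  have hCF : L ⊓ centralizer (F : Set G) ≤ F := by
    rintro l ⟨hl, hlc⟩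
    exact ⟨⟨l, hl⟩, centralizer_fitting_le (mem_centralizer_iff.mpr fun z hz =>
      Subtype.ext (mem_centralizer_iff.mp hlc (z : G) ⟨z, hz, rfl⟩)), rfl⟩
  have hLF : L ≤ normalizer (F : Set G) := le_normalizer.trans (le_normalizer_map_of_char _)
  have hRF : R ≤ normalizer (F : Set G) := hRL.trans (le_normalizer_map_of_char _)
  have hLCV : ∀ U : Subgroup G, U ≤ L → U ⊓ centralizer (V : Set G) = ⊥ := fun U hU =>
    eq_bot_iff.mpr ((le_inf (fun y hy => hCV ⟨hLH (hU hy.1), hy.2⟩) (inf_le_left.trans hU)).trans hVL.le)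
  obtain ⟨⟨x, hx0⟩, hx1⟩ : ∃ x : R₀, x ≠ 1 := by
    haveI : Nontrivial R₀ := Finite.one_lt_card_iff_nontrivial.mp hr.one_lt
    exact exists_ne 1
  have hxr : x ^ r = 1 :=
    orderOf_dvd_iff_pow_eq_one.mp (Subgroup.orderOf_dvd_natCard R₀ hx0)
  have hzx : zpowers x = R₀ := eq_of_le_of_card_eq (zpowers_le.mpr hx0)
    (by rw [Nat.card_zpowers, orderOf_eq_prime (hp := ⟨hr⟩) hxr fun h => hx1 (Subtype.ext h)])
  have hCx : centralizer (R₀ : Set G) = centralizer {x} := by rw [← hzx, centralizer_zpowers]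
  rw [hCx] at hZ
  have hxR : x ∈ R := hR₀ hx0
  have hqF : ∀ q : ℕ, q.Prime → ∀ Q : Subgroup G, Q ≤ F → IsPGroup q Q → Q ≠ ⊥ →
      q ≠ 2 ∧ r ≠ q ∧ p ≠ q := by
    intro q hq Q hQF hQ hQne
    haveI := Fact.mk hq
    have hd : q ∣ Nat.card F := (hQ.card_eq_or_dvd.resolve_left
      fun h => hQne (card_eq_one.mp h)).trans (card_dvd_of_le hQF)
    exact ⟨fun h => hodd.not_two_dvd_nat (h ▸ hd.trans (hdvdG F)),
      fun h => hrH (h ▸ hd.trans (card_dvd_of_le (hFL.trans hLH))), fun h => hpF (h ▸ hd)⟩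
  by_cases hA : V ⊓ centralizer ({x} : Set G) = ⊥
  · -- `x` centralizes `F`
    have hFx : F ≤ centralizer ({x} : Set G) := by
      refine le_of_forall_sylow fun q hq => ?_
      haveI := Fact.mk hq
      obtain ⟨Qs⟩ : Nonempty (Sylow q F) := inferInstance
      refine ⟨Qs, ?_⟩
      haveI : (Qs : Subgroup F).Characteristic := Sylow.characteristic_of_normal Qs inferInstance
      set Q := (Qs : Subgroup F).map F.subtype
      by_cases hQ1 : Q = ⊥
      · rw [hQ1]; exact bot_le
      have hQF : Q ≤ F := map_subtype_le _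
      have hQp : IsPGroup q Q := Qs.2.map _
      obtain ⟨hq2, hrq, hpq⟩ := hqF q hq Q hQF hQp hQ1
      have hxQ : zpowers x ≤ normalizer (Q : Set G) :=
        zpowers_le.mpr ((hRF.trans (le_normalizer_map_of_char _)) hxR)
      have h1 := commutator_centralizes hr hq hrq hq2 hrp (Ne.symm hpq) hxr hQp hVp
        (hxQ (mem_zpowers x)) (le_normalizer_of_normal (mem_zpowers x)) le_normalizer_of_normal hA
      have h2 : ⁅Q, zpowers x⁆ = ⊥ := eq_bot_iff.mpr
        ((le_inf (commutator_le_of_le_normalizer hxQ) h1).trans (hLCV Q (hQF.trans hFL)).le)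
      rw [← centralizer_zpowers]
      exact commutator_eq_bot_iff_le_centralizer.mp h2
    haveI : IsCyclic F := isCyclic_of_zgroup hZ (le_inf (hFL.trans hLH) hFx)
    have hcomm : ∀ e₁ e₂ : MulAut F, e₁ * e₂ = e₂ * e₁ := fun e₁ e₂ => MulEquiv.ext fun y => by
      obtain ⟨m, hm⟩ := MonoidHom.map_cyclic e₁.toMonoidHom
      obtain ⟨m', hm'⟩ := MonoidHom.map_cyclic e₂.toMonoidHom
      have hm1 : ∀ g, e₁ g = g ^ m := hm
      have hm2 : ∀ g, e₂ g = g ^ m' := hm'
      rw [MulAut.mul_apply, MulAut.mul_apply, hm2, hm1, hm1, hm2, ← zpow_mul, ← zpow_mul, mul_comm]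
    have hLC : L ≤ centralizer (F : Set G) := by
      refine hLR.ge.trans (commutator_le.mpr fun l hl a ha => mem_centralizer_iff.mpr fun y hy => ?_)
      have h1 : F.normalizerMonoidHom ⁅(⟨l, hLF hl⟩ : normalizer (F : Set G)), ⟨a, hRF ha⟩⁆ = 1 := by
        rw [map_commutatorElement, commutatorElement_eq_one_iff_mul_comm]
        exact hcomm _ _
      have h2 : ⁅l, a⁆ * y * ⁅l, a⁆⁻¹ = y := congrArg Subtype.val (DFunLike.congr_fun h1 (⟨y, hy⟩ : F))
      exact (mul_inv_eq_iff_eq_mul.mp h2).symm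
    exact hpF (hpL.trans (card_dvd_of_le ((le_inf le_rfl hLC).trans hCF)))
  · -- `C_V(x)` has order `p`
    set B := V ⊓ centralizer ({x} : Set G) with hB
    have hBp : IsPGroup p B := hVp.to_le inf_le_left
    haveI : Group.IsNilpotent B := hBp.isNilpotent
    haveI : IsCyclic B := isCyclic_of_zgroup hZ (inf_le_inf_right _ hVH)
    have hBle : Nat.card B ≤ p :=
      card_le_of_cyclic_pow hp.out.pos fun m => Subtype.ext (hVel.2 m m.2.1)
    have hBeq : Nat.card B = p := le_antisymm hBle (Nat.le_of_dvd Nat.card_pos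
      (hBp.card_eq_or_dvd.resolve_left fun h => hA (card_eq_one.mp h)))
    obtain ⟨Ps, hPs⟩ := exists_invariant_sylow hRL
      (hcop.coprime_dvd_left (card_dvd_of_le hLH)).symm (Or.inr inferInstance) p
    set P := (Ps : Subgroup L).map L.subtype with hP
    have hPL : P ≤ L := map_subtype_le _
    have hPp : IsPGroup p P := Ps.2.map _
    have hP1 : P ≠ ⊥ := fun h => by
      have h2 := Ps.dvd_card_of_dvd_card hpL
      rw [(map_eq_bot_iff_of_injective _ L.subtype_injective).mp h, card_bot] at h2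
      exact hp.out.not_dvd_one h2
    have hPfix : P ⊓ centralizer ({x} : Set G) = ⊥ := by
      by_contra hne
      have hd := (hPp.to_le (inf_le_left : P ⊓ centralizer ({x} : Set G) ≤ P)).card_eq_or_dvd.resolve_left
        fun h => hne (card_eq_one.mp h)
      obtain ⟨⟨a, ha⟩, haord⟩ := exists_prime_orderOf_dvd_card' p hd
      have hap : a ^ p = 1 := congrArg Subtype.val (haord ▸ pow_orderOf_eq_one (⟨a, ha⟩ : ↥(P ⊓ centralizer ({x} : Set G))))
      set U := (V ⊔ P) ⊓ centralizer ({x} : Set G) with hU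
      haveI : Group.IsNilpotent U :=
        ((hVp.to_sup_of_normal_left hPp).to_le inf_le_left).isNilpotent
      haveI : IsCyclic U :=
        isCyclic_of_zgroup hZ (inf_le_inf_right _ (sup_le hVH (hPL.trans hLH)))
      letI : CommGroup U := IsCyclic.commGroup
      set T := (powMonoidHom p : U →* U).ker
      have hT : Nat.card T ≤ p := card_le_of_cyclic_pow hp.out.pos fun m => Subtype.ext m.2
      have hBU : B ≤ U := inf_le_inf_right _ le_sup_left
      have hBT : B.subgroupOf U ≤ T := fun b hb => Subtype.ext (hVel.2 _ (mem_subgroupOf.mp hb).1)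
      have heq := eq_of_le_of_card_eq hBT (le_antisymm (card_le_of_le hBT)
        (by rw [Nat.card_congr (subgroupOfEquivOfLe hBU).toEquiv, hBeq]; exact hT))
      have haT : (⟨a, mem_sup_right ha.1, ha.2⟩ : U) ∈ T := Subtype.ext hap
      have haV : a ∈ V ⊓ L := ⟨(mem_subgroupOf.mp (heq.ge haT)).1, hPL ha.1⟩
      rw [hVL, mem_bot] at haV
      rw [show (⟨a, ha⟩ : ↥(P ⊓ centralizer ({x} : Set G))) = 1 from Subtype.ext haV, orderOf_one] at haord
      exact hp.out.ne_one haord.symm
    have hFP : F ≤ centralizer (P : Set G) := by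
      refine le_of_forall_sylow fun q hq => ?_
      haveI := Fact.mk hq
      obtain ⟨Qs⟩ : Nonempty (Sylow q F) := inferInstance
      refine ⟨Qs, ?_⟩
      haveI : (Qs : Subgroup F).Characteristic := Sylow.characteristic_of_normal Qs inferInstance
      set Q := (Qs : Subgroup F).map F.subtype
      by_cases hQ1 : Q = ⊥
      · rw [hQ1]; exact bot_le
      have hQF : Q ≤ F := map_subtype_le _
      have hQp : IsPGroup q Q := Qs.2.map _
      obtain ⟨hq2, hrq, hpq⟩ := hqF q hq Q hQF hQp hQ1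
      have hNQ : normalizer (F : Set G) ≤ normalizer (Q : Set G) := le_normalizer_map_of_char _
      haveI : Group.IsNilpotent ↥(Q ⊓ centralizer ({x} : Set G)) :=
        (hQp.to_le inf_le_left).isNilpotent
      exact le_centralizer_iff.mp (centralizes_of_fixed_le_prime hp2 hr hr2 hq hq2 hrq hpq hrp hxr
        hPp hQp hVel (hPs hxR) (hNQ (hRF hxR)) (le_normalizer_of_normal (mem_zpowers x))
        le_normalizer_of_normal le_normalizer_of_normal ((hPL.trans hLF).trans hNQ) hPfix
        (isCyclic_of_zgroup hZ (inf_le_inf_right _ ((hQF.trans hFL).trans hLH))) hBle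
        (hLCV P hPL) (hLCV Q (hQF.trans hFL)))
    have hPF : P ≤ F := (le_inf hPL (le_centralizer_iff.mp hFP)).trans hCF
    exact hpF ((hPp.card_eq_or_dvd.resolve_left fun h => hP1 (card_eq_one.mp h)).trans
      (card_dvd_of_le hPF))

/-- `[H, R]` has `p`-length at most one -/
theorem pLength_commutator [Group.IsSolvable G] (hodd : Odd (Nat.card G)) (H R R₀ : Subgroup G)
    [H.Normal] (hcop : (Nat.card H).Coprime (Nat.card R)) (hR₀ : R₀ ≤ R)
    (hr : (Nat.card R₀).Prime) (hZ : IsZGroup ↥(H ⊓ centralizer (R₀ : Set G))) :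
    Cfsg.PLengthLE p 1 ↥⁅H, R⁆ := by
  set H₁ := ⁅H, R⁆ with hH₁
  have hH₁H : H₁ ≤ H := commutator_le_left H R
  have hRH₁ : R ≤ normalizer (H₁ : Set G) := le_normalizer_commutator_right R H
  have hH₁R : ⁅H₁, R⁆ = H₁ :=
    commutator_commutator_eq le_normalizer_of_normal hcop.symm (Or.inr inferInstance)
  set G₁ := H₁ ⊔ R with hG₁
  have hH₁G : H₁ ≤ G₁ := le_sup_left
  have hRG : R ≤ G₁ := le_sup_right
  haveI : (H₁.subgroupOf G₁).Normal :=
    (normal_subgroupOf_iff_le_normalizer hH₁G).mpr (sup_le le_normalizer hRH₁)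
  have hcard : ∀ U : Subgroup G, U ≤ G₁ → Nat.card (U.subgroupOf G₁) = Nat.card U := fun U hU =>
    Nat.card_congr (subgroupOfEquivOfLe hU).toEquiv
  have hmapeq : ∀ U : Subgroup G, U ≤ G₁ → (U.subgroupOf G₁).map G₁.subtype = U := fun U hU => by
    rw [subgroupOf_map_subtype, inf_eq_left.mpr hU]
  have h : Cfsg.PLengthLE p 1 (H₁.subgroupOf G₁) := by
    refine pLength_commutator_aux (Nat.card G₁) G₁ le_rfl (hodd.of_dvd_nat (card_subgroup_dvd_card _))
      (H₁.subgroupOf G₁) (R.subgroupOf G₁) (R₀.subgroupOf G₁) inferInstance ?_ ?_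
      (comap_mono hR₀) ?_ ?_ ?_
    · rw [hcard _ hH₁G, hcard _ hRG]
      exact hcop.coprime_dvd_left (card_dvd_of_le hH₁H)
    · refine map_injective G₁.subtype_injective ?_
      rw [Subgroup.map_sup, hmapeq _ hH₁G, hmapeq _ hRG, ← MonoidHom.range_eq_map, range_subtype]
    · rwa [hcard _ (hR₀.trans hRG)]
    · have hle : (H₁.subgroupOf G₁ ⊓ centralizer ((R₀.subgroupOf G₁ : Subgroup G₁) : Set G₁)).map G₁.subtype ≤
          H ⊓ centralizer (R₀ : Set G) := by
        rintro _ ⟨y, ⟨hy1, hy2⟩, rfl⟩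
        exact ⟨hH₁H hy1, mem_centralizer_iff.mpr fun a ha => congrArg Subtype.val
          (mem_centralizer_iff.mp hy2 (⟨a, hRG (hR₀ ha)⟩ : G₁) ha)⟩
      haveI := hZ
      haveI := IsZGroup.of_injective (f := inclusion hle) (inclusion_injective hle)
      exact IsZGroup.of_injective
        (f := ((H₁.subgroupOf G₁ ⊓ centralizer ((R₀.subgroupOf G₁ : Subgroup G₁) : Set G₁)).equivMapOfInjective
          _ G₁.subtype_injective).toMonoidHom) (MulEquiv.injective _)
    · refine map_injective G₁.subtype_injective ?_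
      rw [map_commutator, hmapeq _ hH₁G, hmapeq _ hRG, hH₁R]
  refine pLengthLE_one_of_coprime_ker (subgroupOfEquivOfLe hH₁G).symm.toMonoidHom
    (MulEquiv.surjective _) ?_ h
  rw [(MonoidHom.ker_eq_bot_iff _).mpr (MulEquiv.injective _), card_bot]
  exact Nat.coprime_one_left p

end Cfsg.Lib.OddP
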