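import Cfsg.Agent.OddLocal.LinearTwo

/-!
# Solvable groups of odd order in `GL(2, F)` are abelian modulo `p`
-/

set_option linter.unusedSectionVars false
set_option linter.style.haveILetI false

namespace Cfsg.Lib.LinearTwo

open Matrix Subgroup
open scoped commutatorElement

variable {F : Type*} [Field F] {p : ℕ} [Fact p.Prime] [CharP F p]

local notation "M2" => Matrix (Fin 2) (Fin 2) F

theorem cayley (g : M2) : g * g - g.trace • g + g.det • (1 : M2) = 0 := by
  ext i j
  fin_cases i <;> fin_cases j <;>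
    simp [Matrix.mul_apply, Fin.sum_univ_two, Matrix.det_fin_two, Matrix.trace_fin_two] <;> ring

/-- the commutant of a non-scalar matrix -/
theorem exists_linear_of_commute {g h : M2} (hg : ∀ c : F, g ≠ c • (1 : M2)) (hc : h * g = g * h) :
    ∃ a b : F, h = a • (1 : M2) + b • g := by
  have e00 := congrFun (congrFun hc 0) 0
  have e01 := congrFun (congrFun hc 0) 1
  have e10 := congrFun (congrFun hc 1) 0
  simp [Matrix.mul_apply, Fin.sum_univ_two] at e00 e01 e10
  suffices h' : ∃ b : F, h 0 1 = b * g 0 1 ∧ h 1 0 = b * g 1 0 ∧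
      h 0 0 - h 1 1 = b * (g 0 0 - g 1 1) by
    obtain ⟨b, h1, h2, h3⟩ := h'
    refine ⟨h 1 1 - b * g 1 1, b, ?_⟩
    ext i j
    fin_cases i <;> fin_cases j <;> simp
    · linear_combination h3
    · exact h1
    · exact h2
  by_cases h01 : g 0 1 = 0
  · by_cases h10 : g 1 0 = 0
    · have hd : g 0 0 - g 1 1 ≠ 0 := by
        intro hd
        refine hg (g 0 0) ?_
        ext i j
        fin_cases i <;> fin_cases j <;> simp [h01, h10]
        linear_combination -hd
      refine ⟨(h 0 0 - h 1 1) / (g 0 0 - g 1 1), ?_, ?_, by field_simp⟩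
      · rw [h01, mul_zero]
        exact (mul_eq_zero.mp (show h 0 1 * (g 0 0 - g 1 1) = 0 by
          linear_combination (h 0 0 - h 1 1) * h01 - e01)).resolve_right hd
      · rw [h10, mul_zero]
        exact (mul_eq_zero.mp (show h 1 0 * (g 0 0 - g 1 1) = 0 by
          linear_combination e10 + (h 0 0 - h 1 1) * h10)).resolve_right hd
    · refine ⟨h 1 0 / g 1 0, ?_, by field_simp, ?_⟩
      · rw [div_mul_eq_mul_div, eq_div_iff h10]
        linear_combination e00
      · rw [div_mul_eq_mul_div, eq_div_iff h10]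
        linear_combination -e10
  · refine ⟨h 0 1 / g 0 1, by field_simp, ?_, ?_⟩
    · rw [div_mul_eq_mul_div, eq_div_iff h01]
      linear_combination -e00
    · rw [div_mul_eq_mul_div, eq_div_iff h01]
      linear_combination e01

/-- a non-scalar semisimple element commutes with everything of odd order normalizing its algebra -/
theorem commute_of_conj_commute (hp : p ≠ 2) {g h : GL (Fin 2) F} {n m : ℕ} (hn : n.Coprime p)
    (hgn : g ^ n = 1) (hm : Odd m) (hhm : h ^ m = 1) (hg : ∀ c : F, (g : M2) ≠ c • (1 : M2))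
    (hc : Commute (h * g * h⁻¹) g) : Commute h g := by
  have h2 : (2 : F) ≠ 0 := fun e => hp (by
    have h0 : ((2 : ℕ) : F) = 0 := by exact_mod_cast e
    exact (Nat.prime_dvd_prime_iff_eq Fact.out Nat.prime_two).mp ((CharP.cast_eq_zero_iff F p 2).mp h0))
  set t := (g : M2).trace with ht
  set d := (g : M2).det with hd
  have hd0 : d ≠ 0 := ((Matrix.isUnit_iff_isUnit_det (g : M2)).mp g.isUnit).ne_zero
  set x : GL (Fin 2) F := h * g * h⁻¹ with hx
  obtain ⟨a, b, hab⟩ := exists_linear_of_commute hg (congrArg Units.val hc.eq)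
  have hxtr : (x : M2).trace = t := by
    rw [hx, Units.val_mul, Units.val_mul, Matrix.trace_mul_comm, ← mul_assoc, Units.inv_mul, one_mul]
  have hxdet : (x : M2).det = d := by
    rw [hx, Units.val_mul, Units.val_mul, Matrix.det_mul, Matrix.det_mul, mul_comm _ (Matrix.det (g : M2)),
      mul_assoc, ← Matrix.det_mul, Units.mul_inv, Matrix.det_one, mul_one]
  have htb : 2 * a + b * t = t := by
    have e := congrArg Matrix.trace hab
    simp [Matrix.trace_fin_two] at e
    rw [Matrix.trace_fin_two] at hxtr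
    rw [ht, Matrix.trace_fin_two] at hxtr ⊢
    linear_combination hxtr - e
  have hdb : a ^ 2 + a * b * t + b ^ 2 * d = d := by
    have e := congrArg Matrix.det hab
    rw [hxdet] at e
    rw [hd, ht, Matrix.trace_fin_two]
    rw [Matrix.det_fin_two] at e hd ⊢
    rw [hd] at e
    simp at e
    linear_combination -e
  have hne : t ^ 2 - 4 * d ≠ 0 := by
    intro h0
    set s := t / 2 with hs
    have hts : t = 2 * s := by rw [hs]; field_simp
    have hds : d = s ^ 2 := by
      have : 4 * (d - s ^ 2) = 0 := by linear_combination -h0 + (t + 2 * s) * hts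
      exact sub_eq_zero.mp ((mul_eq_zero.mp this).resolve_left
        (by rw [show (4 : F) = 2 * 2 by norm_num]; exact mul_ne_zero h2 h2))
    set N : M2 := (g : M2) - s • (1 : M2) with hN
    have hN2 : N * N = 0 := by
      have hcay := cayley (g : M2)
      rw [← ht, ← hd, hts, hds] at hcay
      rw [hN, ← hcay]
      simp [sub_mul, mul_sub, smul_sub, smul_smul, two_mul, add_smul, sq]
      abel
    have hpow : ∀ k : ℕ, (g : M2) ^ (k + 1) = s ^ (k + 1) • (1 : M2) + (((k + 1 : ℕ) : F) * s ^ k) • N := by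
      intro k
      induction k with
      | zero => simp [hN]
      | succ k ih =>
        rw [pow_succ (g : M2) (k + 1), ih, show (g : M2) = s • (1 : M2) + N by rw [hN]; abel,
          add_mul, mul_add, mul_add, smul_mul_smul_comm, one_mul, smul_mul_assoc, one_mul,
          smul_mul_smul_comm, mul_one, smul_mul_assoc, hN2, smul_zero, add_zero, add_assoc, ← add_smul]
        push_cast
        ring_nf
    obtain ⟨k, rfl⟩ : ∃ k, n = k + 1 := ⟨n - 1, by
      rcases Nat.eq_zero_or_pos n with rfl | h
      · rw [Nat.coprime_zero_left] at hn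
        exact absurd hn (Fact.out : p.Prime).ne_one
      · omega⟩
    have e := hpow k
    rw [← Units.val_pow_eq_pow_val, hgn, Units.val_one] at e
    have htrN : N.trace = 0 := by
      rw [hN, Matrix.trace_sub, Matrix.trace_smul, Matrix.trace_one, ← ht, hts]
      simp
      ring
    have e2 := congrArg Matrix.trace e
    rw [Matrix.trace_add, Matrix.trace_smul, Matrix.trace_smul, htrN, Matrix.trace_one] at e2
    simp at e2
    have hsk : s ^ (k + 1) = 1 := (mul_right_cancel₀ h2 (by linear_combination e2)).symm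
    rw [hsk, one_smul, left_eq_add, smul_eq_zero] at e
    have hs0 : s ≠ 0 := fun h' => hd0 (by rw [hds, h']; ring)
    have hk0 : ((k + 1 : ℕ) : F) ≠ 0 := fun h' =>
      (Nat.Prime.coprime_iff_not_dvd Fact.out).mp (Nat.coprime_comm.mp hn) ((CharP.cast_eq_zero_iff F p _).mp h')
    exact hg s (sub_eq_zero.mp (e.resolve_left (mul_ne_zero hk0 (pow_ne_zero _ hs0))))
  have ha : a = t * (1 - b) / 2 := by rw [eq_div_iff h2]; linear_combination htb
  have hfac : (1 - b) * (1 + b) * (t ^ 2 - 4 * d) = 0 := by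
    rw [ha] at hdb
    field_simp at hdb
    linear_combination hdb
  have hsq : Commute (h ^ 2) g := by
    suffices hh : h * x * h⁻¹ = g by
      have : h ^ 2 * g * (h ^ 2)⁻¹ = g := by
        calc h ^ 2 * g * (h ^ 2)⁻¹ = h * (h * g * h⁻¹) * h⁻¹ := by
                rw [sq, _root_.mul_inv_rev]; simp only [mul_assoc]
          _ = g := by rw [← hx, hh]
      exact (mul_inv_eq_iff_eq_mul.mp this)
    rcases mul_eq_zero.mp ((mul_eq_zero.mp hfac).resolve_right hne) with hb | hb
    · have hb1 : b = 1 := (sub_eq_zero.mp hb).symm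
      have ha0 : a = 0 := by rw [ha, hb1]; simp
      have hxg : x = g := Units.ext (by rw [hab, ha0, hb1]; simp)
      rw [hxg]
      exact hxg
    · have hb1 : b = -1 := by linear_combination hb
      have hat : a = t := by rw [ha, hb1]; field_simp; ring
      refine Units.ext ?_
      rw [Units.val_mul, Units.val_mul, hab, hat, hb1, mul_add, add_mul, mul_smul_comm, smul_mul_assoc,
        mul_one, Units.mul_inv, mul_smul_comm, smul_mul_assoc, ← Units.val_mul, ← Units.val_mul, ← hx,
        hab, hat, hb1]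
      simp
  obtain ⟨k, hk⟩ := hm
  have hh : h = (h ^ 2) ^ (k + 1) := by
    rw [← pow_mul, show 2 * (k + 1) = m + 1 by omega, pow_succ, hhm, one_mul]
  rw [hh]
  exact hsq.pow_left _

/-- irreducible `p'`-groups of odd order are abelian -/
theorem commute_of_not_dvd (hp : p ≠ 2) (H : Subgroup (GL (Fin 2) F)) [Finite H]
    [Group.IsSolvable H] (hodd : Odd (Nat.card H)) (hnd : ¬ p ∣ Nat.card H) (a b : H) :
    a * b = b * a := by
  classical
  have hord : ∀ y : H, ((y : GL (Fin 2) F)) ^ Nat.card H = 1 := fun y => by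
    rw [← SubgroupClass.coe_pow, pow_card_eq_one', OneMemClass.coe_one]
  have hcop : (Nat.card H).Coprime p := by
    rw [Nat.coprime_comm, (Fact.out : p.Prime).coprime_iff_not_dvd]; exact hnd
  let Z : Subgroup H :=
    { carrier := {y | ∃ c : F, ((y : GL (Fin 2) F) : M2) = c • (1 : M2)}
      one_mem' := ⟨1, by simp⟩
      mul_mem' := fun {x y} ⟨c, hc⟩ ⟨c', hc'⟩ => ⟨c * c', by simp [hc, hc', smul_smul, mul_comm]⟩
      inv_mem' := fun {x} ⟨c, hc⟩ => ⟨c⁻¹, by
        have hc0 : c ≠ 0 := fun h => by
          have := congrArg Matrix.det hc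
          rw [h, zero_smul, Matrix.det_zero] at this
          exact ((Matrix.isUnit_iff_isUnit_det _).mp (x : GL (Fin 2) F).isUnit).ne_zero this
        rw [Subgroup.coe_inv]
        refine Units.inv_eq_of_mul_eq_one_right ?_
        rw [hc, smul_mul_smul_comm, mul_one, mul_inv_cancel₀ hc0, one_smul]⟩ }
  have hZc : ∀ z ∈ Z, ∀ y : H, z * y = y * z := by
    rintro z ⟨c, hc⟩ y
    refine Subtype.ext (Units.ext ?_)
    simp [hc]
  by_cases hall : ∀ y : H, y ∈ Z
  · exact hZc a (hall a) b
  push Not at hall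
  obtain ⟨y, hy⟩ := hall
  -- a normal subgroup, abelian modulo the scalars
  obtain ⟨M, hMn, hMZ, hMM⟩ : ∃ M : Subgroup H, M.Normal ∧ ¬ M ≤ Z ∧ ⁅M, M⁆ ≤ Z := by
    obtain ⟨n, hn⟩ := (Group.isSolvable_def H).mp inferInstance
    have hex : ∃ k, derivedSeries H k ≤ Z := ⟨n, hn.le.trans bot_le⟩
    have h0 : Nat.find hex ≠ 0 := fun h => hy (by
      have := Nat.find_spec hex
      rw [h, derivedSeries_zero] at this
      exact this (mem_top y))
    refine ⟨derivedSeries H (Nat.find hex - 1), derivedSeries_normal H _, Nat.find_min hex (by omega), ?_⟩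
    rw [← derivedSeries_succ, Nat.sub_add_cancel (Nat.pos_of_ne_zero h0)]
    exact Nat.find_spec hex
  have hMc : ∀ u ∈ M, ∀ w ∈ M, u * w = w * u := by
    intro u hu w hw
    obtain ⟨c, hc⟩ := hMM (commutator_mem_commutator hu hw)
    have hdet : c ^ 2 = 1 := by
      have e := congrArg Matrix.det hc
      rw [Matrix.det_smul, Matrix.det_one, mul_one, Fintype.card_fin] at e
      rw [← e, commutatorElement_def]
      simp only [Subgroup.coe_mul, Subgroup.coe_inv, Units.val_mul, Matrix.det_mul]
      have h1 : ∀ v : GL (Fin 2) F, (v : M2).det * ((v⁻¹ : GL (Fin 2) F) : M2).det = 1 := fun v => by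
        rw [← Matrix.det_mul, Units.mul_inv, Matrix.det_one]
      linear_combination (((w : GL (Fin 2) F) : M2).det * (((w : GL (Fin 2) F)⁻¹ : GL (Fin 2) F) : M2).det) *
        h1 (u : GL (Fin 2) F) + h1 (w : GL (Fin 2) F)
    have h2 : ⁅u, w⁆ ^ 2 = 1 := by
      refine Subtype.ext (Units.ext ?_)
      rw [SubgroupClass.coe_pow, Units.val_pow_eq_pow_val, hc, smul_pow, one_pow, hdet, one_smul]
      rfl
    have h3 : orderOf ⁅u, w⁆ = 1 := Nat.eq_one_of_dvd_coprimes
      (Nat.coprime_two_left.mpr hodd) (orderOf_dvd_of_pow_eq_one h2) (orderOf_dvd_natCard _)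
    exact commutatorElement_eq_one_iff_mul_comm.mp (orderOf_eq_one_iff.mp h3)
  obtain ⟨g, hgM, hgZ⟩ := SetLike.not_le_iff_exists.mp hMZ
  have hg : ∀ c : F, ((g : GL (Fin 2) F) : M2) ≠ c • (1 : M2) := fun c hc => hgZ ⟨c, hc⟩
  have hcg : ∀ u : H, Commute (u : GL (Fin 2) F) g := fun u =>
    commute_of_conj_commute hp hcop (hord g) hodd (hord u) hg
      (congrArg Subtype.val (hMc _ (hMn.conj_mem g hgM u) g hgM))
  obtain ⟨a₁, b₁, h1⟩ := exists_linear_of_commute hg (congrArg Units.val (hcg a).eq)
  obtain ⟨a₂, b₂, h2⟩ := exists_linear_of_commute hg (congrArg Units.val (hcg b).eq)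
  refine Subtype.ext (Units.ext ?_)
  simp only [Subgroup.coe_mul, Units.val_mul, h1, h2]
  simp [mul_add, add_mul, smul_smul, mul_comm]
  abel

/-- the derived subgroup of a solvable group of odd order in `GL(2, F)` is a `p`-group -/
theorem commutator_pow_prime (hp : p ≠ 2) (H : Subgroup (GL (Fin 2) F)) [Finite H]
    [Group.IsSolvable H] (hodd : Odd (Nat.card H)) : ∀ c ∈ commutator H, c ^ p = 1 := by
  classical
  by_cases hirr : ∀ v : Fin 2 → F, v ≠ 0 → ∃ g ∈ H, (g : M2).mulVec v ∉ Submodule.span F {v}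
  · intro c hc
    have hcomm := commute_of_not_dvd hp H hodd (not_dvd_card hp H hodd hirr)
    have h1 : commutator H ≤ ⊥ := by
      rw [_root_.commutator_def, commutator_le]
      exact fun u _ w _ => mem_bot.mpr (commutatorElement_eq_one_iff_mul_comm.mpr (hcomm u w))
    rw [mem_bot.mp (h1 hc), one_pow]
  push Not at hirr
  obtain ⟨v, hv, hfix⟩ := hirr
  have hev : ∀ g : H, ∃ c : F, ((g : GL (Fin 2) F) : M2) *ᵥ v = c • v := fun g => by
    obtain ⟨c, hc⟩ := Submodule.mem_span_singleton.mp (hfix g g.2)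
    exact ⟨c, hc.symm⟩
  choose χ hχ using hev
  have hmul : ∀ g g' : H, χ (g * g') = χ g * χ g' := fun g g' => by
    refine smul_left_injective F hv ?_
    show χ (g * g') • v = (χ g * χ g') • v
    rw [← hχ, Subgroup.coe_mul, Units.val_mul, ← Matrix.mulVec_mulVec, hχ, Matrix.mulVec_smul, hχ,
      smul_smul, mul_comm]
  have hone : χ 1 = 1 := by
    refine smul_left_injective F hv ?_
    show χ 1 • v = (1 : F) • v
    rw [← hχ]; simp
  let D : H →* F × F :=
    { toFun := fun g => (χ g, ((g : GL (Fin 2) F) : M2).det)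
      map_one' := by simp [hone]
      map_mul' := fun g g' => by simp [hmul, Matrix.det_mul] }
  intro c hc
  have hD : D c = 1 := by
    have h1 : commutator H ≤ D.ker := by
      rw [_root_.commutator_def, commutator_le]
      intro u _ w _
      rw [MonoidHom.mem_ker, commutatorElement_def, map_mul, map_mul, map_mul,
        mul_right_comm (D u) (D w), ← map_mul, mul_inv_cancel, map_one, one_mul, ← map_mul,
        mul_inv_cancel, map_one]
    exact h1 hc
  set C : M2 := ((c : GL (Fin 2) F) : M2) with hC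
  have hcv : C *ᵥ v = v := by rw [hC, hχ, show χ c = 1 from congrArg Prod.fst hD, one_smul]
  have hdet : C.det = 1 := congrArg Prod.snd hD
  have h0 : (C - 1).det = 0 := Matrix.exists_mulVec_eq_zero_iff.mp
    ⟨v, hv, by rw [Matrix.sub_mulVec, hcv, Matrix.one_mulVec, sub_self]⟩
  have htr : C.trace = 2 := by
    rw [Matrix.det_fin_two] at h0 hdet
    simp at h0
    rw [Matrix.trace_fin_two]
    linear_combination hdet - h0
  have hsq : (C - 1) * (C - 1) = 0 := by
    have hcay := cayley C
    rw [htr, hdet] at hcay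
    rw [← hcay]
    simp [sub_mul, mul_sub, two_smul]
    abel
  refine Subtype.ext (Units.ext ?_)
  rw [SubgroupClass.coe_pow, Units.val_pow_eq_pow_val, OneMemClass.coe_one, Units.val_one, ← sub_eq_zero]
  show C ^ p - 1 = 0
  conv_lhs => rw [← one_pow (M := M2) p]
  rw [← sub_pow_char_of_commute p (Commute.one_right C),
    ← Nat.sub_add_cancel (Fact.out : p.Prime).two_le, pow_add, sq, hsq, mul_zero]

end Cfsg.Lib.LinearTwo
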