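import Cfsg.Agent.OddLocal.RankTwo
import Cfsg.Agent.OddLocal.GLTwoOdd
import Cfsg.Agent.GaschutzYen.Omega
import Cfsg.Agent.Coprime.Action
import Cfsg.Agent.Coprime.Sylow
import Cfsg.Agent.OddLocal.CommutatorPLength
import Cfsg.Agent.PGroups.AutOrder
import Cfsg.Agent.S3771

/-!
# Groups of odd order acting on `p`-groups of rank two and narrow `p`-groups
-/

set_option linter.unusedSectionVars false
set_option linter.style.haveILetI false

namespace Cfsg.Lib.OddP

open Subgroup Module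
open scoped commutatorElement

universe u v

/-- rank at most two, or some elementary abelian subgroup of order `p^2` is maximal -/
def IsSmall (p : ℕ) (R : Type u) [Group R] : Prop :=
  Cfsg.PRankLE p 2 R ∨ ∃ E : Subgroup R, Cfsg.IsElementaryAbelian p E ∧ Nat.card E = p ^ 2 ∧
    ∀ B : Subgroup R, Cfsg.IsElementaryAbelian p B → E ≤ B → B = E

variable {p : ℕ} [hp : Fact p.Prime]

theorem isElementaryAbelian_map {A : Type u} {B : Type v} [Group A] [Group B] {E : Subgroup A}
    (hE : Cfsg.IsElementaryAbelian p E) (f : A →* B) : Cfsg.IsElementaryAbelian p (E.map f) := by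
  haveI := hE.1
  refine ⟨⟨⟨?_⟩⟩, ?_⟩
  · rintro ⟨_, a, ha, rfl⟩ ⟨_, b, hb, rfl⟩
    refine Subtype.ext ?_
    show f a * f b = f b * f a
    rw [← map_mul, ← map_mul, show a * b = b * a from congrArg Subtype.val (mul_comm' (⟨a, ha⟩ : E) ⟨b, hb⟩)]
  · rintro _ ⟨a, ha, rfl⟩
    rw [← map_pow, hE.2 a ha, map_one]

theorem pRankLE_of_injective {A : Type u} {B : Type v} [Group A] [Group B] {k : ℕ} (f : A →* B)
    (hf : Function.Injective f) (h : Cfsg.PRankLE p k B) : Cfsg.PRankLE p k A := fun E hEc hEp => by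
  have h1 := isElementaryAbelian_map (show Cfsg.IsElementaryAbelian p E from ⟨hEc, hEp⟩) f
  rw [← card_map_of_injective hf (K := E)]
  exact h _ h1.1 h1.2

theorem IsSmall.of_equiv {A : Type u} {B : Type v} [Group A] [Group B] (e : A ≃* B)
    (h : IsSmall p A) : IsSmall p B := by
  rcases h with h | ⟨E, hE, hE2, hmax⟩
  · exact Or.inl (pRankLE_of_injective e.symm.toMonoidHom e.symm.injective h)
  · refine Or.inr ⟨E.map e.toMonoidHom, isElementaryAbelian_map hE _,
      by rw [card_map_of_injective (f := e.toMonoidHom) e.injective, hE2], fun F hF hEF => ?_⟩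
    have h1 : F.map e.symm.toMonoidHom = E := hmax _ (isElementaryAbelian_map hF _) fun a ha =>
      ⟨e a, hEF (mem_map_of_mem _ ha), e.symm_apply_apply a⟩
    rw [← h1, map_map, show e.toMonoidHom.comp e.symm.toMonoidHom = MonoidHom.id B from
      MonoidHom.ext e.apply_symm_apply, map_id]

variable {G : Type u} [Group G] [Finite G]

/-- a characteristic subgroup of exponent `p` on which coprime automorphisms act faithfully -/
theorem exists_exponent_critical (hp2 : p ≠ 2) {R : Subgroup G} (hR : IsPGroup p R) :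
    ∃ D : Subgroup R, D.Characteristic ∧ (∀ x ∈ D, x ^ p = 1) ∧
      ∀ A : Subgroup G, A ≤ normalizer (R : Set G) → (Nat.card A).Coprime p →
        A ≤ centralizer ((D.map R.subtype : Subgroup G) : Set G) → A ≤ centralizer (R : Set G) := by
  obtain ⟨H, hHc, -, hHR, hCH⟩ := Cfsg.Lib.SolvStruct.exists_critical hR
  haveI := hHc
  refine ⟨closure {y : R | y ∈ H ∧ y ^ p = 1}, closure_characteristic, ?_, ?_⟩
  · have hle : closure {y : R | y ∈ H ∧ y ^ p = 1} ≤
        (closure {y : H | y ^ p = 1}).map H.subtype := by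
      refine (closure_le _).mpr ?_
      rintro y ⟨hy, hyp⟩
      exact ⟨⟨y, hy⟩, subset_closure (show (⟨y, hy⟩ : H) ^ p = 1 from Subtype.ext hyp), rfl⟩
    have hcl : ⁅commutator H, (⊤ : Subgroup H)⁆ = ⊥ := by
      rw [commutator_eq_bot_iff_le_centralizer, _root_.commutator_def, commutator_le]
      intro a _ b _
      refine mem_centralizer_iff.mpr fun c _ => ?_
      have h1 : ⁅(a : R), (b : R)⁆ ∈ centralizer (H : Set R) :=
        (hHR (commutator_mem_commutator a.2 (mem_top (b : R)))).2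
      exact Subtype.ext (mem_centralizer_iff.mp h1 c c.2)
    intro x hx
    obtain ⟨y, hy, rfl⟩ := hle hx
    rw [← map_pow, Cfsg.Lib.PGroups.pow_eq_one_of_mem_closure_class_two hp.out hp2 hcl hy, map_one]
  · intro A hAR hA hAD
    set H' := H.map R.subtype with hH'
    have hAH : A ≤ normalizer (H' : Set G) := hAR.trans (le_normalizer_map_of_char H)
    have hH'p : IsPGroup p H' := (hR.to_subgroup H).map _
    have h1 : A ≤ centralizer (H' : Set G) := by
      refine Cfsg.Lib.GaschutzYen.le_centralizer_of_omega hp2 _ rfl hH'p hAH hA fun q hq hqp r hr => ?_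
      obtain ⟨q', hq', rfl⟩ := hq
      refine (mem_centralizer_iff.mp (hAD hr) _ (mem_map_of_mem _
        (subset_closure (⟨hq', R.subtype_injective (by rw [map_pow, map_one]; exact hqp)⟩ :
          q' ∈ {y : R | y ∈ H ∧ y ^ p = 1})))).symm
    intro a ha
    refine mem_centralizer_iff.mpr fun k hk => ?_
    have hcop : (Nat.card A).Coprime (Nat.card H') := by
      obtain ⟨i, hi⟩ := IsPGroup.iff_card.mp hH'p
      rw [hi]
      exact hA.pow_right i
    have hkc : k ∈ centralizer (A : Set G) := by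
      refine Cfsg.Lib.Coprime.centralizes_of_coprime_chain hcop h1 fun b hb => ?_
      have hbR : k⁻¹ * b * k * b⁻¹ ∈ R := by
        rw [show k⁻¹ * b * k * b⁻¹ = k⁻¹ * (b * k * b⁻¹) by group]
        exact mul_mem (inv_mem hk) ((mem_normalizer_iff.mp (hAR hb) k).mp hk)
      suffices h2 : (⟨_, hbR⟩ : R) ∈ centralizer (H : Set R) from ⟨_, hCH h2, rfl⟩
      refine mem_centralizer_iff.mpr fun c hc => Subtype.ext ?_
      show (c : G) * (k⁻¹ * b * k * b⁻¹) = k⁻¹ * b * k * b⁻¹ * c
      have hc' : (c : G) ∈ H' := mem_map_of_mem _ hc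
      have hkc' : k * c * k⁻¹ ∈ H' :=
        ⟨⟨k, hk⟩ * c * ⟨k, hk⟩⁻¹, (inferInstance : H.Normal).conj_mem c hc _, rfl⟩
      have e1 : k * c * k⁻¹ * b = b * (k * c * k⁻¹) := mem_centralizer_iff.mp (h1 hb) _ hkc'
      have e2 : (c : G) * b⁻¹ = b⁻¹ * c :=
        mem_centralizer_iff.mp (h1 (inv_mem hb)) _ hc'
      calc (c : G) * (k⁻¹ * b * k * b⁻¹) = k⁻¹ * (k * c * k⁻¹ * b) * k * b⁻¹ := by group
        _ = k⁻¹ * (b * (k * c * k⁻¹)) * k * b⁻¹ := by rw [e1]
        _ = k⁻¹ * b * k * (c * b⁻¹) := by group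
        _ = k⁻¹ * b * k * (b⁻¹ * c) := by rw [e2]
        _ = k⁻¹ * b * k * b⁻¹ * c := by group
    exact (mem_centralizer_iff.mp hkc a ha).symm

/-- the action of `N(U)` on the Frattini quotient of `U` -/
noncomputable def frattiniAction (U : Subgroup G) :
    normalizer (U : Set G) →* MulAut (U ⧸ frattini U) where
  toFun a := QuotientGroup.congr (frattini U) (frattini U) (U.normalizerMonoidHom a)
    (characteristic_iff_map_eq.mp frattini_characteristic (U.normalizerMonoidHom a))
  map_one' := by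
    ext y
    obtain ⟨y, rfl⟩ := QuotientGroup.mk'_surjective (frattini U) y
    show QuotientGroup.mk' _ (U.normalizerMonoidHom 1 y) = QuotientGroup.mk' _ y
    rw [map_one]; rfl
  map_mul' a b := by
    ext y
    obtain ⟨y, rfl⟩ := QuotientGroup.mk'_surjective (frattini U) y
    show QuotientGroup.mk' _ (U.normalizerMonoidHom (a * b) y) =
      QuotientGroup.mk' _ (U.normalizerMonoidHom a (U.normalizerMonoidHom b y))
    rw [map_mul]; rfl

theorem le_centralizer_of_frattiniAction {U : Subgroup G} (hU : IsPGroup p U) {A : Subgroup G}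
    (hA : (Nat.card A).Coprime p) (hAU : A ≤ normalizer (U : Set G))
    (h : ∀ a : normalizer (U : Set G), (a : G) ∈ A → frattiniAction U a = 1) :
    A ≤ centralizer (U : Set G) := by
  obtain ⟨i, hi⟩ := IsPGroup.iff_card.mp (hU.to_subgroup (frattini U))
  refine Cfsg.Lib.Coprime.le_centralizer_of_frattini hAU (hi ▸ hA.pow_right i) fun a ha k hk => ?_
  have h1 : frattiniAction U ⟨a, hAU ha⟩ (QuotientGroup.mk (⟨k, hk⟩ : U)) =
      QuotientGroup.mk (⟨k, hk⟩ : U) := by
    rw [h ⟨a, hAU ha⟩ ha]; rfl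
  change (QuotientGroup.mk (U.normalizerMonoidHom ⟨a, hAU ha⟩ ⟨k, hk⟩) : U ⧸ frattini U) = _ at h1
  rw [eq_comm, QuotientGroup.eq] at h1
  exact ⟨_, ((inferInstance : (frattini U).Normal).mem_comm_iff).mp h1, rfl⟩

theorem frattini_quotient_small {U : Type u} [Group U] [Finite U] (hU : IsPGroup p U)
    (hr : Cfsg.PRankLE p 2 U) (hexp : ∀ x : U, x ^ p = 1) :
    ∃ k ≤ 2, Nat.card (U ⧸ frattini U) = p ^ k := by
  obtain ⟨k, hk⟩ := IsPGroup.iff_card.mp (hU.to_quotient (frattini U))
  refine ⟨k, ?_, hk⟩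
  by_contra hk2
  push Not at hk2
  have h1 : p ^ 3 ≤ Nat.card (U ⧸ frattini U) := hk ▸ Nat.pow_le_pow_right hp.out.pos hk2
  have h2 : Nat.card (U ⧸ frattini U) * Nat.card (frattini U) = Nat.card U :=
    (Subgroup.card_eq_card_quotient_mul_card_subgroup _).symm
  have h3 : Nat.card U ≤ p ^ 3 := Cfsg.Agent.S3771.result hU hr hexp
  have h4 : frattini U = ⊥ := by
    refine card_eq_one.mp (le_antisymm ?_ Nat.card_pos)
    exact Nat.le_of_mul_le_mul_left (by rw [mul_one, h2]; exact h3.trans h1) Nat.card_pos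
  have hab : IsMulCommutative U := by
    haveI := Cfsg.Lib.PGroups.isMulCommutative_quotient_frattini hU
    refine ⟨⟨fun a b => ?_⟩⟩
    have e : (QuotientGroup.mk (a * b) : U ⧸ frattini U) = QuotientGroup.mk (b * a) := by
      rw [QuotientGroup.mk_mul, QuotientGroup.mk_mul, mul_comm']
    rw [QuotientGroup.eq, h4, mem_bot, inv_mul_eq_one] at e
    exact e
  haveI := hab
  have h5 := hr ⊤ inferInstance fun x _ => hexp x
  rw [card_top] at h5
  have hb : Nat.card (frattini U) = 1 := by rw [h4, card_bot]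
  rw [hb, mul_one] at h2
  rw [h2] at h1
  exact absurd (h1.trans h5) (not_le.mpr (Nat.pow_lt_pow_right hp.out.one_lt (by norm_num)))

/-- odd solvable groups of automorphisms of `C_p × C_p` -/
theorem pow_prime_of_commutator_mulAut {M : Type u} [CommGroup M] [Finite M] (hp2 : p ≠ 2)
    (hM : ∀ m : M, m ^ p = 1) {k : ℕ} (hk : k ≤ 2) (hcard : Nat.card M = p ^ k)
    (I : Subgroup (MulAut M)) [Group.IsSolvable I] (hodd : Odd (Nat.card I)) :
    ∀ c ∈ ⁅I, I⁆, c ^ p = 1 := by
  classical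
  rcases (show k ≤ 1 ∨ k = 2 by omega) with hk1 | rfl
  · haveI : IsCyclic M := by
      rcases (show k = 0 ∨ k = 1 by omega) with rfl | rfl
      · haveI : Subsingleton M := (Nat.card_eq_one_iff_unique.mp (hcard.trans (pow_zero p))).1
        infer_instance
      · exact isCyclic_of_prime_card (hcard.trans (pow_one p))
    intro c hc
    have h1 : ⁅I, I⁆ ≤ ⊥ := commutator_le.mpr fun a _ b _ => by
      rw [mem_bot, commutatorElement_eq_one_iff_mul_comm]
      exact MulEquiv.ext fun y => by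
        obtain ⟨m, hm⟩ := MonoidHom.map_cyclic a.toMonoidHom
        obtain ⟨m', hm'⟩ := MonoidHom.map_cyclic b.toMonoidHom
        have ha : ∀ g, a g = g ^ m := hm
        have hb : ∀ g, b g = g ^ m' := hm'
        rw [MulAut.mul_apply, MulAut.mul_apply, hb, ha, ha, hb, ← zpow_mul, ← zpow_mul, mul_comm]
    rw [mem_bot.mp (h1 hc), one_pow]
  haveI : Finite (MulAut M) := Finite.of_injective (fun e => (e : M → M)) DFunLike.coe_injective
  letI : Module (ZMod p) (Additive M) :=
    AddCommGroup.zmodModule (n := p) (G := Additive M) fun m => hM m.toMul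
  haveI : Module.Finite (ZMod p) (Additive M) := Module.Finite.of_finite
  have hfin : finrank (ZMod p) (Additive M) = 2 := by
    have h := Module.natCard_eq_pow_finrank (K := ZMod p) (V := Additive M)
    rw [Nat.card_congr Additive.toMul, hcard, Nat.card_zmod] at h
    exact (Nat.pow_right_injective hp.out.two_le h).symm
  let b := Module.finBasisOfFinrankEq (ZMod p) (Additive M) hfin
  let lin : MulAut M →* Module.End (ZMod p) (Additive M) :=
    { toFun := fun a => AddMonoidHom.toZModLinearMap p (MonoidHom.toAdditive a.toMonoidHom)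
      map_one' := LinearMap.ext fun v => rfl
      map_mul' := fun a b => LinearMap.ext fun v => rfl }
  let f : MulAut M →* Matrix (Fin 2) (Fin 2) (ZMod p) :=
    (LinearMap.toMatrixAlgEquiv b).toMonoidHom.comp lin
  set Θ : MulAut M →* GL (Fin 2) (ZMod p) := f.toHomUnits
  have hΘ : Function.Injective Θ := fun a c h => MulEquiv.ext fun m =>
    Additive.ofMul.injective (LinearMap.congr_fun
      ((LinearMap.toMatrixAlgEquiv b).injective (congrArg Units.val h)) (Additive.ofMul m))
  intro c hc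
  apply hΘ
  rw [map_pow, map_one]
  set H := I.map Θ
  haveI : Group.IsSolvable H := Cfsg.Lib.Coprime.isSolvable_map inferInstance Θ
  have hH : Odd (Nat.card H) := by rwa [card_map_of_injective hΘ]
  have hmem : Θ c ∈ ⁅H, H⁆ := map_commutator I I Θ ▸ mem_map_of_mem Θ hc
  rw [← Subgroup.map_subtype_commutator] at hmem
  obtain ⟨d, hd, hdc⟩ := hmem
  rw [← hdc, ← map_pow, Cfsg.Lib.LinearTwo.commutator_pow_prime hp2 H hH d hd, map_one]

/-- derived elements of an odd group acting on rank two -/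
theorem derived_centralizes_rankTwo (hp2 : p ≠ 2) {R : Subgroup G} (hR : IsPGroup p R)
    (hr : Cfsg.PRankLE p 2 R) {A : Subgroup G} [Group.IsSolvable A] (hA : A ≤ normalizer (R : Set G))
    (hodd : Odd (Nat.card A)) {x : G} (hx : x ∈ ⁅A, A⁆) (hxp : (orderOf x).Coprime p) :
    x ∈ centralizer (R : Set G) := by
  obtain ⟨D, hDc, hDexp, hD⟩ := exists_exponent_critical hp2 hR
  set U := D.map R.subtype with hU
  have hUp : IsPGroup p U := (hR.to_subgroup D).map _
  have hAU : A ≤ normalizer (U : Set G) := hA.trans (le_normalizer_map_of_char D)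
  have hxA : x ∈ A := commutator_le_self A hx
  have hcop : (Nat.card (zpowers x)).Coprime p := by rwa [Nat.card_zpowers]
  refine hD (zpowers x) (zpowers_le.mpr (hA hxA)) hcop ?_ (mem_zpowers x)
  refine le_centralizer_of_frattiniAction hUp hcop (zpowers_le.mpr (hAU hxA)) fun a ha => ?_
  have hexpU : ∀ y : U, y ^ p = 1 := by
    rintro ⟨_, y, hy, rfl⟩
    exact Subtype.ext (by show (y : G) ^ p = 1; rw [← SubgroupClass.coe_pow, hDexp y hy]; rfl)
  have hrU : Cfsg.PRankLE p 2 U :=
    pRankLE_of_injective (inclusion (map_subtype_le D)) (inclusion_injective _) hr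
  obtain ⟨k, hk, hkc⟩ := frattini_quotient_small hUp hrU hexpU
  haveI := Cfsg.Lib.PGroups.isMulCommutative_quotient_frattini hUp
  letI : CommGroup (U ⧸ frattini U) :=
    { (inferInstance : Group (U ⧸ frattini U)) with mul_comm := mul_comm' }
  set A' := A.subgroupOf (normalizer (U : Set G))
  set I := A'.map (frattiniAction U)
  haveI : Group.IsSolvable A' :=
    Group.isSolvable_of_isSolvable_injective (f := (subgroupOfEquivOfLe hAU).toMonoidHom) (MulEquiv.injective _)
  haveI : Group.IsSolvable I := Cfsg.Lib.Coprime.isSolvable_map inferInstance _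
  have hI : Odd (Nat.card I) := by
    refine (Odd.of_dvd_nat ?_ (card_map_dvd A' (frattiniAction U)))
    rwa [Nat.card_congr (subgroupOfEquivOfLe hAU).toEquiv]
  have hxI : frattiniAction U ⟨x, hAU hxA⟩ ∈ ⁅I, I⁆ := by
    have h1 : (⟨x, hAU hxA⟩ : normalizer (U : Set G)) ∈ ⁅A', A'⁆ := by
      have h2 : x ∈ (⁅A', A'⁆).map (normalizer (U : Set G)).subtype := by
        rw [map_commutator, subgroupOf_map_subtype, inf_eq_left.mpr hAU]; exact hx
      obtain ⟨y, hy, hyx⟩ := h2
      rwa [show (⟨x, hAU hxA⟩ : normalizer (U : Set G)) = y from Subtype.ext hyx.symm]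
    have h3 := mem_map_of_mem (frattiniAction U) h1
    rwa [map_commutator] at h3
  have h4 := pow_prime_of_commutator_mulAut hp2 (Cfsg.Lib.PGroups.pow_prime_quotient_frattini hUp)
    hk hkc I hI _ hxI
  have h5 : frattiniAction U ⟨x, hAU hxA⟩ = 1 := by
    refine orderOf_eq_one_iff.mp (Nat.eq_one_of_dvd_coprimes hxp ?_ (orderOf_dvd_of_pow_eq_one h4))
    exact (orderOf_map_dvd _ _).trans (dvd_of_eq (orderOf_mk x _))
  obtain ⟨m, hm⟩ := mem_zpowers_iff.mp ha
  rw [show a = (⟨x, hAU hxA⟩ : normalizer (U : Set G)) ^ m from Subtype.ext hm.symm, map_zpow, h5,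
    one_zpow]

/-- primes acting on rank two -/
theorem prime_dvd_sq_sub_one (hp2 : p ≠ 2) {R : Subgroup G} (hR : IsPGroup p R)
    (hr : Cfsg.PRankLE p 2 R) {x : G} (hx : x ∈ normalizer (R : Set G))
    (hxp : (orderOf x).Coprime p) {q : ℕ} (hq : q.Prime) (hqp : q ≠ p)
    (hxq : x ^ q ∈ centralizer (R : Set G)) (hxR : x ∉ centralizer (R : Set G)) :
    q ∣ p ^ 2 - 1 := by
  obtain ⟨D, hDc, hDexp, hD⟩ := exists_exponent_critical hp2 hR
  set U := D.map R.subtype with hU
  have hUp : IsPGroup p U := (hR.to_subgroup D).map _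
  have hxU : x ∈ normalizer (U : Set G) := (le_normalizer_map_of_char D) hx
  have hcop : (Nat.card (zpowers x)).Coprime p := by rwa [Nat.card_zpowers]
  have hne : frattiniAction U ⟨x, hxU⟩ ≠ 1 := fun h1 => hxR <| by
    refine hD (zpowers x) (zpowers_le.mpr hx) hcop ?_ (mem_zpowers x)
    refine le_centralizer_of_frattiniAction hUp hcop (zpowers_le.mpr hxU) fun a ha => ?_
    obtain ⟨m, hm⟩ := mem_zpowers_iff.mp ha
    rw [show a = (⟨x, hxU⟩ : normalizer (U : Set G)) ^ m from Subtype.ext hm.symm, map_zpow, h1,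
      one_zpow]
  have hq1 : frattiniAction U ⟨x, hxU⟩ ^ q = 1 := by
    rw [← map_pow]
    refine MulEquiv.ext fun y => ?_
    obtain ⟨⟨y, hy⟩, rfl⟩ := QuotientGroup.mk_surjective y
    show QuotientGroup.mk (U.normalizerMonoidHom _ (⟨y, hy⟩ : U)) = QuotientGroup.mk (⟨y, hy⟩ : U)
    refine congrArg _ (Subtype.ext ?_)
    show x ^ q * y * (x ^ q)⁻¹ = y
    rw [← mem_centralizer_iff.mp hxq y (map_subtype_le D hy), mul_inv_cancel_right]
  haveI : Finite (MulAut (U ⧸ frattini U)) :=
    Finite.of_injective (fun e => (e : U ⧸ frattini U → U ⧸ frattini U)) DFunLike.coe_injective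
  have hord : q ∣ Nat.card (MulAut (U ⧸ frattini U)) := by
    haveI := Fact.mk hq
    exact orderOf_eq_prime hq1 hne ▸ orderOf_dvd_natCard _
  have hexpU : ∀ y : U, y ^ p = 1 := by
    rintro ⟨_, y, hy, rfl⟩
    exact Subtype.ext (by show (y : G) ^ p = 1; rw [← SubgroupClass.coe_pow, hDexp y hy]; rfl)
  have hrU : Cfsg.PRankLE p 2 U :=
    pRankLE_of_injective (inclusion (map_subtype_le D)) (inclusion_injective _) hr
  obtain ⟨k, hk, hkc⟩ := frattini_quotient_small hUp hrU hexpU
  haveI := Cfsg.Lib.PGroups.isMulCommutative_quotient_frattini hUp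
  have hfr : (frattini (U ⧸ frattini U)).index = p ^ k := by
    rw [Cfsg.Lib.SolvStruct.frattini_eq_bot_of_elementary (p := p)
      (Cfsg.Lib.PGroups.pow_prime_quotient_frattini hUp) (fun a b => mul_comm' a b), index_bot, hkc]
  have hdvd := hord.trans (Cfsg.Lib.PGroups.card_aut_dvd hkc hfr)
  rw [Nat.sub_self, mul_zero, pow_zero, one_mul] at hdvd
  obtain ⟨i, hi, hid⟩ := (hq.prime.dvd_finsetProd_iff _).mp hdvd
  rw [Finset.mem_range] at hi
  have hsq : p - 1 ∣ p ^ 2 - 1 := by simpa using Nat.sub_dvd_pow_sub_pow p 1 2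
  rcases (show (k = 1 ∧ i = 0) ∨ (k = 2 ∧ i = 0) ∨ (k = 2 ∧ i = 1) by omega) with
    ⟨rfl, rfl⟩ | ⟨rfl, rfl⟩ | ⟨rfl, rfl⟩
  · rw [pow_one, pow_zero] at hid
    exact hid.trans hsq
  · rwa [pow_zero] at hid
  · rw [pow_one, sq, ← Nat.mul_sub_one] at hid
    rcases hq.dvd_mul.mp hid with h | h
    · exact absurd ((Nat.prime_dvd_prime_iff_eq hq hp.out).mp h) hqp
    · exact h.trans hsq

/-- derived elements and `(p - 1)`-th powers act trivially on factors of order `p` -/
theorem trivial_on_factor {L U : Subgroup G} (hLU : L ≤ U) (hUL : U ≤ normalizer (L : Set G))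
    (hidx : L.relIndex U ∣ p) {M : Subgroup G} (hM : M ≤ normalizer (U : Set G))
    (hM' : M ≤ normalizer (L : Set G)) {a : G}
    (ha : a ∈ ⁅M, M⁆ ∨ ∃ b ∈ M, a = b ^ (p - 1)) : ∀ k ∈ U, k⁻¹ * a * k * a⁻¹ ∈ L := by
  haveI : (L.subgroupOf U).Normal := (normal_subgroupOf_iff_le_normalizer hLU).mpr hUL
  set Q := U ⧸ L.subgroupOf U
  let φ : M →* MulAut U := U.normalizerMonoidHom.comp (inclusion hM)
  have hφ : ∀ (m : M) (y : U), ((φ m y : U) : G) = (m : G) * y * (m : G)⁻¹ := fun m y => rfl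
  have hmap : ∀ m : M, (L.subgroupOf U).map (φ m).toMonoidHom = L.subgroupOf U := by
    intro m
    ext z
    constructor
    · rintro ⟨y, hy, rfl⟩
      exact (mem_normalizer_iff.mp (hM' m.2) _).mp hy
    · intro hz
      refine ⟨(φ m).symm z, ?_, (φ m).apply_symm_apply z⟩
      show (((φ m).symm z : U) : G) ∈ L
      rw [mem_normalizer_iff.mp (hM' m.2), ← hφ, MulEquiv.apply_symm_apply]
      exact hz
  let χ : M →* MulAut Q :=
    { toFun := fun m => QuotientGroup.congr _ _ (φ m) (hmap m)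
      map_one' := by
        ext y
        obtain ⟨y, rfl⟩ := QuotientGroup.mk'_surjective (L.subgroupOf U) y
        show QuotientGroup.mk' _ (φ 1 y) = QuotientGroup.mk' _ y
        rw [map_one]; rfl
      map_mul' := fun a b => by
        ext y
        obtain ⟨y, rfl⟩ := QuotientGroup.mk'_surjective (L.subgroupOf U) y
        show QuotientGroup.mk' _ (φ (a * b) y) = QuotientGroup.mk' _ (φ a (φ b y))
        rw [map_mul]; rfl }
  have hQcard : Nat.card Q ∣ p := hidx
  haveI hQc : IsCyclic Q := by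
    rcases (Nat.dvd_prime hp.out).mp hQcard with h | h
    · haveI : Subsingleton Q := (Nat.card_eq_one_iff_unique.mp h).1
      infer_instance
    · exact isCyclic_of_prime_card h
  have hcomm : ∀ e₁ e₂ : MulAut Q, e₁ * e₂ = e₂ * e₁ := fun e₁ e₂ => MulEquiv.ext fun y => by
    obtain ⟨m, hm⟩ := MonoidHom.map_cyclic e₁.toMonoidHom
    obtain ⟨m', hm'⟩ := MonoidHom.map_cyclic e₂.toMonoidHom
    have h1 : ∀ g, e₁ g = g ^ m := hm
    have h2 : ∀ g, e₂ g = g ^ m' := hm'
    rw [MulAut.mul_apply, MulAut.mul_apply, h2, h1, h1, h2, ← zpow_mul, ← zpow_mul, mul_comm]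
  have haM : a ∈ M := by
    rcases ha with ha | ⟨b, hb, rfl⟩
    · exact commutator_le_self M ha
    · exact pow_mem hb _
  have hχ : χ ⟨a, haM⟩ = 1 := by
    rcases ha with ha | ⟨b, hb, rfl⟩
    · have h1 : (⟨a, haM⟩ : M) ∈ commutator M := by
        rw [← map_subtype_commutator] at ha
        obtain ⟨y, hy, hya⟩ := ha
        rwa [show (⟨a, haM⟩ : M) = y from Subtype.ext hya.symm]
      have h2 : commutator M ≤ χ.ker := by
        rw [_root_.commutator_def, commutator_le]
        intro u _ w _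
        rw [MonoidHom.mem_ker, map_commutatorElement, commutatorElement_eq_one_iff_mul_comm]
        exact hcomm _ _
      exact h2 h1
    · rw [show (⟨b ^ (p - 1), haM⟩ : M) = (⟨b, hb⟩ : M) ^ (p - 1) from rfl, map_pow]
      refine orderOf_dvd_iff_pow_eq_one.mp ((_root_.orderOf_dvd_natCard _).trans ?_)
      rw [IsCyclic.card_mulAut]
      rcases (Nat.dvd_prime hp.out).mp hQcard with h | h
      · rw [h, Nat.totient_one]; exact one_dvd _
      · rw [h, Nat.totient_prime hp.out]
  intro k hk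
  have h1 : χ ⟨a, haM⟩ (QuotientGroup.mk (⟨k, hk⟩ : U)) = QuotientGroup.mk (⟨k, hk⟩ : U) := by
    rw [hχ]; rfl
  change (QuotientGroup.mk (φ ⟨a, haM⟩ ⟨k, hk⟩) : Q) = _ at h1
  rw [eq_comm, QuotientGroup.eq] at h1
  have h2 : k⁻¹ * (a * k * a⁻¹) ∈ L := h1
  rwa [show k⁻¹ * a * k * a⁻¹ = k⁻¹ * (a * k * a⁻¹) by group]

/-- coprime automorphisms trivial on all small factors of a narrow group of rank at least three -/
theorem centralizes_of_trivial_factors (hp2 : p ≠ 2) {R : Subgroup G} (hR : IsPGroup p R)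
    (hr : ¬ Cfsg.PRankLE p 2 R) {E : Subgroup R} (hE : Cfsg.IsElementaryAbelian p E)
    (hE2 : Nat.card E = p ^ 2)
    (hEmax : ∀ B : Subgroup R, Cfsg.IsElementaryAbelian p B → E ≤ B → B = E)
    {A : Subgroup G} (hAR : A ≤ normalizer (R : Set G)) (hAp : (Nat.card A).Coprime p)
    (htriv : ∀ L U : Subgroup G, L ≤ U → U ≤ normalizer (L : Set G) →
      normalizer (R : Set G) ≤ normalizer (U : Set G) → normalizer (R : Set G) ≤ normalizer (L : Set G) →
      L.relIndex U ∣ p → ∀ a ∈ A, ∀ k ∈ U, k⁻¹ * a * k * a⁻¹ ∈ L) :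
    A ≤ centralizer (R : Set G) := by
  classical
  obtain ⟨hEC, hZp, -, hTc, hTi⟩ := maximal_sq_structure hp2 hR hr E hE hE2 hEmax
  set T := centralizer ((closure {x : R | x ∈ Subgroup.upperCentralSeries R 2 ∧ x ^ p = 1} :
    Subgroup R) : Set R) with hT
  obtain ⟨D, hDc, hDexp, hD⟩ := exists_exponent_critical hp2 hR
  refine hD A hAR hAp ?_
  have hinf : ∀ S₁ S₂ : Subgroup R, S₁.Characteristic → S₂.Characteristic →
      (S₁ ⊓ S₂).Characteristic := fun S₁ S₂ h1 h2 => characteristic_iff_map_le.mpr fun φ =>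
    (map_inf_le S₁ S₂ _).trans (inf_le_inf (characteristic_iff_map_le.mp h1 φ)
      (characteristic_iff_map_le.mp h2 φ))
  set D₀ := D ⊓ T
  have hD₀c : D₀.Characteristic := hinf _ _ hDc hTc
  let L : ℕ → Subgroup R := fun j => D₀ ⊓ Subgroup.upperCentralSeries R j
  have hLc : ∀ j, (L j).Characteristic := fun j => hinf _ _ hD₀c inferInstance
  obtain ⟨e, heE, heT⟩ := SetLike.not_le_iff_exists.mp hEC
  have hET : Nat.card ↥(E ⊓ T) ≤ p := by
    obtain ⟨c, hc, hcc⟩ := (Nat.dvd_prime_pow hp.out).mp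
      (hE2 ▸ card_dvd_of_le (inf_le_left : E ⊓ T ≤ E))
    by_contra hlt
    push Not at hlt
    rw [hcc] at hlt
    have h1 : 1 < c := (Nat.pow_lt_pow_iff_right hp.out.one_lt).mp (by rwa [pow_one])
    refine heT ((Cfsg.Lib.Coprime.eq_of_le_of_card_eq (inf_le_left : E ⊓ T ≤ E) ?_).ge heE).2
    rw [hcc, hE2, show c = 2 by omega]
  have hETc : E ⊓ T ≤ center R := by
    have hle : closure {x : R | x ∈ center R ∧ x ^ p = 1} ≤ E ⊓ T := fun z hz =>
      ⟨mem_of_commute_maximal hE hEmax (mem_closure_center hz).2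
          fun e _ => mem_center_iff.mp (mem_closure_center hz).1 e,
        mem_centralizer_iff.mpr fun w _ => mem_center_iff.mp (mem_closure_center hz).1 w⟩
    rw [← Cfsg.Lib.Coprime.eq_of_le_of_card_eq hle (le_antisymm (card_le_of_le hle) (hET.trans hZp.ge))]
    exact fun z hz => (mem_closure_center hz).1
  have hfix : Nat.card ↥(D₀ ⊓ centralizer ({e} : Set R)) ≤ p := by
    refine (card_le_of_le ?_).trans hET
    rintro y ⟨⟨hyD, hyT⟩, hyc⟩
    refine ⟨mem_of_commute_maximal hE hEmax (hDexp y hyD) fun f hf => ?_, hyT⟩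
    have hEeq : E = (E ⊓ T) ⊔ zpowers e := by
      refine Cfsg.Lib.PGroups.eq_sup_zpowers_of_relIndex_prime (p := p) inf_le_left ?_ heE fun h => heT h.2
      rw [inf_relIndex_left]
      refine ((Nat.dvd_prime hp.out).mp (hTi ▸ ?_)).resolve_left fun h => heT (relIndex_eq_one.mp h heE)
      haveI := hTc
      exact relIndex_dvd_index_of_normal T E
    obtain ⟨m, hm, g, ⟨i, rfl⟩, rfl⟩ := (Cfsg.Lib.Coprime.mem_sup_of_le_normalizer (by
      rw [zpowers_le]
      exact centralizer_le_normalizer _ (mem_centralizer_iff.mpr fun z hz =>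
        congrArg Subtype.val (hE.1.is_comm.comm (⟨z, hz.1⟩ : E) ⟨e, heE⟩)))).mp (hEeq.le hf)
    have h1 : Commute y e := (mem_centralizer_singleton_iff.mp hyc : _)
    have h2 : Commute m y := ((mem_center_iff.mp (hETc hm)) y).symm
    exact (h2.mul_left (h1.symm.zpow_left i)).eq
  have hstep : ∀ j, (L j).relIndex (L (j + 1)) ∣ p := by
    intro j
    haveI := hLc j
    haveI := hLc (j + 1)
    have hle : L j ≤ L (j + 1) := inf_le_inf_left _ (Subgroup.upperCentralSeries_mono R (Nat.le_succ j))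
    have hc : ∀ y ∈ L (j + 1), ⁅y, e⁆ ∈ L j := fun y hy => by
      haveI := hD₀c
      refine ⟨?_, Subgroup.mem_upperCentralSeries_succ_iff.mp hy.2 e⟩
      rw [commutatorElement_def, mul_assoc, mul_assoc]
      exact mul_mem hy.1 (by
        rw [← mul_assoc]
        exact (inferInstance : D₀.Normal).conj_mem _ (inv_mem hy.1) e)
    have hcard : Nat.card (L (j + 1)) ≤ p * Nat.card (L j) := by
      have h1 := relIndex_mul_relIndex (⊥ : Subgroup R) (L (j + 1) ⊓ centralizer ({e} : Set R))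
        (L (j + 1)) bot_le inf_le_left
      rw [relIndex_bot_left, relIndex_bot_left, inf_relIndex_left] at h1
      rw [← h1]
      exact Nat.mul_le_mul ((card_le_of_le (inf_le_inf_right _ inf_le_left)).trans hfix)
        (Cfsg.Lib.PGroups.relIndex_centralizer_le _ e _ hc)
    have h2 := relIndex_mul_relIndex (⊥ : Subgroup R) (L j) (L (j + 1)) bot_le hle
    rw [relIndex_bot_left, relIndex_bot_left] at h2
    obtain ⟨m, hm⟩ := IsPGroup.iff_card.mp (hR.to_subgroup (L (j + 1)))
    obtain ⟨i, -, hi⟩ := (Nat.dvd_prime_pow hp.out).mp (hm ▸ Dvd.intro_left _ h2)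
    have h3 : (L j).relIndex (L (j + 1)) ≤ p :=
      Nat.le_of_mul_le_mul_left (by rw [h2, mul_comm]; exact hcard) Nat.card_pos
    rw [hi] at h3 ⊢
    have h4 : i ≤ 1 := (Nat.pow_le_pow_iff_right hp.out.one_lt).mp (h3.trans (pow_one p).ge)
    exact (pow_dvd_pow p h4).trans (pow_one p).dvd
  -- `A` centralizes each `L j`
  have hnorm : ∀ S : Subgroup R, S.Characteristic →
      normalizer (R : Set G) ≤ normalizer ((S.map R.subtype : Subgroup G) : Set G) := fun S hS =>
    @le_normalizer_map_of_char G _ _ R S hS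
  have hrel : ∀ S₁ S₂ : Subgroup R, (S₁.map R.subtype).relIndex (S₂.map R.subtype) = S₁.relIndex S₂ :=
    fun S₁ S₂ => relIndex_map_map_of_injective S₁ S₂ R.subtype_injective
  have hcopR : ∀ S : Subgroup R, (Nat.card A).Coprime (Nat.card (S.map R.subtype)) := fun S => by
    obtain ⟨i, hi⟩ := IsPGroup.iff_card.mp ((hR.to_subgroup S).map R.subtype)
    rw [hi]
    exact hAp.pow_right i
  have hchain : ∀ j, A ≤ centralizer (((L j).map R.subtype : Subgroup G) : Set G) := by
    intro j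
    induction j with
    | zero =>
      have h0 : (L 0).map R.subtype = ⊥ := by
        simp [L, Subgroup.upperCentralSeries_zero]
      rw [h0]
      exact fun a _ => mem_centralizer_iff.mpr fun y hy => by rw [mem_bot.mp hy, one_mul, mul_one]
    | succ j ih =>
      intro a ha
      refine mem_centralizer_iff.mpr fun k hk => (mem_centralizer_iff.mp ?_ a ha).symm
      refine Cfsg.Lib.Coprime.centralizes_of_coprime_chain (hcopR (L j)) ih fun b hb => ?_
      refine htriv _ _ (map_mono (inf_le_inf_left _ (Subgroup.upperCentralSeries_mono R (Nat.le_succ j))))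
        ((map_subtype_le _).trans (le_normalizer.trans (hnorm _ (hLc j)))) (hnorm _ (hLc (j + 1)))
        (hnorm _ (hLc j)) ((hrel _ _).symm ▸ hstep j) b hb k hk
  haveI : Group.IsNilpotent R := hR.isNilpotent
  have hAD₀ : A ≤ centralizer ((D₀.map R.subtype : Subgroup G) : Set G) := by
    have h1 : L (Group.nilpotencyClass R) = D₀ := by
      simp [L, Subgroup.upperCentralSeries_nilpotencyClass]
    rw [← h1]
    exact hchain _
  intro a ha
  refine mem_centralizer_iff.mpr fun k hk => (mem_centralizer_iff.mp ?_ a ha).symm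
  refine Cfsg.Lib.Coprime.centralizes_of_coprime_chain (hcopR D₀) hAD₀ fun b hb => ?_
  have hkR : k ∈ R := map_subtype_le D hk
  have h1 : k⁻¹ * b * k * b⁻¹ ∈ T.map R.subtype := by
    refine htriv _ R (map_subtype_le T) (le_normalizer.trans (hnorm T hTc)) le_rfl (hnorm T hTc) ?_ b hb k hkR
    have h2 := hrel T ⊤
    rw [← MonoidHom.range_eq_map, range_subtype, relIndex_top_right, hTi] at h2
    rw [h2]
  obtain ⟨t, htT, ht⟩ := h1
  refine ⟨t, ⟨?_, htT⟩, ht⟩
  have h3 : k⁻¹ * b * k * b⁻¹ ∈ D.map R.subtype := by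
    rw [show k⁻¹ * b * k * b⁻¹ = k⁻¹ * (b * k * b⁻¹) by group]
    exact mul_mem (inv_mem hk) ((mem_normalizer_iff.mp (hnorm D hDc (hAR hb)) k).mp hk)
  obtain ⟨d, hd, hdt⟩ := h3
  rwa [show t = d from Subtype.ext (ht.trans hdt.symm)]

theorem derived_centralizes_small (hp2 : p ≠ 2) {R : Subgroup G} (hR : IsPGroup p R)
    (hs : IsSmall p R) {A : Subgroup G} [Group.IsSolvable A] (hA : A ≤ normalizer (R : Set G))
    (hodd : Odd (Nat.card A)) {x : G} (hx : x ∈ ⁅A, A⁆) (hxp : (orderOf x).Coprime p) :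
    x ∈ centralizer (R : Set G) := by
  by_cases hr : Cfsg.PRankLE p 2 R
  · exact derived_centralizes_rankTwo hp2 hR hr hA hodd hx hxp
  obtain ⟨E, hE, hE2, hEmax⟩ := hs.resolve_left hr
  refine centralizes_of_trivial_factors hp2 hR hr hE hE2 hEmax (A := zpowers x)
    (zpowers_le.mpr (hA (commutator_le_self A hx))) (by rwa [Nat.card_zpowers]) ?_ (mem_zpowers x)
  intro L U hLU hUL hRU hRL hidx a ha
  exact trivial_on_factor hLU hUL hidx (hA.trans hRU) (hA.trans hRL) (Or.inl (zpowers_le.mpr hx ha))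

theorem pow_pred_centralizes (hp2 : p ≠ 2) {R : Subgroup G} (hR : IsPGroup p R)
    (hs : IsSmall p R) (hr : ¬ Cfsg.PRankLE p 2 R) {x : G} (hx : x ∈ normalizer (R : Set G))
    (hxp : (orderOf x).Coprime p) : x ^ (p - 1) ∈ centralizer (R : Set G) := by
  obtain ⟨E, hE, hE2, hEmax⟩ := hs.resolve_left hr
  refine centralizes_of_trivial_factors hp2 hR hr hE hE2 hEmax (A := zpowers (x ^ (p - 1)))
    (zpowers_le.mpr (pow_mem hx _)) ?_ ?_ (mem_zpowers _)
  · rw [Nat.card_zpowers]
    exact hxp.coprime_dvd_left (orderOf_pow_dvd _)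
  intro L U hLU hUL hRU hRL hidx a ha
  obtain ⟨m, rfl⟩ := mem_zpowers_iff.mp ha
  refine trivial_on_factor hLU hUL hidx (M := zpowers x) (zpowers_le.mpr (hRU hx))
    (zpowers_le.mpr (hRL hx)) (Or.inr ⟨x ^ m, zpow_mem (mem_zpowers x) m, ?_⟩)
  rw [← zpow_natCast x (p - 1), ← zpow_mul, mul_comm, zpow_mul, zpow_natCast]

/-- primes acting on small groups -/
theorem prime_acts_small (hp2 : p ≠ 2) {R : Subgroup G} (hR : IsPGroup p R) (hs : IsSmall p R)
    {x : G} (hx : x ∈ normalizer (R : Set G)) (hxp : (orderOf x).Coprime p) {q : ℕ} (hq : q.Prime)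
    (hqp : q ≠ p) (hxq : x ^ q ∈ centralizer (R : Set G)) (hxR : x ∉ centralizer (R : Set G)) :
    q ∣ p ^ 2 - 1 ∧ (¬ Cfsg.PRankLE p 2 R → q ∣ p - 1) := by
  by_cases hr : Cfsg.PRankLE p 2 R
  · exact ⟨prime_dvd_sq_sub_one hp2 hR hr hx hxp hq hqp hxq hxR, fun h => absurd hr h⟩
  have h1 : q ∣ p - 1 := by
    by_contra hnd
    have hcop : q.Coprime (p - 1) := hq.coprime_iff_not_dvd.mpr hnd
    have hg : x ^ Nat.gcd q (p - 1) ∈ centralizer (R : Set G) := by
      rw [← zpow_natCast, Nat.gcd_eq_gcd_ab, zpow_add, zpow_mul, zpow_mul, zpow_natCast, zpow_natCast]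
      exact mul_mem (zpow_mem hxq _) (zpow_mem (pow_pred_centralizes hp2 hR hs hr hx hxp) _)
    rw [hcop, pow_one] at hg
    exact hxR hg
  exact ⟨h1.trans (by simpa using Nat.sub_dvd_pow_sub_pow p 1 2), fun _ => h1⟩

theorem prime_le_of_dvd_sq_sub_one {q : ℕ} (hq : q.Prime) (hq2 : q ≠ 2) (hp2 : p ≠ 2)
    (h : q ∣ p ^ 2 - 1) : q < p := by
  have h1 : q ∣ p - 1 ∨ q ∣ p + 1 := by
    rw [← hq.dvd_mul, mul_comm, ← Nat.sq_sub_sq, one_pow]
    exact h
  have h3 := hp.out.two_le
  rcases h1 with h1 | h1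
  · have := Nat.le_of_dvd (by omega) h1
    omega
  · obtain ⟨c, hc⟩ := h1
    obtain ⟨a, ha⟩ := hp.out.odd_of_ne_two hp2
    obtain ⟨b, hb⟩ := hq.odd_of_ne_two hq2
    rcases c with _ | _ | c
    · omega
    · omega
    · nlinarith

end Cfsg.Lib.OddP
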