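import Cfsg.Agent.OddLocal.SmallStructure
import Cfsg.Agent.Coprime.Hall

/-!
# Characteristic Hall subgroups above a nilpotent derived subgroup
-/

set_option linter.unusedSectionVars false
set_option linter.style.haveILetI false

namespace Cfsg.Lib.OddP

open Subgroup
open scoped commutatorElement

universe u

variable {G : Type u} [Group G] [Finite G]

/-- characteristic subgroups of a Sylow subgroup inside the nilpotent `G'` are normal -/
theorem normal_of_char_sylow [Group.IsNilpotent (commutator G)] {q : ℕ} [Fact q.Prime] (S : Sylow q G)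
    (T : Subgroup (S : Subgroup G)) [T.Characteristic]
    (hTS : T.map (S : Subgroup G).subtype ≤ ⁅(S : Subgroup G), (S : Subgroup G)⁆) :
    (T.map (S : Subgroup G).subtype).Normal := by
  classical
  set U := T.map (S : Subgroup G).subtype with hU
  have hSU : normalizer ((S : Subgroup G) : Set G) ≤ normalizer (U : Set G) := le_normalizer_map_of_char T
  have hUG' : U ≤ commutator G := by
    rw [_root_.commutator_def]; exact hTS.trans (commutator_mono le_top le_top)
  have hUS : U ≤ (S : Subgroup G) := map_subtype_le T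
  haveI : ((S : Subgroup G) ⊔ commutator G).Normal :=
    Cfsg.Lib.Coprime.normal_of_commutator_le le_sup_right
  have htop := Cfsg.Lib.ZJ.sup_normalizer_inf_eq_top ((S : Subgroup G) ⊔ commutator G) S
  rw [inf_eq_left.mpr (le_sup_left : (S : Subgroup G) ≤ (S : Subgroup G) ⊔ commutator G)] at htop
  have hG' : commutator G ≤ normalizer (U : Set G) := by
    refine Cfsg.Lib.Coprime.le_of_forall_sylow fun s hs => ?_
    haveI := Fact.mk hs
    obtain ⟨P⟩ : Nonempty (Sylow s (commutator G)) := inferInstance
    refine ⟨P, ?_⟩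
    by_cases hsq : s = q
    · subst hsq
      haveI : (P : Subgroup (commutator G)).Characteristic := Sylow.characteristic_of_normal P inferInstance
      have h1 : (P : Subgroup (commutator G)).map (commutator G).subtype ≤ (S : Subgroup G) :=
        (Cfsg.Lib.Components.le_pCore (P.2.map _)).trans (Cfsg.Lib.Coprime.pCore_le_sylow s S)
      exact h1.trans (le_normalizer.trans hSU)
    · rintro _ ⟨x, hx, rfl⟩
      refine centralizer_le_normalizer _ (mem_centralizer_iff.mpr fun u hu => ?_)
      obtain ⟨i, hi⟩ := S.2 ⟨u, hUS hu⟩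
      obtain ⟨j, hj⟩ := P.2 ⟨x, hx⟩
      have h2 : Commute (⟨u, hUG' hu⟩ : commutator G) x :=
        Cfsg.Lib.FittingHall.commute_coprime (Nat.Coprime.coprime_dvd_left
          (orderOf_dvd_of_pow_eq_one (Subtype.ext (congrArg Subtype.val hi :)))
          (Nat.Coprime.coprime_dvd_right (orderOf_dvd_of_pow_eq_one (congrArg Subtype.val hj :))
            (Nat.Coprime.pow i j ((Nat.coprime_primes Fact.out hs).mpr (Ne.symm hsq)))))
      exact congrArg Subtype.val h2.eq
  rw [← normalizer_eq_top_iff, eq_top_iff, ← htop]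
  exact sup_le (sup_le (le_normalizer.trans hSU) hG') hSU

theorem exists_char_hall [Group.IsSolvable G] (p : ℕ)
    (hGF : commutator G ≤ Cfsg.fittingSubgroup G)
    (h : ∀ r s : ℕ, r.Prime → ∀ [Fact s.Prime], p < r → s ≤ p → r ∣ Nat.card G → ∀ x : G,
      (orderOf x).Coprime s → x ^ r ∈ centralizer (Cfsg.pCore s G : Set G) →
      x ∈ centralizer (Cfsg.pCore s G : Set G)) :
    ∃ N : Subgroup G, N.Characteristic ∧ Cfsg.IsPiHall {q | q.Prime ∧ p < q} N := by
  classical
  set π : Set ℕ := {q | q.Prime ∧ p < q}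
  obtain ⟨H, hH⟩ := Cfsg.Lib.Coprime.exists_piHall (G := G) π
  refine ⟨H, ?_, hH⟩
  set F := Cfsg.fittingSubgroup G with hF
  haveI : Group.IsNilpotent F := Cfsg.Lib.Components.isNilpotent_fitting
  -- `F` normalizes `H`
  have hFN : F ≤ normalizer (H : Set G) := by
    refine Cfsg.Lib.Coprime.le_of_forall_sylow fun s hs => ?_
    haveI := Fact.mk hs
    obtain ⟨P⟩ : Nonempty (Sylow s F) := inferInstance
    refine ⟨P, ?_⟩
    haveI : (P : Subgroup F).Characteristic := Sylow.characteristic_of_normal P inferInstance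
    refine (Cfsg.Lib.Components.le_pCore (P.2.map F.subtype)).trans ?_
    by_cases hsp : p < s
    · obtain ⟨g, hg⟩ := Cfsg.Lib.Coprime.le_conj_piHall (K := Cfsg.pCore s G) hH fun r hr hrd => by
        obtain ⟨i, hi⟩ := IsPGroup.iff_card.mp (Cfsg.Lib.Components.isPGroup_pCore (G := G) s)
        rw [(Nat.prime_dvd_prime_iff_eq hr hs).mp (hr.dvd_of_dvd_pow (hi ▸ hrd))]
        exact ⟨hs, hsp⟩
      refine le_trans (fun y hy => ?_) le_normalizer
      have h1 := hg ((inferInstance : (Cfsg.pCore s G).Normal).conj_mem y hy g)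
      rw [Cfsg.Lib.Coprime.mem_conjMap] at h1
      simpa [mul_assoc] using h1
    · push Not at hsp
      refine le_trans ?_ (centralizer_le_normalizer _)
      rw [le_centralizer_iff]
      refine Cfsg.Lib.Coprime.le_of_forall_sylow fun r hr => ?_
      haveI := Fact.mk hr
      obtain ⟨Q⟩ : Nonempty (Sylow r H) := inferInstance
      refine ⟨Q, ?_⟩
      rintro _ ⟨x, hx, rfl⟩
      obtain ⟨i, hi⟩ := Q.2 ⟨x, hx⟩
      have hxi : (x : G) ^ r ^ i = 1 := by
        rw [← SubgroupClass.coe_pow, show x ^ r ^ i = 1 from congrArg Subtype.val hi, OneMemClass.coe_one]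
      by_cases hx1 : x = 1
      · subst hx1
        rw [map_one]
        exact one_mem _
      have hrH : r ∣ Nat.card H :=
        ((Q.2.dvd_orderOf (g := (⟨x, hx⟩ : (Q : Subgroup H))) fun e => hx1 (congrArg Subtype.val e)).trans
          (orderOf_dvd_natCard _)).trans (card_subgroup_dvd_card _)
      obtain ⟨-, hpr⟩ := hH.1 r hr hrH
      have key : ∀ j, ∀ y : G, y ^ r ^ j = 1 → y ∈ centralizer (Cfsg.pCore s G : Set G) := by
        intro j
        induction j with
        | zero =>
          intro y hy
          rw [pow_zero, pow_one] at hy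
          rw [hy]; exact one_mem _
        | succ j ih =>
          intro y hy
          refine h r s hr hpr hsp (hrH.trans (card_subgroup_dvd_card H)) y
            (Nat.Coprime.coprime_dvd_left (orderOf_dvd_of_pow_eq_one hy)
              (((Nat.coprime_primes hr hs).mpr (by omega)).pow_left _)) (ih _ ?_)
          rw [← pow_mul, ← pow_succ', hy]
      exact key i _ hxi
  have hnorm : H.Normal := by
    set J := H ⊔ F
    haveI : J.Normal := Cfsg.Lib.Coprime.normal_of_commutator_le (hGF.trans le_sup_right)
    haveI hHJ : (H.subgroupOf J).Normal :=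
      (normal_subgroupOf_iff_le_normalizer le_sup_left).mpr (sup_le le_normalizer hFN)
    refine ⟨fun y hy g => ?_⟩
    have hyJ : g * y * g⁻¹ ∈ J := (inferInstance : J.Normal).conj_mem y (mem_sup_left hy) g
    have hcop : (H.subgroupOf J).index.Coprime (Nat.card H) :=
      Nat.Coprime.coprime_dvd_left (relIndex_dvd_index_of_le le_sup_left)
        (Cfsg.Lib.Coprime.isPiHall_coprime hH).symm
    refine mem_of_pow_coprime (N := H.subgroupOf J) (y := (⟨g * y * g⁻¹, hyJ⟩ : J))
      (pow_index_mem _ _) ?_ hcop
    refine Subtype.ext ?_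
    rw [SubgroupClass.coe_pow, OneMemClass.coe_one, conj_pow,
      orderOf_dvd_iff_pow_eq_one.mp (Subgroup.orderOf_dvd_natCard H hy), mul_one, mul_inv_cancel]
  haveI := hnorm
  refine characteristic_iff_map_le.mpr fun φ => ?_
  rintro _ ⟨y, hy, rfl⟩
  refine mem_of_pow_coprime (N := H) (y := φ y) (pow_index_mem H _) ?_ (Cfsg.Lib.Coprime.isPiHall_coprime hH).symm
  rw [← map_pow, orderOf_dvd_iff_pow_eq_one.mp (Subgroup.orderOf_dvd_natCard H hy), map_one]

end Cfsg.Lib.OddP
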