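import Cfsg.Agent.OddLocal.QuaternionChar
import Cfsg.Agent.Chars.NormTwo

/-!
# Consequences: involutions lie in two kernels, and the centre has order two
-/

set_option linter.unusedSectionVars false
set_option linter.style.haveILetI false

namespace Cfsg.Lib.OddLocal.QuatDerived

open Subgroup QuaternionGroup Cfsg.Lib.Chars Cfsg.Lib.Dual
open scoped commutatorElement ComplexConjugate

universe u

variable {G : Type u} [Group G] [Fintype G]

/-- A generalised character of norm two and degree `-1`. -/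
theorem exists_sub_of_deg_neg_one {f : G → ℂ} (h : Cfsg.IsGeneralizedCharacter G f)
    (hn : Cfsg.classInner f f = 2) (h1 : f 1 = -1) :
    ∃ μ ν : Cfsg.IrrCharacter G, μ ≠ ν ∧ f = (μ : G → ℂ) - (ν : G → ℂ) := by
  classical
  obtain ⟨a, rfl⟩ := exists_int_decomp h
  rw [classInner_self_decomp] at hn
  have h2 : ∑ χ, a χ * a χ = 2 := by
    apply Int.cast_injective (α := ℂ)
    simpa using hn
  obtain ⟨χ, -, hχ⟩ := Finset.exists_ne_zero_of_sum_ne_zero (h2.symm ▸ two_ne_zero)
  have hbound : ∀ ξ, a ξ * a ξ ≠ 0 → a ξ * a ξ = 1 := fun ξ hξ => by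
    have hle : a ξ * a ξ ≤ 2 := h2 ▸ Finset.single_le_sum (f := fun ξ => a ξ * a ξ)
      (fun x _ => mul_self_nonneg _) (Finset.mem_univ ξ)
    have hb1 : a ξ ≤ 1 := by nlinarith
    have hb2 : -1 ≤ a ξ := by nlinarith
    interval_cases (a ξ) <;> simp_all
  have hsum := Finset.add_sum_erase Finset.univ (fun χ => a χ * a χ) (Finset.mem_univ χ)
  rw [h2, hbound χ hχ] at hsum
  obtain ⟨ψ, hψm, hψ⟩ := Finset.exists_ne_zero_of_sum_ne_zero
    (show ∑ x ∈ Finset.univ.erase χ, a x * a x ≠ 0 by omega)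
  have hne : ψ ≠ χ := (Finset.mem_erase.mp hψm).1
  have hrest : ∀ ξ, ξ ≠ χ → ξ ≠ ψ → a ξ = 0 := by
    intro ξ hξ1 hξ2
    have hsum2 := Finset.add_sum_erase (Finset.univ.erase χ) (fun χ => a χ * a χ) hψm
    rw [hbound ψ hψ] at hsum2
    have h0 : ∑ x ∈ (Finset.univ.erase χ).erase ψ, a x * a x = 0 := by omega
    simpa using (Finset.sum_eq_zero_iff_of_nonneg fun x _ => mul_self_nonneg _).mp h0 ξ
      (by simp [hξ1, hξ2])
  have hf : (∑ ξ, (a ξ : ℂ) • (ξ : G → ℂ)) = (a χ : ℂ) • (χ : G → ℂ) + (a ψ : ℂ) • (ψ : G → ℂ) := by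
    rw [← Finset.sum_pair (f := fun ξ : Cfsg.IrrCharacter G => (a ξ : ℂ) • (ξ : G → ℂ)) hne.symm]
    refine (Finset.sum_subset (Finset.subset_univ _) fun ξ _ hξ => ?_).symm
    simp only [Finset.mem_insert, Finset.mem_singleton, not_or] at hξ
    simp [hrest ξ hξ.1 hξ.2]
  rw [hf] at h1 ⊢
  simp only [Pi.add_apply, Pi.smul_apply, smul_eq_mul, irr_apply_one_eq_deg] at h1
  have h1' : a χ * deg (χ : G → ℂ) + a ψ * deg (ψ : G → ℂ) = -1 := by exact_mod_cast h1
  have hp1 : (0 : ℤ) < deg (χ : G → ℂ) := by exact_mod_cast deg_irr_pos χ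
  have hp2 : (0 : ℤ) < deg (ψ : G → ℂ) := by exact_mod_cast deg_irr_pos ψ
  rcases mul_self_eq_one_iff.mp (hbound χ hχ) with ha | ha <;>
    rcases mul_self_eq_one_iff.mp (hbound ψ hψ) with hb | hb
  · rw [ha, hb] at h1'; omega
  · exact ⟨χ, ψ, hne.symm, by rw [ha, hb]; simp [sub_eq_add_neg]⟩
  · exact ⟨ψ, χ, hne, by rw [ha, hb]; simp [sub_eq_add_neg, add_comm]⟩
  · rw [ha, hb] at h1'; omega

variable (S : Sylow 2 G) (n : ℕ)
  (e : (S : Subgroup G) ≃* QuaternionGroup (2 ^ (n + 2)))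

include n e in
/-- The pair of characters. -/
theorem exists_pair :
    ∃ μ ν : Cfsg.IrrCharacter G, (μ : G → ℂ) ≠ (fun _ => 1) ∧ (ν : G → ℂ) ≠ (fun _ => 1) ∧
      (ν : G → ℂ) 1 = (μ : G → ℂ) 1 + 1 ∧
      (∀ g : G, ¬ 4 ∣ orderOf g → (ν : G → ℂ) g - (μ : G → ℂ) g = 1) ∧
      (∀ x : G, orderOf x = 2 → (μ : G → ℂ) x = (μ : G → ℂ) 1 ∧ (ν : G → ℂ) x = (ν : G → ℂ) 1) ∧
      ∃ d ∈ ⁅(S : Subgroup G), (S : Subgroup G)⁆, (ν : G → ℂ) d - (μ : G → ℂ) d ≠ 1 := by
  classical
  obtain ⟨F, hFgen, hFn, hF1, hFone, hF4, hFprod, d, hdD, hFd⟩ :=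
    exists_special S n e ⁅(S : Subgroup G), (S : Subgroup G)⁆ rfl
  have h1irr : Cfsg.IsIrrCharacter G (fun _ => (1 : ℂ)) := isIrrCharacter_one
  have h1F : Cfsg.classInner (fun _ => (1 : ℂ)) F = 1 := by
    rw [← classInner_conj_symm, hF1, map_one]
  obtain ⟨μ, ν, hne, heq⟩ := exists_sub_of_deg_neg_one (f := F - fun _ => 1)
    (IsGeneralizedCharacter.sub hFgen (IsCharacter.isGeneralized (isCharacter_of_irr h1irr)))
    (by rw [classInner_sub_left, classInner_sub_right, classInner_sub_right, hFn, hF1, h1F,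
      classInner_self_irr h1irr]; norm_num)
    (by simp [hFone])
  have hFeq : F = fun g => 1 + (μ : G → ℂ) g - (ν : G → ℂ) g := by
    funext g
    have := congrFun heq g
    simp only [Pi.sub_apply] at this
    linear_combination this
  have hcoef : ∀ χ : Cfsg.IrrCharacter G, Cfsg.classInner F (χ : G → ℂ) =
      (if principal G = χ then 1 else 0) + (if μ = χ then 1 else 0) - (if ν = χ then 1 else 0) := by
    intro χ
    have hF' : F = ((principal G : G → ℂ) + (μ : G → ℂ)) - (ν : G → ℂ) := by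
      rw [hFeq]; funext g; rfl
    rw [hF', classInner_sub_left, classInner_add_left, classInner_irrCharacter,
      classInner_irrCharacter, classInner_irrCharacter]
  have hP : Cfsg.classInner F (principal G : G → ℂ) = 1 := hF1
  rw [hcoef, if_pos rfl] at hP
  have hνp : ν ≠ principal G := by
    intro h
    rw [if_pos h, if_neg (fun h' => hne (h'.trans h.symm))] at hP
    norm_num at hP
  have hμp : μ ≠ principal G := by
    intro h
    rw [if_neg hνp, if_pos h] at hP
    norm_num at hP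
  have hdeg : (ν : G → ℂ) 1 = (μ : G → ℂ) 1 + 1 := by
    have := congrFun hFeq 1
    rw [hFone] at this
    linear_combination this
  have h4 : ∀ g : G, ¬ 4 ∣ orderOf g → (ν : G → ℂ) g - (μ : G → ℂ) g = 1 := by
    intro g hg
    have := congrFun hFeq g
    rw [hF4 g hg] at this
    linear_combination this
  refine ⟨μ, ν, fun h => hμp (Subtype.ext h), fun h => hνp (Subtype.ext h), hdeg, h4, ?_,
    d, hdD, fun h => hFd ?_⟩
  · intro z hz
    have hzero : ∑ g : G, (Nat.card {p : G × G // IsConj z p.1 ∧ IsConj z p.2 ∧ p.1 * p.2 = g} : ℂ) *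
        F g = 0 := by
      refine Finset.sum_eq_zero fun g _ => ?_
      by_cases hex : ∃ x y : G, IsConj z x ∧ IsConj z y ∧ x * y = g
      · obtain ⟨x, y, hx, hy, hxy⟩ := hex
        have ho : ∀ w : G, IsConj z w → orderOf w = 2 := fun w hw => by
          obtain ⟨k, rfl⟩ := isConj_iff.mp hw
          rw [← hz]
          exact orderOf_injective (MulAut.conj k).toMonoidHom (MulAut.conj k).injective z
        rw [hFprod g x y (ho x hx) (ho y hy) hxy, mul_zero]
      · rw [Nat.card_eq_zero.mpr (Or.inl ⟨fun p => hex ⟨p.1.1, p.1.2, p.2⟩⟩), Nat.cast_zero, zero_mul]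
    simp only [class_mult_formula, mul_assoc] at hzero
    simp only [Finset.mul_sum, Finset.sum_mul] at hzero
    rw [Finset.sum_comm] at hzero
    set k : ℂ := (Nat.card {x : G // IsConj z x} : ℂ) with hk
    have hk0 : k ≠ 0 := by rw [hk]; exact_mod_cast (card_isConj_pos z).ne'
    have hrw : ∀ χ : Cfsg.IrrCharacter G,
        Cfsg.classInner F (χ : G → ℂ) * ((χ : G → ℂ) z * (χ : G → ℂ) z / (χ : G → ℂ) 1) * (k * k) =
        ∑ g : G, k * (k / (Nat.card G : ℂ)) *
          ((χ : G → ℂ) z * (χ : G → ℂ) z * conj ((χ : G → ℂ) g) / (χ : G → ℂ) 1) * F g := by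
      intro χ
      rw [classInner_def, Finset.mul_sum, Finset.sum_mul, Finset.sum_mul]
      refine Finset.sum_congr rfl fun g _ => ?_
      field_simp
    have hzero' : ∑ χ : Cfsg.IrrCharacter G,
        Cfsg.classInner F (χ : G → ℂ) * ((χ : G → ℂ) z * (χ : G → ℂ) z / (χ : G → ℂ) 1) = 0 := by
      refine mul_right_cancel₀ (mul_ne_zero hk0 hk0) ?_
      rw [zero_mul, Finset.sum_mul, Finset.sum_congr rfl fun χ _ => hrw χ, ← hzero]
      refine Finset.sum_congr rfl fun χ _ => Finset.sum_congr rfl fun g _ => ?_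
      simp only [div_eq_mul_inv]
      ring
    simp only [hcoef, add_mul, sub_mul, Finset.sum_add_distrib, Finset.sum_sub_distrib, ite_mul,
      one_mul, zero_mul, Finset.sum_ite_eq, Finset.mem_univ, if_true] at hzero'
    have hp : ∀ g : G, (principal G : G → ℂ) g = 1 := fun g => rfl
    rw [hp, hp] at hzero'
    have hz4 := h4 z (by rw [hz]; norm_num)
    set s := (μ : G → ℂ) z
    set t := (μ : G → ℂ) 1
    have ht : t ≠ 0 := IsIrrCharacter.apply_one_ne_zero μ.2
    have hν1 : (ν : G → ℂ) 1 ≠ 0 := IsIrrCharacter.apply_one_ne_zero ν.2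
    rw [hdeg] at hν1 hzero'
    rw [show (ν : G → ℂ) z = s + 1 by linear_combination hz4] at hzero' ⊢
    field_simp at hzero'
    have hsq : (s - t) * (s - t) = 0 := by linear_combination hzero'
    have hst : s = t := sub_eq_zero.mp (mul_self_eq_zero.mp hsq)
    exact ⟨hst, by rw [hdeg, hst]⟩
  · rw [hFeq]
    linear_combination -h

include n e in
theorem involutions_in_cyclic (M : Subgroup G) [M.Normal]
    (hM : M ≤ Subgroup.closure {g : G | orderOf g = 2}) (u : G)
    (hT : (S : Subgroup G) ⊓ centralizer (⁅(S : Subgroup G), (S : Subgroup G)⁆ : Subgroup G) = zpowers u)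
    (hDu : ⁅(S : Subgroup G), (S : Subgroup G)⁆ = zpowers (u ^ 2))
    (hou : orderOf u = 2 ^ (n + 3)) : (S : Subgroup G) ⊓ M ≤ zpowers u := by
  obtain ⟨μ, ν, -, -, hdeg, -, hinv, d, hd, hne⟩ := exists_pair S n e
  intro s hs
  by_contra hsu
  obtain ⟨hi, -⟩ := outside S n e _ rfl u hT hou (Subgroup.mem_inf.mp hs).1 hsu
  have hsM := (Subgroup.mem_inf.mp hs).2
  have hu2 : u ^ 2 ∈ M := by
    have h1 : u * s * u⁻¹ * s⁻¹ ∈ M :=
      mul_mem ((inferInstance : M.Normal).conj_mem s hsM u) (inv_mem hsM)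
    have h2 : s * u⁻¹ * s⁻¹ = u := by
      have h := congrArg (·⁻¹) hi
      simp only [mul_inv_rev, inv_inv] at h
      rw [← mul_assoc] at h
      exact h
    have h3 : u * s * u⁻¹ * s⁻¹ = u ^ 2 := by
      rw [show u * s * u⁻¹ * s⁻¹ = u * (s * u⁻¹ * s⁻¹) by group, h2, sq]
    rwa [h3] at h1
  have hdM : d ∈ M := by
    rw [hDu] at hd
    exact (zpowers_le.mpr hu2) hd
  have hker : M ≤ kerSubgroup (μ : G → ℂ) (isCharacter_of_irr μ.2) ⊓
      kerSubgroup (ν : G → ℂ) (isCharacter_of_irr ν.2) := by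
    refine hM.trans ((Subgroup.closure_le _).mpr fun x hx => ?_)
    obtain ⟨h1, h2⟩ := hinv x hx
    exact ⟨h1, h2⟩
  obtain ⟨h1, h2⟩ := Subgroup.mem_inf.mp (hker hdM)
  rw [mem_kerSubgroup] at h1 h2
  exact hne (by rw [h1, h2, hdeg]; ring)

instance closure_involutions_normal :
    (Subgroup.closure {g : G | orderOf g = 2}).Normal := by
  refine ⟨fun x hx g => ?_⟩
  induction hx using Subgroup.closure_induction with
  | mem y hy =>
    refine Subgroup.subset_closure ?_
    show orderOf (g * y * g⁻¹) = 2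
    rw [← hy]
    exact orderOf_injective (MulAut.conj g).toMonoidHom (MulAut.conj g).injective y
  | one => simp
  | mul a b _ _ ha hb =>
    rw [show g * (a * b) * g⁻¹ = (g * a * g⁻¹) * (g * b * g⁻¹) by group]
    exact mul_mem ha hb
  | inv a _ ha =>
    rw [show g * a⁻¹ * g⁻¹ = (g * a * g⁻¹)⁻¹ by group]
    exact inv_mem ha

include n e in
theorem sylow_closure_cyclic (M : Subgroup G) [M.Normal]
    (hM : M ≤ Subgroup.closure {g : G | orderOf g = 2}) (Q : Sylow 2 M) : IsCyclic Q := by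
  obtain ⟨u, hDu, hT, hou, -, -⟩ := data S n e ⁅(S : Subgroup G), (S : Subgroup G)⁆ rfl
  obtain ⟨P, hP⟩ := (Q.2.map M.subtype).exists_le_sylow
  obtain ⟨g, hg⟩ := MulAction.exists_smul_eq G P S
  let φ : Q →* zpowers u :=
    (((MulAut.conj g).toMonoidHom.comp M.subtype).comp (Q : Subgroup M).subtype).codRestrict
      (zpowers u) fun q => involutions_in_cyclic S n e M hM u hT hDu hou
        (Subgroup.mem_inf.mpr ⟨by
          rw [← hg]
          exact ⟨((q : M) : G), hP ⟨(q : M), q.2, rfl⟩, rfl⟩,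
          (inferInstance : M.Normal).conj_mem _ (q : M).2 g⟩)
  exact isCyclic_of_injective φ fun a b h =>
    Subtype.ext (Subtype.ext ((MulAut.conj g).injective (congrArg Subtype.val h)))

include n e in
theorem card_center (hO : ∀ N : Subgroup G, N.Normal → Odd (Nat.card N) → N = ⊥) :
    Nat.card (Subgroup.center G) = 2 := by
  classical
  obtain ⟨u, hDu, hT, hou, hcD, hcS⟩ := data S n e ⁅(S : Subgroup G), (S : Subgroup G)⁆ rfl
  set M := Subgroup.closure {g : G | orderOf g = 2} with hMdef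
  set M2 := 2 ^ (n + 2) with hM2
  set z := u ^ M2 with hzdef
  have hzo : orderOf z = 2 := by
    rw [hzdef, orderOf_pow_of_dvd (by positivity) ⟨2, by rw [hou, hM2]; ring⟩, hou, hM2,
      pow_succ, Nat.mul_div_cancel_left _ (by positivity)]
  have huniq : ∀ x ∈ zpowers u, orderOf x = 2 → x = z := by
    intro x hx hxo
    obtain ⟨i, rfl⟩ := mem_zpowers_iff.mp hx
    have h1 : (u ^ i) ^ (2 : ℤ) = 1 := by
      rw [show (2 : ℤ) = ((2 : ℕ) : ℤ) from rfl, zpow_natCast, ← hxo, pow_orderOf_eq_one]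
    rw [← zpow_mul, ← orderOf_dvd_iff_zpow_eq_one, hou] at h1
    have h2 : (M2 : ℤ) ∣ i := by
      have : ((2 : ℤ) * M2) ∣ 2 * i := by
        refine dvd_trans (dvd_of_eq ?_) (mul_comm i 2 ▸ h1)
        rw [hM2]; push_cast; ring
      exact (mul_dvd_mul_iff_left two_ne_zero).mp this
    obtain ⟨j, rfl⟩ := h2
    rcases Int.even_or_odd' j with ⟨k, rfl | rfl⟩
    · exfalso
      have h3 : u ^ ((M2 : ℤ) * (2 * k)) = 1 := by
        rw [← orderOf_dvd_iff_zpow_eq_one, hou]
        exact ⟨k, by rw [hM2]; push_cast; ring⟩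
      rw [h3, orderOf_one] at hxo
      omega
    · have h3 : u ^ ((M2 : ℤ) * (2 * k)) = 1 := by
        rw [← orderOf_dvd_iff_zpow_eq_one, hou]
        exact ⟨k, by rw [hM2]; push_cast; ring⟩
      rw [mul_add, zpow_add, h3, one_mul, mul_one, zpow_natCast]
  -- the involution closure is a cyclic 2-group
  obtain ⟨Q⟩ : Nonempty (Sylow 2 M) := inferInstance
  have hQc := sylow_closure_cyclic S n e M le_rfl Q
  have hMp : IsPGroup 2 M := by
    have h2M : 2 ∣ Nat.card M := by
      have : z ∈ M := Subgroup.subset_closure hzo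
      exact hzo ▸ Subgroup.orderOf_dvd_natCard M this
    have hNC := IsCyclic.normalizer_le_centralizer (P := Q) ((Nat.minFac_eq_two_iff _).mpr h2M) hQc
    set K0 := (MonoidHom.transferSylow Q hNC).ker
    have hodd : Odd (Nat.card K0) := by
      rw [Nat.odd_iff, ← Nat.two_dvd_ne_zero]
      exact MonoidHom.not_dvd_card_ker_transferSylow Q hNC
    have hmem : ∀ c : M, Odd (orderOf c) → c ∈ K0 := by
      intro c hc
      rw [MonoidHom.mem_ker, ← orderOf_eq_one_iff]
      obtain ⟨k, hk⟩ := IsPGroup.iff_orderOf.1 Q.2 (MonoidHom.transferSylow Q hNC c)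
      have h1 := orderOf_map_dvd (MonoidHom.transferSylow Q hNC) c
      rw [hk] at h1 ⊢
      exact Nat.eq_one_of_dvd_coprimes
        (Nat.Coprime.pow_right k (Nat.coprime_two_right.2 hc)) h1 dvd_rfl
    have hK0n : (K0.map M.subtype).Normal := by
      refine ⟨?_⟩
      rintro _ ⟨x, hx, rfl⟩ g
      refine ⟨⟨g * x * g⁻¹, (inferInstance : M.Normal).conj_mem _ x.2 g⟩, hmem _ ?_, rfl⟩
      have h2 : orderOf (⟨g * x * g⁻¹, (inferInstance : M.Normal).conj_mem _ x.2 g⟩ : M) = orderOf x := by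
        rw [← orderOf_coe, ← orderOf_coe]
        exact orderOf_injective (MulAut.conj g).toMonoidHom (MulAut.conj g).injective x
      rw [h2]
      exact hodd.of_dvd_nat (Subgroup.orderOf_dvd_natCard K0 hx)
    have hK0 : K0 = ⊥ := by
      refine (Subgroup.map_eq_bot_iff_of_injective _ M.subtype_injective).mp (hO _ hK0n ?_)
      rwa [← Nat.card_congr (K0.equivMapOfInjective M.subtype M.subtype_injective).toEquiv]
    exact Q.2.of_injective (MonoidHom.transferSylow Q hNC) ((MonoidHom.ker_eq_bot_iff _).mp hK0)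
  have hMu : M ≤ zpowers u := by
    have hMS : M ≤ (S : Subgroup G) := by
      obtain ⟨P, hP⟩ := hMp.exists_le_sylow
      obtain ⟨g, hg⟩ := MulAction.exists_smul_eq G P S
      intro x hx
      rw [← hg]
      exact ⟨g⁻¹ * x * g⁻¹⁻¹, hP ((inferInstance : M.Normal).conj_mem x hx g⁻¹), by simp [mul_assoc]⟩
    exact fun x hx => involutions_in_cyclic S n e M le_rfl u hT hDu hou ⟨hMS hx, hx⟩
  have hzc : z ∈ Subgroup.center G := by
    rw [Subgroup.mem_center_iff]
    intro g
    have ho : orderOf (g * z * g⁻¹) = 2 := by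
      rw [← hzo]; exact orderOf_injective (MulAut.conj g).toMonoidHom (MulAut.conj g).injective z
    exact mul_inv_eq_iff_eq_mul.mp (huniq _ (hMu (Subgroup.subset_closure ho)) ho)
  have hcen : Subgroup.center G = zpowers z := by
    refine le_antisymm ?_ (zpowers_le.mpr hzc)
    -- the centre is a 2-group
    have hp : IsPGroup 2 (Subgroup.center G) := by
      rw [IsPGroup.iff_card]
      refine ⟨_, Nat.eq_prime_pow_of_unique_prime_dvd Nat.card_pos.ne' fun {q} hq hqd => ?_⟩
      by_contra hq2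
      haveI := Fact.mk hq
      obtain ⟨⟨c, hc⟩, hco⟩ := exists_prime_orderOf_dvd_card' (G := Subgroup.center G) q hqd
      rw [Subgroup.orderOf_mk] at hco
      have hn : (zpowers c).Normal := ⟨fun x hx g => by
        have hxc : x ∈ Subgroup.center G := (zpowers_le.mpr hc) hx
        rwa [Subgroup.mem_center_iff.mp hxc g, mul_inv_cancel_right]⟩
      have h1 := hO _ hn (by rw [Nat.card_zpowers, hco]; exact hq.odd_of_ne_two hq2)
      rw [zpowers_eq_bot] at h1
      rw [h1, orderOf_one] at hco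
      exact hq.one_lt.ne hco
    intro c hc
    have hcS' : c ∈ (S : Subgroup G) := by
      obtain ⟨P, hP⟩ := hp.exists_le_sylow
      obtain ⟨g, hg⟩ := MulAction.exists_smul_eq G P S
      rw [← hg]
      exact ⟨c, hP hc, by
        show g * c * g⁻¹ = c
        rw [Subgroup.mem_center_iff.mp hc g, mul_inv_cancel_right]⟩
    have hcu : c ∈ zpowers u := hT.le ⟨hcS', fun y _ => Subgroup.mem_center_iff.mp hc y⟩
    obtain ⟨s, hsS, hsu⟩ : ∃ s ∈ (S : Subgroup G), s ∉ zpowers u := by
      by_contra h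
      push Not at h
      have := Subgroup.card_le_of_le (show (S : Subgroup G) ≤ zpowers u from h)
      rw [hcS, Nat.card_zpowers, hou] at this
      have := Nat.pow_lt_pow_right (a := 2) one_lt_two (show n + 3 < n + 4 by omega)
      omega
    obtain ⟨hi, -⟩ := outside S n e _ rfl u hT hou hsS hsu
    obtain ⟨i, hi'⟩ := mem_zpowers_iff.mp hcu
    have hinv : c = c⁻¹ := by
      calc c = s * c * s⁻¹ := by rw [Subgroup.mem_center_iff.mp hc s, mul_inv_cancel_right]
        _ = (s * u * s⁻¹) ^ i := by rw [← hi', conj_zpow]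
        _ = c⁻¹ := by rw [hi, inv_zpow, hi']
    by_cases hc1 : c = 1
    · rw [hc1]; exact one_mem _
    · have : orderOf c = 2 := orderOf_eq_prime (by
        rw [sq]; nth_rw 2 [hinv]; rw [mul_inv_cancel]) hc1
      rw [huniq c hcu this]
      exact mem_zpowers z
  rw [hcen, Nat.card_zpowers, hzo]

end Cfsg.Lib.OddLocal.QuatDerived
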