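import Cfsg.Agent.OddLocal.AlphaZGroup
import Cfsg.Agent.S1444
import Cfsg.Agent.S1459

/-!
# Proper subgroups have `p`-length one
-/

set_option linter.unusedSectionVars false
set_option linter.unusedVariables false
set_option linter.style.haveILetI false

namespace Cfsg.Lib.OddLocal.Sigma

open Subgroup Uniqueness
open Cfsg.Lib.Coprime (conjMap)

universe u v

theorem le_pPrimePCore_of_pow {G : Type u} [Group G] [Finite G] {p : ℕ} [hp : Fact p.Prime] {N : Subgroup G}
    [hN : N.Normal] (h : ∀ x ∈ N, ∃ k : ℕ, x ^ p ^ k ∈ Cfsg.pPrimeCore p G) :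
    N ≤ Cfsg.pPrimePCore p G := by
  intro x hx
  refine mem_comap.mpr ?_
  set π := QuotientGroup.mk' (Cfsg.pPrimeCore p G)
  haveI : (N.map π).Normal := hN.map _ (QuotientGroup.mk'_surjective _)
  refine Cfsg.Lib.Components.le_pCore (N := N.map π) ?_ (mem_map_of_mem π hx)
  rintro ⟨_, y, hy, rfl⟩
  obtain ⟨k, hk⟩ := h y hy
  refine ⟨k, Subtype.ext ?_⟩
  rw [SubgroupClass.coe_pow, ← map_pow]
  exact (QuotientGroup.eq_one_iff _).mpr hk

theorem exists_pow_mem {G : Type u} [Group G] [Finite G] {p : ℕ} [hp : Fact p.Prime] {x : G}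
    (hx : x ∈ Cfsg.pPrimePCore p G) : ∃ k : ℕ, x ^ p ^ k ∈ Cfsg.pPrimeCore p G := by
  obtain ⟨k, hk⟩ := Cfsg.Lib.Components.isPGroup_pCore (G := G ⧸ Cfsg.pPrimeCore p G) p
    ⟨_, mem_comap.mp hx⟩
  refine ⟨k, (QuotientGroup.eq_one_iff _).mp ?_⟩
  have h1 := congrArg Subtype.val hk
  rw [SubgroupClass.coe_pow, ← map_pow] at h1
  exact h1

theorem pLengthLE_one_of_injective {G : Type u} [Group G] [Finite G] {G' : Type v} [Group G'] [Finite G']
    {p : ℕ} [hp : Fact p.Prime] {f : G' →* G} (hf : Function.Injective f) (h : Cfsg.PLengthLE p 1 G) :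
    Cfsg.PLengthLE p 1 G' := by
  rw [Cfsg.Lib.OddP.pLengthLE_one_iff] at h ⊢
  set U := (Cfsg.pPrimePCore p G).comap f
  have hN : (Cfsg.pPrimeCore p G).comap f ≤ Cfsg.pPrimeCore p G' := by
    refine Cfsg.Lib.Components.le_pPrimeCore ?_
    refine (Cfsg.Lib.Components.coprime_card_pPrimeCore (G := G) p).coprime_dvd_left ?_
    exact Subgroup.card_comap_dvd_of_injective _ f hf
  have hU : U ≤ Cfsg.pPrimePCore p G' := le_pPrimePCore_of_pow fun x hx => by
    obtain ⟨k, hk⟩ := exists_pow_mem (mem_comap.mp hx)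
    exact ⟨k, hN (mem_comap.mpr (by rwa [map_pow]))⟩
  refine h.coprime_dvd_left ((index_dvd_of_le hU).trans ?_)
  rw [index_comap]
  exact relIndex_dvd_index_of_normal _ _

theorem pLengthLE_one_of_normal {G : Type u} [Group G] [Finite G] {p : ℕ} [hp : Fact p.Prime]
    {H : Subgroup G} [H.Normal] (hH : (H.index).Coprime p) (h : Cfsg.PLengthLE p 1 H) :
    Cfsg.PLengthLE p 1 G := by
  rw [Cfsg.Lib.OddP.pLengthLE_one_iff] at h ⊢
  have hchar : ∀ (T : Subgroup H) [T.Characteristic], (T.map H.subtype).Normal := fun T _ => by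
    rw [← normalizer_eq_top_iff, eq_top_iff]
    exact (normalizer_eq_top (H := H)).ge.trans (Cfsg.Lib.OddP.le_normalizer_map_of_char T)
  haveI : (Cfsg.pPrimePCore p H).Characteristic := Characteristic.comap_quotient_mk inferInstance
  haveI := hchar (Cfsg.pPrimeCore p H)
  haveI := hchar (Cfsg.pPrimePCore p H)
  have hN : (Cfsg.pPrimeCore p H).map H.subtype ≤ Cfsg.pPrimeCore p G := by
    refine Cfsg.Lib.Components.le_pPrimeCore ?_
    rw [card_map_of_injective H.subtype_injective]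
    exact Cfsg.Lib.Components.coprime_card_pPrimeCore p
  have hU : (Cfsg.pPrimePCore p H).map H.subtype ≤ Cfsg.pPrimePCore p G := by
    refine le_pPrimePCore_of_pow ?_
    rintro _ ⟨x, hx, rfl⟩
    obtain ⟨k, hk⟩ := exists_pow_mem hx
    exact ⟨k, hN ⟨_, hk, by rw [map_pow]⟩⟩
  refine Nat.Coprime.coprime_dvd_left (index_dvd_of_le hU) ?_
  rw [index_map_subtype]
  exact Nat.Coprime.mul_left h hH

variable {G : Type u} [Group G] [Finite G] {M : Subgroup G}

theorem exists_prime_not_sigma (hG : Cfsg.IsMinSimpleOddOrder G) (hM : IsCoatom M) (hM1 : M ≠ ⊥) :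
    ∃ q : ℕ, q.Prime ∧ q ∣ Nat.card M ∧ q ∉ Cfsg.sigma M := by
  haveI := hG.2.2.2 M hM.1
  haveI : Nontrivial M := (nontrivial_iff_ne_bot _).mpr hM1
  have hlt : commutator M < ⊤ := Group.IsSolvable.commutator_lt_top_of_nontrivial M
  obtain ⟨q, hq, hqd⟩ := Nat.exists_prime_and_dvd (fun h => hlt.ne (index_eq_one.mp h))
  haveI := Fact.mk hq
  refine ⟨q, hq, hqd.trans (index_dvd_card _), fun hσ => ?_⟩
  obtain ⟨S⟩ : Nonempty (Sylow q M) := inferInstance
  refine S.not_dvd_index (hqd.trans (index_dvd_of_le fun x hx => ?_))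
  have h1 := sylow_le_derived hG hM hσ (isSylowOf_sylow S) (mem_map_of_mem _ hx)
  rw [← map_subtype_commutator M] at h1
  obtain ⟨y, hy, hyx⟩ := h1
  rwa [← Subtype.ext hyx]

theorem pLength_alpha (hG : Cfsg.IsMinSimpleOddOrder G) (hM : IsCoatom M) {p : ℕ} [hp : Fact p.Prime]
    (hα : p ∈ Cfsg.alpha M) : Cfsg.PLengthLE p 1 M := by
  haveI := hG.2.2.2 M hM.1
  have hoddM : Odd (Nat.card M) := hG.1.of_dvd_nat (card_subgroup_dvd_card M)
  set H := alphaIn M with hH
  have hhall := alphaCore_hall hG hM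
  have hidx : ∀ r : ℕ, r.Prime → r ∈ Cfsg.alpha M → ¬ r ∣ H.index := fun r hr hrα hd => by
    haveI := Fact.mk hr
    obtain ⟨S⟩ : Nonempty (Sylow r M) := inferInstance
    exact S.not_dvd_index (hd.trans (index_dvd_of_le (sylow_le_alphaCore hG hM hrα S)))
  have hcop : (Nat.card H).Coprime H.index :=
    Nat.coprime_of_dvd fun r hr h1 h2 => hidx r hr (alphaIn_isPi r hr h1) h2
  have hMα : Cfsg.alphaCore M ≠ ⊥ := fun h0 => by
    obtain ⟨S⟩ : Nonempty (Sylow p M) := inferInstance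
    have h1 : (S : Subgroup M) = ⊥ := by
      rw [Cfsg.alphaCore, map_eq_bot_iff_of_injective _ M.subtype_injective] at h0
      exact le_bot_iff.mp (h0 ▸ sylow_le_alphaCore hG hM hα S)
    refine S.not_dvd_index ?_
    rw [h1, index_bot]
    exact dvd_card_of_alpha hα
  have hM1 : M ≠ ⊥ := fun h0 => hMα (le_bot_iff.mp (h0 ▸ alphaCore_le M))
  obtain ⟨q, hq, hqM, hqσ⟩ := exists_prime_not_sigma hG hM hM1
  haveI := Fact.mk hq
  obtain ⟨Q⟩ : Nonempty (Sylow q M) := inferInstance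
  obtain ⟨x, hxZ, hxo, hxz, -⟩ := exists_not_unique hG hM hqM hqσ Q
  have hxM : x ∈ M := map_subtype_le _ hxZ
  set y : M := ⟨x, hxM⟩
  have hyo : orderOf y = q := by rw [← orderOf_coe]; exact hxo
  obtain ⟨R, hR, hyR⟩ := Cfsg.Lib.Coprime.exists_piHall_ge (G := M) (π := {r | r ∉ Cfsg.alpha M})
    (K := zpowers y) (fun r hr hrd hα' => by
      rw [Nat.card_zpowers, hyo] at hrd
      exact hqσ (alpha_subset_sigma hG hM ((Nat.prime_dvd_prime_iff_eq hr hq).mp hrd ▸ hα')))
  have hcR : (Nat.card H).Coprime (Nat.card R) :=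
    Nat.coprime_of_dvd fun r hr h1 h2 => hR.1 r hr h2 (alphaIn_isPi r hr h1)
  have hcard : Nat.card R = H.index := by
    apply Nat.dvd_antisymm
    · exact hcR.symm.dvd_of_dvd_mul_left (by rw [card_mul_index]; exact card_subgroup_dvd_card R)
    · refine (Nat.coprime_of_dvd fun r hr h1 h2 => ?_ : H.index.Coprime R.index).dvd_of_dvd_mul_right
        (by rw [card_mul_index]; exact index_dvd_card H)
      exact hR.2 r hr (fun hrα => hidx r hr hrα h1) h2
  have hc : IsComplement' H R := isComplement'_of_coprime (by rw [hcard, card_mul_index]) hcR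
  have hHd : H ≤ commutator M := by
    refine Cfsg.Lib.Coprime.le_of_forall_sylow fun r hr => ?_
    haveI := Fact.mk hr
    obtain ⟨T⟩ : Nonempty (Sylow r H) := inferInstance
    refine ⟨T, ?_⟩
    by_cases hrH : r ∣ Nat.card H
    · obtain ⟨S, hS⟩ := (T.2.map H.subtype).exists_le_sylow
      refine hS.trans fun z hz => ?_
      have h1 := sylow_le_derived hG hM (alpha_subset_sigma hG hM (alphaIn_isPi r hr hrH))
        (isSylowOf_sylow S) (mem_map_of_mem _ hz)
      rw [← map_subtype_commutator M] at h1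
      obtain ⟨w, hw, hwz⟩ := h1
      rwa [← Subtype.ext hwz]
    · have hbot : (T : Subgroup H) = ⊥ := eq_bot_of_card_eq _ (by
        obtain ⟨i, hi⟩ := IsPGroup.iff_card.mp T.2
        rcases i with _ | i
        · rw [hi, pow_zero]
        · exact absurd ((hi ▸ dvd_pow_self r i.succ_ne_zero : r ∣ Nat.card (T : Subgroup H)).trans
            (card_subgroup_dvd_card _)) hrH)
      rw [hbot, Subgroup.map_bot]
      exact bot_le
  have hZ : IsZGroup ↥(H ⊓ centralizer (zpowers y : Set M)) := by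
    haveI := hxz
    have hle : (H ⊓ centralizer (zpowers y : Set M)).map M.subtype ≤
        Cfsg.alphaCore M ⊓ centralizer ({x} : Set G) := by
      rintro _ ⟨w, ⟨hw1, hw2⟩, rfl⟩
      exact ⟨mem_map_of_mem _ hw1, mem_centralizer_singleton_iff.mpr
        (congrArg Subtype.val (mem_centralizer_iff.mp hw2 y (mem_zpowers y)).symm)⟩
    exact IsZGroup.of_injective (f := (inclusion hle).comp
      ((H ⊓ centralizer (zpowers y : Set M)).equivMapOfInjective _ M.subtype_injective).toMonoidHom)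
      ((inclusion_injective hle).comp (MulEquiv.injective _))
  have hpl := Cfsg.Agent.S1444.result hoddM H R (zpowers y) hcop hc hyR
    (by rw [Nat.card_zpowers, hyo]; exact hq) hZ p
  have hcomm : ⁅H, R⁆ = H :=
    ((Cfsg.Agent.S1459.result (G := M)).1 H R inferInstance hcop hc hHd).1.symm
  rw [hcomm] at hpl
  exact pLengthLE_one_of_normal ((hp.out.coprime_iff_not_dvd.mpr (hidx p hp.out hα)).symm) hpl

/-- Theorem 10.6. -/
theorem pLength_proper (hG : Cfsg.IsMinSimpleOddOrder G) (p : ℕ) [hp : Fact p.Prime] {H : Subgroup G}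
    (hH : H ≠ ⊤) : Cfsg.PLengthLE p 1 H := by
  obtain ⟨M, hM, hHM⟩ := exists_coatom_ge hH
  refine pLengthLE_one_of_injective (inclusion_injective hHM) ?_
  by_cases hα : p ∈ Cfsg.alpha M
  · exact pLength_alpha hG hM hα
  rw [Cfsg.Lib.OddP.pLengthLE_one_iff]
  haveI := hG.2.2.2 M hM.1
  by_cases hpM : p ∣ Nat.card M
  · refine (Cfsg.Agent.S1450.result (hG.1.of_dvd_nat (card_subgroup_dvd_card M)) p hpM ?_).2.2.2.2.2
    by_contra h
    exact hα ⟨hp.out, h⟩
  · exact ((hp.out.coprime_iff_not_dvd.mpr hpM).symm).coprime_dvd_left (index_dvd_card _)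

end Cfsg.Lib.OddLocal.Sigma
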