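import Cfsg.Prelude.Def_OddOrderLocal
import Cfsg.Agent.Components.Cores
import Cfsg.Agent.Coprime.Sylow

/-!
# The largest normal nilpotent Hall subgroup and elementary consequences of type P data
-/

set_option linter.unusedSectionVars false

namespace Cfsg.Lib.FittingHall

open Subgroup
open scoped commutatorElement

variable {M : Type*} [Group M] [Finite M]

/-- Elements of coprime orders of a nilpotent group commute. -/
theorem commute_coprime {K : Type*} [Group K] [Finite K] [Group.IsNilpotent K] {x y : K}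
    (h : (orderOf x).Coprime (orderOf y)) : Commute x y := by
  obtain ⟨e⟩ := ((Group.isNilpotent_of_finite_tfae (G := K)).out 0 4).mp (inferInstance : Group.IsNilpotent K)
  have key : Commute (e.symm x) (e.symm y) := by
    refine funext fun q => funext fun P => ?_
    haveI : Fact (q : ℕ).Prime := ⟨Nat.prime_of_mem_primeFactors q.2⟩
    show e.symm x q P * e.symm y q P = e.symm y q P * e.symm x q P
    have hdvd : ∀ z : K, orderOf (e.symm z q P) ∣ orderOf z := fun z => by
      rw [← e.symm.orderOf_eq z]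
      exact (orderOf_map_dvd (Pi.evalMonoidHom (fun P : Sylow (q : ℕ) K => ↥(P : Subgroup K)) P)
        (e.symm z q)).trans (orderOf_map_dvd (Pi.evalMonoidHom _ q) (e.symm z))
    by_cases ha : e.symm x q P = 1
    · rw [ha, one_mul, mul_one]
    by_cases hb : e.symm y q P = 1
    · rw [hb, one_mul, mul_one]
    exact absurd (Nat.eq_one_of_dvd_coprimes h ((P.2.dvd_orderOf ha).trans (hdvd x))
      ((P.2.dvd_orderOf hb).trans (hdvd y))) (Fact.out : (q : ℕ).Prime).ne_one
  simpa using key.map e

theorem coprime_sup {A B : Subgroup M} [A.Normal] (hA : (Nat.card A).Coprime A.index)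
    (hB : (Nat.card B).Coprime B.index) :
    (Nat.card ↥(A ⊔ B)).Coprime (A ⊔ B).index := by
  have h := Cfsg.Lib.Coprime.card_sup_mul_card_inf (N := A) (H := B)
    (by rw [Subgroup.normalizer_eq_top]; exact le_top)
  have hd : Nat.card ↥(A ⊔ B) ∣ Nat.card A * Nat.card B := Dvd.intro _ h
  exact Nat.Coprime.coprime_dvd_left hd
    ((hA.coprime_dvd_right (Subgroup.index_dvd_of_le le_sup_left)).mul_left
      (hB.coprime_dvd_right (Subgroup.index_dvd_of_le le_sup_right)))

theorem fittingHall_coprime :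
    (Nat.card (Cfsg.fittingHall M)).Coprime (Cfsg.fittingHall M).index := by
  classical
  set s := {N : Subgroup M | N.Normal ∧ Group.IsNilpotent N ∧ (Nat.card N).Coprime N.index}
  have hs : s.Finite := Set.toFinite s
  have key : ∀ t : Finset (Subgroup M), (∀ N ∈ t, N ∈ s) →
      (t.sup id).Normal ∧ (Nat.card ↥(t.sup id)).Coprime (t.sup id).index := by
    intro t
    induction t using Finset.induction_on with
    | empty => intro _; simp only [Finset.sup_empty]; exact ⟨inferInstance, by simp⟩
    | insert a t _ ih =>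
      intro ht
      obtain ⟨h1, h2⟩ := ih fun N hN => ht N (Finset.mem_insert_of_mem hN)
      obtain ⟨ha1, -, ha2⟩ := ht a (Finset.mem_insert_self a t)
      haveI := ha1
      haveI := h1
      rw [Finset.sup_insert, id]
      exact ⟨inferInstance, coprime_sup ha2 h2⟩
  have he : Cfsg.fittingHall M = hs.toFinset.sup id := by
    refine le_antisymm (sSup_le fun N hN => ?_) (Finset.sup_le fun N hN => ?_)
    · exact Finset.le_sup (f := id) (hs.mem_toFinset.mpr hN)
    · exact le_sSup (hs.mem_toFinset.mp hN)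
  rw [he]
  exact (key _ fun N hN => hs.mem_toFinset.mp hN).2

theorem fittingHall_le_fitting : Cfsg.fittingHall M ≤ Cfsg.fittingSubgroup M :=
  sSup_le fun _ hN => le_sSup ⟨hN.1, hN.2.1⟩

end Cfsg.Lib.FittingHall

namespace Cfsg.Lib.FittingHall

open Subgroup

variable {G : Type*} [Group G] [Finite G] {M W₁ U W₂ : Subgroup G}

theorem fittingHallOf_le (M : Subgroup G) : Cfsg.fittingHallOf M ≤ M := Subgroup.map_subtype_le _

theorem le_normalizer_fittingHallOf (M : Subgroup G) :
    M ≤ normalizer (Cfsg.fittingHallOf M : Set G) := fun m hm => by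
  have h : ∀ g ∈ M, ∀ x ∈ Cfsg.fittingHallOf M, g * x * g⁻¹ ∈ Cfsg.fittingHallOf M := by
    rintro g hg - ⟨y, hy, rfl⟩
    exact ⟨_, (Cfsg.fittingHall_normal M).conj_mem y hy ⟨g, hg⟩, rfl⟩
  exact Cfsg.Lib.Coprime.mem_normalizer_of_conj_mem (h m hm)
    fun x hx => by simpa using h m⁻¹ (inv_mem hm) x hx

/-- The complement `U` has order prime to the order of `M_F`. -/
theorem coprime_compl (hP : Cfsg.IsTypePWith M W₁ U W₂) :
    (Nat.card (Cfsg.fittingHallOf M)).Coprime (Nat.card U) := by
  obtain ⟨hH, hU, hinf, -⟩ := hP.U_compl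
  have hder : ⁅M, M⁆ ≤ M := Subgroup.commutator_le_self M
  have hcard : Nat.card ↥(Cfsg.fittingHallOf M ⊔ U) =
      Nat.card (Cfsg.fittingHallOf M) * Nat.card U :=
    Cfsg.Lib.Coprime.card_sup_of_inf_eq_bot
      ((hU.trans hder).trans (le_normalizer_fittingHallOf M)) hinf
  have hd : Nat.card ↥(Cfsg.fittingHallOf M ⊔ U) ∣ Nat.card M :=
    Subgroup.card_dvd_of_le (sup_le (fittingHallOf_le M) (hU.trans hder))
  have hH' : Nat.card (Cfsg.fittingHallOf M) = Nat.card (Cfsg.fittingHall M) :=
    Subgroup.card_map_of_injective M.subtype_injective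
  rw [hcard, hH', ← Subgroup.card_mul_index (Cfsg.fittingHall M)] at hd
  rw [hH']
  exact (fittingHall_coprime (M := M)).coprime_dvd_right
    (Nat.dvd_of_mul_dvd_mul_left Nat.card_pos hd)

theorem fittingHallOf_le_fittingOf (M : Subgroup G) :
    Cfsg.fittingHallOf M ≤ Cfsg.fittingOf M :=
  Subgroup.map_mono fittingHall_le_fitting

/-- Elements of the complement inside the Fitting subgroup centralise `M_F`. -/
theorem inf_fitting_le (hP : Cfsg.IsTypePWith M W₁ U W₂) :
    U ⊓ Cfsg.fittingOf M ≤ centralizer (Cfsg.fittingHallOf M : Set G) := by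
  rintro u ⟨huU, huF⟩
  rw [mem_centralizer_iff]
  intro h hh
  haveI : Group.IsNilpotent ↥(Cfsg.fittingOf M) :=
    haveI := Cfsg.Lib.Components.isNilpotent_fitting (G := M)
    Group.nilpotent_of_mulEquiv (Subgroup.equivMapOfInjective _ _ M.subtype_injective)
  have hc : Commute (⟨h, fittingHallOf_le_fittingOf M hh⟩ : ↥(Cfsg.fittingOf M)) ⟨u, huF⟩ := by
    refine commute_coprime ?_
    rw [Subgroup.orderOf_mk, Subgroup.orderOf_mk]
    exact ((coprime_compl hP).coprime_dvd_left
      (Subgroup.orderOf_dvd_natCard _ hh)).coprime_dvd_right (Subgroup.orderOf_dvd_natCard _ huU)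
  exact congrArg Subtype.val hc.eq

theorem fittingOf_eq (hP : Cfsg.IsTypePWith M W₁ U W₂) :
    Cfsg.fittingOf M =
      Cfsg.fittingHallOf M ⊔ (U ⊓ centralizer (Cfsg.fittingHallOf M : Set G)) := by
  refine le_antisymm (fun y hy => ?_) (sup_le (fittingHallOf_le_fittingOf M) ?_)
  · obtain ⟨h, hh, u, hu, rfl⟩ := hP.U_compl.2.2.2 y (hP.fitting_le hy)
    have huF : u ∈ Cfsg.fittingOf M := by
      simpa using mul_mem (inv_mem (fittingHallOf_le_fittingOf M hh)) hy
    exact mul_mem_sup hh ⟨hu, inf_fitting_le hP ⟨hu, huF⟩⟩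
  · rw [← hP.fitting_eq]
    exact le_trans (inf_le_inf_right _ (hP.U_compl.2.1.trans (Subgroup.commutator_le_self M)))
      le_sup_right

theorem derived_le_centralizer (hP : Cfsg.IsTypePWith M W₁ U W₂) :
    ⁅U, U⁆ ≤ centralizer (Cfsg.fittingHallOf M : Set G) := by
  refine le_trans (le_inf (Subgroup.commutator_le_self U) ?_) (inf_fitting_le hP)
  exact ((Subgroup.commutator_mono hP.U_compl.2.1 hP.U_compl.2.1).trans hP.derived_two_le).trans
    hP.fitting_eq.le

theorem not_le_centralizer (hP : Cfsg.IsTypePWith M W₁ U W₂) (hU : U ≠ ⊥) :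
    ¬ U ≤ centralizer (Cfsg.fittingHallOf M : Set G) := by
  intro hcon
  have hFD : Cfsg.fittingOf M = ⁅M, M⁆ := by
    refine le_antisymm hP.fitting_le fun y hy => ?_
    rw [fittingOf_eq hP]
    obtain ⟨h, hh, u, hu, rfl⟩ := hP.U_compl.2.2.2 y hy
    exact mul_mem_sup hh ⟨hu, hcon hu⟩
  have hmap : (commutator M).map M.subtype = ⁅M, M⁆ := by
    rw [commutator_def, Subgroup.map_commutator, ← MonoidHom.range_eq_map, Subgroup.range_subtype]
  have hF : Cfsg.fittingSubgroup M = commutator M :=
    Subgroup.map_injective M.subtype_injective (by rw [hmap, ← hFD]; rfl)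
  have hcop : (Nat.card (commutator M)).Coprime (commutator M).index := by
    obtain ⟨hD, hW, hinf, hprod⟩ := hP.W₁_compl
    have hWn : W₁ ≤ normalizer ((⁅M, M⁆ : Subgroup G) : Set G) :=
      hW.trans (Cfsg.Lib.Coprime.le_normalizer_commutator_right M M)
    have hsup : ⁅M, M⁆ ⊔ W₁ = M := le_antisymm (sup_le hD hW) fun m hm => by
      obtain ⟨a, ha, b, hb, rfl⟩ := hprod m hm
      exact mul_mem_sup ha hb
    have hcard : Nat.card M = Nat.card ↥⁅M, M⁆ * Nat.card W₁ := by
      conv_lhs => rw [← hsup]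
      exact Cfsg.Lib.Coprime.card_sup_of_inf_eq_bot hWn hinf
    have hc : Nat.card (commutator M) = Nat.card ↥⁅M, M⁆ := by
      rw [← hmap, Subgroup.card_map_of_injective M.subtype_injective]
    have h1 : (commutator M).index = Nat.card W₁ := by
      have := Subgroup.card_mul_index (commutator M)
      rw [hc, hcard] at this
      exact Nat.eq_of_mul_eq_mul_left Nat.card_pos this
    have h2 : W₁.relIndex M = Nat.card ↥⁅M, M⁆ := by
      have := Subgroup.card_mul_index (W₁.subgroupOf M)
      rw [Nat.card_congr (Subgroup.subgroupOfEquivOfLe hW).toEquiv, hcard, mul_comm (Nat.card ↥⁅M, M⁆)] at this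
      exact Nat.eq_of_mul_eq_mul_left Nat.card_pos this
    rw [hc, h1, ← h2]
    exact hP.W₁_hall.symm
  have hle : commutator M ≤ Cfsg.fittingHall M :=
    le_sSup ⟨inferInstance, hF ▸ Cfsg.Lib.Components.isNilpotent_fitting, hcop⟩
  refine hU (eq_bot_iff.mpr fun u hu => ?_)
  have : u ∈ Cfsg.fittingHallOf M :=
    Subgroup.map_mono hle (hmap.symm ▸ hP.U_compl.2.1 hu)
  rw [← hP.U_compl.2.2.1]
  exact ⟨this, hu⟩

end Cfsg.Lib.FittingHall
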