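import Cfsg.Agent.OddLocal.CNMaximal
import Cfsg.Agent.Coprime.Fitting

/-!
# Solvable groups with nilpotent centralisers
-/

set_option linter.unusedSectionVars false
set_option linter.style.haveILetI false

namespace Cfsg.Lib.CN

open Subgroup Cfsg.Lib.Frobenius

universe u

variable {G : Type u} [Group G] [Finite G]

/-- In a nilpotent fixed-point-free group the subgroup of each prime order is unique. -/
theorem mem_zpowers_of_prime_order {A V : Subgroup G} (hA : Group.IsNilpotent A)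
    (hAV : A ≤ normalizer (V : Set G)) (h : Fpf A V) (hV : V ≠ ⊥) {q : ℕ} (hq : q.Prime) {y y' : G}
    (hy : y ∈ A) (hy' : y' ∈ A) (ho : orderOf y = q) (ho' : orderOf y' = q) : y' ∈ zpowers y := by
  haveI := Fact.mk hq
  obtain ⟨z, hzA, hzo, hzc⟩ := exists_central_prime hA (q := q) (ho ▸ orderOf_dvd_natCard A hy)
  have key : ∀ w ∈ A, orderOf w = q → zpowers w = zpowers z := fun w hw hwo =>
    eq_of_le_of_card_ge (zpowers_le.mpr (h.mem_zpowers_of_commute hAV hV hq hzA hw hzo hwo (hzc w hw).symm))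
      (by rw [Nat.card_zpowers, Nat.card_zpowers, hzo, hwo])
  rw [key y hy ho, ← key y' hy' ho']
  exact mem_zpowers y'

theorem isZGroup_of_fpf_odd {A V : Subgroup G} (hAV : A ≤ normalizer (V : Set G)) (h : Fpf A V)
    (hV : V ≠ ⊥) (hodd : ¬ 2 ∣ Nat.card A) : IsZGroup A := by
  refine ⟨fun p hp P => ?_⟩
  haveI := Fact.mk hp
  set R := (P : Subgroup A).map A.subtype
  rcases (h.mono (map_subtype_le _)).isCyclic_or_quaternion ((map_subtype_le _).trans hAV) hV
    (P.2.map A.subtype) with hc | ⟨rfl, n, ⟨e⟩⟩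
  · haveI := hc
    exact isCyclic_of_surjective _
      ((P : Subgroup A).equivMapOfInjective A.subtype A.subtype_injective).symm.surjective
  · exfalso
    apply hodd
    refine dvd_trans ?_ (card_dvd_of_le (map_subtype_le (P : Subgroup A)))
    rw [Nat.card_congr e.toEquiv]
    haveI : NeZero (2 ^ n) := ⟨(Nat.two_pow_pos n).ne'⟩
    rw [Nat.card_eq_fintype_card, QuaternionGroup.card]
    exact ⟨2 * 2 ^ n, by ring⟩

/-- Nilpotent fixed-point-free groups are cyclic, or cyclic of odd order times quaternion. -/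
theorem cyclic_or_quaternion_product {A V : Subgroup G} (hA : Group.IsNilpotent A)
    (hAV : A ≤ normalizer (V : Set G)) (h : Fpf A V) (hV : V ≠ ⊥) :
    IsCyclic A ∨ ∃ C Q : Subgroup G, C ⊔ Q = A ∧ (∀ a ∈ C, ∀ b ∈ Q, a * b = b * a) ∧ IsCyclic C ∧
      Odd (Nat.card C) ∧ ∃ n : ℕ, Nonempty (↥Q ≃* QuaternionGroup (2 ^ n)) := by
  haveI := hA
  haveI : Fact (Nat.Prime 2) := ⟨Nat.prime_two⟩
  obtain ⟨S⟩ := (inferInstance : Nonempty (Sylow 2 A))
  haveI := sylow_normal_of_nilpotent S
  set Q := (S : Subgroup A).map A.subtype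
  have hQA : Q ≤ A := map_subtype_le _
  rcases (h.mono hQA).isCyclic_or_quaternion (hQA.trans hAV) hV (S.2.map A.subtype) with hc | ⟨-, hn⟩
  · -- all Sylow subgroups are cyclic
    left
    haveI : IsZGroup A := by
      refine ⟨fun p hp P => ?_⟩
      haveI := Fact.mk hp
      have hcyc : IsCyclic ((P : Subgroup A).map A.subtype) := by
        rcases (h.mono (map_subtype_le _)).isCyclic_or_quaternion ((map_subtype_le _).trans hAV) hV
          (P.2.map A.subtype) with h1 | ⟨rfl, -⟩
        · exact h1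
        · haveI := Sylow.unique_of_normal S ‹_›
          rwa [Subsingleton.elim P S]
      haveI := hcyc
      exact isCyclic_of_surjective _
        ((P : Subgroup A).equivMapOfInjective A.subtype A.subtype_injective).symm.surjective
    infer_instance
  · right
    obtain ⟨C, hC⟩ := exists_right_complement'_of_coprime S.card_coprime_index
    have hCA : C.map A.subtype ≤ A := map_subtype_le _
    have hidx : (S : Subgroup A).index = Nat.card C := hC.symm.index_eq_card
    have hodd : Odd (Nat.card (C.map A.subtype)) := by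
      rw [card_map_of_injective A.subtype_injective, ← hidx, Nat.odd_iff, ← Nat.two_dvd_ne_zero]
      exact S.not_dvd_index
    haveI := isZGroup_of_fpf_odd (hCA.trans hAV) (h.mono hCA) hV (by
      rw [Nat.two_dvd_ne_zero, ← Nat.odd_iff]; exact hodd)
    haveI : Group.IsNilpotent (C.map A.subtype) := nilpotent_of_le hCA hA
    refine ⟨C.map A.subtype, Q, ?_, ?_, inferInstance, hodd, hn⟩
    · rw [← Subgroup.map_sup, sup_comm, hC.sup_eq_top, ← MonoidHom.range_eq_map, range_subtype]
    · rintro _ ⟨a, ha, rfl⟩ _ ⟨b, hb, rfl⟩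
      have hcop : (orderOf a).Coprime (orderOf b) :=
        ((S.card_coprime_index.coprime_dvd_left (orderOf_dvd_natCard _ hb)).coprime_dvd_right
          (hidx ▸ orderOf_dvd_natCard _ ha)).symm
      exact congrArg Subtype.val (Cfsg.Lib.FittingHall.commute_coprime hcop).eq

variable [Group.IsSolvable G]

/-- Without normal Sylow subgroups the Fitting subgroup of a CN-group is a `p`-group. -/
theorem exists_pGroup_fitting (hCN : Cfsg.IsCNGroup G) [Nontrivial G]
    (hno : ∀ (p : ℕ) [Fact p.Prime] (P : Sylow p G), (P : Subgroup G) ≠ ⊥ → ¬ (P : Subgroup G).Normal) :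
    ∃ p : ℕ, p.Prime ∧ IsPGroup p (Cfsg.fittingSubgroup G) := by
  classical
  set F := Cfsg.fittingSubgroup G
  haveI hF : Group.IsNilpotent F := Cfsg.Lib.Components.isNilpotent_fitting
  haveI : Nontrivial F := (nontrivial_iff_ne_bot F).mpr Cfsg.Lib.Coprime.fitting_ne_bot
  obtain ⟨p, hp, hpF⟩ := Nat.exists_prime_and_dvd (Finite.one_lt_card (α := F)).ne'
  haveI := Fact.mk hp
  refine ⟨p, hp, IsPGroup.of_card (n := (Nat.card F).factorization p)
    (Nat.eq_pow_of_factorization_eq_single Nat.card_pos.ne' ?_)⟩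
  ext q
  by_cases hqp : q = p
  · subst hqp; simp
  rw [Finsupp.single_eq_of_ne (by exact hqp)]
  by_cases hq : q.Prime
  swap
  · exact Nat.factorization_eq_zero_of_not_prime _ hq
  refine Nat.factorization_eq_zero_of_not_dvd fun hqF => ?_
  haveI := Fact.mk hq
  obtain ⟨Sp⟩ := (inferInstance : Nonempty (Sylow p F))
  obtain ⟨Sq⟩ := (inferInstance : Nonempty (Sylow q F))
  haveI := sylow_normal_of_nilpotent Sp
  haveI := sylow_normal_of_nilpotent Sq
  haveI := Sylow.characteristic_of_normal Sp ‹_›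
  haveI := Sylow.characteristic_of_normal Sq ‹_›
  set Op := (Sp : Subgroup F).map F.subtype
  set Oq := (Sq : Subgroup F).map F.subtype
  haveI hOpn : Op.Normal := inferInstance
  haveI hOqn : Oq.Normal := inferInstance
  have hne : ∀ {t : ℕ} [Fact t.Prime] (S : Sylow t F), t ∣ Nat.card F →
      (S : Subgroup F).map F.subtype ≠ ⊥ := fun {t} _ S ht e => by
    rw [Subgroup.map_eq_bot_iff_of_injective _ F.subtype_injective] at e
    exact S.ne_bot_of_dvd_card ht e
  obtain ⟨P, hP⟩ := (Sp.2.map F.subtype).exists_le_sylow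
  obtain ⟨u, huO, hu1, huP⟩ := exists_central_in hP (hne Sp hpF) P.2
    (by rw [normalizer_eq_top]; exact le_top)
  have hcp : ∀ a b : G, (∃ i, orderOf a = p ^ i) → (∃ j, orderOf b = q ^ j) →
      (orderOf a).Coprime (orderOf b) := by
    rintro a b ⟨i, hi⟩ ⟨j, hj⟩
    rw [hi, hj]; exact Nat.Coprime.pow _ _ ((Nat.coprime_primes hp hq).mpr (Ne.symm hqp))
  have hord : ∀ {t : ℕ} [Fact t.Prime] {H : Subgroup G}, IsPGroup t H → ∀ a ∈ H, ∃ i, orderOf a = t ^ i := by
    intro t _ H hH a ha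
    obtain ⟨i, hi⟩ := IsPGroup.iff_orderOf.mp hH ⟨a, ha⟩
    exact ⟨i, by rwa [Subgroup.orderOf_mk] at hi⟩
  have hOq : ∀ v ∈ Oq, ∀ w ∈ (P : Subgroup G), Commute v w := by
    intro v hv w hw
    have huv : Commute u v := commute_of_mem hF (map_subtype_le _ huO) (map_subtype_le _ hv)
      (hcp u v (hord (Sp.2.map _) u huO) (hord (Sq.2.map _) v hv))
    exact (commute_of_mem (hCN u hu1) (mem_centralizer_singleton_iff.mpr (huP w hw))
      (mem_centralizer_singleton_iff.mpr huv.symm.eq)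
      (hcp w v (hord P.2 w hw) (hord (Sq.2.map _) v hv))).symm
  obtain ⟨v, hv, hv1⟩ := (bot_or_exists_ne_one _).resolve_left (hne Sq hqF)
  have hCnil : Group.IsNilpotent (centralizer (Oq : Set G)) :=
    nilpotent_of_le (centralizer_le (Set.singleton_subset_iff.mpr hv)) (hCN v hv1)
  have hPF : (P : Subgroup G) ≤ F := fun w hw =>
    Cfsg.Lib.Components.le_fitting hCnil (mem_centralizer_iff.mpr fun v' hv' => (hOq v' hv' w hw).eq)
  have hPeq : (P : Subgroup G) = Op := by
    have h1 : (P : Subgroup G).subgroupOf F = (Sp : Subgroup F) :=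
      Sp.3 (P.2.comap_of_injective _ F.subtype_injective) fun a ha => hP ⟨a, ha, rfl⟩
    show _ = (Sp : Subgroup F).map F.subtype
    rw [← h1, subgroupOf_map_subtype, inf_of_le_left hPF]
  exact hno p P (by rw [hPeq]; exact hne Sp hpF) (hPeq ▸ hOpn)

/-- A solvable CN-group without normal Sylow subgroups is a three step group. -/
theorem threeStep_of_no_normal_sylow (hCN : Cfsg.IsCNGroup G) (hnn : ¬ Group.IsNilpotent G)
    (hno : ∀ (p : ℕ) [Fact p.Prime] (P : Sylow p G), (P : Subgroup G) ≠ ⊥ → ¬ (P : Subgroup G).Normal) :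
    ∃ p : ℕ, p.Prime ∧ Cfsg.IsThreeStepGroup p G := by
  classical
  haveI : Nontrivial G := by
    by_contra h
    rw [not_nontrivial_iff_subsingleton] at h
    exact hnn inferInstance
  obtain ⟨p, hp, hFp⟩ := exists_pGroup_fitting hCN hno
  haveI := Fact.mk hp
  set F := Cfsg.fittingSubgroup G
  have hFpc : Cfsg.pCore p G = F := le_antisymm
    (Cfsg.Lib.Components.le_fitting (Cfsg.Lib.Components.isPGroup_pCore p).isNilpotent)
    (Cfsg.Lib.Components.le_pCore hFp)
  have hFb : F ≠ ⊥ := Cfsg.Lib.Coprime.fitting_ne_bot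
  obtain ⟨z, hzF, hz1, hzc⟩ := exists_central_in le_rfl hFb hFp le_normalizer
  -- `F` is not a Sylow subgroup
  have hFidx : p ∣ F.index := by
    by_contra h
    exact hno p (hFp.toSylow h) hFb (inferInstance : F.Normal)
  have hFfix : ∀ w : G, w ≠ 1 → (orderOf w).Coprime p → F ⊓ centralizer ({w} : Set G) = ⊥ := by
    intro w hw1 hwo
    by_contra hne
    obtain ⟨x, ⟨hxF, hxw⟩, hx1⟩ := (bot_or_exists_ne_one _).resolve_left hne
    have hco : ∀ a ∈ F, (orderOf a).Coprime (orderOf w) := fun a ha => by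
      obtain ⟨i, hi⟩ := IsPGroup.iff_orderOf.mp hFp ⟨a, ha⟩
      rw [Subgroup.orderOf_mk] at hi
      rw [hi]; exact hwo.symm.pow_left i
    have hzw : Commute z w := commute_of_mem (hCN x hx1)
      (mem_centralizer_singleton_iff.mpr (hzc x hxF).symm)
      (mem_centralizer_singleton_iff.mpr (mem_centralizer_singleton_iff.mp hxw).symm) (hco z hzF)
    have hwF : w ∈ F := Cfsg.Lib.Coprime.centralizer_fitting_le (mem_centralizer_iff.mpr fun a ha =>
      (commute_of_mem (hCN z hz1) (mem_centralizer_singleton_iff.mpr (hzc a ha))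
        (mem_centralizer_singleton_iff.mpr hzw.symm.eq) (hco a ha)).eq)
    exact hw1 (orderOf_eq_one_iff.mp (Nat.coprime_self _ |>.mp (hco w hwF)))
  -- a Hall `p'`-subgroup
  obtain ⟨B, hB⟩ := Cfsg.Lib.Coprime.exists_piHall (G := G) ({p}ᶜ : Set ℕ)
  have hBp : (Nat.card B).Coprime p :=
    ((hp.coprime_iff_not_dvd).mpr fun h => hB.1 p hp h (Set.mem_singleton p)).symm
  have hBidx : B.index = p ^ B.index.factorization p := by
    refine Nat.eq_pow_of_factorization_eq_single index_ne_zero_of_finite ?_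
    ext q
    by_cases hqp : q = p
    · subst hqp; simp
    rw [Finsupp.single_eq_of_ne (by exact hqp)]
    by_cases hq : q.Prime
    · exact Nat.factorization_eq_zero_of_not_dvd (hB.2 q hq hqp)
    · exact Nat.factorization_eq_zero_of_not_prime _ hq
  have hBo : ∀ b ∈ B, (orderOf b).Coprime p := fun b hb =>
    hBp.coprime_dvd_left (orderOf_dvd_natCard _ hb)
  set V := (center F).map F.subtype
  haveI : V.Normal := inferInstance
  haveI : IsMulCommutative V := inferInstance
  have hVb : V ≠ ⊥ := by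
    haveI : Nontrivial F := (nontrivial_iff_ne_bot F).mpr hFb
    haveI : Group.IsNilpotent F := hFp.isNilpotent
    intro h
    rw [Subgroup.map_eq_bot_iff, ker_subtype, le_bot_iff] at h
    exact Group.IsNilpotent.center_ne_bot F h
  have hBV : B ≤ normalizer (V : Set G) := by rw [normalizer_eq_top]; exact le_top
  have hfix : Fpf B V := fun b hb hb1 =>
    le_bot_iff.mp ((inf_le_inf_right _ (map_subtype_le _)).trans (hFfix b hb1 (hBo b hb)).le)
  have hBnil := nilpotent_of_fpf hCN hBV hfix hVb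
  -- the quotient
  set π := QuotientGroup.mk' F with hπ
  have hQ : Cfsg.IsCNGroup (G ⧸ F) := isCN_quotient _ hCN F Cfsg.Lib.Components.isSolvable_fitting rfl
  set Lb := Cfsg.fittingSubgroup (G ⧸ F)
  have hFne : F ≠ ⊤ := fun h => hnn (by
    haveI : Group.IsNilpotent F := Cfsg.Lib.Components.isNilpotent_fitting
    exact Group.nilpotent_of_surjective F.subtype fun g => ⟨⟨g, h ▸ mem_top g⟩, rfl⟩)
  haveI : Nontrivial (G ⧸ F) := QuotientGroup.nontrivial_iff.mpr hFne
  have hLb : Lb ≠ ⊥ := Cfsg.Lib.Coprime.fitting_ne_bot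
  haveI hLbnil : Group.IsNilpotent Lb := Cfsg.Lib.Components.isNilpotent_fitting
  have hLbp : ¬ p ∣ Nat.card Lb := by
    intro hd
    obtain ⟨S⟩ := (inferInstance : Nonempty (Sylow p Lb))
    haveI := sylow_normal_of_nilpotent S
    haveI := Sylow.characteristic_of_normal S ‹_›
    set Sb := (S : Subgroup Lb).map Lb.subtype
    haveI : Sb.Normal := inferInstance
    haveI hcn : (Sb.comap π).Normal := (inferInstance : Sb.Normal).comap π
    have hpc : IsPGroup p (Sb.comap π) :=
      (S.2.map Lb.subtype).comap_of_ker_isPGroup π (by rw [hπ, QuotientGroup.ker_mk']; exact hFp)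
    have hle : Sb.comap π ≤ F := (Cfsg.Lib.Components.le_pCore hpc).trans hFpc.le
    have hSb : Sb = ⊥ := by
      rw [← map_comap_eq_self_of_surjective (QuotientGroup.mk'_surjective F) Sb, Subgroup.map_eq_bot_iff,
        QuotientGroup.ker_mk']
      exact hle
    rw [Subgroup.map_eq_bot_iff_of_injective _ Lb.subtype_injective] at hSb
    exact S.ne_bot_of_dvd_card hd hSb
  set Bb := B.map π
  have hBbnil : Group.IsNilpotent Bb := by
    haveI := hBnil
    exact Group.nilpotent_of_surjective _ (π.subgroupMap_surjective B)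
  have hinj : ∀ b ∈ B, π b = 1 → b = 1 := fun b hb h => by
    have hbF : b ∈ F := (QuotientGroup.eq_one_iff b).mp h
    obtain ⟨i, hi⟩ := IsPGroup.iff_orderOf.mp hFp ⟨b, hbF⟩
    rw [Subgroup.orderOf_mk] at hi
    exact orderOf_eq_one_iff.mp (Nat.eq_one_of_dvd_coprimes ((hBo b hb).pow_right i) dvd_rfl (hi ▸ dvd_rfl))
  have horder : ∀ b ∈ B, orderOf (π b) = orderOf b := fun b hb =>
    Nat.dvd_antisymm (orderOf_map_dvd π b) (orderOf_dvd_of_pow_eq_one
      (hinj _ (pow_mem hb _) (by rw [map_pow, pow_orderOf_eq_one])))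
  have hLB : Lb ≤ Bb := by
    have h1 : Nat.card ↥(Lb ⊔ Bb) ∣ Nat.card Lb * Nat.card Bb :=
      Cfsg.Lib.Components.card_sup_dvd_mul Lb Bb
    have hBbp : ¬ p ∣ Nat.card Bb := fun h =>
      hp.ne_one (Nat.eq_one_of_dvd_coprimes hBp (h.trans (card_map_dvd B π)) dvd_rfl)
    have h2 : Bb.relIndex (Lb ⊔ Bb) ∣ Nat.card ↥(Lb ⊔ Bb) := relIndex_dvd_card _ _
    have h3 : Bb.relIndex (Lb ⊔ Bb) ∣ Bb.index := Dvd.intro _ (relIndex_mul_index le_sup_right)
    have h4 : Bb.index ∣ p ^ B.index.factorization p :=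
      (index_map_dvd B (QuotientGroup.mk'_surjective F)).trans hBidx.dvd
    obtain ⟨i, -, hi⟩ := (Nat.dvd_prime_pow hp).mp (h3.trans h4)
    have h5 : Bb.relIndex (Lb ⊔ Bb) = 1 := by
      rw [hi] at h2 ⊢
      by_contra hi1
      have hi0 : i ≠ 0 := fun e => hi1 (by rw [e, pow_zero])
      exact (hp.dvd_mul.mp (((dvd_pow_self p hi0).trans h2).trans h1)).elim hLbp hBbp
    exact le_sup_left.trans (relIndex_eq_one.mp h5)
  -- centralisers of elements of `Lb`
  have hcent : ∀ a ∈ Lb, a ≠ 1 → Group.IsNilpotent (centralizer ({a} : Set (G ⧸ F))) ∧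
      ∃ c ∈ Lb, (orderOf c).Prime ∧ centralizer ({a} : Set (G ⧸ F)) ≤ centralizer ({c} : Set (G ⧸ F)) ∧
        (centralizer ({c} : Set (G ⧸ F))).Normal := by
    intro a ha ha1
    refine ⟨hQ a ha1, ?_⟩
    set q := (orderOf a).minFac
    have hq : q.Prime := Nat.minFac_prime (fun h => ha1 (orderOf_eq_one_iff.mp h))
    set c := a ^ (orderOf a / q)
    have hco : orderOf c = q := orderOf_pow_orderOf_div (orderOf_pos a).ne' (Nat.minFac_dvd _)
    have hcL : c ∈ Lb := pow_mem ha _
    refine ⟨c, hcL, hco ▸ hq, fun g hg => mem_centralizer_singleton_iff.mpr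
      ((show Commute g a from mem_centralizer_singleton_iff.mp hg).pow_right _).eq, ⟨fun h hh g => ?_⟩⟩
    have hc' : g⁻¹ * c * g ∈ Lb := by
      have := (inferInstance : Lb.Normal).conj_mem c hcL g⁻¹
      rwa [inv_inv] at this
    obtain ⟨b, hb, hbc⟩ := hLB hcL
    obtain ⟨b', hb', hb'c⟩ := hLB hc'
    have hbo : orderOf b = q := by rw [← horder b hb, hbc, hco]
    have hb'o : orderOf b' = q := by
      rw [← horder b' hb', hb'c, ← hco]
      have := (MulAut.conj g⁻¹).orderOf_eq c
      rwa [MulAut.conj_apply, inv_inv] at this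
    obtain ⟨j, hj⟩ := mem_zpowers_iff.mp (mem_zpowers_of_prime_order hBnil hBV hfix hVb hq hb hb' hbo hb'o)
    have hj' : c ^ j = g⁻¹ * c * g := by rw [← hb'c, ← hj, map_zpow, hbc]
    have h1 : Commute h (g⁻¹ * c * g) := hj' ▸
      (show Commute h c from mem_centralizer_singleton_iff.mp hh).zpow_right j
    rw [mem_centralizer_singleton_iff]
    have h2 := congrArg (fun w => g * w * g⁻¹) h1.eq
    simpa [mul_assoc] using h2
  have hLbodd : ¬ 2 ∣ Nat.card Lb := by
    intro h2
    haveI : Fact (Nat.Prime 2) := ⟨Nat.prime_two⟩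
    obtain ⟨t, ht⟩ := exists_prime_orderOf_dvd_card' (G := Lb) 2 h2
    have ht1 : (t : G ⧸ F) ≠ 1 := fun e => by
      rw [show t = 1 from Subtype.ext e, orderOf_one] at ht; norm_num at ht
    -- the involution is central
    have hcen : centralizer ({(t : G ⧸ F)} : Set (G ⧸ F)) = ⊤ := by
      refine eq_top_iff.mpr fun g _ => mem_centralizer_singleton_iff.mpr ?_
      obtain ⟨b, hb, hbt⟩ := hLB t.2
      obtain ⟨b', hb', hb't⟩ := hLB ((inferInstance : Lb.Normal).conj_mem _ t.2 g)
      have hto : orderOf (t : G ⧸ F) = 2 := by rw [Subgroup.orderOf_coe, ht]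
      have hbo : orderOf b = 2 := by rw [← horder b hb, hbt, hto]
      have hb'o : orderOf b' = 2 := by
        rw [← horder b' hb', hb't, ← hto]; exact (MulAut.conj g).orderOf_eq (t : G ⧸ F)
      have hbb : b' = b := by
        obtain ⟨j, hj⟩ := mem_zpowers_iff.mp (mem_zpowers_of_prime_order hBnil hBV hfix hVb Nat.prime_two hb hb' hbo hb'o)
        rcases Int.even_or_odd j with ⟨i, rfl⟩ | ⟨i, rfl⟩
        · exfalso
          rw [← two_mul, zpow_mul, show b ^ (2 : ℤ) = 1 by
            rw [zpow_ofNat, ← hbo, pow_orderOf_eq_one], one_zpow] at hj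
          rw [← hj, orderOf_one] at hb'o
          norm_num at hb'o
        · rw [zpow_add, zpow_mul, show b ^ (2 : ℤ) = 1 by
            rw [zpow_ofNat, ← hbo, pow_orderOf_eq_one], one_zpow, one_mul, zpow_one] at hj
          exact hj.symm
      rw [hbb, hbt] at hb't
      exact mul_inv_eq_iff_eq_mul.mp hb't.symm
    have htop : (⊤ : Subgroup (G ⧸ F)) ≤ Lb := by
      have h1 := hQ _ ht1
      rw [hcen] at h1
      exact Cfsg.Lib.Components.le_fitting h1
    obtain ⟨x, hx⟩ := exists_prime_orderOf_dvd_card' (G := G ⧸ F) p (by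
      rw [← index_eq_card]; exact hFidx)
    exact hLbp (hx ▸ orderOf_dvd_natCard Lb (htop (mem_top x)))
  have hcentle : ∀ a ∈ Lb, a ≠ 1 → centralizer ({a} : Set (G ⧸ F)) ≤ Lb := by
    intro a ha ha1
    obtain ⟨-, c, hc, hcp, hle, hn⟩ := hcent a ha ha1
    haveI := hn
    exact hle.trans (Cfsg.Lib.Components.le_fitting (hQ c fun e => hcp.ne_one (by rw [e, orderOf_one])))
  have hBL : Bb = Lb := by
    refine le_antisymm (fun b hb => ?_) hLB
    haveI := hBbnil
    have h := Cfsg.Lib.Coprime.inf_center_ne_bot (Lb.subgroupOf Bb) (fun h => hLb (by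
      rw [← disjoint_iff.mp (subgroupOf_eq_bot.mp h), inf_of_le_left hLB]))
    obtain ⟨a, ⟨ha, hac⟩, ha1⟩ := (bot_or_exists_ne_one _).resolve_left h
    exact hcentle a ha (fun e => ha1 (Subtype.ext e)) (mem_centralizer_singleton_iff.mpr
      (congrArg Subtype.val (mem_center_iff.mp hac ⟨b, hb⟩)))
  have hBcard : Nat.card Bb = Nat.card B :=
    (Nat.card_congr (Equiv.ofBijective (π.subgroupMap B) ⟨fun a b h => by
      have h1 : π (a : G) = π b := congrArg Subtype.val h
      exact Subtype.ext (inv_mul_eq_one.mp (hinj _ (mul_mem (inv_mem a.2) b.2) (by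
        rw [map_mul, map_inv, h1, inv_mul_cancel]))), π.subgroupMap_surjective B⟩)).symm
  have hBodd : ¬ 2 ∣ Nat.card B := by rw [← hBcard, hBL]; exact hLbodd
  haveI := isZGroup_of_fpf_odd hBV hfix hVb hBodd
  haveI := hBnil
  have hsup : F ⊔ B = Lb.comap π := by
    rw [← hBL, Subgroup.comap_map_eq, hπ, QuotientGroup.ker_mk', sup_comm]
  refine ⟨p, hp, by rw [hFpc]; exact hFb, B, ?_, inferInstance, ?_, hBp, ?_, ?_, ?_, ?_, ?_⟩
  · intro h
    apply hLb
    rw [← hBL, show Bb = ⊥ by rw [Subgroup.map_eq_bot_iff, h]; exact bot_le]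
  · exact Nat.not_even_iff_odd.mp fun he => hBodd he.two_dvd
  · rw [hFpc, hsup]; exact (inferInstance : Lb.Normal).comap π
  · rw [hFpc, hsup]
    intro h
    obtain ⟨x, hx⟩ := exists_prime_orderOf_dvd_card' (G := G ⧸ F) p (by rw [← index_eq_card]; exact hFidx)
    obtain ⟨g, rfl⟩ := QuotientGroup.mk'_surjective F x
    exact hLbp (hx ▸ orderOf_dvd_natCard Lb (h.ge (mem_top g)))
  · rw [hFpc]
    obtain ⟨i, -, hi⟩ := (Nat.dvd_prime_pow hp).mp
      ((index_dvd_of_le (le_sup_right : B ≤ F ⊔ B)).trans hBidx.dvd)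
    exact ⟨i, hi⟩
  · intro a ha ha1
    rw [hFpc]
    exact hFfix a ha1 (hBo a ha)
  · intro x hx a ha ha1 hmem
    rw [hFpc] at hx hmem
    apply hx
    rw [hsup]
    have h1 : π (x * a * x⁻¹ * a⁻¹) = 1 := (QuotientGroup.eq_one_iff _).mpr hmem
    rw [map_mul, map_mul, map_mul, map_inv, map_inv, mul_inv_eq_one, mul_inv_eq_iff_eq_mul] at h1
    exact hcentle (π a) (hBL.le ⟨a, ha, rfl⟩) (fun e => ha1 (hinj a ha e))
      (mem_centralizer_singleton_iff.mpr h1)

/-- The three possibilities for a solvable CN-group. -/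
theorem solvable_trichotomy (hCN : Cfsg.IsCNGroup G) :
    Group.IsNilpotent G ∨
      (∃ K E : Subgroup G, K.Normal ∧ Subgroup.IsComplement' K E ∧ Cfsg.IsFrobeniusComplement E ∧
        (IsCyclic E ∨ ∃ C Q : Subgroup G, C ⊔ Q = E ∧ (∀ a ∈ C, ∀ b ∈ Q, a * b = b * a) ∧ IsCyclic C ∧
          Odd (Nat.card C) ∧ ∃ n : ℕ, Nonempty (↥Q ≃* QuaternionGroup (2 ^ n)))) ∨
      ∃ p : ℕ, p.Prime ∧ Cfsg.IsThreeStepGroup p G := by
  by_cases hnn : Group.IsNilpotent G
  · exact Or.inl hnn
  by_cases hno : ∀ (p : ℕ) [Fact p.Prime] (P : Sylow p G), (P : Subgroup G) ≠ ⊥ → ¬ (P : Subgroup G).Normal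
  · exact Or.inr (Or.inr (threeStep_of_no_normal_sylow hCN hnn hno))
  push Not at hno
  obtain ⟨p, hp, P, hP1, hPn⟩ := hno
  haveI := hp
  obtain ⟨hKb, hKt, ⟨E, hE, hFrob, hfix⟩, hquot⟩ := structure_of_normal_sylow hCN hnn P hP1 hPn
  set K := Cfsg.fittingHall G
  haveI hKnil : Group.IsNilpotent K :=
    nilpotent_of_le Cfsg.Lib.FittingHall.fittingHall_le_fitting (Cfsg.Lib.Components.isNilpotent_fitting (G := G))
  refine Or.inr (Or.inl ⟨K, E, inferInstance, hE, hFrob, ?_⟩)
  haveI := hquot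
  have hEnil : Group.IsNilpotent E := Group.nilpotent_of_mulEquiv hE.symm.QuotientMulEquiv
  exact cyclic_or_quaternion_product hEnil (by rw [normalizer_eq_top]; exact le_top) hfix hKb

end Cfsg.Lib.CN
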