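import Cfsg.Agent.SolvStruct.AlperinClassical
import Cfsg.Agent.SolvStruct.PGroupBasics
import Cfsg.Agent.PGroups.Commutators
import Cfsg.Agent.PGroups.Bounds
import Cfsg.Agent.PGroups.ClassThree
import Cfsg.Agent.Coprime.Basic

/-!
# Elementary abelian subgroups of `p`-groups, `p` odd
-/

set_option linter.unusedSectionVars false
set_option linter.style.haveILetI false

namespace Cfsg.Lib.OddP

open Subgroup
open scoped commutatorElement

universe u

variable {R : Type u} [Group R] [Finite R] {p : ℕ} [hp : Fact p.Prime]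

theorem isElementaryAbelian_sup_zpowers {E : Subgroup R} (hE : Cfsg.IsElementaryAbelian p E) {x : R}
    (hxp : x ^ p = 1) (hxE : ∀ e ∈ E, e * x = x * e) :
    Cfsg.IsElementaryAbelian p (E ⊔ zpowers x) := by
  have hcE := hE.1
  have hgen : E ⊔ zpowers x = closure ((E : Set R) ∪ {x}) := by
    rw [Subgroup.closure_union, closure_eq, zpowers_eq_closure]
  have hc : IsMulCommutative ↥(E ⊔ zpowers x) := by
    rw [hgen]
    refine isMulCommutative_closure ?_
    rintro a (ha | ha) b (hb | hb)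
    · exact congrArg Subtype.val (hcE.is_comm.comm (⟨a, ha⟩ : E) ⟨b, hb⟩)
    · rw [Set.mem_singleton_iff] at hb
      exact hb ▸ hxE a ha
    · rw [Set.mem_singleton_iff] at ha
      exact ha ▸ (hxE b hb).symm
    · rw [Set.mem_singleton_iff] at ha hb
      rw [ha, hb]
  refine ⟨hc, fun y hy => ?_⟩
  obtain ⟨a, ha, b, ⟨i, rfl⟩, rfl⟩ := (Cfsg.Lib.Coprime.mem_sup_of_le_normalizer (x := y)
    (zpowers_le.mpr (centralizer_le_normalizer _ (mem_centralizer_iff.mpr hxE)))).mp hy
  rw [((show Commute a x from hxE a ha).zpow_right i).mul_pow, hE.2 a ha, one_mul, ← zpow_natCast,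
    ← zpow_mul, mul_comm, zpow_mul, zpow_natCast, hxp, one_zpow]

theorem mem_of_commute_maximal {E : Subgroup R} (hE : Cfsg.IsElementaryAbelian p E)
    (hEmax : ∀ B : Subgroup R, Cfsg.IsElementaryAbelian p B → E ≤ B → B = E) {x : R}
    (hxp : x ^ p = 1) (hxE : ∀ e ∈ E, e * x = x * e) : x ∈ E :=
  (hEmax _ (isElementaryAbelian_sup_zpowers hE hxp hxE) le_sup_left).le (mem_sup_right (mem_zpowers x))

/-- maximal normal elementary abelian subgroups contain the elements of order `p` centralizing them -/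
theorem exists_normal_elementary_ge (hR : IsPGroup p R) (hp2 : p ≠ 2) (E : Subgroup R) [E.Normal]
    (hE : Cfsg.IsElementaryAbelian p E) : ∃ A : Subgroup R, A.Normal ∧ E ≤ A ∧
      Cfsg.IsElementaryAbelian p A ∧ ∀ x ∈ centralizer (A : Set R), x ^ p = 1 → x ∈ A := by
  obtain ⟨A, ⟨hAn, hEA, hA⟩, hmax⟩ := exists_maximal_of_wellFoundedGT
    (fun A : Subgroup R => A.Normal ∧ E ≤ A ∧ Cfsg.IsElementaryAbelian p A) ⟨E, inferInstance, le_rfl, hE⟩
  haveI := hAn
  refine ⟨A, hAn, hEA, hA, fun x hx hxp => ?_⟩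
  exact Cfsg.Lib.SolvStruct.Alperin.mem_of_maximal_abelian_exponent hR 1 (by rwa [pow_one]) A hA.1
    (fun a ha => by rw [pow_one]; exact hA.2 a ha)
    (fun B hB hBc hBe hAB => le_antisymm
      (hmax ⟨hB, hEA.trans hAB, hBc, fun b hb => by simpa using hBe b hb⟩ hAB) hAB) x hx
    (by rw [pow_one]; exact hxp)

/-- such a subgroup is large in rank at least three -/
theorem cube_le_card (hR : IsPGroup p R) (hr : ¬ Cfsg.PRankLE p 2 R) {A : Subgroup R}
    [hAn : A.Normal] (hA : Cfsg.IsElementaryAbelian p A)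
    (hself : ∀ x ∈ centralizer (A : Set R), x ^ p = 1 → x ∈ A) : p ^ 3 ≤ Nat.card A := by
  by_contra hlt
  push Not at hlt
  obtain ⟨a, ha⟩ := IsPGroup.iff_card.mp (hR.to_subgroup A)
  have ha2 : a ≤ 2 := by
    rw [ha] at hlt
    have := (Nat.pow_lt_pow_iff_right hp.out.one_lt).mp hlt
    omega
  refine hr fun B hBc hBp => ?_
  by_contra hB
  push Not at hB
  have hidx := Cfsg.Lib.PGroups.index_centralizer_le_of_normal hR a A hAn ha
  have hidx' : (centralizer (A : Set R)).index ≤ p :=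
    hidx.trans ((Nat.pow_le_pow_right hp.out.pos (show a * (a - 1) / 2 ≤ 1 by
      interval_cases a <;> simp)).trans (pow_one p).le)
  set C := B ⊓ centralizer (A : Set R) with hC
  have h1 : C.relIndex B ≤ p := by
    rw [hC, inf_relIndex_left]
    refine le_trans ?_ hidx'
    exact Nat.le_of_dvd (Nat.pos_of_ne_zero index_ne_zero_of_finite) (relIndex_dvd_index_of_normal _ _)
  have h2 : Nat.card C * C.relIndex B = Nat.card B := by
    have := relIndex_mul_relIndex (⊥ : Subgroup R) C B bot_le inf_le_left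
    rwa [relIndex_bot_left, relIndex_bot_left] at this
  have hCA : C ≤ A := fun x hx => hself x hx.2 (hBp x hx.1)
  have h3 : Nat.card C ≤ Nat.card A := card_le_of_le hCA
  have h4 : p ^ 2 < Nat.card C * p := lt_of_lt_of_le (h2 ▸ hB) (Nat.mul_le_mul_left _ h1)
  obtain ⟨c, hc⟩ := IsPGroup.iff_card.mp (hR.to_subgroup C)
  rw [hc, ← pow_succ] at h4
  have hc2 := (Nat.pow_lt_pow_iff_right hp.out.one_lt).mp h4
  rw [hc, ha] at h3
  have hca := (Nat.pow_le_pow_iff_right hp.out.one_lt).mp h3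
  have heq : C = A := Cfsg.Lib.Coprime.eq_of_le_of_card_eq hCA (by
    rw [hc, ha, show c = a by omega])
  have hBA : B ≤ A := fun x hx => hself x (mem_centralizer_iff.mpr fun y hy => by
    exact congrArg Subtype.val (hBc.is_comm.comm (⟨y, (heq.ge hy).1⟩ : B) ⟨x, hx⟩)) (hBp x hx)
  have h5 := card_le_of_le hBA
  have h6 : Nat.card A ≤ p ^ 2 := ha ▸ Nat.pow_le_pow_right hp.out.pos ha2
  omega

theorem mem_closure_center {x : R}
    (hx : x ∈ closure {y : R | y ∈ center R ∧ y ^ p = 1}) : x ∈ center R ∧ x ^ p = 1 := by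
  induction hx using Subgroup.closure_induction with
  | mem x hx => exact hx
  | one => exact ⟨one_mem _, one_pow _⟩
  | mul x y _ _ hx hy =>
    exact ⟨mul_mem hx.1 hy.1, by
      rw [(show Commute x y from mem_center_iff.mp hy.1 x).mul_pow, hx.2, hy.2, one_mul]⟩
  | inv x _ hx => exact ⟨inv_mem hx.1, by rw [inv_pow, hx.2, inv_one]⟩

theorem mem_closure_secondCenter (hp2 : p ≠ 2) {x : R}
    (hx : x ∈ closure {y : R | y ∈ Subgroup.upperCentralSeries R 2 ∧ y ^ p = 1}) :
    x ∈ Subgroup.upperCentralSeries R 2 ∧ x ^ p = 1 := by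
  have hcent : ∀ y ∈ Subgroup.upperCentralSeries R 2, ∀ g : R, ⁅y, g⁆ ∈ center R := fun y hy g => by
    have h := (Subgroup.mem_upperCentralSeries_succ_iff (n := 1)).mp hy g
    rwa [Subgroup.upperCentralSeries_one] at h
  induction hx using Subgroup.closure_induction with
  | mem x hx => exact hx
  | one => exact ⟨one_mem _, one_pow _⟩
  | mul x y _ _ hx hy =>
    refine ⟨mul_mem hx.1 hy.1, ?_⟩
    have hc := hcent y hy.1 x
    obtain ⟨k, hk⟩ := Cfsg.Lib.PGroups.dvd_choose_two hp.out hp2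
    rw [Cfsg.Lib.PGroups.mul_pow_of_central hc, hx.2, hy.2, one_mul, one_mul, hk, pow_mul,
      Cfsg.Lib.PGroups.commutator_pow_eq_one_of_central hc hy.2, one_pow]
  | inv x _ hx => exact ⟨inv_mem hx.1, by rw [inv_pow, hx.2, inv_one]⟩

theorem closure_characteristic {S : Subgroup R} [hS : S.Characteristic] :
    (closure {y : R | y ∈ S ∧ y ^ p = 1}).Characteristic := by
  rw [characteristic_iff_map_le]
  intro φ
  rw [MonoidHom.map_closure]
  refine (closure_le _).mpr ?_
  rintro _ ⟨y, ⟨hy, hyp⟩, rfl⟩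
  exact subset_closure ⟨(characteristic_iff_map_le.mp hS φ) (mem_map_of_mem _ hy),
    by rw [← map_pow, hyp, map_one]⟩

/-- the second centre of a `p`-group of rank at least three with a maximal `E` of order `p^2` -/
theorem maximal_sq_structure (hp2 : p ≠ 2) (hR : IsPGroup p R) (hr : ¬ Cfsg.PRankLE p 2 R)
    (E : Subgroup R) (hE : Cfsg.IsElementaryAbelian p E) (hE2 : Nat.card E = p ^ 2)
    (hEmax : ∀ B : Subgroup R, Cfsg.IsElementaryAbelian p B → E ≤ B → B = E) :
    ¬ E ≤ centralizer ((closure {x : R | x ∈ Subgroup.upperCentralSeries R 2 ∧ x ^ p = 1} : Subgroup R) : Set R) ∧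
      Nat.card ↥(closure {x : R | x ∈ center R ∧ x ^ p = 1}) = p ∧
      (Cfsg.IsElementaryAbelian p (closure {x : R | x ∈ Subgroup.upperCentralSeries R 2 ∧ x ^ p = 1}) ∧
        Nat.card ↥(closure {x : R | x ∈ Subgroup.upperCentralSeries R 2 ∧ x ^ p = 1}) = p ^ 2) ∧
      (centralizer ((closure {x : R | x ∈ Subgroup.upperCentralSeries R 2 ∧ x ^ p = 1} : Subgroup R) : Set R)).Characteristic ∧
      (centralizer ((closure {x : R | x ∈ Subgroup.upperCentralSeries R 2 ∧ x ^ p = 1} : Subgroup R) : Set R)).index = p := by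
  classical
  set W := closure {x : R | x ∈ Subgroup.upperCentralSeries R 2 ∧ x ^ p = 1} with hW
  set Z := closure {x : R | x ∈ center R ∧ x ^ p = 1} with hZ
  have hppos := hp.out.pos
  have hp1 := hp.out.one_lt
  haveI hWc : W.Characteristic := closure_characteristic
  haveI : IsMulCommutative E := hE.1
  have hZE : Z ≤ E := fun z hz =>
    mem_of_commute_maximal hE hEmax (mem_closure_center hz).2
      fun e _ => mem_center_iff.mp (mem_closure_center hz).1 e
  have hEnot : ¬ E ≤ Z := by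
    intro hEZ
    refine hr fun B _ hBp => ?_
    have hBE : B ≤ E := fun b hb => mem_of_commute_maximal hE hEmax (hBp b hb)
      fun e he => (mem_center_iff.mp (mem_closure_center (hEZ he)).1 b).symm
    exact hE2 ▸ card_le_of_le hBE
  -- a normal elementary abelian subgroup of order `p^2`
  obtain ⟨A, hAn, -, hA, hAself⟩ := exists_normal_elementary_ge hR hp2 (⊥ : Subgroup R)
    ⟨inferInstance, fun a ha => by rw [mem_bot.mp ha, one_pow]⟩
  haveI := hAn
  have hA3 := cube_le_card hR hr hA hAself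
  have hA1 : (⊥ : Subgroup R) < A := by
    refine bot_lt_iff_ne_bot.mpr fun h => ?_
    rw [h, card_bot] at hA3
    exact absurd hA3 (not_le.mpr (Nat.one_lt_pow (by norm_num) hp1))
  obtain ⟨K₁, hK₁n, -, hK₁A, hK₁⟩ := Cfsg.Lib.PGroups.exists_normal_relIndex_prime hR hA1
  rw [relIndex_bot_left] at hK₁
  haveI := hK₁n
  have hK₁A' : K₁ < A := lt_of_le_of_ne hK₁A fun h => by
    rw [← h, hK₁] at hA3
    exact absurd hA3 (not_le.mpr (lt_self_pow₀ hp1 (by norm_num)))
  obtain ⟨U, hUn, hK₁U, hUA, hU⟩ := Cfsg.Lib.PGroups.exists_normal_relIndex_prime hR hK₁A'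
  have hUcard : Nat.card U = p ^ 2 := by
    have := relIndex_mul_relIndex (⊥ : Subgroup R) K₁ U bot_le hK₁U
    rw [relIndex_bot_left, relIndex_bot_left, hK₁, hU] at this
    rw [← this, sq]
  have hK₁Z : K₁ ≤ Z := fun z hz => subset_closure
    ⟨Cfsg.Lib.PGroups.le_center_of_card_eq_prime hR hK₁ hz, hA.2 z (hK₁A hz)⟩
  have hZp : Nat.card Z = p := by
    obtain ⟨z, hz, hzc⟩ := (Nat.dvd_prime_pow hp.out).mp (hE2 ▸ card_dvd_of_le hZE)
    have h1 : 1 ≤ z := by
      by_contra hz0
      have h1 := card_le_of_le hK₁Z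
      rw [hzc, hK₁, show z = 0 by omega, pow_zero] at h1
      omega
    rcases (show z = 1 ∨ z = 2 by omega) with rfl | rfl
    · rw [hzc, pow_one]
    · exact absurd (Cfsg.Lib.Coprime.eq_of_le_of_card_eq hZE (hzc.trans hE2.symm)).ge hEnot
  have hcentral : ∀ w ∈ W, ∀ g : R, ⁅g, w⁆ ∈ Z := fun w hw g => by
    have h1 := mem_closure_secondCenter hp2 hw
    have hc : ⁅w, g⁆ ∈ center R := by
      have h := (Subgroup.mem_upperCentralSeries_succ_iff (n := 1)).mp h1.1 g
      rwa [Subgroup.upperCentralSeries_one] at h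
    rw [← commutatorElement_inv]
    exact inv_mem (subset_closure ⟨hc, Cfsg.Lib.PGroups.commutator_pow_eq_one_of_central hc h1.2⟩)
  have hUW : U ≤ W := by
    intro u hu
    refine subset_closure ⟨(Subgroup.mem_upperCentralSeries_succ_iff (n := 1)).mpr fun g => ?_, hA.2 u (hUA hu)⟩
    rw [Subgroup.upperCentralSeries_one]
    haveI := hUn
    set π := QuotientGroup.mk' K₁
    have hUb : Nat.card (U.map π) = p := by
      have h1 : Nat.card ((U.map π).comap π) = Nat.card K₁ * Nat.card (U.map π) :=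
        Cfsg.Lib.Coprime.card_comap_mk' _
      rw [comap_map_eq, QuotientGroup.ker_mk', sup_eq_left.mpr hK₁U, hUcard, hK₁, sq] at h1
      exact (Nat.eq_of_mul_eq_mul_left hppos h1).symm
    haveI : (U.map π).Normal := Subgroup.Normal.map hUn _ (QuotientGroup.mk'_surjective _)
    have h2 : π u * π g = π g * π u := (mem_center_iff.mp (Cfsg.Lib.PGroups.le_center_of_card_eq_prime
      (hR.to_quotient K₁) hUb (mem_map_of_mem π hu)) (π g)).symm
    refine Cfsg.Lib.PGroups.le_center_of_card_eq_prime hR hK₁ ?_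
    rw [← QuotientGroup.eq_one_iff]
    show π ⁅u, g⁆ = 1
    rw [map_commutatorElement, commutatorElement_eq_one_iff_mul_comm]
    exact h2
  obtain ⟨e, heE, heZ⟩ := SetLike.not_le_iff_exists.mp hEnot
  have hEeq : E = Z ⊔ zpowers e := by
    refine Cfsg.Lib.PGroups.eq_sup_zpowers_of_relIndex_prime (p := p) hZE ?_ heE heZ
    have := relIndex_mul_relIndex (⊥ : Subgroup R) Z E bot_le hZE
    rw [relIndex_bot_left, relIndex_bot_left, hZp, hE2, sq] at this
    exact Nat.eq_of_mul_eq_mul_left hppos this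
  have hZW : Z ≤ W := closure_mono fun y hy => ⟨(Subgroup.mem_upperCentralSeries_succ_iff (n := 1)).mpr fun g => by
    rw [Subgroup.upperCentralSeries_one, commutatorElement_eq_one_iff_mul_comm.mpr (mem_center_iff.mp hy.1 g).symm]
    exact one_mem _, hy.2⟩
  have hWeE : W ⊓ centralizer ({e} : Set R) ≤ E := fun w hw => by
    refine mem_of_commute_maximal hE hEmax (mem_closure_secondCenter hp2 hw.1).2 fun y hy => ?_
    rw [hEeq, zpowers_eq_closure] at hy
    have hle : Z ⊔ closure {e} ≤ centralizer ({w} : Set R) :=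
      sup_le (fun z hz => mem_centralizer_singleton_iff.mpr (mem_center_iff.mp (mem_closure_center hz).1 w).symm)
        ((closure_le _).mpr (Set.singleton_subset_iff.mpr (mem_centralizer_singleton_iff.mpr
          (mem_centralizer_singleton_iff.mp hw.2).symm)))
    exact mem_centralizer_singleton_iff.mp (hle hy)
  have hEW : E ⊓ W ≤ Z := by
    obtain ⟨c, hc, hcc⟩ := (Nat.dvd_prime_pow hp.out).mp
      (hE2 ▸ card_dvd_of_le (inf_le_left : E ⊓ W ≤ E))
    by_cases hc2 : c = 2
    · exfalso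
      have hEW' : E ≤ W := (Cfsg.Lib.Coprime.eq_of_le_of_card_eq (inf_le_left : E ⊓ W ≤ E)
        (by rw [hcc, hc2, hE2])).ge.trans inf_le_right
      haveI : E.Normal := ⟨fun y hy g => by
        rw [show g * y * g⁻¹ = ⁅g, y⁆ * y by simp [commutatorElement_def]]
        exact mul_mem (hZE (hcentral y (hEW' hy) g)) hy⟩
      obtain ⟨A', hA'n, hEA', hA', hA'self⟩ := exists_normal_elementary_ge hR hp2 E hE
      haveI := hA'n
      have h3 := cube_le_card hR hr hA' hA'self
      rw [hEmax A' hA' hEA', hE2] at h3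
      exact absurd h3 (not_le.mpr (Nat.pow_lt_pow_right hp1 (by norm_num)))
    · refine (Cfsg.Lib.Coprime.eq_of_le_of_card_eq (le_inf hZE hZW) (le_antisymm
        (card_le_of_le (le_inf hZE hZW)) ?_)).ge
      rw [hcc, hZp]
      exact (Nat.pow_le_pow_right hppos (show c ≤ 1 by omega)).trans (pow_one p).le
  have hWcard : Nat.card W = p ^ 2 := by
    refine le_antisymm ?_ (hUcard ▸ card_le_of_le hUW)
    have h1 := relIndex_mul_relIndex (⊥ : Subgroup R) (W ⊓ centralizer ({e} : Set R)) W bot_le inf_le_left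
    rw [relIndex_bot_left, relIndex_bot_left, inf_relIndex_left] at h1
    rw [← h1, sq]
    refine Nat.mul_le_mul ((card_le_of_le ((le_inf hWeE inf_le_left).trans hEW)).trans hZp.le) ?_
    exact (Cfsg.Lib.PGroups.relIndex_centralizer_le W e Z fun w hw => by
      rw [← commutatorElement_inv]
      exact inv_mem (hcentral w hw e)).trans hZp.le
  have hWe : Cfsg.IsElementaryAbelian p W :=
    ⟨IsPGroup.isMulCommutative_of_card_eq_prime_sq hWcard, fun w hw => (mem_closure_secondCenter hp2 hw).2⟩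
  have hEC : ¬ E ≤ centralizer (W : Set R) := by
    intro h
    have h1 : W ≤ Z := fun w hw => hEW ⟨hWeE ⟨hw, mem_centralizer_singleton_iff.mpr
      (mem_centralizer_iff.mp (h heE) w hw)⟩, hw⟩
    have h2 := card_le_of_le h1
    rw [hWcard, hZp] at h2
    exact absurd h2 (not_le.mpr (lt_self_pow₀ hp1 (by norm_num)))
  refine ⟨hEC, hZp, ⟨hWe, hWcard⟩, inferInstance, ?_⟩
  obtain ⟨w₀, hw₀, hw₀Z⟩ := SetLike.not_le_iff_exists.mp (fun h : W ≤ Z => by
    have h2 := card_le_of_le h
    rw [hWcard, hZp] at h2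
    exact absurd h2 (not_le.mpr (lt_self_pow₀ hp1 (by norm_num))))
  have hWeq : W = Z ⊔ zpowers w₀ := by
    refine Cfsg.Lib.PGroups.eq_sup_zpowers_of_relIndex_prime (p := p) hZW ?_ hw₀ hw₀Z
    have := relIndex_mul_relIndex (⊥ : Subgroup R) Z W bot_le hZW
    rw [relIndex_bot_left, relIndex_bot_left, hZp, hWcard, sq] at this
    exact Nat.eq_of_mul_eq_mul_left hppos this
  have hCW : centralizer (W : Set R) = centralizer ({w₀} : Set R) := by
    rw [hWeq, Cfsg.Lib.PGroups.centralizer_sup_zpowers]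
    refine inf_eq_right.mpr fun g _ => mem_centralizer_iff.mpr fun z hz => ?_
    exact (mem_center_iff.mp (mem_closure_center hz).1 g).symm
  have hle : (centralizer (W : Set R)).index ≤ p := by
    rw [hCW, ← relIndex_top_right]
    exact (Cfsg.Lib.PGroups.relIndex_centralizer_le ⊤ w₀ Z fun g _ => hcentral w₀ hw₀ g).trans hZp.le
  obtain ⟨m, hm⟩ := IsPGroup.iff_card.mp hR
  obtain ⟨i, -, hi⟩ := (Nat.dvd_prime_pow hp.out).mp (hm ▸ (centralizer (W : Set R)).index_dvd_card)
  rcases Nat.eq_zero_or_pos i with rfl | hi0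
  · exact absurd (le_top.trans (index_eq_one.mp (hi.trans (pow_zero p))).ge) hEC
  · exact le_antisymm hle (hi ▸ Nat.le_self_pow hi0.ne' p)

end Cfsg.Lib.OddP
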