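import Cfsg.Agent.OddLocal.SmallAction
import Cfsg.Agent.OddLocal.PLengthOne
import Cfsg.Agent.OddLocal.FittingHall
import Cfsg.Agent.Components.ZJ.Reduce
import Cfsg.Agent.Coprime.Generation

/-!
# Solvable groups of odd order with small `O_p`
-/

set_option linter.unusedSectionVars false
set_option linter.style.haveILetI false

namespace Cfsg.Lib.OddP

open Subgroup
open scoped commutatorElement

universe u

variable {G : Type u} [Group G] [Finite G] {p : ℕ} [hp : Fact p.Prime]

theorem isPGroup_of_forall_coprime (H : Subgroup G)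
    (h : ∀ x ∈ H, (orderOf x).Coprime p → x = 1) : IsPGroup p H := by
  refine IsPGroup.of_card (n := (Nat.card H).primeFactorsList.length)
    (Nat.eq_prime_pow_of_unique_prime_dvd Nat.card_pos.ne' fun {d} hd hdd => ?_)
  by_contra hne
  haveI := Fact.mk hd
  obtain ⟨x, hx⟩ := exists_prime_orderOf_dvd_card' d hdd
  have h1 := h x x.2 (by rw [orderOf_coe, hx]; exact (Nat.coprime_primes hd hp.out).mpr hne)
  rw [show x = 1 from Subtype.ext h1, orderOf_one] at hx
  exact hd.ne_one hx.symm

theorem index_pCore_coprime {M : Type u} [Group M] [Finite M]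
    (h : commutator M ≤ Cfsg.pCore p M) : ((Cfsg.pCore p M).index).Coprime p := by
  obtain ⟨S⟩ : Nonempty (Sylow p M) := inferInstance
  have h1 := Cfsg.Lib.Coprime.pCore_le_sylow p S
  haveI := Cfsg.Lib.Coprime.normal_of_commutator_le (h.trans h1)
  rw [le_antisymm h1 (Cfsg.Lib.Components.le_pCore S.2), Nat.coprime_comm,
    hp.out.coprime_iff_not_dvd]
  exact S.not_dvd_index

theorem hasNormalPComplement_of_quotient (N : Subgroup G) [N.Normal] (hN : (Nat.card N).Coprime p)
    (hq : IsPGroup p (G ⧸ N)) : Cfsg.HasNormalPComplement p G := by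
  obtain ⟨S⟩ : Nonempty (Sylow p G) := inferInstance
  obtain ⟨i, hi⟩ := IsPGroup.iff_card.mp S.2
  refine ⟨S, N, inferInstance, isComplement'_of_coprime ?_ (hi ▸ hN.pow_right i)⟩
  obtain ⟨k, hk⟩ := IsPGroup.iff_card.mp hq
  have h1 : Nat.card G = p ^ k * Nat.card N := by
    rw [← hk]; exact card_eq_card_quotient_mul_card_subgroup N
  rw [Sylow.card_eq_multiplicity, h1, Nat.factorization_mul (pow_ne_zero _ hp.out.ne_zero) Nat.card_pos.ne',
    Finsupp.add_apply, hp.out.factorization_pow, Finsupp.single_eq_same,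
    Nat.factorization_eq_zero_of_not_dvd (hp.out.coprime_iff_not_dvd.mp (Nat.coprime_comm.mp hN)),
    add_zero, mul_comm]

theorem isSmall_of_narrow {R : Type u} [Group R] [Finite R] (hR : IsPGroup p R)
    (hn : Cfsg.IsNarrow p R) : IsSmall p R := by
  rcases hn with h | ⟨R₀, R₁, h0, hcyc, hinf, hcomm, hsup⟩
  · exact Or.inl h
  by_cases hr : Cfsg.PRankLE p 2 R
  · exact Or.inl hr
  refine Or.inr ?_
  haveI := hcyc
  have hR1 : R₁ ≠ ⊥ := by
    intro h
    rw [h, sup_bot_eq] at hsup
    -- then `R = R₀`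
    refine hr fun B _ _ => ?_
    have htop : R₀ = ⊤ := by
      haveI : Group.IsNilpotent R := hR.isNilpotent
      by_contra hne
      obtain ⟨g, hg, hgR⟩ := SetLike.exists_of_lt
        (Group.normalizerCondition_of_isNilpotent R₀ (lt_top_iff_ne_top.mpr hne))
      haveI : (R₀.subgroupOf (normalizer (R₀ : Set R))).Normal := normal_in_normalizer
      have h1 := Cfsg.Lib.PGroups.le_center_of_card_eq_prime (hR.to_subgroup (normalizer (R₀ : Set R)))
        (N := R₀.subgroupOf (normalizer (R₀ : Set R)))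
        (by rw [Nat.card_congr (subgroupOfEquivOfLe le_normalizer).toEquiv, h0])
      refine hgR (hsup.ge (mem_centralizer_iff.mpr fun a ha => ?_))
      exact (congrArg Subtype.val (mem_center_iff.mp
        (h1 (show (⟨a, le_normalizer ha⟩ : normalizer (R₀ : Set R)) ∈ R₀.subgroupOf _ from ha)) ⟨g, hg⟩)).symm
    have h2 := card_subgroup_dvd_card B
    rw [← card_top (G := R), ← htop, h0] at h2
    exact (Nat.le_of_dvd hp.out.pos h2).trans (Nat.le_self_pow two_ne_zero p)
  obtain ⟨a, ha⟩ := exists_prime_orderOf_dvd_card' p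
    ((hR.to_subgroup R₁).card_eq_or_dvd.resolve_left fun h => hR1 (card_eq_one.mp h))
  have hap : (a : R) ^ p = 1 := by
    rw [← SubgroupClass.coe_pow, ← ha, pow_orderOf_eq_one, OneMemClass.coe_one]
  have hR₀e : Cfsg.IsElementaryAbelian p R₀ := by
    haveI := isCyclic_of_prime_card h0
    refine ⟨IsCyclic.isMulCommutative, fun y hy => ?_⟩
    have := orderOf_dvd_iff_pow_eq_one.mp (h0 ▸ Subgroup.orderOf_dvd_natCard R₀ hy)
    exact this
  have hE := isElementaryAbelian_sup_zpowers hR₀e hap fun e he => hcomm e he a a.2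
  set E := R₀ ⊔ zpowers (a : R)
  have hE2 : Nat.card E = p ^ 2 := by
    have hle : zpowers (a : R) ≤ normalizer (R₀ : Set R) := zpowers_le.mpr
      (centralizer_le_normalizer _ (mem_centralizer_iff.mpr fun e he => hcomm e he a a.2))
    rw [Cfsg.Lib.Coprime.card_sup_of_inf_eq_bot hle (eq_bot_iff.mpr
      ((inf_le_inf_left _ (zpowers_le.mpr a.2)).trans hinf.le)), h0, Nat.card_zpowers, orderOf_coe, ha, sq]
  refine ⟨E, hE, hE2, fun B hB hEB => le_antisymm (fun y hy => ?_) hEB⟩
  haveI := hB.1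
  have hyc : y ∈ centralizer (R₀ : Set R) := mem_centralizer_iff.mpr fun e he =>
    congrArg Subtype.val (mul_comm' (⟨e, hEB (mem_sup_left he)⟩ : B) ⟨y, hy⟩)
  obtain ⟨e, he, c, hc, rfl⟩ := (Cfsg.Lib.Coprime.mem_sup_of_le_normalizer
    ((show R₁ ≤ centralizer (R₀ : Set R) from fun b hb =>
      mem_centralizer_iff.mpr fun e he => hcomm e he b hb).trans
        (centralizer_le_normalizer _))).mp (hsup.ge hyc)
  refine mul_mem (mem_sup_left he) (mem_sup_right ?_)
  have hcp : c ^ p = 1 := by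
    have h1 := hB.2 _ hy
    rwa [(show Commute e c from hcomm e he c hc).mul_pow, hR₀e.2 e he, one_mul] at h1
  letI : CommGroup R₁ := IsCyclic.commGroup
  set K := (powMonoidHom p : R₁ →* R₁).ker
  have hK : Nat.card K ≤ p := card_le_of_cyclic_pow hp.out.pos fun m => Subtype.ext m.2
  have hle2 : zpowers a ≤ K := zpowers_le.mpr (show a ^ p = 1 from ha ▸ pow_orderOf_eq_one a)
  have heq := Cfsg.Lib.Coprime.eq_of_le_of_card_eq hle2
    (le_antisymm (card_le_of_le hle2) (by rw [Nat.card_zpowers, ha]; exact hK))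
  obtain ⟨m, hm⟩ := mem_zpowers_iff.mp
    (heq.ge (show (⟨c, hc⟩ : R₁) ^ p = 1 from Subtype.ext hcp : (⟨c, hc⟩ : R₁) ∈ K))
  exact mem_zpowers_iff.mpr ⟨m, congrArg Subtype.val hm⟩

/-- the consequences of a small `O_p(G/O_{p'}(G))` -/
theorem small_structure [Group.IsSolvable G] (hodd : Odd (Nat.card G)) (hpG : p ∣ Nat.card G)
    (hs : IsSmall p (Cfsg.pCore p (G ⧸ Cfsg.pPrimeCore p G))) :
    (∀ q : ℕ, q.Prime → q ∣ (Cfsg.pPrimeCore p G).index → q ≤ p) ∧
      ((p = 3 ∨ ∀ q : ℕ, q.Prime → q ∣ Nat.card G → p ≤ q) → Cfsg.HasNormalPComplement p G) ∧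
      Cfsg.HasNormalPComplement p ↥(commutator G) ∧
      (∀ L : Subgroup ↥(commutator G), (Nat.card L).Coprime p → L ≤ Cfsg.pPrimeCore p ↥(commutator G)) ∧
      commutator G ≤ Cfsg.pPrimePCore p G ∧ ((Cfsg.pPrimePCore p G).index).Coprime p := by
  have hp2 : p ≠ 2 := fun h => hodd.not_two_dvd_nat (h ▸ hpG)
  set N := Cfsg.pPrimeCore p G with hN
  set π := QuotientGroup.mk' N with hπ
  set R := Cfsg.pCore p (G ⧸ N) with hR
  have hRp : IsPGroup p R := Cfsg.Lib.Components.isPGroup_pCore p
  have hCR : centralizer (R : Set (G ⧸ N)) ≤ R := charP_quotient_pPrimeCore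
  have hoddb := odd_quotient hodd N
  have hnR : (⊤ : Subgroup (G ⧸ N)) ≤ normalizer (R : Set (G ⧸ N)) := le_normalizer_of_normal
  have hone : ∀ x ∈ centralizer (R : Set (G ⧸ N)), (orderOf x).Coprime p → x = 1 := fun x hx hxp => by
    obtain ⟨i, hi⟩ := hRp ⟨x, hCR hx⟩
    exact orderOf_eq_one_iff.mp (Nat.eq_one_of_dvd_coprimes (hxp.pow_right i) dvd_rfl
      (orderOf_dvd_of_pow_eq_one (congrArg Subtype.val hi)))
  have hder : commutator (G ⧸ N) ≤ R := by
    refine Cfsg.Lib.Components.le_pCore (isPGroup_of_forall_coprime _ fun x hx hxp => hone x ?_ hxp)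
    refine derived_centralizes_small hp2 hRp hs (A := ⊤) hnR (by rwa [card_top]) ?_ hxp
    rwa [← _root_.commutator_def]
  have hmem : commutator G ≤ Cfsg.pPrimePCore p G := by
    rw [_root_.commutator_def, commutator_le]
    intro a _ b _
    show π ⁅a, b⁆ ∈ R
    rw [map_commutatorElement]
    exact hder (commutator_mem_commutator (mem_top _) (mem_top _))
  have hidx : ((Cfsg.pPrimePCore p G).index).Coprime p := by
    rw [show Cfsg.pPrimePCore p G = R.comap π from rfl,
      index_comap_of_surjective _ (QuotientGroup.mk'_surjective N)]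
    exact index_pCore_coprime hder
  have hNp : (Nat.card N).Coprime p := Cfsg.Lib.Components.coprime_card_pPrimeCore p
  have hqle : ∀ q : ℕ, q.Prime → q ∣ N.index → q ≤ p := by
    intro q hq hqN
    by_cases hqp : q = p
    · exact hqp.le
    haveI := Fact.mk hq
    rw [index_eq_card] at hqN
    obtain ⟨y, hy⟩ := exists_prime_orderOf_dvd_card' q hqN
    have hyp : (orderOf y).Coprime p := hy ▸ (Nat.coprime_primes hq hp.out).mpr hqp
    have hyC : y ∉ centralizer (R : Set (G ⧸ N)) := fun h => by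
      rw [hone y h hyp, orderOf_one] at hy
      exact hq.ne_one hy.symm
    have h1 := prime_acts_small hp2 hRp hs (hnR (mem_top y)) hyp hq hqp
      (by rw [← hy, pow_orderOf_eq_one]; exact one_mem _) hyC
    have hq2 : q ≠ 2 := fun h => hoddb.not_two_dvd_nat (h ▸ hqN)
    exact (prime_le_of_dvd_sq_sub_one hq hq2 hp2 h1.1).le
  have hpG' : ∀ a ∈ commutator G, ∃ i, a ^ p ^ i ∈ N := fun a ha => by
    obtain ⟨i, hi⟩ := hRp ⟨π a, hmem ha⟩
    exact ⟨i, (QuotientGroup.eq_one_iff _).mp
      (by rw [QuotientGroup.mk_pow]; exact congrArg Subtype.val hi)⟩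
  refine ⟨hqle, fun h => ?_, ?_, fun L hL => ?_, hmem, hidx⟩
  · refine hasNormalPComplement_of_quotient N hNp (IsPGroup.of_card
      (n := (Nat.card (G ⧸ N)).primeFactorsList.length)
      (Nat.eq_prime_pow_of_unique_prime_dvd Nat.card_pos.ne' fun {d} hd hdd => ?_))
    have h1 := hqle d hd (by rwa [index_eq_card])
    have hdG : d ∣ Nat.card G := hdd.trans N.card_quotient_dvd_card
    rcases h with h3 | hmin
    · have hd2 : d ≠ 2 := fun h => hodd.not_two_dvd_nat (h ▸ hdG)
      have := hd.two_le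
      omega
    · exact le_antisymm h1 (hmin d hd hdG)
  · refine hasNormalPComplement_of_quotient (N.subgroupOf (commutator G)) ?_ fun x => ?_
    · exact hNp.coprime_dvd_left (card_comap_dvd_of_injective N _ (commutator G).subtype_injective)
    · obtain ⟨⟨a, ha⟩, rfl⟩ := QuotientGroup.mk_surjective x
      obtain ⟨i, hi⟩ := hpG' a ha
      exact ⟨i, by rw [← QuotientGroup.mk_pow]; exact (QuotientGroup.eq_one_iff _).mpr hi⟩
  · haveI : (N.subgroupOf (commutator G)).Normal := Subgroup.Normal.comap inferInstance _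
    refine fun l hl => Cfsg.Lib.Components.le_pPrimeCore (N := N.subgroupOf (commutator G))
      (hNp.coprime_dvd_left (card_comap_dvd_of_injective N _ (commutator G).subtype_injective)) ?_
    obtain ⟨i, hi⟩ := hpG' l l.2
    refine mem_of_pow_coprime (N := N.subgroupOf (commutator G)) (c := p ^ i) hi
      (orderOf_dvd_iff_pow_eq_one.mp (Subgroup.orderOf_dvd_natCard L hl)) (hL.pow_right i).symm

theorem isSmall_quotient_rank [Group.IsSolvable G] (S : Sylow p G)
    (hr : Cfsg.PRankLE p 2 (S : Subgroup G)) :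
    IsSmall p (Cfsg.pCore p (G ⧸ Cfsg.pPrimeCore p G)) := by
  refine Or.inl ?_
  set π := QuotientGroup.mk' (Cfsg.pPrimeCore p G)
  let e : (S : Subgroup G) ≃* (S : Subgroup G).map π := MulEquiv.ofBijective (π.subgroupMap _)
    ⟨fun a b h => Subtype.ext (injOn_pPrimeCore S.2 a.2 b.2 (congrArg Subtype.val h)),
      MonoidHom.subgroupMap_surjective _ _⟩
  have h1 : Cfsg.PRankLE p 2 ((S : Subgroup G).map π) := pRankLE_of_injective e.symm.toMonoidHom e.symm.injective hr
  have h2 : Cfsg.pCore p (G ⧸ Cfsg.pPrimeCore p G) ≤ (S : Subgroup G).map π :=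
    Cfsg.Lib.Thompson.le_sylow_of_normal (Cfsg.Lib.Components.isPGroup_pCore p)
      (S.mapSurjective (QuotientGroup.mk'_surjective _))
  exact pRankLE_of_injective (inclusion h2) (inclusion_injective _) h1

theorem isSmall_quotient_narrow [Group.IsSolvable G] (S : Sylow p G)
    (hn : Cfsg.IsNarrow p (S : Subgroup G))
    (hpl : ¬ Cfsg.PRankLE p 2 (S : Subgroup G) → Cfsg.PLengthLE p 1 G) :
    IsSmall p (Cfsg.pCore p (G ⧸ Cfsg.pPrimeCore p G)) := by
  by_cases hr : Cfsg.PRankLE p 2 (S : Subgroup G)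
  · exact isSmall_quotient_rank S hr
  set π := QuotientGroup.mk' (Cfsg.pPrimeCore p G)
  let e : (S : Subgroup G) ≃* (S : Subgroup G).map π := MulEquiv.ofBijective (π.subgroupMap _)
    ⟨fun a b h => Subtype.ext (injOn_pPrimeCore S.2 a.2 b.2 (congrArg Subtype.val h)),
      MonoidHom.subgroupMap_surjective _ _⟩
  have h2 : Cfsg.pCore p (G ⧸ Cfsg.pPrimeCore p G) = (S : Subgroup G).map π :=
    le_antisymm (Cfsg.Lib.Thompson.le_sylow_of_normal (Cfsg.Lib.Components.isPGroup_pCore p)
      (S.mapSurjective (QuotientGroup.mk'_surjective _)))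
      (map_le_iff_le_comap.mpr (le_pPrimePCore_of_pLength (hpl hr) S.2))
  exact ((isSmall_of_narrow S.2 hn).of_equiv e).of_equiv (MulEquiv.subgroupCongr h2.symm)

theorem mem_pCore_of_mem_fitting {s i : ℕ} [Fact s.Prime] {x : G}
    (hx : x ∈ Cfsg.fittingSubgroup G) (hxp : x ^ s ^ i = 1) : x ∈ Cfsg.pCore s G := by
  set F := Cfsg.fittingSubgroup G
  haveI : Group.IsNilpotent F := Cfsg.Lib.Components.isNilpotent_fitting
  have hz : IsPGroup s (zpowers (⟨x, hx⟩ : F)) := by
    rintro ⟨z, hz⟩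
    obtain ⟨m, rfl⟩ := mem_zpowers_iff.mp hz
    refine ⟨i, Subtype.ext (Subtype.ext ?_)⟩
    show (x ^ m) ^ s ^ i = 1
    rw [← zpow_natCast, ← zpow_mul, mul_comm, zpow_mul, zpow_natCast, hxp, one_zpow]
  obtain ⟨P, hP⟩ := hz.exists_le_sylow
  haveI : (P : Subgroup F).Characteristic := Sylow.characteristic_of_normal P inferInstance
  exact Cfsg.Lib.Components.le_pCore (P.2.map F.subtype)
    (mem_map_of_mem F.subtype (hP (mem_zpowers (⟨x, hx⟩ : F))))

/-- `G' ≤ F(G)` when derived `p'`-elements centralize every `O_p(G)` -/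
theorem commutator_le_fitting [Group.IsSolvable G]
    (h : ∀ (q : ℕ) [Fact q.Prime] (x : G), x ∈ commutator G → (orderOf x).Coprime q →
      x ∈ centralizer (Cfsg.pCore q G : Set G)) : commutator G ≤ Cfsg.fittingSubgroup G := by
  classical
  set F := Cfsg.fittingSubgroup G with hF
  haveI : Group.IsNilpotent F := Cfsg.Lib.Components.isNilpotent_fitting
  have hCF : ∀ x : G, (∀ s : ℕ, s.Prime → x ∈ centralizer (Cfsg.pCore s G : Set G)) →
      x ∈ centralizer (F : Set G) := by
    intro x hx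
    refine mem_centralizer_iff.mpr fun f hf => mem_centralizer_singleton_iff.mp ?_
    refine (Cfsg.Lib.Coprime.le_of_forall_sylow (K := F) fun s hs => ?_) hf
    haveI := Fact.mk hs
    obtain ⟨P⟩ : Nonempty (Sylow s F) := inferInstance
    refine ⟨P, ?_⟩
    haveI : (P : Subgroup F).Characteristic := Sylow.characteristic_of_normal P inferInstance
    refine (Cfsg.Lib.Components.le_pCore (P.2.map F.subtype)).trans fun c hc => ?_
    exact mem_centralizer_singleton_iff.mpr (mem_centralizer_iff.mp (hx s hs) c hc)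
  refine Cfsg.Lib.Coprime.le_of_forall_sylow fun q hq => ?_
  haveI := Fact.mk hq
  obtain ⟨Q⟩ : Nonempty (Sylow q (commutator G)) := inferInstance
  refine ⟨Q, ?_⟩
  set C := fun s : {s : ℕ // s.Prime ∧ s ≠ q} => centralizer (Cfsg.pCore s G : Set G) with hC
  haveI : (⨅ s, C s).Normal := normal_iInf_normal fun s => by rw [hC]; infer_instance
  set M := commutator G ⊓ ⨅ s, C s with hM
  haveI : M.Normal := inferInstance
  have hQM : (Q : Subgroup (commutator G)).map (commutator G).subtype ≤ M := by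
    rintro _ ⟨x, hx, rfl⟩
    refine ⟨x.2, mem_iInf.mpr fun s => ?_⟩
    haveI := Fact.mk s.2.1
    obtain ⟨i, hi⟩ := Q.2 ⟨x, hx⟩
    refine h s x x.2 (Nat.Coprime.coprime_dvd_left (orderOf_dvd_of_pow_eq_one
      (show (x : G) ^ q ^ i = 1 from ?_)) (((Nat.coprime_primes hq s.2.1).mpr (Ne.symm s.2.2)).pow_left i))
    rw [← SubgroupClass.coe_pow, show x ^ q ^ i = 1 from congrArg Subtype.val hi, OneMemClass.coe_one]
  -- `q'`-elements of prime power order of `M` are central
  have hcent : ∀ (s : ℕ), s.Prime → s ≠ q → ∀ y : M, (∃ i, y ^ s ^ i = 1) → y ∈ center M := by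
    rintro s hs hsq y ⟨i, hi⟩
    haveI := Fact.mk hs
    have hyF : (y : G) ∈ F := by
      refine (Cfsg.Lib.Coprime.centralizer_fitting_le) (hCF y fun t ht => ?_)
      by_cases htq : t = q
      · subst htq
        refine h t y y.2.1 (Nat.Coprime.coprime_dvd_left (orderOf_dvd_of_pow_eq_one ?_)
          (((Nat.coprime_primes hs hq).mpr hsq).pow_left i))
        rw [← SubgroupClass.coe_pow, hi, OneMemClass.coe_one]
      · exact (mem_iInf.mp y.2.2 ⟨t, ht, htq⟩ :)
    have hys : (y : G) ∈ Cfsg.pCore s G := mem_pCore_of_mem_fitting hyF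
      (show (y : G) ^ s ^ i = 1 by rw [← SubgroupClass.coe_pow, hi, OneMemClass.coe_one])
    refine mem_center_iff.mpr fun m => Subtype.ext ?_
    exact (mem_centralizer_iff.mp (mem_iInf.mp m.2.2 ⟨s, hs, hsq⟩) y hys).symm
  haveI : Group.IsNilpotent M := by
    refine Group.of_quotient_center_nilpotent (IsPGroup.isNilpotent (p := q) ?_)
    refine IsPGroup.of_card (n := (Nat.card (M ⧸ center M)).primeFactorsList.length)
      (Nat.eq_prime_pow_of_unique_prime_dvd Nat.card_pos.ne' fun {s} hs hsd => ?_)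
    by_contra hsq
    haveI := Fact.mk hs
    obtain ⟨P⟩ : Nonempty (Sylow s M) := inferInstance
    have hP : (P : Subgroup M) ≤ center M := fun y hy => by
      obtain ⟨i, hi⟩ := P.2 ⟨y, hy⟩
      exact hcent s hs hsq y ⟨i, congrArg Subtype.val hi⟩
    exact P.not_dvd_index ((index_eq_card (center M) ▸ hsd).trans (index_dvd_of_le hP))
  exact hQM.trans (le_sSup ⟨inferInstance, inferInstance⟩)

end Cfsg.Lib.OddP
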