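import Cfsg.Agent.OddLocal.FittingHall
import Cfsg.Agent.Coprime.Action
import Cfsg.Agent.Coprime.Hall
import Cfsg.Agent.Coprime.SolvableBasics
import Cfsg.Prelude.Def_LieExceptional
import Mathlib.GroupTheory.Sylow

/-!
# Groups with nilpotent centralisers
-/

set_option linter.unusedSectionVars false
set_option linter.style.haveILetI false

namespace Cfsg.Lib.CN

open Subgroup

universe u

theorem nilpotent_of_le {G : Type u} [Group G] {A B : Subgroup G} (h : A ≤ B)
    (hB : Group.IsNilpotent B) : Group.IsNilpotent A := by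
  haveI := hB
  exact Group.nilpotent_of_surjective (subgroupOfEquivOfLe h).toMonoidHom (subgroupOfEquivOfLe h).surjective

/-- Commutation of elements of coprime order inside a nilpotent subgroup. -/
theorem commute_of_mem {G : Type u} [Group G] [Finite G] {A : Subgroup G} (hA : Group.IsNilpotent A)
    {x y : G} (hx : x ∈ A) (hy : y ∈ A) (h : (orderOf x).Coprime (orderOf y)) : Commute x y := by
  haveI := hA
  have := Cfsg.Lib.FittingHall.commute_coprime (K := A) (x := ⟨x, hx⟩) (y := ⟨y, hy⟩)
    (by rwa [Subgroup.orderOf_mk, Subgroup.orderOf_mk])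
  exact congrArg Subtype.val this.eq

/-- A group in which elements of prime power order for distinct primes commute is nilpotent. -/
theorem nilpotent_of_commute {K : Type u} [Group K] [Finite K]
    (h : ∀ p q : ℕ, p.Prime → q.Prime → p ≠ q → ∀ a b : K, (∃ i, orderOf a = p ^ i) →
      (∃ j, orderOf b = q ^ j) → Commute a b) : Group.IsNilpotent K := by
  classical
  refine ((Group.isNilpotent_of_finite_tfae (G := K)).out 0 3).2 fun p hp P => ?_
  haveI := hp
  rw [← normalizer_eq_top_iff]
  refine eq_top_of_card_eq _ (Nat.dvd_antisymm (card_subgroup_dvd_card _) ?_)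
  rw [Nat.dvd_iff_prime_pow_dvd_dvd]
  intro q k hq hdvd
  haveI := Fact.mk hq
  by_cases hqp : q = p
  · subst hqp
    exact (P.pow_dvd_card_of_pow_dvd_card hdvd).trans (card_dvd_of_le le_normalizer)
  obtain ⟨Q⟩ := (inferInstance : Nonempty (Sylow q K))
  refine (Q.pow_dvd_card_of_pow_dvd_card hdvd).trans (card_dvd_of_le fun x hx => ?_)
  refine mem_normalizer_iff.mpr fun y => ?_
  have hc : ∀ y ∈ (P : Subgroup K), x * y = y * x := fun y hy => (h q p hq hp.out hqp x y
    (by obtain ⟨i, hi⟩ := IsPGroup.iff_orderOf.mp Q.2 ⟨x, hx⟩; exact ⟨i, by rwa [Subgroup.orderOf_mk] at hi⟩)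
    (by obtain ⟨i, hi⟩ := IsPGroup.iff_orderOf.mp P.2 ⟨y, hy⟩; exact ⟨i, by rwa [Subgroup.orderOf_mk] at hi⟩)).eq
  constructor
  · intro hy
    rwa [hc y hy, mul_inv_cancel_right]
  · intro hy
    have h2 := hc _ hy
    rw [show x * y * x⁻¹ * x = x * y by group] at h2
    rwa [mul_left_cancel h2] at hy

variable {G : Type u} [Group G] [Finite G]

/-- A nontrivial normal subgroup of a `p`-group meets the centre. -/
theorem exists_central_in {p : ℕ} [Fact p.Prime] {N R : Subgroup G} (hNR : N ≤ R) (hN : N ≠ ⊥)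
    (hR : IsPGroup p R) (hn : R ≤ normalizer (N : Set G)) :
    ∃ z ∈ N, z ≠ 1 ∧ ∀ r ∈ R, r * z = z * r := by
  haveI : Group.IsNilpotent R := hR.isNilpotent
  haveI : (N.subgroupOf R).Normal := (normal_subgroupOf_iff_le_normalizer hNR).mpr hn
  have h := Cfsg.Lib.Coprime.inf_center_ne_bot (N.subgroupOf R) (fun h => hN (by
    rw [← subgroupOf_eq_bot.mp h |> disjoint_iff.mp, inf_of_le_left hNR]))
  obtain ⟨z, hz, hz1⟩ := (bot_or_exists_ne_one _).resolve_left h
  exact ⟨(z : G), mem_subgroupOf.mp hz.1, fun h => hz1 (Subtype.ext h), fun r hr =>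
    congrArg Subtype.val (mem_center_iff.mp hz.2 ⟨r, hr⟩)⟩

/-- Quotient by an abelian normal `p`-subgroup. -/
theorem isCN_quotient_abelian (hCN : Cfsg.IsCNGroup G) {p : ℕ} [hp : Fact p.Prime] (N : Subgroup G)
    [N.Normal] (hne : N ≠ ⊥) [IsMulCommutative N] (hpN : IsPGroup p N) : Cfsg.IsCNGroup (G ⧸ N) := by
  intro g hg
  set π := QuotientGroup.mk' N
  -- a prime order power
  set q := (orderOf g).minFac
  have hq : q.Prime := Nat.minFac_prime (fun h => hg (orderOf_eq_one_iff.mp h))
  haveI := Fact.mk hq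
  set h₀ := g ^ (orderOf g / q)
  have hh₀ : orderOf h₀ = q := orderOf_pow_orderOf_div (orderOf_pos g).ne' (Nat.minFac_dvd _)
  obtain ⟨x₀, hx₀⟩ := QuotientGroup.mk'_surjective N h₀
  set a := (orderOf x₀).factorization q
  set m := orderOf x₀ / q ^ a
  set x := x₀ ^ m
  have hxo : orderOf x = q ^ a := orderOf_pow_orderOf_div (orderOf_pos x₀).ne' (Nat.ordProj_dvd _ _)
  have hcop : Nat.Coprime q m := Nat.coprime_ordCompl hq (orderOf_pos x₀).ne'
  have hπx : π x = h₀ ^ m := by rw [map_pow, hx₀]
  have hπxo : orderOf (π x) = q := by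
    rw [hπx, Nat.Coprime.orderOf_pow (by rwa [hh₀]), hh₀]
  have hπx1 : π x ≠ 1 := fun h => hq.ne_one (by rw [← hπxo, h, orderOf_one])
  set Z := centralizer ({π x} : Set (G ⧸ N))
  suffices hZ : Group.IsNilpotent Z by
    refine nilpotent_of_le (fun c hc => ?_) hZ
    rw [mem_centralizer_singleton_iff] at hc ⊢
    rw [hπx]
    exact ((show Commute c g from hc).pow_right _).pow_right _
  set C := Z.comap π
  have hCmem : ∀ c ∈ C, ∀ i : ℤ, c⁻¹ * x ^ i * c * (x ^ i)⁻¹ ∈ N := fun c hc i => by
    rw [← QuotientGroup.eq_one_iff]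
    have h1 : Commute (π c) (π x) := mem_centralizer_singleton_iff.mp hc
    show π _ = 1
    rw [map_mul, map_mul, map_mul, map_inv, map_inv, map_zpow, mul_assoc (π c)⁻¹,
      ← (h1.zpow_right i).eq, inv_mul_cancel_left, mul_inv_cancel]
  have hxC : x ∈ C := mem_centralizer_singleton_iff.mpr rfl
  have hNn : ∀ A : Subgroup G, A ≤ normalizer (N : Set G) := fun A => by
    rw [normalizer_eq_top]; exact le_top
  have hpcard : ∃ i, Nat.card N = p ^ i := IsPGroup.iff_card.mp hpN
  have hsolN : Group.IsSolvable N := by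
    haveI := hpN.isNilpotent
    infer_instance
  obtain ⟨i₀, hi₀⟩ := hpcard
  have hmap : C.map π = Z := map_comap_eq_self_of_surjective (QuotientGroup.mk'_surjective N) Z
  by_cases hqp : q = p
  swap
  · -- coprime case
    have hx1 : x ≠ 1 := fun h => hπx1 (by rw [h, map_one])
    have hle : C ≤ centralizer ({x} : Set G) ⊔ N := by
      intro c hc
      obtain ⟨d, hd, hcd⟩ := Cfsg.Lib.Coprime.exists_fixed_in_coset (A := zpowers x) (D := N) (hNn _)
        (by rw [Nat.card_zpowers, hxo, hi₀]; exact Nat.Coprime.pow _ _ ((Nat.coprime_primes hq hp.out).mpr hqp))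
        (Or.inr hsolN) (k := c) (fun z hz => by
          obtain ⟨i, rfl⟩ := hz; exact hCmem c hc i)
      rw [Cfsg.Lib.Coprime.centralizer_zpowers] at hcd
      have := mul_mem_sup hcd (inv_mem hd)
      simpa [mul_assoc] using this
    have h1 : Z ≤ (centralizer ({x} : Set G)).map π := by
      rw [← hmap]
      refine (map_mono hle).trans ?_
      rw [Subgroup.map_sup, QuotientGroup.map_mk'_self, sup_bot_eq]
    haveI := hCN x hx1
    exact nilpotent_of_le h1 (Group.nilpotent_of_surjective _ (π.subgroupMap_surjective _))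
  · subst hqp
    suffices hC : Group.IsNilpotent C by
      haveI := hC
      rw [← hmap]
      exact Group.nilpotent_of_surjective _ (π.subgroupMap_surjective C)
    set Q := N ⊔ zpowers x
    have hxp : IsPGroup q (zpowers x) := IsPGroup.of_card (n := a) (by rw [Nat.card_zpowers, hxo])
    have hQp : IsPGroup q Q := IsPGroup.to_sup_of_normal_left hpN hxp
    have hQn : Q ≤ normalizer (N : Set G) := hNn _
    -- `C` normalises `Q`
    have hCQ : C ≤ normalizer (Q : Set G) := by
      intro c hc
      have key : ∀ c ∈ C, ∀ y ∈ Q, c⁻¹ * y * c ∈ Q := by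
        intro c hc y hy
        obtain ⟨n, hn, t, ht, rfl⟩ := mem_sup_of_normal_left.mp hy
        obtain ⟨i, rfl⟩ := ht
        have h1 : c⁻¹ * n * c ∈ N := by simpa using (inferInstance : N.Normal).conj_mem n hn c⁻¹
        have h2 := mul_mem_sup (mul_mem h1 (hCmem c hc i)) (zpow_mem (mem_zpowers x) i)
        simpa [mul_assoc] using h2
      refine mem_normalizer_iff.mpr fun y => ⟨fun hy => ?_, fun hy => ?_⟩
      · simpa using key c⁻¹ (inv_mem hc) y hy
      · simpa [mul_assoc] using key c hc _ hy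
    -- `p'`-elements centralise `Q`
    obtain ⟨z, hzN, hz1, hzQ⟩ := exists_central_in le_sup_left hne hQp hQn
    have hpo : ∀ n ∈ Q, ∃ i, orderOf n = q ^ i := fun n hn => by
      obtain ⟨i, hi⟩ := IsPGroup.iff_orderOf.mp hQp ⟨n, hn⟩
      exact ⟨i, by rwa [Subgroup.orderOf_mk] at hi⟩
    have hcent : ∀ y ∈ C, (orderOf y).Coprime q → ∀ n ∈ Q, Commute n y := by
      intro y hy hyo
      have hco : ∀ n ∈ Q, (orderOf n).Coprime (orderOf y) := fun n hn => by
        obtain ⟨i, hi⟩ := hpo n hn
        rw [hi]; exact (hyo.symm).pow_left i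
      obtain ⟨d, hd, hxd⟩ := Cfsg.Lib.Coprime.exists_fixed_in_coset (A := zpowers y) (D := N) (hNn _)
        (by rw [Nat.card_zpowers, hi₀]; exact hyo.pow_right _) (Or.inr hsolN) (k := x) (fun w hw => by
          obtain ⟨i, rfl⟩ := hw
          have h1 := hCmem (y ^ i)⁻¹ (inv_mem (zpow_mem hy i)) 1
          have h2 := (inferInstance : N.Normal).conj_mem _ h1 x⁻¹
          simpa [mul_assoc] using h2)
      rw [Cfsg.Lib.Coprime.centralizer_zpowers, mem_centralizer_singleton_iff] at hxd
      have hx'1 : x * d ≠ 1 := fun h => hπx1 (by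
        have h3 := congrArg π h
        rwa [map_mul, show π d = 1 from (QuotientGroup.eq_one_iff d).mpr hd, mul_one, map_one] at h3)
      have hx'Q : x * d ∈ Q := mul_mem (mem_sup_right (mem_zpowers x)) (mem_sup_left hd)
      have hzy : Commute z y := commute_of_mem (hCN _ hx'1)
        (mem_centralizer_singleton_iff.mpr (hzQ _ hx'Q).symm)
        (mem_centralizer_singleton_iff.mpr hxd.symm) (hco z (mem_sup_left hzN))
      intro n hn
      exact commute_of_mem (hCN z hz1) (mem_centralizer_singleton_iff.mpr (hzQ n hn))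
        (mem_centralizer_singleton_iff.mpr hzy.symm.eq) (hco n hn)
    refine nilpotent_of_commute fun r s hr hs hrs u w hu hw => Subtype.ext ?_
    obtain ⟨iu, hiu⟩ := hu
    obtain ⟨iw, hiw⟩ := hw
    rw [← Subgroup.orderOf_coe] at hiu hiw
    have hcop' : (orderOf (u : G)).Coprime (orderOf (w : G)) := by
      rw [hiu, hiw]; exact Nat.Coprime.pow _ _ ((Nat.coprime_primes hr hs).mpr hrs)
    have hp' : ∀ {t : ℕ}, t.Prime → t ≠ q → ∀ {v : G} {i : ℕ}, orderOf v = t ^ i → (orderOf v).Coprime q :=
      fun ht htp _ i hv => by rw [hv]; exact ((Nat.coprime_primes ht hq).mpr htp).pow_left i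
    -- a `p`-element and a `p'`-element of `C` commute
    have hmix : ∀ b ∈ C, (∃ i, orderOf b = q ^ i) → ∀ y ∈ C, (orderOf y).Coprime q → Commute b y := by
      intro b hb ⟨ib, hib⟩ y hy hyo
      have hbp : IsPGroup q (zpowers b) := IsPGroup.of_card (n := ib) (by rw [Nat.card_zpowers, hib])
      have hRp : IsPGroup q ↥(Q ⊔ zpowers b) :=
        IsPGroup.to_sup_of_normal_left' hQp hbp (zpowers_le.mpr (hCQ hb))
      obtain ⟨z', hz'N, hz'1, hz'R⟩ := exists_central_in (le_sup_left.trans le_sup_left) hne hRp (hNn _)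
      exact commute_of_mem (hCN z' hz'1)
        (mem_centralizer_singleton_iff.mpr (hz'R b (mem_sup_right (mem_zpowers b))))
        (mem_centralizer_singleton_iff.mpr (hcent y hy hyo z' (mem_sup_left hz'N)).symm.eq)
        (by rw [hib]; exact (hyo.symm).pow_left ib)
    by_cases hrp : r = q
    · exact (hmix u u.2 ⟨iu, hrp ▸ hiu⟩ w w.2 (hp' hs (fun h => hrs (hrp.trans h.symm)) hiw)).eq
    by_cases hsp : s = q
    · exact (hmix w w.2 ⟨iw, hsp ▸ hiw⟩ u u.2 (hp' hr hrp hiu)).symm.eq
    have hu' : (u : G) ∈ centralizer ({z} : Set G) := mem_centralizer_singleton_iff.mpr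
      (hcent u u.2 (hp' hr hrp hiu) z (mem_sup_left hzN)).symm.eq
    have hw' : (w : G) ∈ centralizer ({z} : Set G) := mem_centralizer_singleton_iff.mpr
      (hcent w w.2 (hp' hs hsp hiw) z (mem_sup_left hzN)).symm.eq
    exact (commute_of_mem (hCN z hz1) hu' hw' hcop').eq

theorem isCN_of_mulEquiv {K L : Type u} [Group K] [Group L] (e : K ≃* L) (h : Cfsg.IsCNGroup K) :
    Cfsg.IsCNGroup L := by
  intro g hg
  have hg' : e.symm g ≠ 1 := fun h1 => hg (e.symm.injective (h1.trans (map_one _).symm))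
  haveI := h _ hg'
  have hmap : (centralizer ({e.symm g} : Set K)).map e.toMonoidHom = centralizer ({g} : Set L) := by
    ext y
    simp only [mem_map, mem_centralizer_singleton_iff]
    constructor
    · rintro ⟨x, hx, rfl⟩
      simpa using congrArg e hx
    · intro hy
      exact ⟨e.symm y, by rw [← map_mul, ← map_mul, hy], by simp⟩
  rw [← hmap]
  exact Group.nilpotent_of_surjective _ (e.toMonoidHom.subgroupMap_surjective _)

theorem isCN_quotient : ∀ (n : ℕ) {G : Type u} [Group G] [Finite G], Cfsg.IsCNGroup G →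
    ∀ (H : Subgroup G) [H.Normal], Group.IsSolvable H → Nat.card H = n → Cfsg.IsCNGroup (G ⧸ H) := by
  intro n
  induction n using Nat.strong_induction_on with
  | _ n ih =>
  intro G _ _ hCN H hH hsol hn
  by_cases hb : H = ⊥
  · subst hb
    exact isCN_of_mulEquiv QuotientGroup.quotientBot.symm hCN
  obtain ⟨N, hNH, hNn, hNb, hmin⟩ := Cfsg.Lib.Coprime.exists_minimal_normal hH hb
  haveI := hNn
  obtain ⟨hcomm, p, hp, hpN, -⟩ := Cfsg.Lib.Coprime.minimal_normal_solvable
    (Cfsg.Lib.Coprime.isSolvable_of_le hNH hsol) hNb hmin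
  haveI := hcomm
  haveI := Fact.mk hp
  have hq := isCN_quotient_abelian hCN N hNb hpN
  set π := QuotientGroup.mk' N
  haveI : (H.map π).Normal := hH.map π (QuotientGroup.mk'_surjective N)
  have hlt : Nat.card (H.map π) < n := by
    rw [← hn, ← relIndex_ker, QuotientGroup.ker_mk']
    have h1 : N.relIndex H * Nat.card N = Nat.card H := by
      rw [← relIndex_bot_left N, ← relIndex_bot_left H, mul_comm]
      exact relIndex_mul_relIndex _ _ _ bot_le hNH
    have h2 : 1 < Nat.card N := by
      haveI := (nontrivial_iff_ne_bot N).mpr hNb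
      exact Finite.one_lt_card
    have h3 : N.relIndex H ≠ 0 := index_ne_zero_of_finite
    rw [← h1]
    calc N.relIndex H = N.relIndex H * 1 := (mul_one _).symm
      _ < N.relIndex H * Nat.card N := Nat.mul_lt_mul_of_pos_left h2 (Nat.pos_of_ne_zero h3)
  have := ih _ hlt hq (H.map π) (Cfsg.Lib.Coprime.isSolvable_map hsol π) rfl
  exact isCN_of_mulEquiv (QuotientGroup.quotientQuotientEquivQuotient N H hNH) this

end Cfsg.Lib.CN
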