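import Cfsg.Agent.OddLocal.CNFpf

/-!
# Maximal nilpotent subgroups of groups with nilpotent centralisers
-/

set_option linter.unusedSectionVars false
set_option linter.style.haveILetI false

namespace Cfsg.Lib.CN

open Subgroup

universe u

variable {G : Type u} [Group G] [Finite G]

/-- A nilpotent subgroup has a central element of each prime order dividing its order. -/
theorem exists_central_prime {H : Subgroup G} (hH : Group.IsNilpotent H) {q : ℕ} [hq : Fact q.Prime]
    (hdvd : q ∣ Nat.card H) : ∃ z ∈ H, orderOf z = q ∧ ∀ h ∈ H, h * z = z * h := by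
  haveI := hH
  obtain ⟨S⟩ := (inferInstance : Nonempty (Sylow q H))
  haveI := sylow_normal_of_nilpotent S
  obtain ⟨z, ⟨hzS, hzc⟩, hz1⟩ := (bot_or_exists_ne_one _).resolve_left
    (Cfsg.Lib.Coprime.inf_center_ne_bot (S : Subgroup H) (S.ne_bot_of_dvd_card hdvd))
  obtain ⟨i, hi⟩ := IsPGroup.iff_orderOf.mp S.2 ⟨z, hzS⟩
  rw [Subgroup.orderOf_mk] at hi
  have hqz : q ∣ orderOf z := by
    rw [hi]; exact dvd_pow_self q fun e => hz1 (orderOf_eq_one_iff.mp (by rw [hi, e, pow_zero]))
  refine ⟨((z ^ (orderOf z / q) : H) : G), SetLike.coe_mem _, ?_, fun h hh => ?_⟩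
  · rw [Subgroup.orderOf_coe]
    exact orderOf_pow_orderOf_div (orderOf_pos z).ne' hqz
  · have h1 : Commute (⟨h, hh⟩ : H) z := mem_center_iff.mp hzc ⟨h, hh⟩
    exact congrArg Subtype.val (h1.pow_right (orderOf z / q)).eq

variable (hCN : Cfsg.IsCNGroup G) {H : Subgroup G} (hH : Group.IsNilpotent H)
  (hmax : ∀ L : Subgroup G, Group.IsNilpotent L → H ≤ L → L = H)

include hCN hmax in
theorem centralizer_central_eq {z : G} (hz1 : z ≠ 1) (hzc : ∀ h ∈ H, h * z = z * h) :
    centralizer ({z} : Set G) = H :=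
  hmax _ (hCN z hz1) fun h hh => mem_centralizer_singleton_iff.mpr (hzc h hh)

include hCN hH hmax in
/-- An element of `r`-power order commuting with a non-identity element of `H` lies in `H` when
another prime divides `|H|`. -/
theorem mem_of_commute_of_prime {r t : ℕ} (hr : r.Prime) (ht : t.Prime) (htr : t ≠ r)
    (htH : t ∣ Nat.card H) {x : G} (hx : x ∈ H) (hx1 : x ≠ 1) {w : G} (hwx : w * x = x * w)
    (hw : ∃ i, orderOf w = r ^ i) : w ∈ H := by
  haveI := Fact.mk ht
  obtain ⟨z, hzH, hzo, hzc⟩ := exists_central_prime hH htH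
  have hz1 : z ≠ 1 := fun e => ht.one_lt.ne (by rw [← hzo, e, orderOf_one])
  obtain ⟨i, hi⟩ := hw
  have hwz := commute_of_mem (hCN x hx1) (mem_centralizer_singleton_iff.mpr hwx)
    (mem_centralizer_singleton_iff.mpr (hzc x hx).symm)
    (by rw [hi, hzo]; exact ((Nat.coprime_primes hr ht).mpr htr.symm).pow_left i)
  exact (centralizer_central_eq hCN hmax hz1 hzc).le (mem_centralizer_singleton_iff.mpr hwz.eq)

include hmax in
theorem eq_sylow_of_isPGroup {r : ℕ} [Fact r.Prime] (hp : IsPGroup r H) {S : Sylow r G}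
    (hS : H ≤ (S : Subgroup G)) : (S : Subgroup G) = H :=
  hmax _ S.2.isNilpotent hS

include hCN hH hmax in
/-- Centralisers of non-identity elements, given enough normalisation. -/
theorem centralizer_le_of {x : G} (hx : x ∈ H) (hx1 : x ≠ 1)
    (hN : IsPrimePow (Nat.card H) → centralizer ({x} : Set G) ≤ normalizer (H : Set G)) :
    centralizer ({x} : Set G) ≤ H := by
  classical
  suffices hdiv : Nat.card ↥(centralizer ({x} : Set G)) ∣ Nat.card ↥(centralizer ({x} : Set G) ⊓ H) by
    exact (eq_of_le_of_card_ge inf_le_left (Nat.le_of_dvd Nat.card_pos hdiv)).ge.trans inf_le_right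
  rw [Nat.dvd_iff_prime_pow_dvd_dvd]
  intro r k hr hdvd
  haveI := Fact.mk hr
  obtain ⟨R⟩ := (inferInstance : Nonempty (Sylow r ↥(centralizer ({x} : Set G))))
  refine (R.pow_dvd_card_of_pow_dvd_card hdvd).trans ?_
  rw [← card_map_of_injective (centralizer ({x} : Set G)).subtype_injective (K := (R : Subgroup _))]
  refine card_dvd_of_le ?_
  rintro w ⟨w', hw', rfl⟩
  refine ⟨w'.2, ?_⟩
  by_cases h : ∃ t : ℕ, t.Prime ∧ t ≠ r ∧ t ∣ Nat.card H
  · obtain ⟨t, ht, htr, htH⟩ := h
    refine mem_of_commute_of_prime hCN hH hmax hr ht htr htH hx hx1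
      (mem_centralizer_singleton_iff.mp w'.2) ?_
    obtain ⟨i, hi⟩ := IsPGroup.iff_orderOf.mp R.2 ⟨w', hw'⟩
    rw [Subgroup.orderOf_mk, ← Subgroup.orderOf_coe] at hi
    exact ⟨i, hi⟩
  -- `H` is an `r`-group
  push Not at h
  have hH1 : Nat.card H ≠ 1 := fun e => hx1 (by rw [card_eq_one.mp e] at hx; exact mem_bot.mp hx)
  have hpow : Nat.card H = r ^ (Nat.card H).factorization r :=
    (Nat.eq_pow_of_factorization_eq_single Nat.card_pos.ne' (by
      ext t
      by_cases htr : t = r
      · subst htr; simp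
      · rw [Finsupp.single_eq_of_ne (by exact htr)]
        by_cases htp : t.Prime
        · exact Nat.factorization_eq_zero_of_not_dvd (h t htp htr)
        · exact Nat.factorization_eq_zero_of_not_prime _ htp))
  have hpp : IsPrimePow (Nat.card H) := by
    rw [hpow]
    exact hr.isPrimePow.pow (fun e => hH1 (by rw [hpow, e, pow_zero]))
  have hHp : IsPGroup r H := IsPGroup.of_card hpow
  have hRp : IsPGroup r ((R : Subgroup _).map (centralizer ({x} : Set G)).subtype) := R.2.map _
  have hsup := IsPGroup.to_sup_of_normal_left' hHp hRp ((map_subtype_le _).trans (hN hpp))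
  obtain ⟨S, hS⟩ := hsup.exists_le_sylow
  have := eq_sylow_of_isPGroup hmax hHp (le_sup_left.trans hS)
  exact this.le (hS (mem_sup_right ⟨w', hw', rfl⟩))

include hCN hH hmax in
theorem centralizer_le_of_not_primePow (hpp : ¬ IsPrimePow (Nat.card H)) {x : G} (hx : x ∈ H)
    (hx1 : x ≠ 1) : centralizer ({x} : Set G) ≤ H :=
  centralizer_le_of hCN hH hmax hx hx1 fun h => absurd h hpp

include hCN hH hmax in
theorem isTI_of_not_primePow (hpp : ¬ IsPrimePow (Nat.card H)) (g : G)
    (hg : H.map (MulAut.conj g).toMonoidHom ≠ H) : H ⊓ H.map (MulAut.conj g).toMonoidHom = ⊥ := by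
  by_contra hne
  obtain ⟨x, ⟨hx, hxg⟩, hx1⟩ := (bot_or_exists_ne_one _).resolve_left hne
  haveI : Nontrivial H := ⟨⟨⟨x, hx⟩, 1, fun e => hx1 (congrArg Subtype.val e)⟩⟩
  obtain ⟨q, hq, hqH⟩ := Nat.exists_prime_and_dvd (Finite.one_lt_card (α := H)).ne'
  haveI := Fact.mk hq
  obtain ⟨z, hzH, hzo, hzc⟩ := exists_central_prime hH hqH
  have hz1 : z ≠ 1 := fun e => hq.one_lt.ne (by rw [← hzo, e, orderOf_one])
  set Hg := H.map (MulAut.conj g).toMonoidHom with hHg
  set e := H.equivMapOfInjective (MulAut.conj g).toMonoidHom (MulAut.conj g).injective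
  have hgN : Group.IsNilpotent Hg := by
    haveI := hH
    exact Group.nilpotent_of_mulEquiv e
  have hgmax : ∀ L : Subgroup G, Group.IsNilpotent L → Hg ≤ L → L = Hg := by
    intro L hL hle
    have h1 : H ≤ L.map (MulAut.conj g⁻¹).toMonoidHom := fun a ha =>
      ⟨g * a * g⁻¹, hle ⟨a, ha, rfl⟩, by simp [mul_assoc]⟩
    haveI := hL
    have h2 := hmax _ (Group.nilpotent_of_mulEquiv
      (L.equivMapOfInjective (MulAut.conj g⁻¹).toMonoidHom (MulAut.conj g⁻¹).injective)) h1
    refine le_antisymm (fun a ha => ?_) hle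
    exact ⟨g⁻¹ * a * g, h2.le ⟨a, ha, by simp⟩, by simp [mul_assoc]⟩
  have hgpp : ¬ IsPrimePow (Nat.card Hg) := by rwa [← Nat.card_congr e.toEquiv]
  have hzg : z ∈ Hg := centralizer_le_of_not_primePow hCN hgN hgmax hgpp hxg hx1
    (mem_centralizer_singleton_iff.mpr (hzc x hx).symm)
  have hle : H ≤ Hg := fun h hh => centralizer_le_of_not_primePow hCN hgN hgmax hgpp hzg hz1
    (mem_centralizer_singleton_iff.mpr (hzc h hh))
  exact hg (hmax Hg hgN hle)

include hCN hH hmax in
theorem centralizer_le_of_TI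
    (hTI : ∀ g : G, H.map (MulAut.conj g).toMonoidHom ≠ H → H ⊓ H.map (MulAut.conj g).toMonoidHom = ⊥)
    {x : G} (hx : x ∈ H) (hx1 : x ≠ 1) : centralizer ({x} : Set G) ≤ H := by
  refine centralizer_le_of hCN hH hmax hx hx1 fun _ w hw => ?_
  have heq : H.map (MulAut.conj w).toMonoidHom = H := by
    by_contra hne
    have hmem : x ∈ H ⊓ H.map (MulAut.conj w).toMonoidHom := ⟨hx, x, hx, by
      show w * x * w⁻¹ = x
      rw [mem_centralizer_singleton_iff.mp hw, mul_inv_cancel_right]⟩
    rw [hTI w hne] at hmem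
    exact hx1 (mem_bot.mp hmem)
  refine mem_normalizer_iff.mpr fun y => ⟨fun hy => heq.le ⟨y, hy, rfl⟩, fun hy => ?_⟩
  obtain ⟨y', hy', he⟩ := heq.ge hy
  have : y' = y := by simpa using he
  exact this ▸ hy'

include hCN hH hmax in
theorem isHall_maximal_nilpotent : (Nat.card H).Coprime H.index := by
  classical
  refine Nat.coprime_of_dvd fun p hp hpH hpi => ?_
  haveI := Fact.mk hp
  haveI := hH
  obtain ⟨P⟩ := (inferInstance : Nonempty (Sylow p H))
  obtain ⟨S, hS⟩ := (P.2.map H.subtype).exists_le_sylow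
  have hSH : (S : Subgroup G) ≤ H := by
    by_cases hpp : IsPrimePow (Nat.card H)
    · obtain ⟨q, k, hq, hk, hqk⟩ := (isPrimePow_nat_iff _).mp hpp
      have : p = q := (Nat.prime_dvd_prime_iff_eq hp hq).mp (hp.dvd_of_dvd_pow (hqk ▸ hpH))
      subst this
      obtain ⟨S', hS'⟩ := (IsPGroup.of_card hqk.symm : IsPGroup p H).exists_le_sylow
      have h1 := eq_sylow_of_isPGroup hmax (IsPGroup.of_card hqk.symm) hS'
      exfalso
      refine S'.not_dvd_index ?_
      rw [h1]; exact hpi
    · obtain ⟨z, hzH, hzo, hzc⟩ := exists_central_prime hH hpH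
      have hz1 : z ≠ 1 := fun e => hp.one_lt.ne (by rw [← hzo, e, orderOf_one])
      have hSb : (S : Subgroup G) ≠ ⊥ := by
        intro h
        have h1 := P.dvd_card_of_dvd_card hpH
        rw [← card_map_of_injective H.subtype_injective (K := (P : Subgroup H)),
          show (P : Subgroup H).map H.subtype = ⊥ from le_bot_iff.mp (h ▸ hS), card_bot, Nat.dvd_one] at h1
        exact hp.one_lt.ne h1.symm
      obtain ⟨u, huS, hu1, huc⟩ := exists_central_in le_rfl hSb S.2 le_normalizer
      have hzS : z ∈ (S : Subgroup G) := by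
        haveI := sylow_normal_of_nilpotent P
        obtain ⟨P', hP'⟩ := (IsPGroup.of_card (p := p) (n := 1)
          (by rw [Nat.card_zpowers, Subgroup.orderOf_mk, hzo, pow_one] :
            Nat.card (zpowers (⟨z, hzH⟩ : H)) = p ^ 1)).exists_le_sylow
        haveI := Sylow.unique_of_normal P ‹_›
        rw [Subsingleton.elim P' P] at hP'
        exact hS ⟨⟨z, hzH⟩, hP' (mem_zpowers _), rfl⟩
      have huH : u ∈ H := centralizer_le_of_not_primePow hCN hH hmax hpp hzH hz1
        (mem_centralizer_singleton_iff.mpr (huc z hzS).symm)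
      exact fun s hs => centralizer_le_of_not_primePow hCN hH hmax hpp huH hu1
        (mem_centralizer_singleton_iff.mpr (huc s hs))
  exact S.not_dvd_index (hpi.trans (index_dvd_of_le hSH))

end Cfsg.Lib.CN
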