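import Cfsg.Agent.OddLocal.CN
import Cfsg.Agent.Frobenius.FpfGroups
import Cfsg.Agent.Frobenius.Complement
import Mathlib.GroupTheory.SpecificGroups.ZGroup

/-!
# Fixed-point-free subgroups of groups with nilpotent centralisers
-/

set_option linter.unusedSectionVars false
set_option linter.style.haveILetI false

namespace Cfsg.Lib.CN

open Subgroup Cfsg.Lib.Frobenius

universe u

variable {G : Type u} [Group G] [Finite G]

theorem sylow_normal_of_nilpotent {K : Type u} [Group K] [Finite K] [hK : Group.IsNilpotent K] {p : ℕ}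
    [hp : Fact p.Prime] (S : Sylow p K) : (S : Subgroup K).Normal := by
  have h := (Group.isNilpotent_of_finite_tfae (G := K)).out 0 3
  exact h.1 hK p hp S

/-- An element normalising a group of prime order centralises it if its order is prime to `q - 1`. -/
theorem commute_of_normalizes_prime {q : ℕ} (hq : q.Prime) {a y : G} (hoy : orderOf y = q)
    (ha : a ∈ normalizer (zpowers y : Set G)) (hcop : (orderOf a).Coprime (q - 1)) : Commute a y := by
  haveI := Fact.mk hq
  set f := (zpowers y).normalizerMonoidHom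
  have h1 : orderOf (f ⟨a, ha⟩) ∣ orderOf a := by
    rw [← Subgroup.orderOf_mk a ha]; exact orderOf_map_dvd f _
  have h2 : orderOf (f ⟨a, ha⟩) ∣ q - 1 := by
    have h3 : Nat.card (MulAut (zpowers y)) = q - 1 := by
      rw [IsCyclic.card_mulAut, Nat.card_zpowers, hoy, Nat.totient_prime hq]
    rw [← h3]; exact orderOf_dvd_natCard _
  have h4 := orderOf_eq_one_iff.mp (Nat.eq_one_of_dvd_coprimes hcop h1 h2)
  have h5 := congrArg Subtype.val (DFunLike.congr_fun h4 ⟨y, mem_zpowers y⟩)
  have h6 : a * y * a⁻¹ = y := h5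
  exact mul_inv_eq_iff_eq_mul.mp h6

/-- A subgroup acting fixed-point-freely on an abelian group is nilpotent in a CN-group. -/
theorem nilpotent_of_fpf (hCN : Cfsg.IsCNGroup G) {A V : Subgroup G} [IsMulCommutative V]
    (hAV : A ≤ normalizer (V : Set G)) (h : Fpf A V) (hV : V ≠ ⊥) : Group.IsNilpotent A := by
  classical
  suffices key : A ≠ ⊥ → ∃ z, z ≠ 1 ∧ A ≤ centralizer ({z} : Set G) by
    by_cases hA : A = ⊥
    · subst hA; infer_instance
    · obtain ⟨z, hz, hle⟩ := key hA
      exact nilpotent_of_le hle (hCN z hz)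
  intro hA
  by_cases h2 : 2 ∣ Nat.card A
  · -- the involution is central
    obtain ⟨t, ht⟩ := exists_prime_orderOf_dvd_card' (G := A) 2 h2
    have hinv : ∀ t : A, orderOf t = 2 → ∀ v ∈ V, (t : G) * v * (t : G)⁻¹ = v⁻¹ := by
      intro t ht v hv
      have ht1 : (t : G) ≠ 1 := fun e => by
        rw [show t = 1 from Subtype.ext e, orderOf_one] at ht; norm_num at ht
      have htt : (t : G) * (t : G) = 1 := by
        rw [← Subgroup.orderOf_coe] at ht
        rw [← pow_two, ← ht, pow_orderOf_eq_one]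
      set w := (t : G) * v * (t : G)⁻¹
      have hw : w ∈ V := (mem_normalizer_iff.mp (hAV t.2) v).mp hv
      have hvw : v * w = w * v := congrArg Subtype.val (mul_comm' (⟨v, hv⟩ : V) ⟨w, hw⟩)
      have hfix : v * w = 1 := by
        refine h.eq_one t.2 ht1 (mul_mem hv hw) ?_
        have hti : (t : G)⁻¹ = t := inv_eq_of_mul_eq_one_right htt
        have h1 : (t : G) * (v * w) * (t : G)⁻¹ = w * v := by
          simp only [w, hti]
          calc (t : G) * (v * (↑t * v * ↑t)) * ↑t = (↑t * v * ↑t) * v * ((t : G) * t) := by group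
            _ = _ := by rw [htt, mul_one]
        exact mul_inv_eq_iff_eq_mul.mp (h1.trans hvw.symm)
      exact eq_inv_of_mul_eq_one_right hfix
    obtain ⟨v, hv, hv1⟩ := (bot_or_exists_ne_one V).resolve_left hV
    refine ⟨(t : G), fun e => ?_, fun e he => mem_centralizer_singleton_iff.mpr ?_⟩
    · rw [show t = 1 from Subtype.ext e, orderOf_one] at ht; norm_num at ht
    set t' : A := ⟨e, he⟩ * t * ⟨e, he⟩⁻¹
    have ht' : orderOf t' = 2 := by
      rw [← ht]; exact (MulAut.conj (⟨e, he⟩ : A)).orderOf_eq t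
    have hc : ((t' * t : A) : G) * v * ((t' * t : A) : G)⁻¹ = v := by
      rw [Subgroup.coe_mul, show ((t' : G) * t) * v * ((t' : G) * t)⁻¹ = (t' : G) * ((t : G) * v * (t : G)⁻¹) * (t' : G)⁻¹ by group,
        hinv t ht v hv, hinv t' ht' _ (inv_mem hv), inv_inv]
    have h1 : ((t' * t : A) : G) = 1 := by
      by_contra hne
      exact hv1 (h.eq_one (t' * t).2 hne hv (mul_inv_eq_iff_eq_mul.mp hc))
    have htt : t * t = 1 := by rw [← pow_two, ← ht, pow_orderOf_eq_one]
    have h3 : t' = t := by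
      rw [← mul_inv_eq_one, inv_eq_of_mul_eq_one_right htt]
      exact Subtype.ext h1
    have h4 := congrArg Subtype.val h3
    simp only [t', Subgroup.coe_mul, Subgroup.coe_inv] at h4
    exact mul_inv_eq_iff_eq_mul.mp h4
  -- odd order: all Sylow subgroups are cyclic
  have hsyl : ∀ (p : ℕ), p.Prime → ∀ R : Subgroup G, R ≤ A → IsPGroup p R → IsCyclic R := by
    intro p hp R hR hRp
    haveI := Fact.mk hp
    rcases (h.mono hR).isCyclic_or_quaternion (hR.trans hAV) hV hRp with hc | ⟨rfl, n, ⟨e⟩⟩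
    · exact hc
    · exfalso
      apply h2
      refine dvd_trans ?_ (card_dvd_of_le hR)
      rw [Nat.card_congr e.toEquiv]
      haveI : NeZero (2 ^ n) := ⟨(Nat.two_pow_pos n).ne'⟩
      rw [Nat.card_eq_fintype_card, QuaternionGroup.card]
      exact ⟨2 * 2 ^ n, by ring⟩
  haveI : IsZGroup A := ⟨fun p hp P => by
    haveI := hsyl p hp _ (map_subtype_le _) (P.2.map A.subtype)
    exact isCyclic_of_surjective _ ((P : Subgroup A).equivMapOfInjective A.subtype A.subtype_injective).symm.surjective⟩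
  haveI : Nontrivial A := (nontrivial_iff_ne_bot A).mpr hA
  obtain ⟨A₀, -, hA₀n, hA₀b, hA₀min⟩ := Cfsg.Lib.Coprime.exists_minimal_normal
    (inferInstance : (⊤ : Subgroup A).Normal) top_ne_bot
  haveI := hA₀n
  obtain ⟨-, r, hr, hA₀r, hA₀e⟩ := Cfsg.Lib.Coprime.minimal_normal_solvable (N := A₀) inferInstance hA₀b hA₀min
  obtain ⟨x, hxA₀, hx1⟩ := (bot_or_exists_ne_one A₀).resolve_left hA₀b
  haveI := Fact.mk hr
  have hox : orderOf (x : G) = r := by
    rw [Subgroup.orderOf_coe]; exact orderOf_eq_prime (hA₀e x hxA₀) hx1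
  have hxnorm : ∀ e ∈ A, e * x * e⁻¹ ∈ zpowers (x : G) := by
    intro e he
    set R := A₀.map A.subtype
    have hR : IsCyclic R := hsyl r hr R (map_subtype_le _) (hA₀r.map A.subtype)
    have hmem : e * x * e⁻¹ ∈ R := ⟨_, hA₀n.conj_mem x hxA₀ ⟨e, he⟩, rfl⟩
    have hcard : Nat.card R ≤ r := by
      obtain ⟨g, hg⟩ := IsCyclic.exists_generator (α := R)
      rw [← orderOf_eq_card_of_forall_mem_zpowers hg]
      obtain ⟨w, hw, hwg⟩ := g.2
      refine Nat.le_of_dvd hr.pos (orderOf_dvd_of_pow_eq_one (Subtype.ext ?_))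
      rw [Subgroup.coe_pow, Subgroup.coe_one, ← hwg, ← map_pow, hA₀e w hw, map_one]
    rw [eq_of_le_of_card_ge (zpowers_le.mpr ⟨x, hxA₀, rfl⟩ : zpowers (x : G) ≤ R)
      (by rw [Nat.card_zpowers, hox]; exact hcard)]
    exact hmem
  have hxne : (x : G) ≠ 1 := fun e => hx1 (Subtype.ext e)
  set C := centralizer ({(x : G)} : Set G) ⊓ A with hC
  haveI hCnil : Group.IsNilpotent C := nilpotent_of_le inf_le_left (hCN _ hxne)
  -- the subgroups of prime order of `A`
  have hY : ∀ q : ℕ, q.Prime → q ∣ Nat.card A → ∃ y ∈ A, orderOf y = q ∧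
      ∀ e ∈ A, e ∈ normalizer (zpowers y : Set G) := by
    intro q hq hqA
    haveI := Fact.mk hq
    obtain ⟨y, hy⟩ := exists_prime_orderOf_dvd_card' (G := A) q hqA
    have hmemC : ∀ w : A, orderOf w = q → (w : G) ∈ C := fun w hw => ⟨mem_centralizer_singleton_iff.mpr
      (h.commute_of_normalizes hAV hV hq hr w.2 x.2 (by rw [Subgroup.orderOf_coe, hw]) hox
        (hxnorm w w.2)), w.2⟩
    obtain ⟨S⟩ := (inferInstance : Nonempty (Sylow q C))
    haveI hSn : (S : Subgroup C).Normal :=
      sylow_normal_of_nilpotent S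
    have hmemS : ∀ w : A, orderOf w = q → (w : G) ∈ (S : Subgroup C).map C.subtype := by
      intro w hw
      obtain ⟨S', hS'⟩ := (IsPGroup.of_card (p := q) (n := 1)
        (by rw [Nat.card_zpowers, Subgroup.orderOf_mk, Subgroup.orderOf_coe, hw, pow_one] :
          Nat.card (zpowers (⟨w, hmemC w hw⟩ : C)) = q ^ 1)).exists_le_sylow
      haveI := Sylow.unique_of_normal S hSn
      exact ⟨⟨w, hmemC w hw⟩, (Subsingleton.elim S' S ▸ hS') (mem_zpowers _), rfl⟩
    refine ⟨y, y.2, by rw [Subgroup.orderOf_coe, hy], fun e he => ?_⟩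
    have key : ∀ e ∈ A, ∀ w ∈ zpowers (y : G), e * w * e⁻¹ ∈ zpowers (y : G) := by
      intro e he w hw
      set y' : A := ⟨e, he⟩ * y * ⟨e, he⟩⁻¹
      have hy' : orderOf y' = q := by rw [← hy]; exact (MulAut.conj (⟨e, he⟩ : A)).orderOf_eq y
      have hSA : (S : Subgroup C).map C.subtype ≤ A := (map_subtype_le _).trans inf_le_right
      have hu := (h.mono hSA).unique (hSA.trans hAV) hV (S.2.map C.subtype)
        ⟨y, hmemS y hy⟩ ⟨y', hmemS y' hy'⟩ (by rw [Subgroup.orderOf_mk, Subgroup.orderOf_coe, hy])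
        (by rw [Subgroup.orderOf_mk, Subgroup.orderOf_coe, hy'])
      obtain ⟨j, hj⟩ := hu
      obtain ⟨i, rfl⟩ := hw
      show e * (y : G) ^ i * e⁻¹ ∈ _
      rw [← conj_zpow]
      exact zpow_mem (mem_zpowers_iff.mpr ⟨j, congrArg Subtype.val hj⟩) i
    refine mem_normalizer_iff.mpr fun w => ⟨key e he w, fun hw => ?_⟩
    simpa [mul_assoc] using key e⁻¹ (inv_mem he) _ hw
  -- the largest prime
  have hne : (Nat.card A).primeFactors.Nonempty := by
    rw [Nat.nonempty_primeFactors]; exact Finite.one_lt_card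
  obtain ⟨q₀, hq₀m, hq₀max⟩ := (Nat.card A).primeFactors.exists_max_image id hne
  obtain ⟨hq₀, hq₀A, -⟩ := Nat.mem_primeFactors.mp hq₀m
  haveI := Fact.mk hq₀
  obtain ⟨z, hz⟩ := exists_prime_orderOf_dvd_card' (G := A) q₀ hq₀A
  refine ⟨(z : G), fun e => ?_, ?_⟩
  · rw [show z = 1 from Subtype.ext e, orderOf_one] at hz; exact hq₀.one_lt.ne hz
  -- its Sylow subgroup is centralised by all the others
  suffices hdiv : Nat.card A ∣ Nat.card ↥(centralizer ({(z : G)} : Set G) ⊓ A) by
    exact (eq_of_le_of_card_ge inf_le_right (Nat.le_of_dvd Nat.card_pos hdiv)).ge.trans inf_le_left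
  rw [Nat.dvd_iff_prime_pow_dvd_dvd]
  intro q k hq hdvd
  haveI := Fact.mk hq
  obtain ⟨Q⟩ := (inferInstance : Nonempty (Sylow q A))
  refine (Q.pow_dvd_card_of_pow_dvd_card hdvd).trans ?_
  rw [← card_map_of_injective A.subtype_injective (K := (Q : Subgroup A))]
  refine card_dvd_of_le ?_
  rintro b ⟨b', hb', rfl⟩
  refine ⟨mem_centralizer_singleton_iff.mpr ?_, b'.2⟩
  obtain ⟨ib, hib⟩ := IsPGroup.iff_orderOf.mp Q.2 ⟨b', hb'⟩
  rw [Subgroup.orderOf_mk] at hib
  have hbo : orderOf (b' : G) = q ^ ib := by rw [Subgroup.orderOf_coe, hib]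
  have hzo : orderOf (z : G) = q₀ := by rw [Subgroup.orderOf_coe, hz]
  by_cases hqq : q = q₀
  · subst hqq
    obtain ⟨y, hyA, hoy, hyn⟩ := hY q hq hq₀A
    -- both `b` and the subgroup of order `q` lie in a cyclic group
    have hb1 : Commute (b' : G) y := commute_of_normalizes_prime hq hoy (hyn _ b'.2) (by
      rw [hbo]
      refine Nat.Coprime.pow_left _ ((hq.coprime_iff_not_dvd).mpr fun hd => ?_)
      have := Nat.le_of_dvd (by have := hq.two_le; omega) hd
      have := hq.two_le; omega)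
    have hzy : zpowers (z : G) = zpowers y := by
      have hm : (z : G) ∈ zpowers y := h.mem_zpowers_of_commute hAV hV hq hyA z.2 hoy hzo
        (commute_of_normalizes_prime hq hoy (hyn _ z.2) (by
          rw [hzo]
          refine (hq.coprime_iff_not_dvd).mpr fun hd => ?_
          have := Nat.le_of_dvd (by have := hq.two_le; omega) hd
          have := hq.two_le; omega)).symm.eq
      exact eq_of_le_of_card_ge (zpowers_le.mpr hm) (by rw [Nat.card_zpowers, Nat.card_zpowers, hoy, hzo])
    obtain ⟨i, hi⟩ := (hzy.le (mem_zpowers (z : G)))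
    show (b' : G) * z = z * b'
    rw [← hi]
    exact (hb1.zpow_right i).eq
  by_cases hb1 : b' = 1
  · subst hb1; simp
  have hqA : q ∣ Nat.card A := by
    have h1 : q ∣ orderOf b' := by
      rw [hib]
      exact dvd_pow_self q fun e => hb1 (orderOf_eq_one_iff.mp (by rw [hib, e, pow_zero]))
    exact h1.trans (orderOf_dvd_natCard _)
  obtain ⟨y, hyA, hoy, hyn⟩ := hY q hq hqA
  have hlt : q < q₀ := lt_of_le_of_ne (hq₀max q (Nat.mem_primeFactors.mpr ⟨hq, hqA, Nat.card_pos.ne'⟩)) hqq
  have hy1 : y ≠ 1 := fun e => hq.one_lt.ne (by rw [← hoy, e, orderOf_one])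
  have hzy : Commute (z : G) y := commute_of_normalizes_prime hq hoy (hyn _ z.2) (by
    rw [hzo]
    refine (hq₀.coprime_iff_not_dvd).mpr fun hd => ?_
    have := Nat.le_of_dvd (by have := hq.two_le; omega) hd
    omega)
  have hby : Commute (b' : G) y := commute_of_normalizes_prime hq hoy (hyn _ b'.2) (by
    rw [hbo]
    refine Nat.Coprime.pow_left _ ((hq.coprime_iff_not_dvd).mpr fun hd => ?_)
    have := Nat.le_of_dvd (by have := hq.two_le; omega) hd
    have := hq.two_le; omega)
  exact (commute_of_mem (hCN y hy1) (mem_centralizer_singleton_iff.mpr hby.eq)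
    (mem_centralizer_singleton_iff.mpr hzy.eq)
    (by rw [hbo, hzo]; exact ((Nat.coprime_primes hq hq₀).mpr hqq).pow_left ib)).eq

/-- A non-nilpotent CN-group with a normal Sylow subgroup. -/
theorem structure_of_normal_sylow (hCN : Cfsg.IsCNGroup G) (hnn : ¬ Group.IsNilpotent G) {p : ℕ}
    [Fact p.Prime] (P : Sylow p G) (hP1 : (P : Subgroup G) ≠ ⊥) (hPn : (P : Subgroup G).Normal) :
    Cfsg.fittingHall G ≠ ⊥ ∧ Cfsg.fittingHall G ≠ ⊤ ∧
      (∃ E : Subgroup G, Subgroup.IsComplement' (Cfsg.fittingHall G) E ∧ Cfsg.IsFrobeniusComplement E ∧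
        ∀ e ∈ E, e ≠ 1 → Cfsg.fittingHall G ⊓ Subgroup.centralizer ({e} : Set G) = ⊥) ∧
      Group.IsNilpotent (G ⧸ Cfsg.fittingHall G) := by
  classical
  set K := Cfsg.fittingHall G with hK
  have hKcop := Cfsg.Lib.FittingHall.fittingHall_coprime (M := G)
  haveI hKnil : Group.IsNilpotent K :=
    nilpotent_of_le Cfsg.Lib.FittingHall.fittingHall_le_fitting (Cfsg.Lib.Components.isNilpotent_fitting (G := G))
  have hsyl : ∀ (r : ℕ) [Fact r.Prime] (R : Sylow r G), (R : Subgroup G).Normal → (R : Subgroup G) ≤ K := by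
    intro r _ R hR
    haveI : Group.IsNilpotent (R : Subgroup G) := R.2.isNilpotent
    exact le_sSup ⟨hR, inferInstance, R.card_coprime_index⟩
  have hKb : K ≠ ⊥ := fun e => hP1 (le_bot_iff.mp (e ▸ hsyl p P hPn))
  have hKt : K ≠ ⊤ := fun e => hnn (by
    haveI := hKnil
    exact Group.nilpotent_of_surjective K.subtype (fun g => ⟨⟨g, e ▸ mem_top g⟩, rfl⟩))
  obtain ⟨E, hE⟩ := Subgroup.exists_right_complement'_of_coprime hKcop
  have hEcard : Nat.card E = K.index := hE.symm.index_eq_card.symm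
  have hcopE : ∀ e ∈ E, ∀ v ∈ K, (orderOf e).Coprime (orderOf v) := fun e he v hv =>
    ((hKcop.symm.coprime_dvd_left (by rw [← hEcard]; exact orderOf_dvd_natCard _ he)).coprime_dvd_right
      (orderOf_dvd_natCard _ hv))
  have hfpf : ∀ e ∈ E, e ≠ 1 → K ⊓ centralizer ({e} : Set G) = ⊥ := by
    intro e he he1
    by_contra hne
    obtain ⟨x, ⟨hxK, hxe⟩, hx1⟩ := (bot_or_exists_ne_one _).resolve_left hne
    -- reduce to prime orders
    set r := (orderOf e).minFac
    have hr : r.Prime := Nat.minFac_prime (fun h => he1 (orderOf_eq_one_iff.mp h))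
    haveI := Fact.mk hr
    set e₁ := e ^ (orderOf e / r)
    have he₁o : orderOf e₁ = r := orderOf_pow_orderOf_div (orderOf_pos e).ne' (Nat.minFac_dvd _)
    have he₁E : e₁ ∈ E := pow_mem he _
    set s := (orderOf x).minFac
    have hs : s.Prime := Nat.minFac_prime (fun h => hx1 (orderOf_eq_one_iff.mp h))
    haveI := Fact.mk hs
    set x₁ := x ^ (orderOf x / s)
    have hx₁o : orderOf x₁ = s := orderOf_pow_orderOf_div (orderOf_pos x).ne' (Nat.minFac_dvd _)
    have hx₁K : x₁ ∈ K := pow_mem hxK _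
    have hx₁1 : x₁ ≠ 1 := fun h => hs.one_lt.ne (by rw [← hx₁o, h, orderOf_one])
    have hex : Commute e₁ x₁ := by
      have h0 : Commute x e := mem_centralizer_singleton_iff.mp hxe
      exact ((h0.symm.pow_left _).pow_right _)
    -- a central `s`-element of `K`
    obtain ⟨S⟩ := (inferInstance : Nonempty (Sylow s K))
    haveI hSn : (S : Subgroup K).Normal :=
      sylow_normal_of_nilpotent S
    obtain ⟨S', hS'⟩ := (IsPGroup.of_card (p := s) (n := 1)
      (by rw [Nat.card_zpowers, Subgroup.orderOf_mk, hx₁o, pow_one] :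
        Nat.card (zpowers (⟨x₁, hx₁K⟩ : K)) = s ^ 1)).exists_le_sylow
    haveI := Sylow.unique_of_normal S hSn
    rw [Subsingleton.elim S' S] at hS'
    set SG := (S : Subgroup K).map K.subtype
    have hx₁S : x₁ ∈ SG := ⟨⟨x₁, hx₁K⟩, hS' (mem_zpowers _), rfl⟩
    have hSGK : SG ≤ K := map_subtype_le _
    obtain ⟨z, hzS, hz1, hzc⟩ := exists_central_in le_rfl
      (fun h => hx₁1 (mem_bot.mp (h.le hx₁S))) (S.2.map K.subtype) le_normalizer
    have hzK : ∀ v ∈ K, Commute v z := by
      suffices hle : Nat.card K ∣ Nat.card ↥(K ⊓ centralizer ({z} : Set G)) by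
        intro v hv
        exact mem_centralizer_singleton_iff.mp
          ((eq_of_le_of_card_ge inf_le_left (Nat.le_of_dvd Nat.card_pos hle)).ge hv).2
      rw [Nat.dvd_iff_prime_pow_dvd_dvd]
      intro q k hq hdvd
      haveI := Fact.mk hq
      obtain ⟨Q⟩ := (inferInstance : Nonempty (Sylow q K))
      refine (Q.pow_dvd_card_of_pow_dvd_card hdvd).trans ?_
      rw [← card_map_of_injective K.subtype_injective (K := (Q : Subgroup K))]
      refine card_dvd_of_le ?_
      rintro v ⟨v', hv', rfl⟩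
      refine ⟨v'.2, mem_centralizer_singleton_iff.mpr ?_⟩
      by_cases hqs : q = s
      · subst hqs
        exact hzc _ ⟨v', (Subsingleton.elim Q S ▸ hv'), rfl⟩
      · obtain ⟨i, hi⟩ := IsPGroup.iff_orderOf.mp Q.2 ⟨v', hv'⟩
        obtain ⟨j, hj⟩ := IsPGroup.iff_orderOf.mp (S.2.map K.subtype) ⟨z, hzS⟩
        rw [Subgroup.orderOf_mk] at hi hj
        exact (commute_of_mem hKnil v'.2 (hSGK hzS) (by
          rw [Subgroup.orderOf_coe, hi, hj]
          exact Nat.Coprime.pow _ _ ((Nat.coprime_primes hq hs).mpr hqs))).eq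
    -- `e₁` centralises `K`
    have hez : Commute e₁ z := commute_of_mem (hCN x₁ hx₁1)
      (mem_centralizer_singleton_iff.mpr hex.eq)
      (mem_centralizer_singleton_iff.mpr (hzc x₁ hx₁S).symm) (hcopE e₁ he₁E z (hSGK hzS))
    have heK : ∀ v ∈ K, Commute e₁ v := fun v hv => commute_of_mem (hCN z hz1)
      (mem_centralizer_singleton_iff.mpr hez.eq) (mem_centralizer_singleton_iff.mpr (hzK v hv).eq)
      (hcopE e₁ he₁E v hv)
    -- a normal `r`-subgroup
    set C := centralizer (K : Set G)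
    haveI : C.Normal := inferInstance
    haveI hCnil : Group.IsNilpotent C := nilpotent_of_le
      (centralizer_le (by simpa using hSGK hzS)) (hCN z hz1)
    obtain ⟨R⟩ := (inferInstance : Nonempty (Sylow r C))
    haveI hRn : (R : Subgroup C).Normal :=
      sylow_normal_of_nilpotent R
    haveI := Sylow.characteristic_of_normal R hRn
    set RG := (R : Subgroup C).map C.subtype
    haveI hRGn : RG.Normal := inferInstance
    have hRb : RG ≠ ⊥ := by
      intro h
      have hd : r ∣ Nat.card C := he₁o ▸ orderOf_dvd_natCard _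
        (mem_centralizer_iff.mpr fun v hv => (heK v hv).symm.eq)
      have h1 := R.dvd_card_of_dvd_card hd
      rw [← card_map_of_injective C.subtype_injective (K := (R : Subgroup C))] at h1
      change r ∣ Nat.card RG at h1
      rw [h, card_bot, Nat.dvd_one] at h1
      exact hr.one_lt.ne h1.symm
    obtain ⟨R₁, hR₁⟩ := (R.2.map C.subtype).exists_le_sylow
    obtain ⟨z', hz'R, hz'1, hz'c⟩ := exists_central_in hR₁ hRb R₁.2
      (by rw [normalizer_eq_top]; exact le_top)
    have hR₁C : (R₁ : Subgroup G) ≤ C := fun a ha => mem_centralizer_iff.mpr fun v hv => by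
      have hva : (orderOf a).Coprime (orderOf v) := by
        obtain ⟨i, hi⟩ := IsPGroup.iff_orderOf.mp R₁.2 ⟨a, ha⟩
        rw [Subgroup.orderOf_mk] at hi
        have := hcopE e₁ he₁E v hv
        rw [he₁o] at this
        rw [hi]; exact this.pow_left i
      exact (commute_of_mem (hCN z' hz'1) (mem_centralizer_singleton_iff.mpr (hz'c a ha))
        (mem_centralizer_singleton_iff.mpr (mem_centralizer_iff.mp ((map_subtype_le _) hz'R) v hv))
        hva).symm.eq
    have heq : (R₁ : Subgroup G) = RG := by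
      have h1 : (R₁ : Subgroup G).subgroupOf C = (R : Subgroup C) :=
        R.3 (R₁.2.comap_of_injective _ C.subtype_injective) fun a ha => hR₁ ⟨a, ha, rfl⟩
      show _ = (R : Subgroup C).map C.subtype
      rw [← h1, subgroupOf_map_subtype, inf_of_le_left hR₁C]
    have hRK := hsyl r R₁ (heq ▸ hRGn)
    have h2 : r ∣ Nat.card K := by
      have h3 := (R₁.2).card_eq_or_dvd.resolve_left fun h => hRb (by
        rw [← heq]; exact card_eq_one.mp h)
      exact h3.trans (card_dvd_of_le hRK)
    have h4 : r ∣ K.index := by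
      rw [← hEcard, ← he₁o]; exact orderOf_dvd_natCard _ he₁E
    exact hr.one_lt.ne (Nat.eq_one_of_dvd_coprimes hKcop h2 h4).symm
  have hEb : E ≠ ⊥ := by
    intro h
    apply hKt
    rw [← index_eq_one, ← hEcard, h, card_bot]
  refine ⟨hKb, hKt, ⟨E, hE, (Cfsg.Lib.Frobenius.isFrobeniusComplement_iff_fpf hE hKb hEb).mpr hfpf, hfpf⟩, ?_⟩
  set V := (center K).map K.subtype
  haveI : V.Normal := inferInstance
  haveI : IsMulCommutative V := inferInstance
  have hVb : V ≠ ⊥ := by
    haveI : Nontrivial K := (nontrivial_iff_ne_bot K).mpr hKb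
    intro h
    rw [Subgroup.map_eq_bot_iff, ker_subtype, le_bot_iff] at h
    exact Group.IsNilpotent.center_ne_bot K h
  haveI : Group.IsNilpotent E := nilpotent_of_fpf hCN (A := E) (V := V)
    (by rw [normalizer_eq_top]; exact le_top)
    (fun e he he1 => le_bot_iff.mp ((inf_le_inf_right _ (map_subtype_le _)).trans (hfpf e he he1).le)) hVb
  exact Group.nilpotent_of_mulEquiv hE.symm.QuotientMulEquiv.symm

end Cfsg.Lib.CN
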