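import Cfsg.Agent.Quadratic.BaerSuzuki
import Cfsg.Agent.Quadratic.LinearPair
import Mathlib

/-!
# Odd order linear groups in dimension two
-/

set_option linter.unusedSectionVars false
set_option linter.style.haveILetI false

namespace Cfsg.Lib.LinearTwo

open Matrix

variable {F : Type*} [Field F] {p : ℕ} [Fact p.Prime] [CharP F p]

local notation "M2" => Matrix (Fin 2) (Fin 2) F

theorem sq_eq_zero {M : M2} (hM : IsNilpotent M) : M * M = 0 := by
  have ht : M 0 0 + M 1 1 = 0 := by
    have h := (Matrix.isNilpotent_trace_of_isNilpotent hM).eq_zero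
    rwa [Matrix.trace_fin_two] at h
  have hd : M 0 0 * M 1 1 - M 0 1 * M 1 0 = 0 := by
    obtain ⟨n, hn⟩ := hM
    rw [← Matrix.det_fin_two]
    refine IsReduced.eq_zero _ ⟨n + 1, ?_⟩
    rw [← Matrix.det_pow, pow_succ, hn, zero_mul, Matrix.det_zero]
  ext i j
  fin_cases i <;> fin_cases j <;> simp [Matrix.mul_apply, Fin.sum_univ_two]
  · linear_combination (M 0 0) * ht - hd
  · linear_combination (M 0 1) * ht
  · linear_combination (M 1 0) * ht
  · linear_combination (M 1 1) * ht - hd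

theorem unipotent_sq {g : GL (Fin 2) F} (h : g ^ p = 1) : ((g : M2) - 1) * ((g : M2) - 1) = 0 := by
  refine sq_eq_zero ⟨p, ?_⟩
  rw [sub_pow_char_of_commute p (Commute.one_right _), one_pow, ← Units.val_pow_eq_pow_val,
    h, Units.val_one, sub_self]

theorem kernel_line {M : M2} (hM : M ≠ 0) {v u : Fin 2 → F} (hv : v ≠ 0) (hMv : M *ᵥ v = 0)
    (hMu : M *ᵥ u = 0) : u ∈ Submodule.span F {v} := by
  have e1 := congrFun hMv 0
  have e2 := congrFun hMv 1
  have e3 := congrFun hMu 0
  have e4 := congrFun hMu 1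
  simp [Matrix.mulVec, dotProduct, Fin.sum_univ_two] at e1 e2 e3 e4
  have hd : u 0 * v 1 - u 1 * v 0 = 0 := by
    by_contra hd
    refine hM ?_
    ext i j
    fin_cases i <;> fin_cases j <;> simp
    · exact (mul_eq_zero.mp (show M 0 0 * (u 0 * v 1 - u 1 * v 0) = 0 by
        linear_combination v 1 * e3 - u 1 * e1)).resolve_right hd
    · exact (mul_eq_zero.mp (show M 0 1 * (u 0 * v 1 - u 1 * v 0) = 0 by
        linear_combination u 0 * e1 - v 0 * e3)).resolve_right hd
    · exact (mul_eq_zero.mp (show M 1 0 * (u 0 * v 1 - u 1 * v 0) = 0 by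
        linear_combination v 1 * e4 - u 1 * e2)).resolve_right hd
    · exact (mul_eq_zero.mp (show M 1 1 * (u 0 * v 1 - u 1 * v 0) = 0 by
        linear_combination u 0 * e2 - v 0 * e4)).resolve_right hd
  rw [Submodule.mem_span_singleton]
  by_cases h0 : v 0 = 0
  · have h1 : v 1 ≠ 0 := fun h1 => hv (funext fun i => by fin_cases i <;> assumption)
    refine ⟨u 1 / v 1, funext fun i => ?_⟩
    fin_cases i
    · simp only [Pi.smul_apply, smul_eq_mul]
      show u 1 / v 1 * v 0 = u 0
      rw [h0] at hd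
      rw [h0, mul_zero]
      exact ((mul_eq_zero.mp (show u 0 * v 1 = 0 by linear_combination hd)).resolve_right h1).symm
    · simp only [Pi.smul_apply, smul_eq_mul]
      exact div_mul_cancel₀ _ h1
  · refine ⟨u 0 / v 0, funext fun i => ?_⟩
    fin_cases i
    · simp only [Pi.smul_apply, smul_eq_mul]
      exact div_mul_cancel₀ _ h0
    · simp only [Pi.smul_apply, smul_eq_mul]
      show u 0 / v 0 * v 1 = u 1
      field_simp
      linear_combination hd

theorem not_dvd_card (hp : p ≠ 2) (H : Subgroup (GL (Fin 2) F)) [Finite H] (hodd : Odd (Nat.card H))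
    (hirr : ∀ v : Fin 2 → F, v ≠ 0 → ∃ g ∈ H, (g : M2).mulVec v ∉ Submodule.span F {v}) :
    ¬ p ∣ Nat.card H := by
  classical
  intro hdvd
  obtain ⟨a, ha⟩ := exists_prime_orderOf_dvd_card' (G := H) p hdvd
  have hap : a ^ p = 1 := by rw [← ha, pow_orderOf_eq_one]
  -- conjugates of `a` pairwise generate `p`-groups
  have hpair : ∀ g : H, IsPGroup p
      ↥(Subgroup.zpowers a ⊔ (Subgroup.zpowers a).map (MulAut.conj g).toMonoidHom) := by
    intro g
    set b := g * a * g⁻¹ with hb
    have hbp : b ^ p = 1 := by rw [hb, conj_pow, hap, mul_one, mul_inv_cancel]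
    have hK : Subgroup.zpowers a ⊔ (Subgroup.zpowers a).map (MulAut.conj g).toMonoidHom =
        Subgroup.closure {a, b} := by
      rw [MonoidHom.map_zpowers, Subgroup.zpowers_eq_closure, Subgroup.zpowers_eq_closure,
        ← Subgroup.closure_union, Set.singleton_union]
      rfl
    rw [hK]
    by_contra hnp
    set K := Subgroup.closure ({a, b} : Set H) with hKdef
    let k := AlgebraicClosure F
    haveI : CharP k p := charP_of_injective_algebraMap (algebraMap F k).injective p
    let φ : M2 →+* Matrix (Fin 2) (Fin 2) k := (algebraMap F k).mapMatrix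
    let ρ : K →* Matrix (Fin 2) (Fin 2) k :=
      φ.toMonoidHom.comp ((Units.coeHom M2).comp (H.subtype.comp K.subtype))
    have hρ : Function.Injective ρ := fun x y h =>
      Subtype.ext (Subtype.ext (Units.ext (Matrix.map_injective (algebraMap F k).injective h)))
    let a' : K := ⟨a, Subgroup.subset_closure (Set.mem_insert a _)⟩
    let b' : K := ⟨b, Subgroup.subset_closure (Set.mem_insert_of_mem a rfl)⟩
    have hgen : Subgroup.closure {a', b'} = ⊤ := by
      apply Subgroup.map_injective K.subtype_injective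
      rw [MonoidHom.map_closure, Set.image_pair, ← MonoidHom.range_eq_map, Subgroup.range_subtype]
      rfl
    have hsq : ∀ x : H, x ^ p = 1 → ∀ hx : x ∈ K, (ρ ⟨x, hx⟩ - 1) * (ρ ⟨x, hx⟩ - 1) = 0 := by
      intro x hxp hx
      have h := congrArg φ (unipotent_sq (p := p) (g := (x : GL (Fin 2) F))
        (by rw [← SubgroupClass.coe_pow, hxp, OneMemClass.coe_one]))
      rw [map_mul, map_sub, map_one, map_zero] at h
      exact h
    obtain ⟨K', f, hf⟩ := Cfsg.Lib.QuadPair.exists_surj_sl2 (p := p) hp ρ hρ hgen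
      (hsq a hap _) (hsq b hbp _) hnp
    have h2 : 2 ∣ Nat.card (Matrix.SpecialLinearGroup (Fin 2) (ZMod p)) := by
      let m : Matrix.SpecialLinearGroup (Fin 2) (ZMod p) :=
        ⟨!![-1, 0; 0, -1], by rw [Matrix.det_fin_two_of]; ring⟩
      have hm : orderOf m = 2 := by
        refine orderOf_eq_prime (Subtype.ext ?_) fun h1 => ?_
        · rw [Matrix.SpecialLinearGroup.coe_pow, pow_two]
          show !![-1, 0; 0, -1] * !![-1, 0; 0, -1] = (1 : Matrix (Fin 2) (Fin 2) (ZMod p))
          ext i j; fin_cases i <;> fin_cases j <;> simp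
        · have h3 : (!![-1, 0; 0, -1] : Matrix (Fin 2) (Fin 2) (ZMod p)) 0 0 = (1 : Matrix (Fin 2) (Fin 2) (ZMod p)) 0 0 :=
            congrArg (fun z : Matrix.SpecialLinearGroup (Fin 2) (ZMod p) => z.1 0 0) h1
          haveI : Fact (2 < p) := ⟨lt_of_le_of_ne (Fact.out : p.Prime).two_le (Ne.symm hp)⟩
          simp at h3
          exact ZMod.neg_one_ne_one h3
      have h4 := orderOf_dvd_natCard m
      rwa [hm] at h4
    exact (Nat.not_even_iff_odd.mpr hodd) (even_iff_two_dvd.mpr (((h2.trans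
      (Subgroup.card_dvd_of_surjective f hf)).trans (Subgroup.card_subgroup_dvd_card K')).trans
      (Subgroup.card_subgroup_dvd_card K)))
  obtain ⟨N, hNn, hNp, haN⟩ := Cfsg.Lib.BaerSuzuki.baer_suzuki (p := p) (Subgroup.zpowers a) hpair
  haveI := hNn
  have hNne : N ≠ ⊥ := fun h => by
    have h1 : a = 1 := by
      have := haN (Subgroup.mem_zpowers a)
      rwa [h, Subgroup.mem_bot] at this
    rw [h1, orderOf_one] at ha
    exact (Fact.out : p.Prime).one_lt.ne ha
  haveI := hNp.isNilpotent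
  haveI : Nontrivial N := (Subgroup.nontrivial_iff_ne_bot N).mpr hNne
  set Z := (Subgroup.center N).map N.subtype
  have hZne : Z ≠ ⊥ := fun h => Group.IsNilpotent.center_ne_bot N
    ((Subgroup.map_eq_bot_iff_of_injective _ N.subtype_injective).mp h)
  obtain ⟨⟨z, hzZ⟩, hz⟩ := exists_prime_orderOf_dvd_card' (G := Z) p
    ((hNp.to_le (Subgroup.map_subtype_le _)).card_eq_or_dvd.resolve_left
      fun h => hZne (Subgroup.card_eq_one.mp h))
  rw [Subgroup.orderOf_mk] at hz
  have hzp : z ^ p = 1 := by rw [← hz, pow_orderOf_eq_one]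
  set M : M2 := ((z : GL (Fin 2) F) : M2) - 1 with hMdef
  have hM : M ≠ 0 := fun h => by
    have h1 : z = 1 := Subtype.ext (Units.ext (sub_eq_zero.mp h))
    rw [h1, orderOf_one] at hz
    exact (Fact.out : p.Prime).one_lt.ne hz
  have hM2 : M * M = 0 := unipotent_sq (p := p) (g := (z : GL (Fin 2) F))
    (by rw [← SubgroupClass.coe_pow, hzp, OneMemClass.coe_one])
  obtain ⟨w, hw⟩ : ∃ w : Fin 2 → F, M *ᵥ w ≠ 0 := by
    by_contra h
    push Not at h
    exact hM (Matrix.ext_of_mulVec_single fun i => by rw [h, Matrix.zero_mulVec])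
  set v := M *ᵥ w
  have hMv : M *ᵥ v = 0 := by rw [Matrix.mulVec_mulVec, hM2, Matrix.zero_mulVec]
  obtain ⟨g, hg, hgv⟩ := hirr v hw
  -- the conjugate of `z` is central in `N` and fixes `v`
  set z' : H := ⟨g, hg⟩ * z * (⟨g, hg⟩ : H)⁻¹
  have hZn : ∀ y ∈ Z, ∀ h : H, h * y * h⁻¹ ∈ Z := fun y hy h => by
    haveI : Z.Normal := inferInstance
    exact this.conj_mem y hy h
  have hcomm : Commute ((z : GL (Fin 2) F) : M2) ((z' : GL (Fin 2) F) : M2) := by
    obtain ⟨c, hc, hcz⟩ := hzZ
    obtain ⟨c', -, hcz'⟩ := hZn z ⟨c, hc, hcz⟩ ⟨g, hg⟩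
    have e : z * z' = z' * z := by
      rw [show z = N.subtype c from hcz.symm, show z' = N.subtype c' from hcz'.symm, ← map_mul,
        ← map_mul, Subgroup.mem_center_iff.mp hc c']
    exact congrArg (fun t : H => ((t : GL (Fin 2) F) : M2)) e
  have hline : M *ᵥ (((z' : GL (Fin 2) F) : M2) *ᵥ v) = 0 := by
    have hc2 : Commute M ((z' : GL (Fin 2) F) : M2) := hcomm.sub_left (Commute.one_left _)
    rw [Matrix.mulVec_mulVec, hc2.eq, ← Matrix.mulVec_mulVec, hMv, Matrix.mulVec_zero]
  obtain ⟨c, hc⟩ := Submodule.mem_span_singleton.mp (kernel_line hM hw hMv hline)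
  have hz'p : ((z' : GL (Fin 2) F)) ^ p = 1 := by
    rw [← SubgroupClass.coe_pow, conj_pow, hzp, mul_one, mul_inv_cancel, OneMemClass.coe_one]
  have hpowv : ∀ n : ℕ, (((z' : GL (Fin 2) F) : M2) ^ n) *ᵥ v = c ^ n • v := by
    intro n
    induction n with
    | zero => rw [pow_zero, pow_zero, Matrix.one_mulVec, one_smul]
    | succ n ih =>
      rw [pow_succ', ← Matrix.mulVec_mulVec, ih, Matrix.mulVec_smul, ← hc, smul_smul, pow_succ]
  have hc1 : c = 1 := by
    have h := hpowv p
    rw [← Units.val_pow_eq_pow_val, hz'p, Units.val_one, Matrix.one_mulVec] at h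
    have h2 : c ^ p = 1 := smul_left_injective F hw (h.symm.trans (one_smul F v).symm)
    exact frobenius_inj F p (by simp [frobenius_def, h2])
  rw [hc1, one_smul] at hc
  set gm : GL (Fin 2) F := g
  have e : ((z' : GL (Fin 2) F) : M2) = (gm : M2) * ((z : GL (Fin 2) F) : M2) * ((gm⁻¹ : GL (Fin 2) F) : M2) := by
    simp [z', gm]
  have hker : M *ᵥ (((gm⁻¹ : GL (Fin 2) F) : M2) *ᵥ v) = 0 := by
    have h1 : ((gm⁻¹ : GL (Fin 2) F) : M2) *ᵥ (((z' : GL (Fin 2) F) : M2) *ᵥ v) =
        ((gm⁻¹ : GL (Fin 2) F) : M2) *ᵥ v := by rw [← hc]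
    rw [e, Matrix.mulVec_mulVec, ← mul_assoc, ← mul_assoc, Units.inv_mul, one_mul,
      ← Matrix.mulVec_mulVec] at h1
    rw [hMdef, Matrix.sub_mulVec, h1, Matrix.one_mulVec, sub_self]
  obtain ⟨d, hd⟩ := Submodule.mem_span_singleton.mp (kernel_line hM hw hMv hker)
  have hback : (gm : M2) *ᵥ (((gm⁻¹ : GL (Fin 2) F) : M2) *ᵥ v) = v := by
    rw [Matrix.mulVec_mulVec, Units.mul_inv, Matrix.one_mulVec]
  rw [← hd, Matrix.mulVec_smul] at hback
  have hd0 : d ≠ 0 := fun h => hw (by rw [← hback, h, zero_smul])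
  exact hgv (Submodule.mem_span_singleton.mpr ⟨d⁻¹, by
    rw [show (gm : M2) *ᵥ v = d⁻¹ • (d • ((gm : M2) *ᵥ v)) by rw [inv_smul_smul₀ hd0], hback]⟩)

end Cfsg.Lib.LinearTwo
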