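import Cfsg.Agent.OddLocal.CNMinSimple
import Cfsg.Agent.OddChar.FrobeniusCover
import Mathlib.GroupTheory.Solvable

/-!
# The CN-theorem of Feit, Hall and Thompson
-/

set_option linter.style.haveILetI false

namespace Cfsg.Lib.CN

open Subgroup

universe u

theorem not_minSimple {G : Type u} [Group G] [Finite G] (hG : Cfsg.IsMinSimpleOddOrder G)
    (hCN : Cfsg.IsCNGroup G) : False := by
  classical
  haveI := Fintype.ofFinite G
  let s : Setoid {H : Subgroup G // MaxNil H} :=
    { r := fun A B => ∃ g : G, B.1 = A.1.map (MulAut.conj g).toMonoidHom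
      iseqv := by
        refine ⟨fun A => ⟨1, ?_⟩, ?_, ?_⟩
        · ext x; simp
        · rintro A B ⟨g, hg⟩
          refine ⟨g⁻¹, ?_⟩
          rw [hg, Subgroup.map_map]
          ext x; simp [mul_assoc]
        · rintro A B C ⟨g, hg⟩ ⟨k, hk⟩
          refine ⟨k * g, ?_⟩
          rw [hk, hg, Subgroup.map_map]
          ext x; simp [mul_assoc] }
  let ι := Quotient s
  haveI : Fintype ι := Fintype.ofFinite _
  let K : ι → Subgroup G := fun i => i.out.1
  have hK : ∀ i, MaxNil (K i) := fun i => i.out.2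
  have hcop : ∀ i j, i ≠ j → Nat.Coprime (Nat.card (K i)) (Nat.card (K j)) := fun i j hij =>
    (maxNil_conj_or_coprime hG hCN (hK i) (hK j)).resolve_left fun h => hij (by
      rw [← Quotient.out_eq i, ← Quotient.out_eq j]
      exact Quotient.sound h)
  have hTI : ∀ i, Cfsg.IsTISubset (K i : Set G) := by
    intro i g hg x hx hgx
    have hne : (K i).map (MulAut.conj g).toMonoidHom ≠ K i := fun he => hg (by
      rw [Subgroup.mem_normalizer_iff]
      intro y
      constructor
      · intro hy
        exact he.le (Subgroup.mem_map.mpr ⟨y, hy, rfl⟩)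
      · intro hy
        obtain ⟨y', hy', he'⟩ := Subgroup.mem_map.mp (he.ge hy)
        obtain rfl : y' = y := (MulAut.conj g).injective he'
        exact hy')
    have h1 := maxNil_TI hG hCN (hK i) g hne
    have h2 : g * x * g⁻¹ ∈ K i ⊓ (K i).map (MulAut.conj g).toMonoidHom := ⟨hgx, ⟨x, hx, rfl⟩⟩
    rw [h1, mem_bot, conj_eq_one_iff] at h2
    exact h2
  have hcover : ∀ g : G, g ≠ 1 → ∃ i, ∃ x : G, x * g * x⁻¹ ∈ K i := by
    intro g hg
    letI : CommGroup (zpowers g) := IsCyclic.commGroup
    obtain ⟨L, hgL, hL⟩ := exists_maxNil_ge (A := zpowers g) inferInstance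
    refine ⟨Quotient.mk s ⟨L, hL⟩, ?_⟩
    obtain ⟨x, hx⟩ := Quotient.exact (s := s) (Quotient.out_eq (Quotient.mk s ⟨L, hL⟩)).symm
    refine ⟨x, ?_⟩
    show _ ∈ (Quotient.out (Quotient.mk s ⟨L, hL⟩)).1
    rw [hx]
    exact ⟨g, hgL (mem_zpowers g), rfl⟩
  have hlt : ∀ i, K i < normalizer (K i : Set G) := fun i =>
    lt_of_le_of_ne le_normalizer (Ne.symm (maxNil_normalizer_ne hG hCN (hK i)))
  have hι : 2 ≤ Fintype.card ι := by
    by_contra hlt2
    haveI : Subsingleton ι := Fintype.card_le_one_iff_subsingleton.mp (by omega)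
    obtain ⟨g, hg⟩ : ∃ g : G, g ≠ 1 := by
      haveI := hG.2.1
      exact exists_ne 1
    obtain ⟨i, -⟩ := hcover g hg
    have h1 := Cfsg.Agent.S1527.result K hcop hTI hcover
    rw [Fintype.sum_subsingleton _ i] at h1
    have h2 := card_mul_index (normalizer (K i : Set G))
    have h3 : Nat.card (K i) ≤ Nat.card (normalizer (K i : Set G)) :=
      Subgroup.card_le_of_le le_normalizer
    have h4 : 0 < Nat.card G := Nat.card_pos
    have h5 := Nat.mul_le_mul_right (normalizer (K i : Set G)).index h3
    rw [h2] at h5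
    have h6 : (normalizer (K i : Set G)).index * (Nat.card (K i) - 1) +
        (normalizer (K i : Set G)).index = Nat.card (K i) * (normalizer (K i : Set G)).index := by
      have : 1 ≤ Nat.card (K i) := Nat.card_pos
      obtain ⟨c, hc⟩ := Nat.exists_eq_add_of_le this
      rw [hc]; simp; ring
    have h7 : (normalizer (K i : Set G)).index ≠ 0 := index_ne_zero_of_finite
    have h8 : (normalizer (K i : Set G)).index = 1 := by omega
    exact normalizer_ne_top hG (ne_bot_of_maxNil hG (hK i)) (hK i).1 (index_eq_one.mp h8)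
  exact Cfsg.Lib.FrobCover.cover_false hG.1 hι K (fun i => ne_bot_of_maxNil hG (hK i))
    (fun i => (hK i).1) hTI hlt
    (fun i k hk hk1 => maxNil_centralizer_le hG hCN (hK i) hk hk1) hcop hcover

theorem solvable_of_odd : ∀ (n : ℕ) {G : Type u} [Group G] [Finite G], Nat.card G = n →
    Odd (Nat.card G) → Cfsg.IsCNGroup G → Group.IsSolvable G := by
  intro n
  induction n using Nat.strong_induction_on with
  | _ n ih =>
  intro G _ _ hn hodd hCN
  have hsub : ∀ H : Subgroup G, H ≠ ⊤ → Group.IsSolvable H := by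
    intro H hH
    have hlt : Nat.card H < n := by
      rw [← hn]
      exact lt_of_le_of_ne (card_le_card_group H) fun h => hH (eq_top_of_card_eq H h)
    exact ih _ hlt rfl (hodd.of_dvd_nat (card_subgroup_dvd_card H)) (isCN_subgroup hCN H)
  by_cases hcomm : ∀ a b : G, a * b = b * a
  · exact Group.isSolvable_of_comm hcomm
  by_cases hsimple : ∀ N : Subgroup G, N.Normal → N = ⊥ ∨ N = ⊤
  · exfalso
    haveI : Nontrivial G := by
      by_contra h
      rw [not_nontrivial_iff_subsingleton] at h
      exact hcomm fun a b => Subsingleton.elim _ _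
    refine not_minSimple ⟨hodd, ⟨⟨hsimple⟩, fun h => hcomm fun a b => ?_, hsub⟩⟩ hCN
    exact h.is_comm.comm a b
  · push Not at hsimple
    obtain ⟨N, hN, hNb, hNt⟩ := hsimple
    haveI := hN
    haveI := hsub N hNt
    have hq : Cfsg.IsCNGroup (G ⧸ N) := isCN_quotient _ hCN N (hsub N hNt) rfl
    have hlt : Nat.card (G ⧸ N) < n := by
      rw [← hn, ← index_eq_card, ← N.card_mul_index]
      have h1 : 1 < Nat.card N := by
        haveI := (nontrivial_iff_ne_bot N).mpr hNb
        exact Finite.one_lt_card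
      exact lt_mul_of_one_lt_left (Nat.pos_of_ne_zero index_ne_zero_of_finite) h1
    have hqodd : Odd (Nat.card (G ⧸ N)) := hodd.of_dvd_nat ((index_eq_card N) ▸ N.index_dvd_card)
    haveI := ih _ hlt rfl hqodd hq
    exact Group.isSolvable_of_ker_le_range N.subtype (QuotientGroup.mk' N)
      (by rw [QuotientGroup.ker_mk', range_subtype])

end Cfsg.Lib.CN
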