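import Cfsg.Agent.OddLocal.FixedPointFreeModule
import Cfsg.Agent.Coprime.Fitting
import Cfsg.Agent.Components.ZJ.PCompl

/-!
# Fixed-point-free elements of prime order: group forms
-/

set_option linter.unusedSectionVars false
set_option linter.style.haveILetI false

namespace Cfsg.Lib.OddP

open Subgroup Module
open scoped commutatorElement

universe u v

variable {Γ : Type u} [Group Γ] [Finite Γ]

/-- elementary abelian form -/
theorem commute_of_no_fixed_elementary {M : Type v} [CommGroup M] [Finite M] {p : ℕ}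
    [hp : Fact p.Prime] (hM : ∀ m : M, m ^ p = 1) (φ : Γ →* MulAut M) (x : Γ) {r q : ℕ}
    (hr : r.Prime) (hq : q.Prime) (hrq : r ≠ q) (hq2 : q ≠ 2) (hrp : r ≠ p) (hqp : q ≠ p)
    (hxr : x ^ r = 1) (hfix : ∀ m : M, φ x m = m → m = 1) (Q : Subgroup Γ) (hQ : IsPGroup q Q)
    (hxN : x ∈ normalizer (Q : Set Γ)) : ∀ u ∈ Q, φ x * φ u = φ u * φ x := by
  classical
  haveI : Finite (MulAut M) := Finite.of_injective (fun e => (e : M → M)) DFunLike.coe_injective
  letI : Module (ZMod p) (Additive M) :=
    AddCommGroup.zmodModule (n := p) (G := Additive M) fun m => hM m.toMul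
  haveI : Module.Finite (ZMod p) (Additive M) := Module.Finite.of_finite
  let b := Module.finBasis (ZMod p) (Additive M)
  let lin : MulAut M →* Module.End (ZMod p) (Additive M) :=
    { toFun := fun a => AddMonoidHom.toZModLinearMap p (MonoidHom.toAdditive a.toMonoidHom)
      map_one' := LinearMap.ext fun v => rfl
      map_mul' := fun a b => LinearMap.ext fun v => rfl }
  let K := AlgebraicClosure (ZMod p)
  haveI : CharP K p := charP_of_injective_algebraMap (algebraMap (ZMod p) K).injective p
  let toK : Module.End (ZMod p) (Additive M) →+*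
      Module.End K (Fin (finrank (ZMod p) (Additive M)) → K) :=
    ((Matrix.toLinAlgEquiv' (R := K)).toAlgHom.toRingHom.comp
      ((algebraMap (ZMod p) K).mapMatrix)).comp
      (LinearMap.toMatrixAlgEquiv b).toAlgHom.toRingHom
  have htoK : Function.Injective toK := fun f g h =>
    (LinearMap.toMatrixAlgEquiv b).injective
      (Matrix.map_injective (algebraMap (ZMod p) K).injective (Matrix.toLinAlgEquiv'.injective h))
  let ρ : φ.range →* Module.End K (Fin (finrank (ZMod p) (Additive M)) → K) :=
    (toK.toMonoidHom.comp lin).comp φ.range.subtype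
  have hρ : Function.Injective ρ := fun a c h => Subtype.ext (MulEquiv.ext fun m =>
    Additive.ofMul.injective (LinearMap.congr_fun (htoK h) (Additive.ofMul m)))
  set xb : φ.range := φ.rangeRestrict x
  have hxb : xb ^ r = 1 := by rw [← map_pow, hxr, map_one]
  have hne : ∀ s : ℕ, s.Prime → s ≠ p → (s : K) ≠ 0 := fun s hs hsp h =>
    hsp (((Nat.prime_dvd_prime_iff_eq hp.out hs).mp ((CharP.cast_eq_zero_iff K p s).mp h)).symm)
  have hrK := hne r hr hrp
  -- no fixed points after extension of scalars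
  have hfixK : ∀ v, ρ xb v = v → v = 0 := by
    intro v hv
    set A := lin (φ x)
    have hA : A ^ r = 1 := by rw [← map_pow, ← map_pow, hxr, map_one, map_one]
    have hS : ∑ i ∈ Finset.range r, A ^ i = 0 := by
      refine LinearMap.ext fun m => ?_
      rw [LinearMap.zero_apply]
      apply Additive.toMul.injective
      refine hfix _ ?_
      have h1 : A * ∑ i ∈ Finset.range r, A ^ i = ∑ i ∈ Finset.range r, A ^ i := by
        rw [Finset.mul_sum]
        simp only [← pow_succ']
        obtain ⟨s, hs⟩ : ∃ s, r = s + 1 := ⟨r - 1, by have := hr.one_le; omega⟩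
        rw [hs] at hA ⊢
        conv_lhs => rw [Finset.sum_range_succ, hA]
        conv_rhs => rw [Finset.sum_range_succ', pow_zero]
      exact congrArg Additive.toMul (LinearMap.congr_fun h1 m)
    have h2 : ∀ i : ℕ, (toK A ^ i) v = v := by
      intro i
      induction i with
      | zero => simp
      | succ i ih => rw [pow_succ', Module.End.mul_apply, ih]; exact hv
    have h3 := congrArg (fun f => toK f v) hS
    simp only [map_sum, map_zero, map_pow, LinearMap.sum_apply, LinearMap.zero_apply, h2,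
      Finset.sum_const, Finset.card_range] at h3
    rw [← Nat.cast_smul_eq_nsmul K] at h3
    exact (smul_eq_zero.mp h3).resolve_left hrK
  intro u hu
  have hc := centralizes_of_no_fixed_point ρ hρ hr hq hrq hq2 hrK (hne q hq hqp) hxb hfixK _
    (Q.map φ.rangeRestrict) rfl (hQ.map _)
    ((le_normalizer_map φ.rangeRestrict) (mem_map_of_mem _ hxN))
  exact (congrArg Subtype.val (mem_centralizer_iff.mp hc _ (mem_map_of_mem φ.rangeRestrict hu))).symm

variable {G : Type u} [Group G] [Finite G]

/-- an element of odd-relevant prime order without fixed points on a `p`-group `U` -/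
theorem commutator_centralizes {p q r : ℕ} [Fact p.Prime] (hr : r.Prime) (hq : q.Prime)
    (hrq : r ≠ q) (hq2 : q ≠ 2) (hrp : r ≠ p) (hqp : q ≠ p) {x : G} (hxr : x ^ r = 1)
    {Q U : Subgroup G} (hQ : IsPGroup q Q) (hU : IsPGroup p U) (hxQ : x ∈ normalizer (Q : Set G))
    (hxU : x ∈ normalizer (U : Set G)) (hQU : Q ≤ normalizer (U : Set G))
    (hfix : U ⊓ centralizer ({x} : Set G) = ⊥) : ⁅Q, zpowers x⁆ ≤ centralizer (U : Set G) := by
  classical
  haveI := Fact.mk hq
  set X := zpowers x
  have hXQ : X ≤ normalizer (Q : Set G) := zpowers_le.mpr hxQ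
  have hXU : X ≤ normalizer (U : Set G) := zpowers_le.mpr hxU
  set D := ⁅Q, X⁆
  have hDQ : D ≤ Q := Cfsg.Lib.Coprime.commutator_le_of_le_normalizer hXQ
  set N := normalizer (U : Set G)
  haveI := Cfsg.Lib.PGroups.isMulCommutative_quotient_frattini hU
  letI : CommGroup (U ⧸ frattini U) :=
    { (inferInstance : Group (U ⧸ frattini U)) with mul_comm := mul_comm' }
  have hchar : (frattini U).Characteristic := frattini_characteristic
  let φ : N →* MulAut (U ⧸ frattini U) :=
    { toFun := fun a => QuotientGroup.congr (frattini U) (frattini U) (U.normalizerMonoidHom a)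
        (characteristic_iff_map_eq.mp hchar (U.normalizerMonoidHom a))
      map_one' := by
        ext y
        obtain ⟨y, rfl⟩ := QuotientGroup.mk'_surjective (frattini U) y
        show QuotientGroup.mk' _ (U.normalizerMonoidHom 1 y) = QuotientGroup.mk' _ y
        rw [map_one]; rfl
      map_mul' := fun a b => by
        ext y
        obtain ⟨y, rfl⟩ := QuotientGroup.mk'_surjective (frattini U) y
        show QuotientGroup.mk' _ (U.normalizerMonoidHom (a * b) y) =
          QuotientGroup.mk' _ (U.normalizerMonoidHom a (U.normalizerMonoidHom b y))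
        rw [map_mul]; rfl }
  have hφ : ∀ (a : N) (y : U), φ a (QuotientGroup.mk y) = QuotientGroup.mk (U.normalizerMonoidHom a y) :=
    fun a y => rfl
  obtain ⟨j, hj⟩ := IsPGroup.iff_card.mp hU
  obtain ⟨i, hi⟩ := IsPGroup.iff_card.mp hQ
  have hcopX : (Nat.card X).Coprime (Nat.card U) := by
    rw [Nat.card_zpowers, hj]
    exact Nat.Coprime.coprime_dvd_left (orderOf_dvd_of_pow_eq_one hxr)
      (((Nat.coprime_primes hr Fact.out).mpr hrp).pow_right j)
  have hcopD : (Nat.card D).Coprime (Nat.card (frattini U)) := by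
    refine Nat.Coprime.coprime_dvd_left (card_dvd_of_le hDQ)
      (Nat.Coprime.coprime_dvd_right (card_subgroup_dvd_card _) ?_)
    rw [hi, hj]
    exact Nat.Coprime.pow i j ((Nat.coprime_primes hq Fact.out).mpr hqp)
  have hnofix : ∀ m : U ⧸ frattini U, φ ⟨x, hxU⟩ m = m → m = 1 := by
    intro m hm
    obtain ⟨y, rfl⟩ := QuotientGroup.mk_surjective m
    rw [hφ, QuotientGroup.eq] at hm
    set Φ := (frattini U).map U.subtype with hΦ
    have hΦN : N ≤ normalizer (Φ : Set G) := by
      have key : ∀ g ∈ N, ∀ z ∈ Φ, g * z * g⁻¹ ∈ Φ := by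
        rintro g hg - ⟨z, hz, rfl⟩
        exact ⟨U.normalizerMonoidHom ⟨g, hg⟩ z, characteristic_iff_le_comap.mp hchar _ hz, rfl⟩
      exact fun g hg => Cfsg.Lib.Coprime.mem_normalizer_of_conj_mem (key g hg)
        fun z hz => by simpa using key g⁻¹ (inv_mem hg) z hz
    have h1 : ∀ a ∈ X, (y : G)⁻¹ * a * y * a⁻¹ ∈ Φ := by
      intro a ha
      obtain ⟨n, rfl⟩ := mem_powers_iff_mem_zpowers.mpr ha
      clear ha
      induction n with
      | zero => simp
      | succ n ih =>
        have h2 : x * ((y : G)⁻¹ * x ^ n * y * (x ^ n)⁻¹) * x⁻¹ ∈ Φ :=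
          (mem_normalizer_iff.mp (hΦN hxU) _).mp ih
        have h3 : (y : G)⁻¹ * (x * y * x⁻¹) ∈ Φ := by
          have h4 := Subgroup.inv_mem _ hm
          exact ⟨_, h4, by simp [mul_assoc]⟩
        have := mul_mem h3 h2
        simpa [pow_succ', mul_assoc] using this
    haveI : Group.IsNilpotent Φ := (hU.to_le (map_subtype_le _)).isNilpotent
    obtain ⟨d, hd, hdc⟩ := Cfsg.Lib.Coprime.exists_fixed_in_coset (A := X) (D := Φ)
      (hXU.trans hΦN) (Cfsg.Lib.Coprime.coprime_of_le (map_subtype_le _) hcopX) (Or.inr inferInstance) h1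
    obtain ⟨d', hd', rfl⟩ := hd
    have h5 : ((y * d' : U) : G) ∈ U ⊓ centralizer ({x} : Set G) := ⟨(y * d').2,
      mem_centralizer_singleton_iff.mpr (mem_centralizer_iff.mp hdc x (mem_zpowers x)).symm⟩
    rw [hfix, mem_bot] at h5
    have h6 : y = d'⁻¹ := eq_inv_of_mul_eq_one_left (Subtype.ext h5)
    rw [h6]
    exact (QuotientGroup.eq_one_iff _).mpr (inv_mem hd')
  have hcomm : ∀ u ∈ Q.subgroupOf N, φ ⟨x, hxU⟩ * φ u = φ u * φ ⟨x, hxU⟩ :=
    commute_of_no_fixed_elementary (Cfsg.Lib.PGroups.pow_prime_quotient_frattini hU) φ ⟨x, hxU⟩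
      hr hq hrq hq2 hrp hqp (Subtype.ext hxr) hnofix (Q.subgroupOf N)
      (hQ.comap_of_injective N.subtype N.subtype_injective) (by
        rw [mem_normalizer_iff]
        exact fun a => mem_normalizer_iff.mp hxQ (a : G))
  have hker : D ≤ φ.ker.map N.subtype := by
    rw [commutator_le]
    intro u hu a ha
    obtain ⟨n, rfl⟩ := mem_powers_iff_mem_zpowers.mpr ha
    refine ⟨⁅(⟨u, hQU hu⟩ : N), (⟨x, hxU⟩ : N) ^ n⁆, ?_, rfl⟩
    rw [SetLike.mem_coe, MonoidHom.mem_ker, map_commutatorElement,
      commutatorElement_eq_one_iff_commute, map_pow]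
    exact (Commute.pow_right (hcomm ⟨u, hQU hu⟩ hu).symm n)
  refine Cfsg.Lib.Coprime.le_centralizer_of_frattini
    ((hDQ.trans hQU)) hcopD fun a ha k hk => ?_
  obtain ⟨a', ha', rfl⟩ := hker ha
  have h1 : φ a' (QuotientGroup.mk (⟨k, hk⟩ : U)) = QuotientGroup.mk (⟨k, hk⟩ : U) :=
    DFunLike.congr_fun (MonoidHom.mem_ker.mp ha') _
  rw [hφ, eq_comm, QuotientGroup.eq] at h1
  exact ⟨_, ((inferInstance : (frattini U).Normal).mem_comm_iff).mp h1, rfl⟩

end Cfsg.Lib.OddP
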