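import Mathlib

/-!
# An automorphism of prime order in an irreducible representation with free action on `Q/Z(Q)`
-/

set_option linter.unusedSectionVars false
set_option linter.style.haveILetI false

namespace Cfsg.Lib.OddP

open Module Subgroup

universe u v w

variable {K : Type u} [Field K] [IsAlgClosed K] {W : Type v} [AddCommGroup W] [Module K W]
  [FiniteDimensional K W] {Q : Type w} [Group Q]

/-- Schur's lemma -/
theorem schur (ρ : Q →* Module.End K W) [Nontrivial W]
    (hirr : ∀ S : Submodule K W, (∀ g : Q, ∀ x ∈ S, ρ g x ∈ S) → S = ⊥ ∨ S = ⊤)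
    (f : Module.End K W) (hf : ∀ g : Q, f * ρ g = ρ g * f) : ∃ c : K, f = c • 1 := by
  obtain ⟨c, hc⟩ := Module.End.exists_eigenvalue f
  refine ⟨c, ?_⟩
  have htop : f.eigenspace c = ⊤ := by
    refine (hirr _ fun g x hx => ?_).resolve_left hc
    rw [Module.End.mem_eigenspace_iff] at hx ⊢
    rw [← Module.End.mul_apply, hf, Module.End.mul_apply, hx, map_smul]
  refine LinearMap.ext fun x => ?_
  have hx : x ∈ f.eigenspace c := htop ▸ Submodule.mem_top
  rw [Module.End.mem_eigenspace_iff] at hx
  simpa using hx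

variable [Finite Q]

/-- the images of a transversal of `Z(Q)` form a basis of `End W` -/
theorem transversal_basis (ρ : Q →* Module.End K W) [Nontrivial W]
    (hirr : ∀ S : Submodule K W, (∀ g : Q, ∀ x ∈ S, ρ g x ∈ S) → S = ⊥ ∨ S = ⊤)
    (hQK : ((Nat.card Q : ℕ) : K) ≠ 0)
    (hpair : ∀ u : Q, u ∉ center Q → ∃ (w : Q) (c : K), c ≠ 1 ∧ ρ u * ρ w = c • (ρ w * ρ u)) :
    ∃ B : Basis (Q ⧸ center Q) K (Module.End K W), ∀ t, B t = ρ t.out := by
  classical
  haveI := Fintype.ofFinite (Q ⧸ center Q)
  have hscal : ∀ z ∈ center Q, ∃ c : K, ρ z = c • 1 := fun z hz => schur ρ hirr _ fun g => by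
    rw [← map_mul, ← map_mul, mem_center_iff.mp hz g]
  have hinv : ∀ g : Q, ρ g⁻¹ * ρ g = 1 := fun g => by rw [← map_mul, inv_mul_cancel, map_one]
  have hinv' : ∀ g : Q, ρ g * ρ g⁻¹ = 1 := fun g => by rw [← map_mul, mul_inv_cancel, map_one]
  -- the averaging operator
  have hconst : ∀ (f : Module.End K W) (t : Q ⧸ center Q) (g : Q), QuotientGroup.mk g = t →
      ρ g * f * ρ g⁻¹ = ρ t.out * f * ρ (t.out)⁻¹ := by
    intro f t g hg
    obtain ⟨z, hz, rfl⟩ : ∃ z ∈ center Q, t.out * z = g := ⟨t.out⁻¹ * g,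
      QuotientGroup.eq.mp (by rw [QuotientGroup.out_eq', hg]), mul_inv_cancel_left _ _⟩
    obtain ⟨c, hc⟩ := hscal _ hz
    obtain ⟨d, hd⟩ := hscal _ (inv_mem hz)
    have hcd : c * d = 1 := by
      have h := hinv' z
      rw [hc, hd, smul_mul_assoc, one_mul, smul_smul] at h
      obtain ⟨w, hw⟩ := exists_ne (0 : W)
      exact smul_left_injective K hw (by simpa using LinearMap.congr_fun h w)
    rw [mul_inv_rev, map_mul, map_mul, hc, hd]
    simp only [mul_smul_comm, smul_mul_assoc, mul_one, one_mul, smul_smul]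
    rw [mul_comm d, hcd, one_smul]
  let Φ : Module.End K W → Module.End K W := fun f => ∑ t : Q ⧸ center Q, ρ t.out * f * ρ (t.out)⁻¹
  have hΦcomm : ∀ f g, Φ f * ρ g = ρ g * Φ f := by
    intro f g
    have key : ρ g * Φ f * ρ g⁻¹ = Φ f := by
      show ρ g * (∑ t : Q ⧸ center Q, ρ t.out * f * ρ (t.out)⁻¹) * ρ g⁻¹ = _
      rw [Finset.mul_sum, Finset.sum_mul]
      refine Fintype.sum_equiv (Equiv.mulLeft (QuotientGroup.mk g : Q ⧸ center Q)) _ _ fun t => ?_
      rw [← hconst f (Equiv.mulLeft (QuotientGroup.mk g : Q ⧸ center Q) t) (g * t.out)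
        (by rw [QuotientGroup.mk_mul, QuotientGroup.out_eq']; rfl),
        mul_inv_rev, map_mul, map_mul]
      noncomm_ring
    conv_lhs => rw [← key]
    rw [mul_assoc, hinv, mul_one]
  have hΦscal : ∀ f, ∃ c : K, Φ f = c • 1 := fun f => schur ρ hirr _ (hΦcomm f)
  have htrΦ : ∀ f, LinearMap.trace K W (Φ f) = (Nat.card (Q ⧸ center Q) : K) * LinearMap.trace K W f := by
    intro f
    have h1 : ∀ t : Q ⧸ center Q,
        LinearMap.trace K W (ρ t.out * f * ρ (t.out)⁻¹) = LinearMap.trace K W f := fun t => by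
      rw [LinearMap.trace_mul_comm, ← mul_assoc, hinv, one_mul]
    show LinearMap.trace K W (∑ t, _) = _
    rw [map_sum, Finset.sum_congr rfl fun t _ => h1 t, Finset.sum_const, Finset.card_univ,
      ← Nat.card_eq_fintype_card, nsmul_eq_mul]
  have hT0 : ((Nat.card (Q ⧸ center Q) : ℕ) : K) ≠ 0 := by
    intro h
    obtain ⟨k, hk⟩ := (center Q).card_quotient_dvd_card
    exact hQK (by rw [hk, Nat.cast_mul, h, zero_mul])
  -- `dim W` is invertible
  set b := Module.finBasis K W with hb
  obtain ⟨y, hy⟩ := exists_ne (0 : W)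
  have hrank1 : ∀ (α : W →ₗ[K] K) (x : W),
      LinearMap.trace K W (LinearMap.smulRight α x) = α x := fun α x => by
    rw [LinearMap.trace_eq_matrix_trace K b, Matrix.trace]
    simp only [Matrix.diag_apply, LinearMap.toMatrix_apply, LinearMap.smulRight_apply, map_smul,
      Finsupp.smul_apply, smul_eq_mul]
    conv_rhs => rw [← b.sum_repr x]
    rw [map_sum]
    simp [mul_comm]
  have hN0 : (finrank K W : K) ≠ 0 := by
    intro h
    obtain ⟨i, hi⟩ : ∃ i, b.repr y i ≠ 0 := by
      by_contra h0
      push Not at h0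
      exact hy (b.repr.injective (Finsupp.ext fun i => by simp [h0 i]))
    obtain ⟨c, hc⟩ := hΦscal (LinearMap.smulRight (b.coord i) y)
    have h2 := htrΦ (LinearMap.smulRight (b.coord i) y)
    rw [hc, map_smul, LinearMap.trace_one, h, smul_zero, hrank1] at h2
    exact mul_ne_zero hT0 (show b.coord i y ≠ 0 from hi) h2.symm
  -- spanning
  have hspan : ⊤ ≤ Submodule.span K (Set.range fun t : Q ⧸ center Q => ρ t.out) := by
    have hrk : ∀ (α : W →ₗ[K] K) (x : W),
        LinearMap.smulRight α x ∈ Submodule.span K (Set.range fun t : Q ⧸ center Q => ρ t.out) := by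
      intro α x
      have key : LinearMap.smulRight α x = ∑ t : Q ⧸ center Q,
          ((finrank K W : K) / (Nat.card (Q ⧸ center Q) : K) * α (ρ (t.out)⁻¹ x)) • ρ t.out := by
        refine LinearMap.ext fun z => ?_
        obtain ⟨c, hc⟩ := hΦscal (LinearMap.smulRight α z)
        have h2 := htrΦ (LinearMap.smulRight α z)
        rw [hc, map_smul, LinearMap.trace_one, hrank1, smul_eq_mul] at h2
        have h3 := LinearMap.congr_fun hc x
        simp only [Φ, LinearMap.sum_apply, Module.End.mul_apply, LinearMap.smulRight_apply, map_smul,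
          LinearMap.smul_apply, Module.End.one_apply] at h3
        simp only [LinearMap.sum_apply, LinearMap.smul_apply, LinearMap.smulRight_apply]
        rw [Finset.sum_congr rfl fun t _ => (smul_smul _ (α (ρ (t.out)⁻¹ x)) (ρ t.out z)).symm,
          ← Finset.smul_sum, h3, smul_smul]
        congr 1
        field_simp
        linear_combination -h2
      rw [key]
      exact Submodule.sum_mem _ fun t _ => Submodule.smul_mem _ _ (Submodule.subset_span ⟨t, rfl⟩)
    intro f _
    have hf : f = ∑ i, LinearMap.smulRight (b.coord i) (f (b i)) := by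
      refine b.ext fun j => ?_
      simp [LinearMap.sum_apply, Finsupp.single_apply]
    rw [hf]
    exact Submodule.sum_mem _ fun i _ => hrk _ _
  -- independence
  have htr0 : ∀ g : Q, g ∉ center Q → LinearMap.trace K W (ρ g) = 0 := by
    intro g hg
    obtain ⟨w, c, hc, hw⟩ := hpair g hg
    have h1 : ρ g = c • (ρ w * ρ g * ρ w⁻¹) := by
      rw [← smul_mul_assoc, ← hw, mul_assoc, hinv', mul_one]
    have h2 := congrArg (LinearMap.trace K W) h1
    rw [map_smul, LinearMap.trace_mul_comm, ← mul_assoc, hinv, one_mul, smul_eq_mul] at h2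
    exact (mul_eq_zero.mp (show (c - 1) * LinearMap.trace K W (ρ g) = 0 by
      linear_combination -h2)).resolve_left (sub_ne_zero.mpr hc)
  have hli : LinearIndependent K fun t : Q ⧸ center Q => ρ t.out := by
    rw [Fintype.linearIndependent_iff]
    intro a ha t₀
    have h1 := congrArg (fun F => LinearMap.trace K W (F * ρ (t₀.out)⁻¹)) ha
    simp only [Finset.sum_mul, map_sum, zero_mul, map_zero, smul_mul_assoc, map_smul, smul_eq_mul,
      ← map_mul] at h1
    rw [Finset.sum_eq_single t₀ (fun t _ hne => ?_) (fun h => absurd (Finset.mem_univ _) h),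
      mul_inv_cancel, map_one, LinearMap.trace_one] at h1
    · exact (mul_eq_zero.mp h1).resolve_right hN0
    · rw [htr0 _ (fun hmem => hne ?_), mul_zero]
      have h2 : (QuotientGroup.mk (t.out * (t₀.out)⁻¹) : Q ⧸ center Q) = 1 :=
        (QuotientGroup.eq_one_iff _).mpr hmem
      rwa [QuotientGroup.mk_mul, QuotientGroup.mk_inv, QuotientGroup.out_eq', QuotientGroup.out_eq',
        mul_inv_eq_one] at h2
  exact ⟨Basis.mk hli hspan, fun t => Basis.mk_apply hli hspan t⟩

theorem eigen_span {r : ℕ} (hrK : (r : K) ≠ 0) (θ : Module.End K W) (hθ : θ ^ r = 1) :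
    Submodule.span K {v : W | ∃ μ : K, θ v = μ • v} = ⊤ := by
  have hss : θ.IsFinitelySemisimple := by
    refine (Module.End.isSemisimple_of_squarefree_aeval_eq_zero (p := Polynomial.X ^ r - 1) ?_ ?_).isFinitelySemisimple
    · exact (Polynomial.separable_X_pow_sub_C (n := r) (1 : K) hrK one_ne_zero).squarefree
    · simp [hθ]
  rw [eq_top_iff, ← Module.End.iSup_maxGenEigenspace_eq_top θ]
  refine iSup_le fun μ => ?_
  rw [hss.maxGenEigenspace_eq_eigenspace]
  exact fun v hv => Submodule.subset_span ⟨μ, Module.End.mem_eigenspace_iff.mp hv⟩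

/-- An element of prime order `r` acting freely on `Q/Z(Q)`, `Q` of odd order, has fixed points on
any faithful-type irreducible module for `Q`. -/
theorem exists_fixed_point (ρ : Q →* Module.End K W) [Nontrivial W]
    (hirr : ∀ S : Submodule K W, (∀ g : Q, ∀ x ∈ S, ρ g x ∈ S) → S = ⊥ ∨ S = ⊤)
    (hQK : ((Nat.card Q : ℕ) : K) ≠ 0) (hQodd : Odd (Nat.card Q)) (hQc : center Q ≠ ⊤)
    (hpair : ∀ u : Q, u ∉ center Q → ∃ (w : Q) (c : K), c ≠ 1 ∧ ρ u * ρ w = c • (ρ w * ρ u))
    {r : ℕ} (hr : r.Prime) (hrK : (r : K) ≠ 0) (σ : MulAut Q) (hσr : σ ^ r = 1)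
    (hfree : ∀ u : Q, u⁻¹ * σ u ∈ center Q → u ∈ center Q)
    (θ : Module.End K W) (hθr : θ ^ r = 1) (hθ : ∀ u : Q, θ * ρ u = ρ (σ u) * θ) :
    ∃ v : W, v ≠ 0 ∧ θ v = v := by
  classical
  by_contra hfix
  push Not at hfix
  obtain ⟨B, hB⟩ := transversal_basis ρ hirr hQK hpair
  haveI := Fintype.ofFinite (Q ⧸ center Q)
  set N := finrank K W
  have hT : Nat.card (Q ⧸ center Q) = N * N := by
    rw [Nat.card_eq_fintype_card, ← Module.finrank_eq_card_basis B, Module.finrank_linearMap]
  -- the action on the quotient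
  let τ : MulAut (Q ⧸ center Q) := QuotientGroup.congr (center Q) (center Q) σ
    (characteristic_iff_map_eq.mp inferInstance σ)
  have hτ : ∀ u : Q, τ (QuotientGroup.mk u) = QuotientGroup.mk (σ u) := fun u => rfl
  have hτfix : ∀ t, τ t = t → t = 1 := by
    intro t ht
    obtain ⟨u, rfl⟩ := QuotientGroup.mk_surjective t
    rw [hτ, eq_comm, QuotientGroup.eq] at ht
    exact (QuotientGroup.eq_one_iff u).mpr (hfree u ht)
  have hτr : τ ^ r = 1 := by
    refine MulEquiv.ext fun t => ?_
    obtain ⟨u, rfl⟩ := QuotientGroup.mk_surjective t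
    have : ∀ k : ℕ, (τ ^ k) (QuotientGroup.mk u) = QuotientGroup.mk ((σ ^ k) u) := by
      intro k
      induction k with
      | zero => rfl
      | succ k ih => rw [pow_succ', pow_succ', MulAut.mul_apply, ih, hτ]; rfl
    rw [this, hσr]; rfl
  set A := Subgroup.zpowers τ
  let Y := {t : Q ⧸ center Q // t ≠ 1}
  letI : MulAction A Y :=
    { smul := fun a y => ⟨(a : MulAut (Q ⧸ center Q)) y.1, fun h => y.2
        ((a : MulAut (Q ⧸ center Q)).injective (h.trans (map_one _).symm))⟩
      one_smul := fun y => Subtype.ext rfl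
      mul_smul := fun a b y => Subtype.ext rfl }
  have hsmul : ∀ (a : A) (y : Y), (a • y).1 = (a : MulAut (Q ⧸ center Q)) y.1 := fun a y => rfl
  have hQne : ∃ u : Q, u ∉ center Q := by
    by_contra h
    push Not at h
    exact hQc (eq_top_iff.mpr fun u _ => h u)
  obtain ⟨u₀, hu₀⟩ := hQne
  have hτ1 : τ ≠ 1 := fun h => hu₀ ((QuotientGroup.eq_one_iff u₀).mp
    (hτfix _ (by rw [h]; rfl)))
  have hordτ : orderOf τ = r := by
    haveI := Fact.mk hr
    exact orderOf_eq_prime hτr hτ1
  have hA : Nat.card A = r := by rw [Nat.card_zpowers, hordτ]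
  haveI : Fact (Nat.card A).Prime := ⟨hA ▸ hr⟩
  have hstab : ∀ y : Y, MulAction.stabilizer A y = ⊥ := by
    intro y
    refine (MulAction.stabilizer A y).eq_bot_or_eq_top_of_prime_card.resolve_right fun h => ?_
    have h1 : (⟨τ, mem_zpowers τ⟩ : A) ∈ MulAction.stabilizer A y := h ▸ mem_top _
    exact y.2 (hτfix _ (congrArg Subtype.val h1))
  haveI := Fintype.ofFinite A
  set O := MulAction.orbitRel.Quotient A Y
  haveI : Fintype O := Fintype.ofFinite _
  haveI : Fintype Y := Fintype.ofFinite _
  have hY : Nat.card Y = Fintype.card O * r := by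
    rw [Nat.card_congr (MulAction.selfEquivSigmaOrbitsQuotientStabilizer A Y), Nat.card_sigma]
    simp only [Nat.card_eq_fintype_card, ← Finset.card_univ]
    rw [Finset.sum_const_nat]
    intro ω _
    rw [Finset.card_univ, ← Nat.card_eq_fintype_card, hstab]
    rw [Nat.card_congr (QuotientGroup.quotientBot (G := A)).toEquiv, hA]
  have hY1 : Nat.card Y + 1 = N * N := by
    rw [← hT, Nat.card_eq_fintype_card, Nat.card_eq_fintype_card, Fintype.card_subtype_compl,
      Fintype.card_subtype_eq]
    have : 0 < Fintype.card (Q ⧸ center Q) := Fintype.card_pos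
    omega
  -- the centralizer of `θ`
  let C : Submodule K (Module.End K W) :=
    LinearMap.ker (LinearMap.mulLeft K θ - LinearMap.mulRight K θ)
  have hC : ∀ f, f ∈ C ↔ θ * f = f * θ := fun f => by
    simp [C, LinearMap.mem_ker, sub_eq_zero]
  have hθu : θ * θ ^ (r - 1) = 1 := by
    rw [← pow_succ', Nat.sub_add_cancel hr.one_le, hθr]
  have hθu' : θ ^ (r - 1) * θ = 1 := by
    rw [← pow_succ, Nat.sub_add_cancel hr.one_le, hθr]
  have hcoef : ∀ t, ∃ c : K, c ≠ 0 ∧ θ * B t * θ ^ (r - 1) = c • B (τ t) := by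
    intro t
    rw [hB, hθ, mul_assoc, hθu, mul_one, hB]
    have hz : (τ t).out⁻¹ * σ t.out ∈ center Q := QuotientGroup.eq.mp (by
      rw [QuotientGroup.out_eq', ← hτ, QuotientGroup.out_eq'])
    obtain ⟨c, hc⟩ := schur ρ hirr (ρ ((τ t).out⁻¹ * σ t.out)) fun g => by
      rw [← map_mul, ← map_mul, mem_center_iff.mp hz g]
    refine ⟨c, fun h0 => ?_, ?_⟩
    · obtain ⟨w, hw⟩ := exists_ne (0 : W)
      apply hw
      have h1 : ρ ((τ t).out⁻¹ * σ t.out)⁻¹ * ρ ((τ t).out⁻¹ * σ t.out) = 1 := by
        rw [← map_mul, inv_mul_cancel, map_one]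
      rw [hc, h0, zero_smul, mul_zero] at h1
      exact (LinearMap.congr_fun h1 w).symm
    · rw [show σ t.out = (τ t).out * ((τ t).out⁻¹ * σ t.out) by group, map_mul, hc, mul_smul_comm,
        mul_one]
  have hupper : finrank K C ≤ 1 + Fintype.card O := by
    let Λ : C →ₗ[K] K × (O → K) :=
      { toFun := fun f => (B.repr f.1 1, fun o => B.repr f.1 (Quotient.out o).1)
        map_add' := fun f g => by
          refine Prod.ext ?_ (funext fun o => ?_) <;> simp
        map_smul' := fun c f => by
          refine Prod.ext ?_ (funext fun o => ?_) <;> simp }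
    have hinj : Function.Injective Λ := by
      rw [injective_iff_map_eq_zero]
      rintro ⟨f, hf⟩ h0
      have h1 : B.repr f 1 = 0 := congrArg Prod.fst h0
      have h2 : ∀ o : O, B.repr f (Quotient.out o).1 = 0 := fun o => congrFun (congrArg Prod.snd h0) o
      have hfθ : θ * f * θ ^ (r - 1) = f := by rw [(hC f).mp hf, mul_assoc, hθu, mul_one]
      have hstep : ∀ t, B.repr f t = 0 → B.repr f (τ t) = 0 := by
        intro t ht
        conv_lhs => rw [← hfθ]
        choose c hc0 hc using hcoef
        have h3 : θ * f * θ ^ (r - 1) = ∑ s, (B.repr f s * c s) • B (τ s) := by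
          conv_lhs => rw [← B.sum_repr f]
          rw [Finset.mul_sum, Finset.sum_mul]
          refine Finset.sum_congr rfl fun s _ => ?_
          rw [mul_smul_comm, smul_mul_assoc, hc, smul_smul]
        rw [h3, map_sum, Finsupp.finsetSum_apply, Finset.sum_eq_single t]
        · simp [ht]
        · intro s _ hs
          simp [B.repr_self, Finsupp.single_apply, τ.injective.ne hs]
        · simp
      have hzero : ∀ t, B.repr f t = 0 := by
        intro t
        by_cases ht : t = 1
        · rw [ht]; exact h1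
        set o : O := Quotient.mk'' (⟨t, ht⟩ : Y)
        have hrel : (Quotient.out o) ∈ MulAction.orbit A (⟨t, ht⟩ : Y) := by
          have h3 : Quotient.mk'' (Quotient.out o) = o := Quotient.out_eq' o
          exact MulAction.orbitRel_apply.mp (Quotient.eq''.mp h3)
        obtain ⟨a, ha⟩ := hrel
        have h5 : a⁻¹ • Quotient.out o = (⟨t, ht⟩ : Y) := by rw [← ha, inv_smul_smul]
        have h6 : ((a⁻¹ : A) : MulAut (Q ⧸ center Q)) (Quotient.out o).1 = t := congrArg Subtype.val h5
        obtain ⟨n, hn⟩ : ∃ n : ℕ, τ ^ n = ((a⁻¹ : A) : MulAut (Q ⧸ center Q)) :=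
          (mem_powers_iff_mem_zpowers.mpr (a⁻¹ : A).2)
        rw [← h6, ← hn]
        clear h6 hn h5
        induction n with
        | zero => exact h2 o
        | succ n ih => rw [pow_succ', MulAut.mul_apply]; exact hstep _ ih
      exact Subtype.ext (B.repr.injective (Finsupp.ext fun t => by simp [hzero t]))
    refine (LinearMap.finrank_le_finrank_of_injective hinj).trans (le_of_eq ?_)
    rw [Module.finrank_prod, Module.finrank_self, Module.finrank_pi]
  -- an eigenbasis
  let e := Basis.ofSpan (eigen_span hrK θ hθr).ge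
  haveI : Fintype ((linearIndepOn_empty K (id : W → W)).extend
      (Set.empty_subset {v : W | ∃ μ : K, θ v = μ • v})) := FiniteDimensional.fintypeBasisIndex e
  have heig : ∀ i, ∃ μ : K, θ (e i) = μ • e i := fun i => by
    rw [Basis.ofSpan_apply_self]
    exact LinearIndepOn.extend_subset (linearIndepOn_empty K (id : W → W))
      (Set.empty_subset {v : W | ∃ μ : K, θ v = μ • v}) i.2
  choose μ hμ using heig
  have hμr : ∀ i, μ i ∈ (Polynomial.nthRootsFinset r (1 : K)).erase 1 := by
    intro i
    rw [Finset.mem_erase, Polynomial.mem_nthRootsFinset hr.pos]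
    refine ⟨fun h1 => hfix (e i) (e.ne_zero i) (by rw [hμ, h1, one_smul]), ?_⟩
    have hpow : ∀ k : ℕ, (θ ^ k) (e i) = μ i ^ k • e i := by
      intro k
      induction k with
      | zero => simp
      | succ k ih => rw [pow_succ', Module.End.mul_apply, ih, map_smul, hμ, smul_smul, pow_succ]
    have h2 := hpow r
    rw [hθr, Module.End.one_apply] at h2
    exact smul_left_injective K (e.ne_zero i) (h2.symm.trans (one_smul K (e i)).symm)
  set R := (Polynomial.nthRootsFinset r (1 : K)).erase 1
  have hR : R.card ≤ r - 1 := by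
    rw [Finset.card_erase_of_mem (by simp [Polynomial.mem_nthRootsFinset hr.pos])]
    have : (Polynomial.nthRootsFinset r (1 : K)).card ≤ r := by
      rw [Polynomial.nthRootsFinset_def]
      exact (Multiset.toFinset_card_le _).trans (Polynomial.card_nthRoots r 1)
    omega
  set P := Finset.univ.filter fun ij : _ × _ => μ ij.1 = μ ij.2 with hP
  have hlower : P.card ≤ finrank K C := by
    let Λ : P → C := fun ij => ⟨e.constr K fun k => if k = ij.1.1 then e ij.1.2 else 0, (hC _).mpr (by
      refine e.ext fun k => ?_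
      have hij : μ ij.1.1 = μ ij.1.2 := (Finset.mem_filter.mp ij.2).2
      rw [Module.End.mul_apply, Module.End.mul_apply, hμ k, map_smul, Basis.constr_basis]
      split_ifs with hk
      · rw [hμ, hk, hij]
      · rw [map_zero, smul_zero])⟩
    have hli : LinearIndependent K Λ := by
      refine LinearIndependent.of_comp C.subtype ?_
      rw [Fintype.linearIndependent_iff]
      intro g hg ij
      have h1 := congrArg (fun F => e.repr (F (e ij.1.1)) ij.1.2) hg
      simp only [LinearMap.sum_apply, LinearMap.smul_apply, Function.comp_apply, Submodule.coe_subtype,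
        Λ, Basis.constr_basis, LinearMap.zero_apply, map_zero, Finsupp.coe_zero, Pi.zero_apply,
        map_sum, Finsupp.finsetSum_apply, map_smul, Finsupp.smul_apply, smul_eq_mul] at h1
      rw [Finset.sum_eq_single ij] at h1
      · simpa using h1
      · intro kl _ hne
        by_cases hk : ij.1.1 = kl.1.1
        · have : kl.1.2 ≠ ij.1.2 := fun h => hne (Subtype.ext (Prod.ext hk.symm h))
          simp [hk, Finsupp.single_apply, this]
        · simp [hk]
      · simp
    simpa [Fintype.card_coe] using hli.fintype_card_le_finrank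
  -- Cauchy–Schwarz
  have hsq : N * N ≤ R.card * P.card := by
    have hN : N = ∑ x ∈ R, (Finset.univ.filter fun i => μ i = x).card := by
      rw [← Finset.card_eq_sum_card_fiberwise (fun i _ => hμr i), Finset.card_univ]
      exact Module.finrank_eq_card_basis e
    have hPc : P.card = ∑ x ∈ R, (Finset.univ.filter fun i => μ i = x).card ^ 2 := by
      rw [Finset.card_eq_sum_card_fiberwise (f := fun ij => μ ij.1) (t := R) (fun ij _ => hμr ij.1)]
      refine Finset.sum_congr rfl fun x _ => ?_
      rw [pow_two, ← Finset.card_product, hP, Finset.filter_filter]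
      refine congrArg Finset.card (Finset.ext fun ij => ?_)
      simp only [Finset.mem_filter, Finset.mem_product, Finset.mem_univ, true_and]
      exact ⟨fun h => ⟨h.2, h.1 ▸ h.2⟩, fun h => ⟨h.1.trans h.2.symm, h.1⟩⟩
    rw [hPc, hN, ← pow_two]
    exact sq_sum_le_card_mul_sum_sq
  have hN2 : N * N ≤ (r - 1) * (1 + Fintype.card O) :=
    hsq.trans (Nat.mul_le_mul hR (hlower.trans hupper))
  have hdec : N * N = 1 + r * Fintype.card O := by rw [← hY1, hY]; ring
  -- `N = r - 1` is even
  have hle : N ≤ r - 1 := by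
    by_contra h
    obtain ⟨s, hs⟩ : ∃ s, r = s + 1 := ⟨r - 1, by have := hr.one_le; omega⟩
    subst hs
    simp only [Nat.add_sub_cancel, not_le] at h hN2
    nlinarith
  have hN1 : N ≠ 1 := fun h => by
    have hsub : Subsingleton (Q ⧸ center Q) :=
      (Nat.card_eq_one_iff_unique.mp (by rw [hT, h])).1
    exact hu₀ ((QuotientGroup.eq_one_iff u₀).mp (Subsingleton.elim _ _))
  have hNpos : 0 < N := Module.finrank_pos
  have hdvd : r ∣ (N - 1) * (N + 1) := by
    refine ⟨Fintype.card O, ?_⟩
    have : (N - 1) * (N + 1) + 1 = N * N := by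
      obtain ⟨s, hs⟩ : ∃ s, N = s + 1 := ⟨N - 1, by omega⟩
      rw [hs, Nat.add_sub_cancel]; ring
    omega
  rcases hr.dvd_mul.mp hdvd with h | h
  · have := Nat.le_of_dvd (by omega) h
    omega
  · have hNr : N + 1 = r := by
      have := Nat.le_of_dvd (by omega) h
      have := hr.one_le
      omega
    have hodd : Odd (N * N) := hT ▸ hQodd.of_dvd_nat (center Q).card_quotient_dvd_card
    have hNodd : Odd N := (Nat.odd_mul.mp hodd).1
    have h2 : r = 2 := (hr.eq_two_or_odd').resolve_right fun hro =>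
      (Nat.not_even_iff_odd.mpr hro) (hNr ▸ hNodd.add_odd odd_one)
    omega

end Cfsg.Lib.OddP
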