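import Cfsg.Agent.OddLocal.Puig
import Cfsg.Agent.OddLocal.PLengthBasic
import Cfsg.Agent.Components.ZJ.PCompl
import Cfsg.Agent.S1465

/-!
# The Puig series of a subgroup, seen inside the ambient group
-/

set_option linter.unusedSectionVars false
set_option linter.style.haveILetI false

namespace Cfsg.Lib.Puig

open Subgroup

universe u

variable {G : Type u} [Group G]

/-- the terms of the Puig series of `X`, inside `G` -/
def seqIn (X : Subgroup G) (n : ℕ) : Subgroup G := (Cfsg.puigSeq X n).map X.subtype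

theorem seqIn_le (X : Subgroup G) (n : ℕ) : seqIn X n ≤ X := map_subtype_le _

theorem seqIn_zero (X : Subgroup G) : seqIn X 0 = ⊥ := Subgroup.map_bot _

theorem seqIn_one (X : Subgroup G) : seqIn X 1 = X := by
  rw [seqIn, puigSeq_one, ← MonoidHom.range_eq_map, range_subtype]

theorem seqIn_succ (X : Subgroup G) (n : ℕ) :
    seqIn X (n + 1) = sSup {A : Subgroup G | A ≤ X ∧ IsMulCommutative A ∧
      seqIn X n ≤ normalizer (A : Set G)} := by
  refine le_antisymm ?_ (sSup_le ?_)
  · rw [seqIn, puigSeq_succ, Cfsg.puigStep, sSup_eq_iSup, Subgroup.map_iSup]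
    refine iSup_le fun A => ?_
    rw [Subgroup.map_iSup]
    refine iSup_le fun hA => le_sSup ⟨map_subtype_le A, ?_, ?_⟩
    · haveI := hA.1
      infer_instance
    · exact (map_mono hA.2).trans (le_normalizer_map X.subtype)
  · rintro A ⟨hAX, hAc, hAn⟩
    rw [seqIn, puigSeq_succ]
    have hA : (A.subgroupOf X).map X.subtype = A := by
      rw [subgroupOf_map_subtype, inf_eq_left.mpr hAX]
    rw [← hA]
    refine map_mono (le_sSup ⟨?_, ?_⟩)
    · haveI := hAc
      exact ⟨⟨fun a b => Subtype.ext (Subtype.ext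
        (congrArg Subtype.val (mul_comm' (⟨_, a.2⟩ : A) ⟨_, b.2⟩) :))⟩⟩
    · intro y hy
      rw [mem_normalizer_iff]
      intro a
      exact mem_normalizer_iff.mp (hAn ⟨y, hy, rfl⟩) (a : G)

theorem le_seqIn_succ {X A : Subgroup G} {n : ℕ} (hA : A ≤ X) (hc : IsMulCommutative A)
    (hn : seqIn X n ≤ normalizer (A : Set G)) : A ≤ seqIn X (n + 1) := by
  rw [seqIn_succ]; exact le_sSup ⟨hA, hc, hn⟩

theorem seqIn_succ_le {X Z : Subgroup G} {n : ℕ}
    (h : ∀ A : Subgroup G, A ≤ X → IsMulCommutative A → seqIn X n ≤ normalizer (A : Set G) → A ≤ Z) :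
    seqIn X (n + 1) ≤ Z := by
  rw [seqIn_succ]; exact sSup_le fun A hA => h A hA.1 hA.2.1 hA.2.2

/-- `L(X)` inside `G` -/
def puigIn (X : Subgroup G) : Subgroup G := (Cfsg.puigSubgroup X).map X.subtype

/-- `L_*(X)` inside `G` -/
def lowerIn (X : Subgroup G) : Subgroup G := (Cfsg.puigLower X).map X.subtype

theorem exists_stableIn [Finite G] (X : Subgroup G) : ∃ k, ∀ n, k ≤ n →
    seqIn X (2 * n) = lowerIn X ∧ seqIn X (2 * n + 1) = puigIn X := by
  obtain ⟨k, hk⟩ := exists_stable (G := X)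
  exact ⟨k, fun n hn => ⟨congrArg _ (hk n hn).1, congrArg _ (hk n hn).2⟩⟩

theorem lowerIn_le_puigIn [Finite G] (X : Subgroup G) : lowerIn X ≤ puigIn X := by
  obtain ⟨k, hk⟩ := exists_stableIn X
  rw [← (hk k le_rfl).1, ← (hk k le_rfl).2]
  exact map_mono (even_le_odd k k)

theorem puigIn_le (X : Subgroup G) : puigIn X ≤ X := map_subtype_le _

theorem seqIn_even_le_lowerIn (X : Subgroup G) (n : ℕ) : seqIn X (2 * n) ≤ lowerIn X :=
  map_mono (le_iSup (fun j => Cfsg.puigSeq X (2 * j)) n)

theorem puigIn_le_seqIn_odd (X : Subgroup G) (n : ℕ) : puigIn X ≤ seqIn X (2 * n + 1) :=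
  map_mono (iInf_le (fun j => Cfsg.puigSeq X (2 * j + 1)) n)

/-- if `L(X) ≤ U ≤ X` then `L(U) = L(X)` -/
theorem puigIn_eq_of_le [Finite G] {X U : Subgroup G} (hU : U ≤ X) (hL : puigIn X ≤ U) :
    puigIn U = puigIn X := by
  obtain ⟨k, hk⟩ := exists_stableIn X
  obtain ⟨l, hl⟩ := exists_stableIn U
  have h1 : ∀ n, seqIn X (2 * n) ≤ seqIn U (2 * n) ∧ seqIn U (2 * n + 1) ≤ seqIn X (2 * n + 1) := by
    intro n
    induction n with
    | zero => exact ⟨by rw [seqIn_zero]; exact bot_le, by rw [seqIn_one, seqIn_one]; exact hU⟩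
    | succ n ih =>
      have ha : seqIn X (2 * (n + 1)) ≤ seqIn U (2 * (n + 1)) := seqIn_succ_le fun A hA hc hn =>
        le_seqIn_succ ((le_seqIn_succ hA hc hn).trans
          ((seqIn_even_le_lowerIn X (n + 1)).trans ((lowerIn_le_puigIn X).trans hL))) hc
          (ih.2.trans hn)
      exact ⟨ha, seqIn_succ_le fun A hA hc hn => le_seqIn_succ (hA.trans hU) hc (ha.trans hn)⟩
  have h2 : ∀ n, seqIn U (2 * n) ≤ lowerIn X ∧ puigIn X ≤ seqIn U (2 * n + 1) := by
    intro n
    induction n with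
    | zero => exact ⟨by rw [seqIn_zero]; exact bot_le, by rw [seqIn_one]; exact hL⟩
    | succ n ih =>
      have ha : seqIn U (2 * (n + 1)) ≤ lowerIn X := seqIn_succ_le fun A hA hc hn => by
        rw [← (hk (k + 1) k.le_succ).1]
        exact le_seqIn_succ (n := 2 * k + 1) (hA.trans hU) hc
          ((hk k le_rfl).2.le.trans (ih.2.trans hn))
      refine ⟨ha, ?_⟩
      rw [← (hk k le_rfl).2]
      refine seqIn_succ_le fun A hA hc hn => le_seqIn_succ ?_ hc
        ((ha.trans (hk k le_rfl).1.ge).trans hn)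
      exact ((le_seqIn_succ hA hc hn).trans (hk k le_rfl).2.le).trans hL
  refine le_antisymm ?_ ?_
  · rw [← (hk (max k l) (le_max_left _ _)).2, ← (hl (max k l) (le_max_right _ _)).2]
    exact (h1 _).2
  · rw [← (hl l le_rfl).2]
    exact (h2 _).2

theorem map_seqIn {H : Type u} [Group H] {f : G →* H} {X : Subgroup G} (hf : Set.InjOn f X) (n : ℕ) :
    (seqIn X n).map f = seqIn (X.map f) n := by
  induction n with
  | zero => rw [seqIn_zero, seqIn_zero, Subgroup.map_bot]
  | succ n ih =>
    refine le_antisymm ?_ ?_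
    · rw [seqIn_succ, sSup_eq_iSup, Subgroup.map_iSup]
      refine iSup_le fun A => ?_
      rw [Subgroup.map_iSup]
      refine iSup_le fun hA => le_seqIn_succ (map_mono hA.1) ?_ ?_
      · haveI := hA.2.1
        infer_instance
      · rw [← ih]
        exact (map_mono hA.2.2).trans (le_normalizer_map f)
    · refine seqIn_succ_le fun B hB hc hn => ?_
      haveI := hc
      have hBA : (X ⊓ B.comap f).map f = B := by
        refine le_antisymm ((map_mono inf_le_right).trans (map_comap_le f B)) fun y hy => ?_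
        obtain ⟨x, hx, rfl⟩ := hB hy
        exact mem_map_of_mem f ⟨hx, hy⟩
      rw [← hBA]
      refine map_mono (le_seqIn_succ inf_le_left ⟨⟨fun a b => Subtype.ext (hf ?_ ?_ ?_)⟩⟩ ?_)
      · exact mul_mem a.2.1 b.2.1
      · exact mul_mem b.2.1 a.2.1
      · show f ((a : G) * b) = f ((b : G) * a)
        rw [map_mul, map_mul]
        exact congrArg Subtype.val (mul_comm' (⟨_, a.2.2⟩ : B) ⟨_, b.2.2⟩)
      · intro y hy
        have hyX := seqIn_le X n hy
        have hyN := hn (ih.le ⟨y, hy, rfl⟩)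
        rw [mem_normalizer_iff]
        intro a
        constructor
        · rintro ⟨haX, haB⟩
          refine ⟨Subgroup.mul_mem X (Subgroup.mul_mem X hyX haX) (Subgroup.inv_mem X hyX), ?_⟩
          show f (y * a * y⁻¹) ∈ B
          rw [map_mul, map_mul, map_inv]
          exact (mem_normalizer_iff.mp hyN _).mp haB
        · rintro ⟨haX, haB⟩
          have haX' : a ∈ X := by
            have h := mul_mem (mul_mem (inv_mem hyX) haX) hyX
            simpa [mul_assoc] using h
          refine ⟨haX', (mem_normalizer_iff.mp hyN _).mpr ?_⟩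
          have : f (y * a * y⁻¹) ∈ B := haB
          rwa [map_mul, map_mul, map_inv] at this

theorem map_puigIn [Finite G] {H : Type u} [Group H] [Finite H] {f : G →* H} {X : Subgroup G}
    (hf : Set.InjOn f X) : (puigIn X).map f = puigIn (X.map f) := by
  obtain ⟨k, hk⟩ := exists_stableIn X
  obtain ⟨l, hl⟩ := exists_stableIn (X.map f)
  rw [← (hk (max k l) (le_max_left _ _)).2, ← (hl (max k l) (le_max_right _ _)).2, map_seqIn hf]

theorem normalizer_le_normalizer_seqIn (X : Subgroup G) (n : ℕ) :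
    normalizer (X : Set G) ≤ normalizer (seqIn X n : Set G) := by
  intro g hg
  rw [← Cfsg.Lib.Coprime.conjMap_eq_self_iff] at hg ⊢
  show (seqIn X n).map (MulAut.conj g).toMonoidHom = _
  rw [map_seqIn (MulAut.conj g).injective.injOn]
  exact congrArg (fun Y => seqIn Y n) hg

theorem normalizer_le_normalizer_puigIn [Finite G] (X : Subgroup G) :
    normalizer (X : Set G) ≤ normalizer (puigIn X : Set G) := by
  obtain ⟨k, hk⟩ := exists_stableIn X
  rw [← (hk k le_rfl).2]
  exact normalizer_le_normalizer_seqIn X _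

/-- centre of `L(X)` inside `G` -/
def centerPuigIn (X : Subgroup G) : Subgroup G := puigIn X ⊓ centralizer (puigIn X : Set G)

theorem center_map_map (X : Subgroup G) :
    ((center ↥(Cfsg.puigSubgroup X)).map (Cfsg.puigSubgroup X).subtype).map X.subtype =
      centerPuigIn X := by
  ext z
  constructor
  · rintro ⟨y, ⟨c, hc, rfl⟩, rfl⟩
    refine ⟨⟨_, c.2, rfl⟩, mem_centralizer_iff.mpr ?_⟩
    rintro _ ⟨d, hd, rfl⟩
    exact congrArg (fun w : ↥(Cfsg.puigSubgroup X) => ((w : X) : G)) (mem_center_iff.mp hc ⟨d, hd⟩)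
  · rintro ⟨⟨y, hy, rfl⟩, hcz⟩
    refine ⟨y, ⟨⟨y, hy⟩, mem_center_iff.mpr fun d => Subtype.ext (Subtype.ext ?_), rfl⟩, rfl⟩
    exact mem_centralizer_iff.mp hcz _ ⟨(d : X), d.2, rfl⟩

theorem normalizer_puigIn_le (X : Subgroup G) :
    normalizer (puigIn X : Set G) ≤ normalizer (centerPuigIn X : Set G) := by
  intro g hg
  have key : ∀ g ∈ normalizer (puigIn X : Set G), ∀ x ∈ centerPuigIn X,
      g * x * g⁻¹ ∈ centerPuigIn X := by
    rintro g hg x ⟨hxJ, hxC⟩
    refine ⟨(mem_normalizer_iff.mp hg x).mp hxJ, mem_centralizer_iff.mpr fun y hy => ?_⟩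
    have h1 := mem_centralizer_iff.mp hxC _ ((mem_normalizer_iff''.mp hg y).mp hy)
    calc y * (g * x * g⁻¹) = g * ((g⁻¹ * y * g) * x) * g⁻¹ := by group
      _ = g * (x * (g⁻¹ * y * g)) * g⁻¹ := by rw [h1]
      _ = _ := by group
  exact Cfsg.Lib.Coprime.mem_normalizer_of_conj_mem (key g hg)
    fun x hx => by simpa using key g⁻¹ (inv_mem hg) x hx

theorem map_centerPuigIn [Finite G] {H : Type u} [Group H] [Finite H] {f : G →* H} {X : Subgroup G}
    (hf : Set.InjOn f X) : (centerPuigIn X).map f = centerPuigIn (X.map f) := by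
  rw [centerPuigIn, centerPuigIn, ← map_puigIn hf]
  exact Cfsg.Lib.Thompson.map_inf_centralizer (hf.mono (puigIn_le X))

theorem centralizer_seqIn_le [Finite G] {p : ℕ} [Fact p.Prime] {X : Subgroup G} (hX : IsPGroup p X)
    (n : ℕ) : X ⊓ centralizer (seqIn X (n + 1) : Set G) ≤ seqIn X (n + 1) := by
  rintro x ⟨hxX, hxC⟩
  haveI := hX.isNilpotent
  refine ⟨⟨x, hxX⟩, centralizer_step_le (G := X) (Cfsg.puigSeq X n)
    (mem_centralizer_iff.mpr fun y hy => Subtype.ext ?_), rfl⟩
  exact mem_centralizer_iff.mp hxC _ ⟨y, hy, rfl⟩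

variable [Finite G] {p : ℕ} [Fact p.Prime]

theorem le_pCore_of_puig (hodd : Odd (Nat.card G)) (hp : p ≠ 2) [Group.IsSolvable G]
    (hO : Cfsg.pPrimeCore p G = ⊥) {P A : Subgroup G} [P.Normal] (hP : IsPGroup p P)
    (hTC : Cfsg.pCore p G ⊓ centralizer (P : Set G) ≤ P)
    (hA : IsPGroup p A) [IsMulCommutative A] (hPA : P ≤ normalizer (A : Set G)) :
    A ≤ Cfsg.pCore p G :=
  (le_sSup (s := {A}) rfl).trans ((Cfsg.Agent.S1465.result hodd p hp P hP {A}
    (fun B hB => by rw [Set.mem_singleton_iff] at hB; subst hB; exact ⟨inferInstance, hA, hPA⟩)).2 hO hTC)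

/-- `L_*(S) ≤ L_*(T) ≤ L(T) ≤ L(S)` -/
theorem puig_chain (hodd : Odd (Nat.card G)) (hp : p ≠ 2) [Group.IsSolvable G]
    (hO : Cfsg.pPrimeCore p G = ⊥) (S : Sylow p G) :
    lowerIn (S : Subgroup G) ≤ lowerIn (Cfsg.pCore p G) ∧
      puigIn (Cfsg.pCore p G) ≤ puigIn (S : Subgroup G) := by
  set T := Cfsg.pCore p G
  have hTS : T ≤ S := Cfsg.Lib.Coprime.pCore_le_sylow p S
  have hTp : IsPGroup p T := Cfsg.Lib.Components.isPGroup_pCore p
  have hind : ∀ n, seqIn (S : Subgroup G) (2 * n) ≤ seqIn T (2 * n) ∧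
      seqIn T (2 * n + 1) ≤ seqIn (S : Subgroup G) (2 * n + 1) := by
    intro n
    induction n with
    | zero => exact ⟨by rw [seqIn_zero]; exact bot_le, by rw [seqIn_one, seqIn_one]; exact hTS⟩
    | succ n ih =>
      haveI : (seqIn T (2 * n + 1)).Normal := by
        rw [← normalizer_eq_top_iff, eq_top_iff]
        exact (normalizer_eq_top T).ge.trans (normalizer_le_normalizer_seqIn T _)
      have ha : seqIn (S : Subgroup G) (2 * (n + 1)) ≤ seqIn T (2 * (n + 1)) :=
        seqIn_succ_le fun A hA hc hn => by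
          haveI := hc
          refine le_seqIn_succ ?_ hc (ih.2.trans hn)
          exact le_pCore_of_puig hodd hp hO (hTp.to_le (seqIn_le T _))
            (centralizer_seqIn_le hTp (2 * n)) (S.2.to_le hA) (ih.2.trans hn)
      exact ⟨ha, seqIn_succ_le fun A hA hc hn => le_seqIn_succ (hA.trans hTS) hc (ha.trans hn)⟩
  obtain ⟨k, hk⟩ := exists_stableIn (S : Subgroup G)
  obtain ⟨l, hl⟩ := exists_stableIn T
  rw [← (hk (max k l) (le_max_left _ _)).1, ← (hl (max k l) (le_max_right _ _)).1,
    ← (hk (max k l) (le_max_left _ _)).2, ← (hl (max k l) (le_max_right _ _)).2]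
  exact hind _

/-- Puig's theorem: `Z(L(S))` is normal -/
theorem centerPuig_normal (hodd : Odd (Nat.card G)) (hp : p ≠ 2) [Group.IsSolvable G]
    (hO : Cfsg.pPrimeCore p G = ⊥) (S : Sylow p G) : (centerPuigIn (S : Subgroup G)).Normal := by
  set T := Cfsg.pCore p G
  have hTp : IsPGroup p T := Cfsg.Lib.Components.isPGroup_pCore p
  obtain ⟨hlow, hup⟩ := puig_chain hodd hp hO S
  set Z := centerPuigIn (S : Subgroup G) with hZdef
  set W := centerPuigIn T with hWdef
  have hWle : W ≤ T := inf_le_left.trans (puigIn_le T)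
  haveI : W.Normal := by
    rw [← normalizer_eq_top_iff, eq_top_iff]
    exact ((normalizer_eq_top T).ge.trans (normalizer_le_normalizer_puigIn T)).trans
      (normalizer_puigIn_le T)
  haveI : IsMulCommutative W :=
    ⟨⟨fun a b => Subtype.ext (mem_centralizer_iff.mp b.2.2 a a.2.1)⟩⟩
  obtain ⟨k, hk⟩ := exists_stableIn (S : Subgroup G)
  have hZW : Z ≤ W := by
    intro z hz
    have h1 : z ∈ (S : Subgroup G) ⊓ centralizer (seqIn (S : Subgroup G) (2 * k + 1 + 1) : Set G) := by
      refine ⟨puigIn_le _ hz.1, centralizer_le ?_ hz.2⟩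
      rw [show 2 * k + 1 + 1 = 2 * (k + 1) by ring, (hk (k + 1) k.le_succ).1]
      exact lowerIn_le_puigIn _
    have h2 := centralizer_seqIn_le S.2 _ h1
    rw [show 2 * k + 1 + 1 = 2 * (k + 1) by ring, (hk (k + 1) k.le_succ).1] at h2
    exact ⟨lowerIn_le_puigIn T (hlow h2), centralizer_le hup hz.2⟩
  set C := centralizer (W : Set G) with hC
  set M := (Cfsg.pCore p (G ⧸ C)).comap (QuotientGroup.mk' C)
  have hLM : puigIn (S : Subgroup G) ≤ (S : Subgroup G) ⊓ M := by
    rw [← (hk k le_rfl).2]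
    refine seqIn_succ_le fun A hA hc hn => le_inf hA fun a ha => ?_
    haveI := hc
    have hWA : W ≤ normalizer (A : Set G) := by
      refine le_trans ?_ hn
      rcases k with _ | j
      · rw [show W = ⊥ from ?_]
        · exact bot_le
        · have h0 := (hk 0 le_rfl)
          have h1 : puigIn T ≤ ⊥ := by
            have h2 : seqIn (S : Subgroup G) (2 * 1) = ⊥ := by
              rw [(hk 1 (by omega)).1, ← h0.1, seqIn_zero]
            refine le_trans (hup.trans ?_) h2.le
            rw [← h0.2, seqIn_one]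
            haveI := S.2.isNilpotent
            by_contra hne
            have hne' : (S : Subgroup G) ≠ ⊥ := fun h => hne (h ▸ bot_le)
            haveI := (nontrivial_iff_ne_bot _).mpr hne'
            obtain ⟨z, hz, hz1⟩ := (bot_or_exists_ne_one _).resolve_left
              (Group.IsNilpotent.center_ne_bot (S : Subgroup G))
            have h3 : zpowers (z : G) ≤ seqIn (S : Subgroup G) (2 * 1) :=
              le_seqIn_succ (n := 1) (zpowers_le.mpr z.2) inferInstance (by
                rw [seqIn_one]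
                intro s hs
                refine (Cfsg.Lib.ZJ.centralizer_le_normalizer' _) (mem_centralizer_iff.mpr ?_)
                rintro _ ⟨i, rfl⟩
                exact ((show Commute (z : G) s from
                  (congrArg Subtype.val (mem_center_iff.mp hz ⟨s, hs⟩)).symm).zpow_left i).eq)
            rw [h2, zpowers_le, mem_bot] at h3
            exact hz1 (Subtype.ext h3)
          exact le_bot_iff.mp ((inf_le_left : W ≤ puigIn T).trans h1)
      · exact le_seqIn_succ (n := 2 * j + 1) (hWle.trans (Cfsg.Lib.Coprime.pCore_le_sylow p S))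
          inferInstance ((seqIn_le _ _).trans le_normalizer_of_normal)
    exact Cfsg.Lib.CN.stable_of_odd hodd hp W (hTp.to_le hWle) a (S.2.to_le (zpowers_le.mpr (hA ha)))
      (Cfsg.Lib.OddP.quad_of_abelian hWA ha)
  have hN : normalizer (((S : Subgroup G) ⊓ M : Subgroup G) : Set G) ≤ normalizer (Z : Set G) := by
    refine (normalizer_le_normalizer_puigIn _).trans ?_
    rw [puigIn_eq_of_le inf_le_left hLM]
    exact normalizer_puigIn_le _
  rw [← normalizer_eq_top_iff, eq_top_iff, ← Cfsg.Lib.ZJ.sup_normalizer_eq_top S C]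
  refine sup_le (le_trans ?_ (Cfsg.Lib.ZJ.centralizer_le_normalizer' Z)) hN
  exact centralizer_le hZW

end Cfsg.Lib.Puig
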