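import Cfsg.Agent.OddLocal.MinSimpleTransitivity

/-!
# Transitivity along a subnormal chain
-/

set_option linter.unusedSectionVars false
set_option linter.style.haveILetI false

namespace Cfsg.Lib.OddLocal.SubnormalTransitivity

open Subgroup
open Transitivity (ConjUnder)
open MinSimpleTransitivity (K)
open Cfsg.Lib.Coprime (conjMap)
open scoped commutatorElement

universe u

variable {G : Type u} [Group G] [Finite G] {A B B' : Subgroup G} {q : ℕ} [hq : Fact q.Prime]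

theorem mem_max_conj_normalizer {Q : Subgroup G} (hQ : Q ∈ Cfsg.maxInvSubgroups ⊤ B {q}) {c : G}
    (hc : c ∈ normalizer (B : Set G)) : conjMap c Q ∈ Cfsg.maxInvSubgroups ⊤ B {q} := by
  have hinv : ∀ d ∈ normalizer (B : Set G), ∀ R ∈ Cfsg.invSubgroups ⊤ B {q},
      conjMap d R ∈ Cfsg.invSubgroups ⊤ B {q} := by
    intro d hd R hR
    obtain ⟨hp, hn⟩ := Transitivity.mem_inv_iff.mp hR
    refine Transitivity.mem_inv_iff.mpr ⟨hp.map _, ?_⟩
    rw [← Cfsg.Lib.Coprime.conjMap_eq_self hd, Cfsg.Lib.Coprime.normalizer_conjMap]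
    exact Cfsg.Lib.Coprime.conjMap_mono hn
  refine ⟨hinv c hc Q hQ.1, fun R hR hle => ?_⟩
  have h1 := hQ.2 _ (hinv _ (inv_mem hc) R hR)
    (by simpa [Cfsg.Lib.Coprime.conjMap_inv_conjMap] using
      Cfsg.Lib.Coprime.conjMap_mono (g := c⁻¹) hle)
  rw [← h1, Cfsg.Lib.Coprime.conjMap_conjMap_inv]

variable (hG : Cfsg.IsMinSimpleOddOrder G) (hA : Cfsg.TransitivityHypothesis A)

include hG hA in
theorem core_inf (hAB : A ≤ B) :
    K A ⊓ centralizer (B : Set G) =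
      Cfsg.piCoreOf (Cfsg.primesNotDvd (Nat.card A)) (centralizer (B : Set G)) := by
  have hCB : centralizer (B : Set G) ≤ centralizer (A : Set G) := centralizer_le hAB
  refine le_antisymm (PiCoreOf.le_piCoreOf inf_le_right
    (Cfsg.Lib.Coprime.le_normalizer_inf (hCB.trans (PiCoreOf.le_normalizer' _ _)) le_normalizer)
    fun r hr hrd => PiCoreOf.isPi _ _ r hr (hrd.trans (card_dvd_of_le inf_le_left)))
    fun c hc => ⟨MinSimpleTransitivity.mem_K hG hA (hCB (PiCoreOf.le _ _ hc)) ?_, PiCoreOf.le _ _ hc⟩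
  refine Nat.Coprime.symm ((PiCoreOf.coprime_card (Nat.card A) (centralizer (B : Set G))).coprime_dvd_right ?_)
  rw [← orderOf_mk c hc]
  exact orderOf_dvd_natCard _

theorem coprime_of_piNat {X : Subgroup G} {n : ℕ}
    (hB : ∀ r : ℕ, r.Prime → r ∣ Nat.card B → r ∣ n) (hX : n.Coprime (Nat.card X)) :
    (Nat.card B).Coprime (Nat.card X) :=
  Nat.coprime_of_dvd fun r hr hrB hrX => hr.not_dvd_one (hX ▸ Nat.dvd_gcd (hB r hr hrB) hrX)

include hG hA in
/-- A nontrivial maximal invariant subgroup of an overgroup is maximal for `A`. -/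
theorem mem_max_of_ne_bot (hqA : ¬ q ∣ Nat.card A) (hAB : A ≤ B) (hBt : B ≠ ⊤)
    (hBπ : ∀ r : ℕ, r.Prime → r ∣ Nat.card B → r ∣ Nat.card A) {Q : Subgroup G}
    (hQ : Q ∈ Cfsg.maxInvSubgroups ⊤ B {q}) (hQ1 : Q ≠ ⊥) :
    Q ∈ Cfsg.maxInvSubgroups ⊤ A {q} := by
  obtain ⟨hQp, hBQ⟩ := Transitivity.mem_inv_iff.mp hQ.1
  have hQt : Q ≠ ⊤ := fun h => hA.2.1 (top_le_iff.mp fun g _ => by
    exfalso
    obtain ⟨a, ha, ha1⟩ := (ne_bot_iff_exists_ne_one.mp hA.1 : ∃ a : A, a ≠ 1) |>.elim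
      fun a ha => (⟨a.1, a.2, fun h' => ha (Subtype.ext h')⟩ : ∃ a ∈ A, a ≠ (1 : G))
    exact ha1 (Cfsg.Lib.Coprime.eq_one_of_coprime (N := A) (H := Q)
      (MinSimpleTransitivity.coprime_of_isPGroup hqA hQp) ha (h ▸ mem_top a)))
  set X := normalizer (Q : Set G) with hX
  have hXt : X ≠ ⊤ := MinSimpleTransitivity.normalizer_ne_top hG hQ1 hQt
  set M := Cfsg.piCoreOf (Cfsg.primesNotDvd (Nat.card A)) X with hM
  have hBM : B ≤ normalizer (M : Set G) := hBQ.trans (PiCoreOf.le_normalizer' _ X)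
  have hcop : (Nat.card A).Coprime (Nat.card M) := PiCoreOf.coprime_card _ _
  have hQM : Q ≤ M := MinSimpleTransitivity.le_core hA hXt (hAB.trans hBQ) le_normalizer
    (MinSimpleTransitivity.coprime_of_isPGroup hqA hQp) (hAB.trans hBQ)
  obtain ⟨T, hQT, hBT⟩ := Cfsg.Lib.Coprime.exists_invariant_sylow_ge hBM (coprime_of_piNat hBπ hcop)
    (Or.inl (hG.2.2.2 B hBt)) q hQM hQp hBQ
  have hTQ : (T : Subgroup M).map M.subtype = Q :=
    hQ.2 _ (Transitivity.mem_inv_iff.mpr ⟨T.2.map _, hBT⟩) hQT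
  refine ⟨Transitivity.mem_inv_iff.mpr ⟨hQp, hAB.trans hBQ⟩, fun R hR hQR => ?_⟩
  obtain ⟨hRp, hAR⟩ := Transitivity.mem_inv_iff.mp hR
  by_contra hne
  haveI : Group.IsNilpotent R := hRp.isNilpotent
  obtain ⟨x, hx, hxn⟩ := SetLike.exists_of_lt
    ((Group.normalizerCondition_of_isNilpotent (G := R)) (Q.subgroupOf R) (by
      rw [lt_top_iff_ne_top, ne_eq, subgroupOf_eq_top]
      exact fun h => hne (le_antisymm h hQR)))
  apply hxn
  have hxX : (x : G) ∈ R ⊓ X := ⟨x.2, by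
    refine mem_normalizer_iff.mpr fun y => ⟨fun hy => ?_, fun hy => ?_⟩
    · exact (mem_normalizer_iff.mp hx ⟨y, hQR hy⟩).mp hy
    · have hyR : y ∈ R := by
        have := mul_mem (mul_mem (inv_mem x.2) (hQR hy)) x.2
        simpa [mul_assoc] using this
      exact (mem_normalizer_iff.mp hx ⟨y, hyR⟩).mpr hy⟩
  have hRM : R ⊓ X ≤ M := MinSimpleTransitivity.le_core hA hXt (hAB.trans hBQ) inf_le_right
    (MinSimpleTransitivity.coprime_of_isPGroup hqA (hRp.to_le inf_le_left))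
    (Cfsg.Lib.Coprime.le_normalizer_inf hAR ((hAB.trans hBQ).trans le_normalizer))
  have hmax : (R ⊓ X).subgroupOf M = (T : Subgroup M) :=
    T.3 ((hRp.to_le inf_le_left).comap_subtype) fun t ht =>
      mem_subgroupOf.mpr ⟨hQR (hTQ ▸ mem_map_of_mem M.subtype ht),
        le_normalizer (hTQ ▸ mem_map_of_mem M.subtype ht)⟩
  rw [mem_subgroupOf, ← hTQ]
  exact ⟨⟨x, hRM hxX⟩, hmax ▸ hxX, rfl⟩

/-- The induction statement. -/
def Trans (A B : Subgroup G) (q : ℕ) : Prop :=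
  Cfsg.maxInvSubgroups ⊤ B {q} ⊆ Cfsg.maxInvSubgroups ⊤ A {q} ∧
    ∀ Q₁ ∈ Cfsg.maxInvSubgroups ⊤ B {q}, ∀ Q₂ ∈ Cfsg.maxInvSubgroups ⊤ B {q},
      ConjUnder (K A ⊓ centralizer (B : Set G)) Q₁ Q₂

include hG hA in
theorem step (hqA : ¬ q ∣ Nat.card A) (hAB : A ≤ B) (hBB' : B ≤ B')
    (hn : B' ≤ normalizer (B : Set G)) (hB't : B' ≠ ⊤)
    (hB'π : ∀ r : ℕ, r.Prime → r ∣ Nat.card B' → r ∣ Nat.card A) (hB : Trans A B q) :
    Trans A B' q := by
  set π := Cfsg.primesNotDvd (Nat.card A) with hπ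
  set K₁ := Cfsg.piCoreOf π (centralizer (B : Set G)) with hK₁
  have hKeq : K A ⊓ centralizer (B : Set G) = K₁ := core_inf hG hA hAB
  have hK₁C : K₁ ≤ centralizer (B : Set G) := PiCoreOf.le _ _
  have hB'K : B' ≤ normalizer (K₁ : Set G) := by
    refine le_trans ?_ (PiCoreOf.normalizer_le _ _)
    intro x hx
    refine Cfsg.Lib.Coprime.conjMap_eq_self_iff.mp (Cfsg.Lib.Coprime.eq_of_le_of_card_eq ?_
      (Cfsg.Lib.Coprime.card_conjMap _ _))
    intro y hy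
    rw [Cfsg.Lib.Coprime.mem_conjMap] at hy
    refine mem_centralizer_iff.mpr fun b hb => ?_
    have h1 := mem_centralizer_iff.mp hy (x⁻¹ * b * x) (by
      simpa using (mem_normalizer_iff.mp (hn (inv_mem hx)) b).mp hb)
    calc b * y = x * ((x⁻¹ * b * x) * (x⁻¹ * y * x)) * x⁻¹ := by group
      _ = x * ((x⁻¹ * y * x) * (x⁻¹ * b * x)) * x⁻¹ := by rw [h1]
      _ = y * b := by group
  set L := K₁ ⊔ B' with hL
  have hLN : L ≤ normalizer (B : Set G) := sup_le (hK₁C.trans (centralizer_le_normalizer _)) hn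
  letI : MulAction L {Q // Q ∈ Cfsg.maxInvSubgroups ⊤ B {q}} :=
    { smul := fun l Q => ⟨conjMap (l : G) Q.1, mem_max_conj_normalizer Q.2 (hLN l.2)⟩
      one_smul := fun Q => Subtype.ext (Cfsg.Lib.Coprime.conjMap_one Q.1)
      mul_smul := fun a b Q => Subtype.ext (Cfsg.Lib.Coprime.conjMap_mul (a : G) b Q.1).symm }
  haveI : (K₁.subgroupOf L).Normal :=
    normal_subgroupOf_of_le_normalizer (sup_le le_normalizer hB'K)
  have hcop : (Nat.card B').Coprime (Nat.card K₁) :=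
    coprime_of_piNat hB'π (PiCoreOf.coprime_card _ _)
  have hcK : Nat.card (K₁.subgroupOf L) = Nat.card K₁ :=
    Nat.card_congr (subgroupOfEquivOfLe le_sup_left).toEquiv
  have hcB : Nat.card (B'.subgroupOf L) = Nat.card B' :=
    Nat.card_congr (subgroupOfEquivOfLe le_sup_right).toEquiv
  have hcompl : IsComplement' (K₁.subgroupOf L) (B'.subgroupOf L) := by
    refine isComplement'_of_coprime ?_ (by rw [hcK, hcB]; exact hcop.symm)
    rw [hcK, hcB]
    exact (Cfsg.Lib.Coprime.card_sup_coprime hB'K hcop.symm).symm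
  have htrans : ∀ x y : {Q // Q ∈ Cfsg.maxInvSubgroups ⊤ B {q}}, ∃ k ∈ K₁.subgroupOf L, k • x = y := by
    rintro ⟨x, hx⟩ ⟨y, hy⟩
    obtain ⟨k, hk, hky⟩ := hB.2 x hx y hy
    rw [hKeq] at hk
    exact ⟨⟨k, mem_sup_left hk⟩, hk, Subtype.ext hky.symm⟩
  have hsolB : Group.IsSolvable (B'.subgroupOf L) := by
    haveI := hG.2.2.2 B' hB't
    exact Group.isSolvable_of_isSolvable_injective (f := (subgroupOfEquivOfLe
      (le_sup_right : B' ≤ L)).toMonoidHom) (MulEquiv.injective _)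
  obtain ⟨Q₀, hQ₀, -⟩ := Transitivity.exists_max (A := B) (q := q) (Y := ⊥) IsPGroup.of_bot
    (fun b _ => by rw [normalizer_eq_top]; exact mem_top b)
  obtain ⟨Z, hZ⟩ := Cfsg.Lib.Coprime.exists_fixed_point hcompl
    (by rw [hcompl.symm.index_eq_card, hcK, hcB]; exact hcop.symm) (Or.inr hsolB) htrans
    ⟨Q₀, hQ₀⟩
  have hBinv : ∀ Q ∈ Cfsg.invSubgroups ⊤ B' {q}, Q ∈ Cfsg.invSubgroups ⊤ B {q} := fun Q hQ =>
    ⟨hQ.1, hQ.2.1, hBB'.trans hQ.2.2⟩
  have hZinv : Z.1 ∈ Cfsg.invSubgroups ⊤ B' {q} := Transitivity.mem_inv_iff.mpr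
    ⟨(Transitivity.mem_inv_iff.mp Z.2.1).1, fun b hb => Cfsg.Lib.Coprime.conjMap_eq_self_iff.mp
      (congrArg Subtype.val (hZ ⟨b, mem_sup_right hb⟩ hb))⟩
  have hB'B : Cfsg.maxInvSubgroups ⊤ B' {q} ⊆ Cfsg.maxInvSubgroups ⊤ B {q} := by
    intro Q hQ
    rcases eq_or_ne Q ⊥ with rfl | hQ1
    · exact (hQ.2 _ hZinv bot_le) ▸ Z.2
    · have h1 := mem_max_of_ne_bot hG hA hqA (hAB.trans hBB') hB't hB'π hQ hQ1
      exact ⟨hBinv Q hQ.1, fun R hR hle => h1.2 R ⟨hR.1, hR.2.1, hAB.trans hR.2.2⟩ hle⟩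
  refine ⟨hB'B.trans hB.1, fun Q₁ h₁ Q₂ h₂ => ?_⟩
  have hfix : ∀ Q : Subgroup G, ∀ hQ : Q ∈ Cfsg.maxInvSubgroups ⊤ B' {q},
      ∀ h ∈ B'.subgroupOf L, h • (⟨Q, hB'B hQ⟩ : {Q // Q ∈ Cfsg.maxInvSubgroups ⊤ B {q}}) =
        ⟨Q, hB'B hQ⟩ :=
    fun Q hQ h hh => Subtype.ext (Cfsg.Lib.Coprime.conjMap_eq_self (hQ.1.2.2 hh))
  obtain ⟨k, hk, hkQ⟩ := Cfsg.Lib.Coprime.fixed_point_conj (by rw [hcK, hcB]; exact hcop)
    (Or.inl hsolB) htrans (hfix Q₁ h₁) (hfix Q₂ h₂)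
  obtain ⟨hk1, hk2⟩ := mem_inf.mp hk
  refine ⟨(k : G), ⟨?_, mem_centralizer_iff.mpr fun b hb =>
    congrArg Subtype.val (mem_centralizer_iff.mp hk2 ⟨b, mem_sup_right hb⟩ hb)⟩,
    (congrArg Subtype.val hkQ).symm⟩
  exact (hKeq.ge hk1).1

include hG hA in
theorem trans_of_subnormal (hqA : ¬ q ∣ Nat.card A) {P : Subgroup G} (hPt : P ≠ ⊤)
    (hPπ : ∀ r : ℕ, r.Prime → r ∣ Nat.card P → r ∣ Nat.card A) (hAP : A ≤ P)
    (hsn : (A.subgroupOf P).IsSubnormal) (hA' : Trans A A q) : Trans A P q := by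
  suffices h : ∀ H : Subgroup P, H.IsSubnormal → A ≤ H.map P.subtype →
      Trans A (H.map P.subtype) q → Trans A P q by
    have e : (A.subgroupOf P).map P.subtype = A := by rw [subgroupOf_map_subtype, inf_eq_left.mpr hAP]
    exact h _ hsn e.ge (e.symm ▸ hA')
  intro H hH
  induction hH with
  | top => intro _ h; rwa [← MonoidHom.range_eq_map, range_subtype] at h
  | step H₁ K₁ hle _ hN ih =>
    intro hA1 h
    refine ih (hA1.trans (map_mono hle)) (step hG hA hqA hA1 (map_mono hle) ?_ ?_ ?_ h)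
    · haveI := hN
      refine le_trans (map_mono ?_) (le_normalizer_map P.subtype)
      exact normal_subgroupOf_iff_le_normalizer hle |>.mp hN
    · exact fun ht => hPt (top_le_iff.mp (ht.ge.trans (map_subtype_le _)))
    · exact fun r hr hrd => hPπ r hr (hrd.trans (card_dvd_of_le (map_subtype_le _)))

include hG hA in
/-- The subnormal transitivity theorem. -/
theorem conclusion (hqA : ¬ q ∣ Nat.card A) {P : Subgroup G} (hPt : P ≠ ⊤)
    (hPπ : ∀ r : ℕ, r.Prime → r ∣ Nat.card P → r ∣ Nat.card A) (hAP : A ≤ P)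
    (hsn : (A.subgroupOf P).IsSubnormal)
    (htr : ∀ Q₁ ∈ Cfsg.maxInvSubgroups ⊤ A {q}, ∀ Q₂ ∈ Cfsg.maxInvSubgroups ⊤ A {q},
      ConjUnder (K A) Q₁ Q₂) :
    K A ⊓ centralizer (P : Set G) =
        Cfsg.piCoreOf (Cfsg.primesNotDvd (Nat.card A)) (centralizer (P : Set G)) ∧
      (∀ Q₁ ∈ Cfsg.maxInvSubgroups ⊤ P {q}, ∀ Q₂ ∈ Cfsg.maxInvSubgroups ⊤ P {q},
        ConjUnder (Cfsg.piCoreOf (Cfsg.primesNotDvd (Nat.card A)) (centralizer (P : Set G))) Q₁ Q₂) ∧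
      Cfsg.maxInvSubgroups ⊤ P {q} ⊆ Cfsg.maxInvSubgroups ⊤ A {q} ∧
      ∀ Q ∈ Cfsg.maxInvSubgroups ⊤ P {q},
        P ⊓ ⁅normalizer (P : Set G), normalizer (P : Set G)⁆ ≤
            ⁅normalizer (Q : Set G), normalizer (Q : Set G)⁆ ∧
          normalizer (P : Set G) =
            Cfsg.piCoreOf (Cfsg.primesNotDvd (Nat.card A)) (centralizer (P : Set G)) ⊔
              (normalizer (P : Set G) ⊓ normalizer (Q : Set G)) := by
  have hA' : Trans A A q := ⟨subset_rfl, fun Q₁ h₁ Q₂ h₂ => by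
    rw [inf_eq_left.mpr (PiCoreOf.le _ _ : K A ≤ centralizer (A : Set G))]
    exact htr Q₁ h₁ Q₂ h₂⟩
  obtain ⟨hsub, htrP⟩ := trans_of_subnormal hG hA hqA hPt hPπ hAP hsn hA'
  have hKeq := core_inf hG hA hAP
  rw [hKeq] at htrP
  refine ⟨hKeq, htrP, hsub, fun Q hQ => ?_⟩
  set N := normalizer (P : Set G) with hN
  set KP := Cfsg.piCoreOf (Cfsg.primesNotDvd (Nat.card A)) (centralizer (P : Set G)) with hKP
  set N₀ := N ⊓ normalizer (Q : Set G) with hN₀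
  have hKN : KP ≤ N := (PiCoreOf.le _ _).trans (centralizer_le_normalizer _)
  have hfr : N = KP ⊔ N₀ := by
    refine le_antisymm (fun g hg => ?_) (sup_le hKN inf_le_left)
    obtain ⟨k, hk, hkQ⟩ := htrP Q hQ _ (mem_max_conj_normalizer hQ hg)
    have h1 : k⁻¹ * g ∈ normalizer (Q : Set G) := Cfsg.Lib.Coprime.conjMap_eq_self_iff.mp (by
      rw [← Cfsg.Lib.Coprime.conjMap_mul, hkQ]
      exact Cfsg.Lib.Coprime.conjMap_inv_conjMap k Q)
    rw [show g = k * (k⁻¹ * g) by group]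
    exact mul_mem_sup hk (mem_inf.mpr ⟨N.mul_mem (N.inv_mem (hKN hk)) hg, h1⟩)
  refine ⟨?_, hfr⟩
  have hNK : N ≤ normalizer (KP : Set G) := by
    refine le_trans (fun x hx => ?_) (PiCoreOf.normalizer_le _ _)
    refine Cfsg.Lib.Coprime.conjMap_eq_self_iff.mp (Cfsg.Lib.Coprime.eq_of_le_of_card_eq ?_
      (Cfsg.Lib.Coprime.card_conjMap _ _))
    intro y hy
    rw [Cfsg.Lib.Coprime.mem_conjMap] at hy
    refine mem_centralizer_iff.mpr fun b hb => ?_
    have h1 := mem_centralizer_iff.mp hy (x⁻¹ * b * x) (by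
      simpa using (mem_normalizer_iff.mp ((normalizer (P : Set G)).inv_mem hx) b).mp hb)
    calc b * y = x * ((x⁻¹ * b * x) * (x⁻¹ * y * x)) * x⁻¹ := by group
      _ = x * ((x⁻¹ * y * x) * (x⁻¹ * b * x)) * x⁻¹ := by rw [h1]
      _ = y * b := by group
  haveI : (KP.subgroupOf N).Normal := normal_subgroupOf_of_le_normalizer hNK
  set f := QuotientGroup.mk' (KP.subgroupOf N) with hf
  have hsplit : (⊤ : Subgroup N) = KP.subgroupOf N ⊔ N₀.subgroupOf N := by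
    rw [← subgroupOf_sup hKN inf_le_left, ← hfr, subgroupOf_self]
  have hcomm : ⁅N, N⁆ ≤ KP ⊔ ⁅N₀, N₀⁆ := by
    have htop : (⊤ : Subgroup N).map f = (N₀.subgroupOf N).map f := by
      rw [hsplit, Subgroup.map_sup, show (KP.subgroupOf N).map f = ⊥ from
        (Subgroup.map_eq_bot_iff _).mpr (le_of_eq (QuotientGroup.ker_mk' _).symm), bot_sup_eq]
    have h1 : Subgroup.map f ⁅(⊤ : Subgroup N), (⊤ : Subgroup N)⁆ =
        Subgroup.map f ⁅N₀.subgroupOf N, N₀.subgroupOf N⁆ := by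
      rw [map_commutator, map_commutator, htop]
    have h2 : ⁅(⊤ : Subgroup N), ⊤⁆ ≤ ⁅N₀.subgroupOf N, N₀.subgroupOf N⁆ ⊔ KP.subgroupOf N := by
      have h3 := (map_le_iff_le_comap.mp h1.le)
      rwa [comap_map_eq, QuotientGroup.ker_mk'] at h3
    have h4 := map_mono (f := N.subtype) h2
    rw [map_commutator, ← MonoidHom.range_eq_map, range_subtype, Subgroup.map_sup, map_commutator,
      subgroupOf_map_subtype, subgroupOf_map_subtype, inf_eq_left.mpr (inf_le_left : N₀ ≤ N),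
      inf_eq_left.mpr hKN, sup_comm] at h4
    exact h4
  intro x hx
  obtain ⟨hxP, hxc⟩ := mem_inf.mp hx
  have hN₀K : ⁅N₀, N₀⁆ ≤ normalizer (KP : Set G) :=
    (commutator_le_self N₀).trans (inf_le_left.trans hNK)
  obtain ⟨k, hk, y, hy, rfl⟩ := (Cfsg.Lib.Coprime.mem_sup_of_le_normalizer hN₀K).mp (hcomm hxc)
  have hyQ : y ∈ ⁅normalizer (Q : Set G), normalizer (Q : Set G)⁆ :=
    commutator_mono inf_le_right inf_le_right hy
  have hkc := mem_centralizer_iff.mp (PiCoreOf.le _ _ hk) (k * y) hxP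
  set x := k * y
  set n := orderOf k
  have hcomm' : Commute k⁻¹ x := (show Commute k x from hkc.symm).inv_left
  have hxn : x ^ n ∈ ⁅normalizer (Q : Set G), normalizer (Q : Set G)⁆ := by
    have h1 : y ^ n = x ^ n := by
      rw [show y = k⁻¹ * x by rw [inv_mul_cancel_left], hcomm'.mul_pow, inv_pow,
        pow_orderOf_eq_one, inv_one, one_mul]
    exact h1 ▸ pow_mem hyQ n
  have hcop : n.Coprime (orderOf x) := by
    refine Nat.coprime_of_dvd fun r hr h1 h2 => ?_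
    have h3 : r ∣ Nat.card P :=
      h2.trans ((orderOf_mk x hxP) ▸ orderOf_dvd_natCard (⟨x, hxP⟩ : P))
    have h4 : r ∣ Nat.card KP :=
      h1.trans (by simp only [n]; rw [← orderOf_mk k hk]; exact orderOf_dvd_natCard _)
    exact (PiCoreOf.isPi _ _ r hr h4).2 (hPπ r hr h3)
  obtain ⟨m, hm⟩ := exists_pow_eq_self_of_coprime hcop
  exact hm ▸ pow_mem hxn m

end Cfsg.Lib.OddLocal.SubnormalTransitivity
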