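import Cfsg.Agent.OddLocal.BenderMinSimple
import Cfsg.Agent.OddLocal.SubnormalTransitivity
import Cfsg.Agent.OddLocal.PuigIn
import Cfsg.Agent.Components.Misc.NilSubnormal

/-!
# Subgroups of rank three in the Fitting subgroup of a maximal subgroup
-/

set_option linter.unusedSectionVars false
set_option linter.style.haveILetI false

namespace Cfsg.Lib.OddLocal.FittingUniqueness

open Subgroup
open FittingParts (O Z)

universe u

variable {G : Type u} [Group G] [Finite G] {M A : Subgroup G}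

theorem normalizer_le_coatom (hG : Cfsg.IsMinSimpleOddOrder G) (hM : IsCoatom M) {D : Subgroup G}
    (h1 : D ≠ ⊥) (h2 : D ≠ ⊤) (h3 : M ≤ normalizer (D : Set G)) : normalizer (D : Set G) = M := by
  rcases h3.lt_or_eq with h | h
  · exact absurd (hM.2 _ h) (MinSimpleTransitivity.normalizer_ne_top hG h1 h2)
  · exact h.symm

theorem ne_top_of_le_coatom (hM : IsCoatom M) {D : Subgroup G} (h : D ≤ M) : D ≠ ⊤ :=
  fun ht => hM.1 (top_le_iff.mp (ht ▸ h))

theorem not_rankLE {p : ℕ} (hp : p.Prime) {k : ℕ} {E X : Subgroup G}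
    (hE : Cfsg.IsElementaryAbelian p E) (hEk : p ^ (k + 1) ≤ Nat.card E) (hEX : E ≤ X) :
    ¬ Cfsg.RankLE k X := fun h => by
  have h1 := h p hp (E.subgroupOf X)
    ⟨⟨fun a b => Subtype.ext (Subtype.ext (ThompsonTransitivity.mul_comm_of hE.1 a.2 b.2))⟩⟩
    (fun a ha => Subtype.ext (by simpa using hE.2 a ha))
  rw [Nat.card_congr (subgroupOfEquivOfLe hEX).toEquiv] at h1
  exact absurd (hEk.trans h1) (not_le.mpr (Nat.pow_lt_pow_right hp.one_lt k.lt_succ_self))

/-- Invariant subgroups of coprime order are trivial, for subnormal subgroups of the Fitting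
subgroup. -/
theorem inv_trivial (hG : Cfsg.IsMinSimpleOddOrder G) (hM : IsCoatom M)
    (hA : Cfsg.TransitivityHypothesis A) (hAF : A ≤ Cfsg.fittingOf M)
    (hπ : ∀ r : ℕ, r.Prime → r ∣ Nat.card (Cfsg.fittingOf M) → r ∣ Nat.card A)
    (hZ : ¬ Cfsg.RankLE 2 ↥(A ⊓ centralizer (A : Set G))) {Y : Subgroup G}
    (hY : (Nat.card A).Coprime (Nat.card Y)) (hAY : A ≤ normalizer (Y : Set G)) : Y = ⊥ := by
  set F := Cfsg.fittingOf M with hF
  haveI := hG.2.2.2 M hM.1
  have hsolA := MinSimpleTransitivity.isSolvable hG hA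
  have hFM : F ≤ M := FittingParts.fittingOf_le M
  have hFt : F ≠ ⊤ := ne_top_of_le_coatom hM hFM
  have hF1 : F ≠ ⊥ := fun h => hA.1 (le_bot_iff.mp (h ▸ hAF))
  have hMF : M ≤ normalizer (F : Set G) := FittingParts.le_normalizer_fittingOf M
  have hNF : normalizer (F : Set G) = M := normalizer_le_coatom hG hM hF1 hFt hMF
  haveI : Group.IsNilpotent F :=
    Cfsg.Lib.Components.isNilpotent_map Cfsg.Lib.Components.isNilpotent_fitting _
  have hsn : (A.subgroupOf F).IsSubnormal := Cfsg.Lib.Components.isSubnormal_of_isNilpotent _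
  by_contra hne
  obtain ⟨q, hq, hqY⟩ := Nat.exists_prime_and_dvd fun h1 => hne (eq_bot_of_card_eq _ h1)
  haveI := Fact.mk hq
  have hqA : ¬ q ∣ Nat.card A := fun h => hq.not_dvd_one (hY ▸ Nat.dvd_gcd h hqY)
  have htr := MinSimpleTransitivity.transitive_rank_three hG hA hZ hqA
  obtain ⟨-, htrF, hsub, -⟩ :=
    SubnormalTransitivity.conclusion hG hA hqA hFt hπ hAF hsn htr
  have hKF : Cfsg.piCoreOf (Cfsg.primesNotDvd (Nat.card A)) (centralizer (F : Set G)) = ⊥ := by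
    refine (eq_bot_iff_forall _).mpr fun c hc => ?_
    have hcC := PiCoreOf.le _ _ hc
    refine Cfsg.Lib.Coprime.eq_one_of_coprime (N := F) (Nat.coprime_of_dvd fun r hr h1 h2 =>
      (PiCoreOf.isPi _ _ r hr h2).2 (hπ r hr h1)) ?_ hc
    exact FittingParts.centralizer_fittingOf_le ⟨hNF.le (centralizer_le_normalizer _ hcC), hcC⟩
  obtain ⟨Q, hQ, -⟩ := Transitivity.exists_max (A := F) (q := q) (Y := ⊥) IsPGroup.of_bot
    (fun b _ => by rw [normalizer_eq_top]; exact mem_top b)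
  have hMQ : M ≤ normalizer (Q : Set G) := fun m hm => by
    obtain ⟨k, hk, hkQ⟩ := htrF Q hQ _ (SubnormalTransitivity.mem_max_conj_normalizer hQ (hMF hm))
    rw [hKF, mem_bot] at hk
    subst hk
    exact Cfsg.Lib.Coprime.conjMap_eq_self_iff.mp (hkQ.trans (Cfsg.Lib.Coprime.conjMap_one Q))
  obtain ⟨hQp, hFQ⟩ := Transitivity.mem_inv_iff.mp hQ.1
  have hQcop : (Nat.card A).Coprime (Nat.card Q) := MinSimpleTransitivity.coprime_of_isPGroup hqA hQp
  have hQ1 : Q = ⊥ := by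
    by_contra hQ1
    have hQt : Q ≠ ⊤ := fun h => hA.1 ((eq_bot_iff_forall _).mpr fun a ha =>
      Cfsg.Lib.Coprime.eq_one_of_coprime hQcop ha (h ▸ mem_top a))
    have hQM : Q ≤ M := le_normalizer.trans (normalizer_le_coatom hG hM hQ1 hQt hMQ).le
    have hcopF : (Nat.card F).Coprime (Nat.card Q) := Nat.coprime_of_dvd fun r hr h1 h2 =>
      hr.not_dvd_one (hQcop ▸ Nat.dvd_gcd (hπ r hr h1) h2)
    refine hQ1 ((eq_bot_iff_forall _).mpr fun x hx => Cfsg.Lib.Coprime.eq_one_of_coprime hcopF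
      (FittingParts.centralizer_fittingOf_le ⟨hQM hx, ?_⟩) hx)
    exact FittingParts.le_centralizer_of_disjoint (hQM.trans hMF) hFQ hcopF.symm hx
  have hall : ∀ S ∈ Cfsg.maxInvSubgroups ⊤ A {q}, S = ⊥ := by
    intro S hS
    obtain ⟨k, -, hk⟩ := htr Q (hsub hQ) S hS
    rw [hk, hQ1, Subgroup.map_bot]
  obtain ⟨T, hT⟩ := Cfsg.Lib.Coprime.exists_invariant_sylow hAY hY (Or.inl hsolA) q
  obtain ⟨S, hS, hTS⟩ := Transitivity.exists_max (A := A) (T.2.map Y.subtype) hT
  rw [hall S hS, le_bot_iff, map_eq_bot_iff_of_injective _ Y.subtype_injective] at hTS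
  exact T.ne_bot_of_dvd_card hqY hTS

theorem lt_inf_normalizer {p : ℕ} [Fact p.Prime] {R S : Subgroup G} (hS : IsPGroup p S) (hRS : R < S) :
    R < S ⊓ normalizer (R : Set G) := by
  refine lt_of_le_of_ne (le_inf hRS.le le_normalizer) fun h => ?_
  haveI : Group.IsNilpotent S := hS.isNilpotent
  obtain ⟨x, hx, hxn⟩ := SetLike.exists_of_lt
    ((Group.normalizerCondition_of_isNilpotent (G := S)) (R.subgroupOf S) (by
      rw [lt_top_iff_ne_top, ne_eq, subgroupOf_eq_top]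
      exact hRS.not_ge))
  apply hxn
  rw [mem_subgroupOf, h]
  refine ⟨x.2, mem_normalizer_iff.mpr fun y => ⟨fun hy => ?_, fun hy => ?_⟩⟩
  · exact (mem_normalizer_iff.mp hx ⟨y, hRS.le hy⟩).mp hy
  · have hyS : y ∈ S := by
      have := mul_mem (mul_mem (inv_mem x.2) (hRS.le hy)) x.2
      simpa [mul_assoc] using this
    exact (mem_normalizer_iff.mp hx ⟨y, hyS⟩).mpr hy

theorem pPrimeCore_eq_bot {L : Subgroup G} {p : ℕ} [Fact p.Prime]
    (h : ∀ N : Subgroup G, N ≤ L → L ≤ normalizer (N : Set G) → (Nat.card N).Coprime p → N = ⊥) :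
    Cfsg.pPrimeCore p L = ⊥ := by
  refine (map_eq_bot_iff_of_injective _ L.subtype_injective).mp (h _ (map_subtype_le _) ?_ ?_)
  · intro x hx
    refine le_normalizer_map L.subtype ⟨⟨x, hx⟩, ?_, rfl⟩
    rw [normalizer_eq_top]
    exact mem_top _
  · rw [Subgroup.card_map_of_injective L.subtype_injective]
    exact Cfsg.Lib.Components.coprime_card_pPrimeCore p

theorem centerPuigIn_ne_bot {p : ℕ} [Fact p.Prime] {X : Subgroup G} (hX : IsPGroup p X) (h : X ≠ ⊥) :
    Cfsg.Lib.Puig.centerPuigIn X ≠ ⊥ := by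
  set W := Cfsg.Lib.Puig.puigIn X with hW
  have hWX : W ≤ X := Cfsg.Lib.Puig.puigIn_le X
  have hW1 : W ≠ ⊥ := by
    intro hb
    obtain ⟨k, hk⟩ := Cfsg.Lib.Puig.exists_stableIn X
    have h1 := Cfsg.Lib.Puig.centralizer_seqIn_le hX (2 * k)
    rw [(hk k le_rfl).2, ← hW, hb] at h1
    refine h (le_bot_iff.mp (le_trans (le_inf le_rfl fun x _ => mem_centralizer_iff.mpr fun b hb => ?_) h1))
    rw [SetLike.mem_coe, mem_bot] at hb
    rw [hb, one_mul, mul_one]
  intro hb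
  haveI : Nontrivial W := (nontrivial_iff_ne_bot _).mpr hW1
  haveI := (hX.to_le hWX).center_nontrivial
  obtain ⟨z, hz⟩ := exists_ne (1 : center W)
  have h1 : ((z : W) : G) ∈ Cfsg.Lib.Puig.centerPuigIn X := ⟨(z : W).2, mem_centralizer_iff.mpr fun y hy =>
    congrArg Subtype.val (mem_center_iff.mp z.2 ⟨y, hy⟩)⟩
  rw [hb, mem_bot] at h1
  exact hz (Subtype.ext (Subtype.ext h1))

/-- The centre of the Puig subgroup of a Sylow group is normal, inside the ambient group. -/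
theorem le_normalizer_centerPuigIn (hG : Cfsg.IsMinSimpleOddOrder G) {L R : Subgroup G} (hL : L ≠ ⊤)
    {p : ℕ} [Fact p.Prime] (hp : p ≠ 2) (hO : Cfsg.pPrimeCore p L = ⊥) (hRL : R ≤ L)
    (hR : IsPGroup p R) (hmax : ∀ S : Subgroup G, IsPGroup p S → S ≤ L → R ≤ S → S = R) :
    L ≤ normalizer (Cfsg.Lib.Puig.centerPuigIn R : Set G) := by
  haveI := hG.2.2.2 L hL
  have hodd : Odd (Nat.card L) := hG.1.of_dvd_nat (card_subgroup_dvd_card L)
  obtain ⟨S, hS⟩ := (hR.comap_subtype (K := L)).exists_le_sylow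
  have hSR : (S : Subgroup L).map L.subtype = R := hmax _ (S.2.map _) (map_subtype_le _) fun x hx =>
    ⟨⟨x, hRL hx⟩, hS hx, rfl⟩
  have h1 := Cfsg.Lib.Puig.centerPuig_normal hodd hp hO S
  rw [← hSR, ← Cfsg.Lib.Puig.map_centerPuigIn L.subtype_injective.injOn]
  intro x hx
  refine le_normalizer_map L.subtype ⟨⟨x, hx⟩, ?_, rfl⟩
  rw [normalizer_eq_top]
  exact mem_top _

/-- A `p`-subgroup with no invariant `p'`-subgroups lies in a unique maximal subgroup. -/
theorem unique_of_inv_trivial (hG : Cfsg.IsMinSimpleOddOrder G) (hM : IsCoatom M) {p : ℕ} [Fact p.Prime]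
    (hp : p ≠ 2) (hAM : A ≤ M) (hAp : IsPGroup p A) (hA1 : A ≠ ⊥)
    (hinv : ∀ Y : Subgroup G, (Nat.card Y).Coprime p → A ≤ normalizer (Y : Set G) → Y = ⊥) :
    Cfsg.InUniqueMaximal A := by
  refine ⟨M, ⟨hM, hAM⟩, fun L hL => ?_⟩
  by_contra hne
  have hO : ∀ L : Subgroup G, A ≤ L → Cfsg.pPrimeCore p L = ⊥ := fun L hL =>
    pPrimeCore_eq_bot fun N _ hn hc => hinv N hc (hL.trans hn)
  obtain ⟨R, hAR, hR⟩ := Finite.exists_le_maximal
    (p := fun R : Subgroup G => IsPGroup p R ∧ A ≤ R ∧ R ≤ M ∧ ∃ L, IsCoatom L ∧ L ≠ M ∧ R ≤ L)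
    (a := A) ⟨hAp, le_rfl, hAM, L, hL.1, hne, hL.2⟩
  obtain ⟨hRp, hAR, hRM, L, hLc, hLne, hRL⟩ := hR.prop
  have hbig : ∀ R' L' : Subgroup G, IsPGroup p R' → R ≤ R' → R' ≤ M → R' ≤ L' → IsCoatom L' →
      L' ≠ M → R' = R := fun R' L' hp' h1 h2 h3 h4 h5 =>
    le_antisymm (hR.le_of_ge ⟨hp', hAR.trans h1, h2, L', h4, h5, h3⟩ h1) h1
  have hR1 : R ≠ ⊥ := fun h => hA1 (le_bot_iff.mp (h ▸ hAR))
  -- if `R` is a Sylow group of a maximal subgroup, that group is the normalizer of the centre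
  have hsyl : ∀ N : Subgroup G, IsCoatom N → R ≤ N →
      (∀ S : Subgroup G, IsPGroup p S → S ≤ N → R ≤ S → S = R) →
      normalizer (Cfsg.Lib.Puig.centerPuigIn R : Set G) = N := fun N hN hRN hmax =>
    normalizer_le_coatom hG hN (centerPuigIn_ne_bot hRp hR1)
      (ne_top_of_le_coatom hN ((inf_le_left.trans (Cfsg.Lib.Puig.puigIn_le R)).trans hRN))
      (le_normalizer_centerPuigIn hG hN.1 hp (hO N (hAR.trans hRN)) hRN hRp hmax)
  have hNR : ∀ S : Subgroup G, IsPGroup p S → S ≤ M → R ≤ S → S ≠ R →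
      ∀ N : Subgroup G, IsCoatom N → normalizer (R : Set G) ≤ N → N = M := by
    intro S hS hSM hRS hne' N hN hle
    by_contra hNM
    have hlt := lt_inf_normalizer hS (lt_of_le_of_ne hRS hne'.symm)
    exact hlt.ne (hbig _ N (hS.to_le inf_le_left) hlt.le (inf_le_left.trans hSM) (inf_le_right.trans hle)
      hN hNM).symm
  have hLsyl : ∀ S : Subgroup G, IsPGroup p S → S ≤ L → R ≤ S → S = R := by
    intro S hS hSL hRS
    by_contra hne'
    have hlt := lt_inf_normalizer hS (lt_of_le_of_ne hRS (fun h => hne' h.symm))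
    have hNM : normalizer (R : Set G) ≤ M := by
      by_cases hMsyl : ∀ T : Subgroup G, IsPGroup p T → T ≤ M → R ≤ T → T = R
      · exact (((Cfsg.Lib.Puig.normalizer_le_normalizer_puigIn R).trans
          (Cfsg.Lib.Puig.normalizer_puigIn_le R))).trans (hsyl M hM hRM hMsyl).le
      · push Not at hMsyl
        obtain ⟨T, hT, hTM, hRT, hTR⟩ := hMsyl
        obtain ⟨N, hN, hle⟩ : ∃ N : Subgroup G, IsCoatom N ∧ normalizer (R : Set G) ≤ N :=
          (eq_top_or_exists_le_coatom _).resolve_left (MinSimpleTransitivity.normalizer_ne_top hG hR1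
            (ne_top_of_le_coatom hM hRM))
        exact hNR T hT hTM hRT hTR N hN hle ▸ hle
    exact hlt.ne (hbig _ L (hS.to_le inf_le_left) hlt.le (inf_le_right.trans hNM)
      (inf_le_left.trans hSL) hLc hLne).symm
  have hNL := hsyl L hLc hRL hLsyl
  by_cases hMsyl : ∀ T : Subgroup G, IsPGroup p T → T ≤ M → R ≤ T → T = R
  · exact hLne (hNL.symm.trans (hsyl M hM hRM hMsyl))
  · push Not at hMsyl
    obtain ⟨T, hT, hTM, hRT, hTR⟩ := hMsyl
    have hlt := lt_inf_normalizer hT (lt_of_le_of_ne hRT hTR.symm)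
    refine hlt.ne (hbig _ L (hT.to_le inf_le_left) hlt.le (inf_le_left.trans hTM) ?_ hLc hLne).symm
    exact inf_le_right.trans (((Cfsg.Lib.Puig.normalizer_le_normalizer_puigIn R).trans
      (Cfsg.Lib.Puig.normalizer_puigIn_le R)).trans hNL.le)

/-- The Fitting subgroup is not a prime power. -/
theorem unique_not_pGroup (hG : Cfsg.IsMinSimpleOddOrder G) (hM : IsCoatom M) {p : ℕ} [hp : Fact p.Prime]
    {A₀ : Subgroup G} (hA₀ : A₀ ≤ Cfsg.fittingOf M) (hA₀e : Cfsg.IsElementaryAbelian p A₀)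
    (hA₀3 : p ^ 3 ≤ Nat.card A₀) (hnp : ¬ IsPGroup p (Cfsg.fittingOf M)) :
    Cfsg.InUniqueMaximal (Cfsg.fittingOf M ⊓ centralizer (A₀ : Set G)) := by
  set F := Cfsg.fittingOf M with hF
  set A := F ⊓ centralizer (A₀ : Set G) with hA
  haveI := hG.2.2.2 M hM.1
  have hA₀A : A₀ ≤ A := le_inf hA₀ fun a ha => mem_centralizer_iff.mpr fun b hb =>
    ThompsonTransitivity.mul_comm_of hA₀e.1 hb ha
  have h2 : 2 ≤ (Nat.card F).primeFactors.card := by
    by_contra hlt
    have hpF : p ∈ (Nat.card F).primeFactors := Nat.mem_primeFactors.mpr ⟨hp.out, by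
      obtain ⟨j, hj⟩ := IsPGroup.iff_card.mp
        (fun a => ⟨1, by rw [pow_one]; exact Subtype.ext (hA₀e.2 a a.2)⟩ : IsPGroup p A₀)
      refine dvd_trans ?_ (card_dvd_of_le hA₀)
      rw [hj] at hA₀3 ⊢
      exact dvd_pow_self p (by
        rintro rfl
        exact absurd hA₀3 (not_le.mpr (Nat.one_lt_pow (by norm_num) hp.out.one_lt))), Nat.card_pos.ne'⟩
    refine hnp (IsPGroup.of_card (n := (Nat.card F).primeFactorsList.length)
      (Nat.eq_prime_pow_of_unique_prime_dvd Nat.card_pos.ne' fun {d} hd hdd => ?_))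
    exact Finset.card_le_one.mp (Nat.le_of_lt_succ (not_le.mp hlt)) d
      (Nat.mem_primeFactors.mpr ⟨hd, hdd, Nat.card_pos.ne'⟩) p hpF
  have hset : BenderUnique.Setting M A := BenderUnique.setting_of_coatom hG hM h2 inf_le_left
    (inf_le_inf_left _ (centralizer_le hA₀))
  have hCA : F ⊓ centralizer (A : Set G) ≤ A := inf_le_inf_left _ (centralizer_le hA₀A)
  have hπ : ∀ r : ℕ, r.Prime → r ∣ Nat.card F → r ∣ Nat.card A := by
    intro r hr hrd
    haveI := Fact.mk hr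
    have h1 := FittingParts.Z_ne_bot ((FittingParts.dvd_fittingOf_iff M).mp hrd)
    obtain ⟨k, hk⟩ := IsPGroup.iff_card.mp ((FittingParts.isPGroup M).to_le
      (inf_le_left : Z r M ≤ O r M))
    refine dvd_trans ?_ (card_dvd_of_le (hset.Z_le hr))
    rw [hk]
    refine dvd_pow_self r ?_
    rintro rfl
    exact h1 (eq_bot_of_card_eq _ (by rw [hk, pow_zero]))
  have hprimes : Cfsg.primesNotDvd (Nat.card A) = Cfsg.primesNotDvd (Nat.card F) := by
    ext r
    exact ⟨fun h => ⟨h.1, fun hd => h.2 (hπ r h.1 hd)⟩,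
      fun h => ⟨h.1, fun hd => h.2 (hd.trans (card_dvd_of_le inf_le_left))⟩⟩
  have hcop : ∀ Y : Subgroup G, (Nat.card A).Coprime (Nat.card Y) →
      (Nat.card F).Coprime (Nat.card Y) := fun Y h => Nat.coprime_of_dvd fun r hr h1 h2 =>
    hr.not_dvd_one (h ▸ Nat.dvd_gcd (hπ r hr h1) h2)
  have hA1 : A ≠ ⊥ := by
    intro h
    rw [h, le_bot_iff] at hA₀A
    rw [hA₀A, Subgroup.card_bot] at hA₀3
    exact absurd hA₀3 (not_le.mpr (Nat.one_lt_pow (by norm_num) hp.out.one_lt))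
  have htrans : Cfsg.TransitivityHypothesis A := by
    refine ⟨hA1, ne_top_of_le_coatom hM hset.le, fun X hX hAX => le_antisymm (sSup_le fun Y hY => ?_)
      (le_sSup ⟨PiCoreOf.le _ _, PiCoreOf.isPi _ _, hAX.trans (PiCoreOf.le_normalizer' _ _)⟩)⟩
    obtain ⟨hYX, hYπ, hAY⟩ := hY
    haveI := hG.2.2.2 X hX
    have hc := hcop Y (PiCoreOf.coprime_of_isPiNat hYπ)
    rw [hprimes]
    refine BenderUnique.le_core hset hAX hYX hc hAY fun r hr hO => ?_
    exact BenderUnique.inv_eq_bot hset hCA (inf_le_right.trans (hset.centralizer_le hr hO))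
      (hc.coprime_dvd_right (card_dvd_of_le inf_le_left))
      (Cfsg.Lib.Coprime.le_normalizer_inf hAY ((hset.le.trans (FittingParts.le_normalizer_Z r M)).trans
        (FittingParts.normalizer_centralizer_le _)))
  have hinv : ∀ Y : Subgroup G, (Nat.card A).Coprime (Nat.card Y) → A ≤ normalizer (Y : Set G) → Y = ⊥ :=
    fun Y => inv_trivial hG hM htrans inf_le_left hπ (not_rankLE hp.out hA₀e hA₀3 (le_inf hA₀A
      (le_centralizer_iff.mp inf_le_right)))
  refine ⟨M, ⟨hM, hset.le⟩, fun L hL => BenderUnique.eq_of_coatom hG hM hset hL.1 hL.2 (hinv _ ?_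
    (hL.2.trans (PiCoreOf.le_normalizer' _ _)))⟩
  exact (PiCoreOf.coprime_card _ _).coprime_dvd_left (card_dvd_of_le inf_le_left)

/-- The Fitting subgroup is a prime power. -/
theorem unique_pGroup (hG : Cfsg.IsMinSimpleOddOrder G) (hM : IsCoatom M) {p : ℕ} [hp : Fact p.Prime]
    (hF1 : Cfsg.fittingOf M ≠ ⊥) (hFp : IsPGroup p (Cfsg.fittingOf M)) (P : Sylow p M) :
    ¬ p ∣ ((P : Subgroup M).map M.subtype).index ∧
      ∀ A : Subgroup G, Cfsg.IsSCN ((P : Subgroup M).map M.subtype) A → ¬ Cfsg.PRankLE p 2 A →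
        A ≤ Cfsg.fittingOf M ∧ Cfsg.InUniqueMaximal A := by
  set F := Cfsg.fittingOf M with hF
  set R := (P : Subgroup M).map M.subtype with hR
  haveI := hG.2.2.2 M hM.1
  have hFM : F ≤ M := FittingParts.fittingOf_le M
  have hRM : R ≤ M := map_subtype_le _
  have hpG : p ∣ Nat.card G := by
    obtain ⟨j, hj⟩ := IsPGroup.iff_card.mp hFp
    refine dvd_trans ?_ (card_subgroup_dvd_card F)
    rw [hj]
    refine dvd_pow_self p ?_
    rintro rfl
    exact hF1 (eq_bot_of_card_eq _ (by rw [hj, pow_zero]))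
  have hp2 : p ≠ 2 := by
    rintro rfl
    exact Nat.not_even_iff_odd.mpr hG.1 (even_iff_two_dvd.mpr hpG)
  have hO : Cfsg.pPrimeCore p M = ⊥ := pPrimeCore_eq_bot fun N hNM hn hc => by
    obtain ⟨j, hj⟩ := IsPGroup.iff_card.mp hFp
    have hcop : (Nat.card F).Coprime (Nat.card N) := by rw [hj]; exact (hc.pow_right j).symm
    refine (eq_bot_iff_forall _).mpr fun x hx => Cfsg.Lib.Coprime.eq_one_of_coprime hcop
      (FittingParts.centralizer_fittingOf_le ⟨hNM hx, ?_⟩) hx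
    exact FittingParts.le_centralizer_of_disjoint (hNM.trans (FittingParts.le_normalizer_fittingOf M))
      (hFM.trans hn) hcop.symm hx
  have hRp : IsPGroup p R := P.2.map _
  have hRmax : ∀ S : Subgroup G, IsPGroup p S → S ≤ M → R ≤ S → S = R := by
    intro S hS hSM hRS
    have h1 : S.subgroupOf M = (P : Subgroup M) :=
      P.3 hS.comap_subtype fun x hx => mem_subgroupOf.mpr (hRS (mem_map_of_mem _ hx))
    rw [hR, ← h1, subgroupOf_map_subtype, inf_eq_left.mpr hSM]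
  have hFR : F ≤ R := by
    intro x hx
    have h1 : (⟨x, hFM hx⟩ : M) ∈ Cfsg.pCore p M := by
      rw [← FittingParts.piCore_singleton]
      have h2 : x ∈ O p M := FittingParts.le_of_isPGroup hFM (FittingParts.le_normalizer_fittingOf M) hFp hx
      obtain ⟨y, hy, hyx⟩ := h2
      exact (show y = ⟨x, hFM hx⟩ from Subtype.ext hyx) ▸ hy
    exact ⟨⟨x, hFM hx⟩, Cfsg.Lib.Coprime.pCore_le_sylow p P h1, rfl⟩
  have hR1 : R ≠ ⊥ := fun h => hF1 (le_bot_iff.mp (h ▸ hFR))
  have hZ1 := centerPuigIn_ne_bot hRp hR1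
  have hNR : normalizer (R : Set G) ≤ M :=
    ((Cfsg.Lib.Puig.normalizer_le_normalizer_puigIn R).trans (Cfsg.Lib.Puig.normalizer_puigIn_le R)).trans
      (normalizer_le_coatom hG hM hZ1
        (ne_top_of_le_coatom hM ((inf_le_left.trans (Cfsg.Lib.Puig.puigIn_le R)).trans hRM))
        (le_normalizer_centerPuigIn hG hM.1 hp2 hO hRM hRp hRmax)).le
  obtain ⟨S, hRS⟩ := hRp.exists_le_sylow
  have hSR : (S : Subgroup G) = R := by
    by_contra hne
    have hlt := lt_inf_normalizer S.2 (lt_of_le_of_ne hRS (fun h => hne h.symm))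
    exact hlt.ne (hRmax _ (S.2.to_le inf_le_left) (inf_le_right.trans hNR) hlt.le).symm
  refine ⟨hSR ▸ S.not_dvd_index, fun A hA hA3 => ?_⟩
  obtain ⟨hAR, hRA, hAself⟩ := hA
  have hAp : IsPGroup p A := hRp.to_le hAR
  have hAc : IsMulCommutative A := ⟨⟨fun a b => Subtype.ext
    (mem_centralizer_iff.mp (hAself.ge b.2).2 a a.2)⟩⟩
  have hAM : A ≤ M := hAR.trans hRM
  have hAF : A ≤ F := by
    haveI : IsMulCommutative (A.subgroupOf M) :=
      ⟨⟨fun a b => Subtype.ext (Subtype.ext (ThompsonTransitivity.mul_comm_of hAc a.2 b.2))⟩⟩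
    have h1 := Cfsg.Lib.Puig.le_pCore_of_puig (hG.1.of_dvd_nat (card_subgroup_dvd_card M)) hp2 hO
      (P := Cfsg.pCore p M) (A := A.subgroupOf M) (Cfsg.Lib.Components.isPGroup_pCore p) inf_le_left
      hAp.comap_subtype fun x hx => mem_normalizer_iff.mpr fun y => by
        simp only [mem_subgroupOf, Subgroup.coe_mul, Subgroup.coe_inv]
        exact mem_normalizer_iff.mp (hRA ⟨x, Cfsg.Lib.Coprime.pCore_le_sylow p P hx, rfl⟩) y
    intro a ha
    refine FittingParts.le_fittingOf (q := p) M ⟨⟨a, hAM ha⟩, ?_, rfl⟩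
    show (⟨a, hAM ha⟩ : M) ∈ Cfsg.piCore {p} M
    rw [FittingParts.piCore_singleton]
    exact h1 ha
  have hr1 : ¬ Cfsg.PRankLE p 1 A := fun h => hA3 fun B hB hBp =>
    (h B hB hBp).trans (Nat.pow_le_pow_right hp.out.pos one_le_two)
  have htrans : Cfsg.TransitivityHypothesis A := MinSimpleTransitivity.hypothesis_of_abelian hG hpG hAp hAc
    (Or.inr ⟨S, hSR.symm ▸ ⟨hAR, hRA, hAself⟩, hr1⟩)
  obtain ⟨j, hj⟩ := IsPGroup.iff_card.mp hAp
  have hj0 : j ≠ 0 := fun h0 => htrans.1 (eq_bot_of_card_eq _ (by rw [hj, h0, pow_zero]))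
  have hπ : ∀ r : ℕ, r.Prime → r ∣ Nat.card F → r ∣ Nat.card A := by
    intro r hr hrd
    obtain ⟨i, hi⟩ := IsPGroup.iff_card.mp hFp
    rw [hi] at hrd
    rw [hj, (Nat.prime_dvd_prime_iff_eq hr hp.out).mp (hr.dvd_of_dvd_pow hrd)]
    exact dvd_pow_self p hj0
  have hZ : ¬ Cfsg.RankLE 2 ↥(A ⊓ centralizer (A : Set G)) := by
    simp only [Cfsg.PRankLE, not_forall, not_le] at hA3
    obtain ⟨B, hBc, hBp, hB⟩ := hA3
    refine not_rankLE hp.out (E := B.map A.subtype) ⟨⟨⟨fun a b => Subtype.ext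
      (ThompsonTransitivity.mul_comm_of hAc (map_subtype_le _ a.2) (map_subtype_le _ b.2))⟩⟩, ?_⟩ ?_ ?_
    · rintro _ ⟨x, hx, rfl⟩
      simpa using congrArg Subtype.val (hBp x hx)
    · rw [Subgroup.card_map_of_injective A.subtype_injective]
      obtain ⟨i, hi⟩ := IsPGroup.iff_card.mp (hAp.to_subgroup B)
      rw [hi] at hB ⊢
      exact Nat.pow_le_pow_right hp.out.pos ((Nat.pow_lt_pow_iff_right hp.out.one_lt).mp hB)
    · exact (map_subtype_le _).trans (le_inf le_rfl fun a ha =>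
        mem_centralizer_iff.mpr fun b hb => ThompsonTransitivity.mul_comm_of hAc hb ha)
  refine ⟨hAF, unique_of_inv_trivial hG hM hp2 hAM hAp htrans.1 fun Y hY hAY =>
    inv_trivial hG hM htrans hAF hπ hZ ?_ hAY⟩
  rw [hj]
  exact (hY.pow_right j).symm

end Cfsg.Lib.OddLocal.FittingUniqueness
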