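import Cfsg.Agent.OddLocal.NonabelianUniqueness

/-!
# Elements of order `p` in the derived group of `M_σ`
-/

set_option linter.unusedSectionVars false
set_option linter.unusedVariables false
set_option linter.style.haveILetI false

namespace Cfsg.Lib.OddLocal.RankTwoMax

open Subgroup Uniqueness Sigma
open Cfsg.Lib.Coprime (conjMap)
open scoped commutatorElement

universe u

variable {G : Type u} [Group G] [Finite G] {M H L A : Subgroup G} {p : ℕ} [hp : Fact p.Prime]

theorem commutator_le_center_of_card_cube {H : Type u} [Group H] [Finite H] (h : Nat.card H = p ^ 3) :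
    commutator H ≤ center H := by
  have hH : IsPGroup p H := IsPGroup.of_card h
  haveI : Nontrivial H := (Finite.one_lt_card_iff_nontrivial (α := H)).mp (by
    rw [h]; exact Nat.one_lt_pow (by norm_num) hp.out.one_lt)
  haveI := hH.center_nontrivial
  have h1 : Nat.card (center H) * Nat.card (H ⧸ center H) = p ^ 3 := by
    rw [← h, mul_comm]; exact (card_eq_card_quotient_mul_card_subgroup _).symm
  obtain ⟨i, hi, hic⟩ := (Nat.dvd_prime_pow hp.out).mp (h ▸ card_subgroup_dvd_card (center H))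
  have hi0 : i ≠ 0 := fun h0 => by
    have := Finite.one_lt_card_iff_nontrivial.mpr (inferInstance : Nontrivial (center H))
    rw [hic, h0, pow_zero] at this
    exact absurd this (lt_irrefl 1)
  have hq : Nat.card (H ⧸ center H) = p ^ (3 - i) := by
    refine Nat.eq_of_mul_eq_mul_left (pow_pos hp.out.pos i) ?_
    rw [← pow_add, show i + (3 - i) = 3 by omega, ← hic]
    exact h1
  have hab : IsMulCommutative (H ⧸ center H) := by
    rcases (show 3 - i = 0 ∨ 3 - i = 1 ∨ 3 - i = 2 by omega) with h2 | h2 | h2 <;> rw [h2] at hq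
    · haveI := (Nat.card_eq_one_iff_unique.mp (by rw [hq, pow_zero])).1
      exact ⟨⟨fun a b => Subsingleton.elim _ _⟩⟩
    · haveI := isCyclic_of_prime_card (p := p) (by rw [hq, pow_one])
      infer_instance
    · exact IsPGroup.isMulCommutative_of_card_eq_prime_sq hq
  rw [_root_.commutator_def, commutator_le]
  intro a _ b _
  rw [← QuotientGroup.eq_one_iff, ← QuotientGroup.mk'_apply, map_commutatorElement,
    commutatorElement_eq_one_iff_mul_comm]
  exact hab.is_comm.comm _ _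

/-- The centralizer of an element of order `p` in the derived group of a nonabelian Sylow group. -/
theorem unique_centralizer_of_derived (hG : Cfsg.IsMinSimpleOddOrder G) (hM : IsCoatom M) (S : Sylow p G)
    (hSM : (S : Subgroup G) ≤ M) (hna : ¬ IsMulCommutative (S : Subgroup G)) {x : G}
    (hx : x ∈ ⁅(S : Subgroup G), (S : Subgroup G)⁆) (hxo : orderOf x = p) :
    centralizer ({x} : Set G) ≤ M ∧
      ∀ L : Subgroup G, IsCoatom L → centralizer ({x} : Set G) ≤ L → L = M := by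
  have hxS : x ∈ (S : Subgroup G) := commutator_le_self _ hx
  have hx1 : x ≠ 1 := fun h0 => hp.out.ne_one (by rw [← hxo, h0, orderOf_one])
  suffices hU : ∃ B : Subgroup G, B ≤ centralizer ({x} : Set G) ∧ B ≤ M ∧ Cfsg.InUniqueMaximal B by
    obtain ⟨B, hBC, hBM, M₀, -, hu⟩ := hU
    have huniq : ∀ L : Subgroup G, IsCoatom L → centralizer ({x} : Set G) ≤ L → L = M := fun L hL hle => by
      rw [hu L ⟨hL, hBC.trans hle⟩, hu M ⟨hM, hBM⟩]
    obtain ⟨L, hL, hle⟩ := exists_coatom_ge (MinSimpleTransitivity.normalizer_ne_top hG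
      (fun h0 => hx1 (zpowers_eq_bot.mp h0) : zpowers x ≠ ⊥)
      (FittingUniqueness.ne_top_of_le_coatom hM ((zpowers_le.mpr hxS).trans hSM)))
    have hCL : centralizer ({x} : Set G) ≤ L := by
      rw [← Cfsg.Lib.Coprime.centralizer_zpowers]
      exact (centralizer_le_normalizer _).trans hle
    exact ⟨huniq L hL hCL ▸ hCL, huniq⟩
  by_cases hc : (S : Subgroup G) ≤ centralizer ({x} : Set G)
  · exact ⟨S, hc, hSM, nonabelian_unique hG S.2 hna⟩
  obtain ⟨z, hz, hzo⟩ : ∃ z ∈ (S : Subgroup G) ⊓ centralizer ((S : Subgroup G) : Set G), orderOf z = p := by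
    refine ScnUniqueness.exists_orderOf (S.2.to_le inf_le_left) fun h0 => ?_
    haveI : Nontrivial ↥(S : Subgroup G) :=
      (nontrivial_iff_ne_bot _).mpr fun h1 => hna (h1 ▸ inferInstance)
    have := S.2.center_nontrivial
    obtain ⟨⟨c, hc'⟩, hc1⟩ := exists_ne (1 : center ↥(S : Subgroup G))
    refine hc1 (Subtype.ext (Subtype.ext (mem_bot.mp (h0.le (show (c : G) ∈ (S : Subgroup G) ⊓
      centralizer ((S : Subgroup G) : Set G) from
      ⟨c.2, mem_centralizer_iff.mpr fun b hb => congrArg Subtype.val (mem_center_iff.mp hc' ⟨b, hb⟩)⟩)))))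
  have hxz : Commute x z := mem_centralizer_iff.mp hz.2 x hxS
  have hz1 : z ≠ 1 := fun h0 => hp.out.ne_one (by rw [← hzo, h0, orderOf_one])
  set A := zpowers z ⊔ zpowers x with hA
  have hAS : A ≤ (S : Subgroup G) := sup_le (zpowers_le.mpr hz.1) (zpowers_le.mpr hxS)
  have hxn : zpowers x ≤ centralizer (zpowers z : Set G) := zpowers_le.mpr
    (mem_centralizer_iff.mpr fun w hw => by
      obtain ⟨i, rfl⟩ := mem_zpowers_iff.mp hw
      exact (hxz.symm.zpow_left i).eq)
  have hAe : Cfsg.IsElementaryAbelian p A := by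
    have hpw : ∀ w : G, orderOf w = p → ∀ v ∈ zpowers w, v ^ p = 1 := fun w hw v hv => by
      obtain ⟨i, rfl⟩ := mem_zpowers_iff.mp hv
      rw [← zpow_natCast, ← zpow_mul, mul_comm, zpow_mul, zpow_natCast, ← hw, pow_orderOf_eq_one, one_zpow]
    refine ⟨⟨⟨fun a b => Subtype.ext ?_⟩⟩, fun a ha => ?_⟩
    · obtain ⟨i, hi, j, hj, hij⟩ := (Cfsg.Lib.Coprime.mem_sup_of_le_normalizer
        (hxn.trans (centralizer_le_normalizer _))).mp a.2
      obtain ⟨k, hk, l, hl, hkl⟩ := (Cfsg.Lib.Coprime.mem_sup_of_le_normalizer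
        (hxn.trans (centralizer_le_normalizer _))).mp b.2
      obtain ⟨i, rfl⟩ := mem_zpowers_iff.mp hi
      obtain ⟨j, rfl⟩ := mem_zpowers_iff.mp hj
      obtain ⟨k, rfl⟩ := mem_zpowers_iff.mp hk
      obtain ⟨l, rfl⟩ := mem_zpowers_iff.mp hl
      show (a : G) * b = b * a
      rw [← hij, ← hkl]
      exact (((Commute.refl z).zpow_zpow i k).mul_right (hxz.symm.zpow_zpow i l)).mul_left
        ((hxz.zpow_zpow j k).mul_right ((Commute.refl x).zpow_zpow j l))
    · obtain ⟨i, hi, j, hj, rfl⟩ := (Cfsg.Lib.Coprime.mem_sup_of_le_normalizer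
        (hxn.trans (centralizer_le_normalizer _))).mp ha
      rw [(show Commute i j from mem_centralizer_iff.mp (hxn hj) i hi).mul_pow, hpw z hzo i hi,
        hpw x hxo j hj, one_mul]
  have hAC : A ≤ centralizer ({x} : Set G) := sup_le
    (zpowers_le.mpr (mem_centralizer_singleton_iff.mpr hxz.symm))
    (zpowers_le.mpr (mem_centralizer_singleton_iff.mpr rfl))
  have hAc : Nat.card A = p ^ 2 := by
    rw [hA, Cfsg.Lib.Coprime.card_sup_of_inf_eq_bot (hxn.trans (centralizer_le_normalizer _)) ?_,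
      Nat.card_zpowers, Nat.card_zpowers, hzo, hxo, sq]
    by_contra h0
    obtain ⟨v, hv, hvo⟩ := ScnUniqueness.exists_orderOf
      (S.2.to_le (inf_le_left.trans (zpowers_le.mpr hz.1))) h0
    have hv1 : v ≠ 1 := fun h1 => hp.out.ne_one (by rw [← hvo, h1, orderOf_one])
    refine hc fun s hs => mem_centralizer_singleton_iff.mpr ?_
    obtain ⟨i, rfl⟩ := mem_zpowers_iff.mp
      ((line_eq_of_inf (by rw [Nat.card_zpowers, hzo]) (by rw [Nat.card_zpowers, hxo]) hv.1 hv.2 hv1).ge
        (mem_zpowers x))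
    exact ((show Commute s z from mem_centralizer_iff.mp hz.2 s hs).zpow_right i).eq
  by_cases hmax : ∀ B : Subgroup G, B ≤ (S : Subgroup G) → Cfsg.IsElementaryAbelian p B → A ≤ B → B = A
  swap
  · push Not at hmax
    obtain ⟨B, hBS, hB, hAB, hne⟩ := hmax
    have h3 : p ^ 3 ≤ Nat.card B := by
      obtain ⟨j, hj⟩ := IsPGroup.iff_card.mp (S.2.to_le hBS)
      have h1 : Nat.card A < Nat.card B := lt_of_le_of_ne (Nat.le_of_dvd Nat.card_pos (card_dvd_of_le hAB))
        fun e => hne (eq_of_le_of_card_ge hAB e.ge).symm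
      rw [hAc, hj] at h1
      rw [hj]
      exact Nat.pow_le_pow_right hp.out.pos ((Nat.pow_lt_pow_iff_right hp.out.one_lt).mp h1)
    exact ⟨B, fun b hb => mem_centralizer_singleton_iff.mpr
      (ThompsonTransitivity.mul_comm_of hB.1 hb (hAB (mem_sup_right (mem_zpowers x)))), hBS.trans hSM,
      ScnUniqueness.unique_of_abelian hG hB h3⟩
  exfalso
  by_cases hr : Cfsg.PRankLE p 2 (S : Subgroup G)
  · rcases Cfsg.Agent.S1412.result hG p S hr with hab | ⟨P₁, P₂, hsup, hcomm, -, hc1, -, hcyc, -⟩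
    · exact hna hab
    refine hc fun s hs => ?_
    have hle : ⁅(S : Subgroup G), (S : Subgroup G)⁆ ≤ centralizer ((S : Subgroup G) : Set G) := by
      have hn : P₂ ≤ normalizer (P₁ : Set G) := fun b hb =>
        centralizer_le_normalizer _ (mem_centralizer_iff.mpr fun a ha => hcomm a ha b hb)
      rw [commutator_le]
      intro a ha b hb
      obtain ⟨u, hu, v, hv, rfl⟩ := (Cfsg.Lib.Coprime.mem_sup_of_le_normalizer hn).mp (hsup.ge ha)
      obtain ⟨u', hu', v', hv', rfl⟩ := (Cfsg.Lib.Coprime.mem_sup_of_le_normalizer hn).mp (hsup.ge hb)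
      have hvv : Commute v v' := by
        letI : CommGroup P₂ := hcyc.commGroup
        exact congrArg Subtype.val (mul_comm (⟨v, hv⟩ : P₂) ⟨v', hv'⟩)
      have e1 : Commute u v' := hcomm u hu v' hv'
      have e2 : Commute u' v := hcomm u' hu' v hv
      have e : ⁅u * v, u' * v'⁆ = ⁅u, u'⁆ := by
        rw [commutatorElement_def, commutatorElement_def]
        calc u * v * (u' * v') * (u * v)⁻¹ * (u' * v')⁻¹
            = u * (v * u') * v' * v⁻¹ * u⁻¹ * v'⁻¹ * u'⁻¹ := by group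
          _ = u * u' * (v * v' * v⁻¹) * u⁻¹ * v'⁻¹ * u'⁻¹ := by rw [← e2.eq]; group
          _ = u * u' * (v' * u⁻¹) * v'⁻¹ * u'⁻¹ := by rw [hvv.eq]; group
          _ = u * u' * (u⁻¹ * v') * v'⁻¹ * u'⁻¹ := by rw [← (e1.inv_left).eq]
          _ = _ := by group
      rw [e]
      have hc' : ⁅(⟨u, hu⟩ : P₁), ⟨u', hu'⟩⁆ ∈ center P₁ :=
        commutator_le_center_of_card_cube hc1 (commutator_mem_commutator (mem_top _) (mem_top _))
      refine mem_centralizer_iff.mpr fun t ht => ?_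
      obtain ⟨w, hw, y, hy, rfl⟩ := (Cfsg.Lib.Coprime.mem_sup_of_le_normalizer hn).mp (hsup.ge ht)
      have hm : ⁅u, u'⁆ ∈ P₁ := commutator_le_self P₁ (commutator_mem_commutator hu hu')
      have h1 : Commute w ⁅u, u'⁆ := congrArg Subtype.val (mem_center_iff.mp hc' ⟨w, hw⟩)
      exact (h1.mul_left (show Commute y ⁅u, u'⁆ from (hcomm _ hm y hy).symm)).eq
    exact mem_centralizer_singleton_iff.mpr (mem_centralizer_iff.mp (hle hx) s hs)
  set E := A.subgroupOf (S : Subgroup G) with hE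
  have hEe : Cfsg.IsElementaryAbelian p E :=
    ⟨⟨⟨fun a b => Subtype.ext (Subtype.ext (ThompsonTransitivity.mul_comm_of hAe.1 a.2 b.2))⟩⟩,
      fun a ha => Subtype.ext (by simpa using hAe.2 a ha)⟩
  have hEc : Nat.card E = p ^ 2 := by rw [Nat.card_congr (subgroupOfEquivOfLe hAS).toEquiv, hAc]
  have hEmax : ∀ B : Subgroup ↥(S : Subgroup G), Cfsg.IsElementaryAbelian p B → E ≤ B → B = E := by
    intro B hB hEB
    have h1 : B.map (S : Subgroup G).subtype = A := hmax _ (map_subtype_le _)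
      (Cfsg.Lib.OddP.isElementaryAbelian_map hB _) fun a ha => ⟨⟨a, hAS ha⟩, hEB ha, rfl⟩
    rw [hE, ← h1, subgroupOf, comap_map_eq_self_of_injective (S : Subgroup G).subtype_injective]
  have hp2 : p ≠ 2 := ne_two hG S.2 fun h0 => hna (h0 ▸ inferInstance)
  obtain ⟨hnot, -, -, hTc, hTi⟩ := Cfsg.Lib.OddP.maximal_sq_structure hp2 S.2 hr E hEe hEc hEmax
  set T := centralizer ((closure {x : ↥(S : Subgroup G) | x ∈ Subgroup.upperCentralSeries _ 2 ∧ x ^ p = 1} :
    Subgroup ↥(S : Subgroup G)) : Set ↥(S : Subgroup G)) with hT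
  haveI := hTc
  haveI : T.Normal := inferInstance
  have hab : IsMulCommutative (↥(S : Subgroup G) ⧸ T) := by
    haveI := isCyclic_of_prime_card (α := ↥(S : Subgroup G) ⧸ T) (p := p) (by rw [← index_eq_card, hTi])
    infer_instance
  have hderT : commutator ↥(S : Subgroup G) ≤ T := by
    rw [_root_.commutator_def, commutator_le]
    intro a _ b _
    rw [← QuotientGroup.eq_one_iff, ← QuotientGroup.mk'_apply, map_commutatorElement,
      commutatorElement_eq_one_iff_mul_comm]
    exact hab.is_comm.comm _ _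
  obtain ⟨x', hx', hxx⟩ := (map_subtype_commutator (S : Subgroup G)).ge hx
  -- the whole of `A` lies in `T`
  refine hnot fun a ha => ?_
  obtain ⟨i, hi, j, hj, hij⟩ := (Cfsg.Lib.Coprime.mem_sup_of_le_normalizer
    (hxn.trans (centralizer_le_normalizer _))).mp (show (a : G) ∈ A from ha)
  obtain ⟨k, rfl⟩ := mem_zpowers_iff.mp hj
  have hia : a = ⟨i, zpowers_le.mpr hz.1 hi⟩ * x' ^ k := Subtype.ext (by
    rw [Subgroup.coe_mul, SubgroupClass.coe_zpow, ← hij]
    exact congrArg (fun t => i * t ^ k) hxx.symm)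
  rw [hia]
  refine mul_mem (mem_centralizer_iff.mpr fun w _ => ?_) (zpow_mem (hderT hx') k)
  obtain ⟨l, rfl⟩ := mem_zpowers_iff.mp hi
  exact Subtype.ext (((show Commute (w : G) z from mem_centralizer_iff.mp hz.2 w w.2).zpow_right l).eq)

/-- Proposition 12.14. -/
theorem sigma_order_p_theorem (hG : Cfsg.IsMinSimpleOddOrder G) (hM : IsCoatom M) (hσ : p ∈ Cfsg.sigma M)
    {X : Subgroup G} (hXM : X ≤ M) (hX : Nat.card X = p) (P : Sylow p ↥(Cfsg.sigmaCore M))
    (h : p ∈ Cfsg.beta M ∨ X ≤ ⁅Cfsg.sigmaCore M, Cfsg.sigmaCore M⁆) :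
    (centralizer (X : Set G) ≤ M ∧ ∀ L : Subgroup G, IsCoatom L → centralizer (X : Set G) ≤ L → L = M) ∧
      Cfsg.InUniqueMaximal ((P : Subgroup ↥(Cfsg.sigmaCore M)).map (Cfsg.sigmaCore M).subtype) ∧
      (P : Subgroup ↥(Cfsg.sigmaCore M)).map (Cfsg.sigmaCore M).subtype ≤ M := by
  have hS := isSylowOf_of_sigmaCore hG hM hσ P
  obtain ⟨Q, hQ⟩ := hS.2.1.exists_le_sylow
  have hQP := sylow_max hσ hS Q.2 hQ
  have hQM : (Q : Subgroup G) ≤ M := hQP ▸ hS.1
  obtain ⟨x, hx, hxo⟩ := ScnUniqueness.exists_orderOf (isPGroup_of_card hX) (line_ne_bot hX)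
  have hx1 : x ≠ 1 := fun h0 => hp.out.ne_one (by rw [← hxo, h0, orderOf_one])
  have hXx := line_eq_of_mem hX hx hx1
  by_cases hβ : p ∈ Cfsg.beta M
  · refine ⟨?_, ?_, hS.1⟩
    · have h1 := unique_centralizer_of_ideal hG hM hβ.2 hσ (hXM hx) hxo
      rwa [← Cfsg.Lib.Coprime.centralizer_zpowers, hXx] at h1
    · obtain ⟨E, hEM, hE, hEc⟩ := exists_elementary hβ.1.2
      obtain ⟨R, hR, hER⟩ := exists_sylowOf (isPGroup_of_pow hE.2 : IsPGroup p E) hEM
      obtain ⟨m, hm, hmR⟩ := card_eq_of_sylowOf hR hS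
      exact unique_of_le (unique_conj (ScnUniqueness.unique_of_abelian hG hE hEc) m)
        ((Cfsg.Lib.Coprime.conjMap_mono hER).trans hmR.le)
        (FittingUniqueness.ne_top_of_le_coatom hM hS.1)
  have hXD : X ≤ ⁅Cfsg.sigmaCore M, Cfsg.sigmaCore M⁆ := h.resolve_left hβ
  set N₀ := Cfsg.sigmaCore M with hN₀
  have hXN : X ≤ N₀ := hXD.trans (commutator_le_self _)
  -- a Sylow group of `M_σ` containing `X`
  obtain ⟨T, hXT⟩ := ((isPGroup_of_card hX).comap_subtype (K := N₀)).exists_le_sylow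
  obtain ⟨R, N, hN, hNR⟩ := (beta_theorem hG hM hp.out hσ.2.1 hβ).2.1
  haveI := hN
  have hT := isSylowOf_of_sigmaCore hG hM hσ T
  obtain ⟨S, hTS⟩ := hT.2.1.exists_le_sylow
  have hST := sylow_max hσ hT S.2 hTS
  have hidx : ∃ i, N.index = p ^ i := by
    obtain ⟨i, hi⟩ := IsPGroup.iff_card.mp R.2
    exact ⟨i, by rw [hNR.symm.index_eq_card, ← hi]⟩
  have hNp : (Nat.card N).Coprime p := (hp.out.coprime_iff_not_dvd.mpr fun hd => R.not_dvd_index (by
    rwa [hNR.index_eq_card])).symm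
  have hjoin : N ⊔ (T : Subgroup N₀) = ⊤ := by
    refine index_eq_one.mp (Nat.dvd_one.mp ?_)
    obtain ⟨i, hi⟩ := hidx
    have h1 : (N ⊔ (T : Subgroup N₀)).index ∣ p ^ i := hi ▸ index_dvd_of_le le_sup_left
    exact Nat.dvd_one.mpr (Nat.eq_one_of_dvd_coprimes
      ((hp.out.coprime_iff_not_dvd.mpr T.not_dvd_index).pow_left i) h1 (index_dvd_of_le le_sup_right))
  have hder : x ∈ ⁅(S : Subgroup G), (S : Subgroup G)⁆ := by
    set π := QuotientGroup.mk' N with hπ
    obtain ⟨x', hx', hxx⟩ := (map_subtype_commutator N₀).ge (hXD hx)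
    have hTs : (T : Subgroup N₀).map π = ⊤ := by
      rw [eq_top_iff, ← map_top_of_surjective π (QuotientGroup.mk'_surjective N), ← hjoin, Subgroup.map_sup,
        QuotientGroup.map_mk'_self, bot_sup_eq]
    have h1 : π x' ∈ (⁅(T : Subgroup N₀), (T : Subgroup N₀)⁆).map π := by
      rw [Subgroup.map_commutator, hTs, ← Subgroup.map_top_of_surjective π (QuotientGroup.mk'_surjective N),
        ← Subgroup.map_commutator]
      exact mem_map_of_mem π hx'
    obtain ⟨t, ht, htx⟩ := h1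
    have hxT : x' ∈ (T : Subgroup N₀) := hXT (mem_subgroupOf.mpr (show (x' : G) ∈ X by
      rw [show (x' : G) = x from hxx]; exact hx))
    have h2 : t⁻¹ * x' ∈ N := QuotientGroup.eq.mp htx
    have h3 : t⁻¹ * x' = 1 := by
      refine Cfsg.Lib.Coprime.eq_one_of_coprime (N := N) (H := (T : Subgroup N₀)) ?_ h2
        (mul_mem (inv_mem (commutator_le_self _ ht)) hxT)
      obtain ⟨j, hj⟩ := IsPGroup.iff_card.mp T.2
      rw [hj]
      exact hNp.pow_right j
    rw [inv_mul_eq_one] at h3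
    have h4 : N₀.subtype t ∈ (⁅(T : Subgroup N₀), (T : Subgroup N₀)⁆).map N₀.subtype := mem_map_of_mem _ ht
    rw [Subgroup.map_commutator, h3, show N₀.subtype x' = x from hxx, ← hST] at h4
    exact h4
  have hna : ¬ IsMulCommutative (S : Subgroup G) := fun hab => by
    have h5 : ⁅(S : Subgroup G), (S : Subgroup G)⁆ = ⊥ := commutator_eq_bot_iff_le_centralizer.mpr
      fun a ha => mem_centralizer_iff.mpr fun b hb => ThompsonTransitivity.mul_comm_of hab hb ha
    rw [h5, mem_bot] at hder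
    exact hx1 hder
  have hSM : (S : Subgroup G) ≤ M := hST ▸ hT.1
  refine ⟨?_, ?_, hS.1⟩
  · have h1 := unique_centralizer_of_derived hG hM S hSM hna hder hxo
    rwa [← Cfsg.Lib.Coprime.centralizer_zpowers, hXx] at h1
  · obtain ⟨m, -, hm⟩ := card_eq_of_sylowOf hT hS
    refine hm ▸ unique_conj (nonabelian_unique hG hT.2.1 ?_) m
    exact hST ▸ hna

end Cfsg.Lib.OddLocal.RankTwoMax
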