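import Cfsg.Agent.OddLocal.LocalFactor
import Cfsg.Agent.S1452
import Cfsg.Agent.SolvStruct.PGroupBasics

/-!
# Subgroups lying in a unique maximal subgroup
-/

set_option linter.unusedSectionVars false
set_option linter.unusedVariables false
set_option linter.style.haveILetI false

namespace Cfsg.Lib.OddLocal.Uniqueness

open Subgroup
open Cfsg.Lib.Coprime (conjMap)

universe u

variable {G : Type u} [Group G] [Finite G] {p : ℕ} [hp : Fact p.Prime]

section Unique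

variable {L X M K : Subgroup G}

theorem exists_coatom_ge (hX : X ≠ ⊤) : ∃ N : Subgroup G, IsCoatom N ∧ X ≤ N :=
  (eq_top_or_exists_le_coatom X).resolve_left hX

theorem le_of_unique (hL : Cfsg.InUniqueMaximal L) (hM : IsCoatom M) (hLM : L ≤ M) (hX : X ≠ ⊤)
    (hLX : L ≤ X) : X ≤ M := by
  obtain ⟨M₀, -, hu⟩ := hL
  obtain ⟨N, hN, hXN⟩ := exists_coatom_ge hX
  rwa [hu M ⟨hM, hLM⟩, ← hu N ⟨hN, hLX.trans hXN⟩]

theorem unique_of_le (hL : Cfsg.InUniqueMaximal L) (hLX : L ≤ X) (hX : X ≠ ⊤) :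
    Cfsg.InUniqueMaximal X := by
  obtain ⟨M, ⟨hM, hLM⟩, hu⟩ := hL
  exact ⟨M, ⟨hM, le_of_unique ⟨M, ⟨hM, hLM⟩, hu⟩ hM hLM hX hLX⟩,
    fun N hN => hu N ⟨hN.1, hLX.trans hN.2⟩⟩

theorem unique_conj (hL : Cfsg.InUniqueMaximal L) (g : G) : Cfsg.InUniqueMaximal (conjMap g L) := by
  have hco : ∀ (g : G) (M : Subgroup G), IsCoatom M → IsCoatom (conjMap g M) := by
    intro g M hM
    refine ⟨fun h => hM.1 (top_le_iff.mp fun x _ => ?_), fun N hN => ?_⟩
    · have h1 : g * x * g⁻¹ ∈ conjMap g M := h ▸ mem_top _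
      rw [Cfsg.Lib.Coprime.mem_conjMap] at h1
      simpa [mul_assoc] using h1
    · have h1 : M < conjMap g⁻¹ N := by
        refine lt_of_le_of_ne ?_ fun h => hN.ne ?_
        · simpa [Cfsg.Lib.Coprime.conjMap_inv_conjMap] using
            Cfsg.Lib.Coprime.conjMap_mono (g := g⁻¹) hN.le
        · rw [h, Cfsg.Lib.Coprime.conjMap_conjMap_inv]
      refine top_le_iff.mp fun x _ => ?_
      have h2 : g⁻¹ * x * g ∈ conjMap g⁻¹ N := (hM.2 _ h1) ▸ mem_top _
      rw [Cfsg.Lib.Coprime.mem_conjMap] at h2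
      simpa [mul_assoc] using h2
  obtain ⟨M, ⟨hM, hLM⟩, hu⟩ := hL
  refine ⟨conjMap g M, ⟨hco g M hM, Cfsg.Lib.Coprime.conjMap_mono hLM⟩, fun N hN => ?_⟩
  have h1 := hu (conjMap g⁻¹ N) ⟨hco g⁻¹ N hN.1, by
    simpa [Cfsg.Lib.Coprime.conjMap_inv_conjMap] using
      Cfsg.Lib.Coprime.conjMap_mono (g := g⁻¹) hN.2⟩
  rw [← h1, Cfsg.Lib.Coprime.conjMap_conjMap_inv]

theorem ne_bot_of_unique (hG : Cfsg.IsMinSimpleOddOrder G) (hL : Cfsg.InUniqueMaximal L) : L ≠ ⊥ := by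
  rintro rfl
  obtain ⟨M, ⟨hM, -⟩, hu⟩ := hL
  have hn : normalizer (M : Set G) = ⊤ := top_le_iff.mp fun g _ => by
    obtain ⟨N, hN, hgN⟩ := unique_conj (L := (⊥ : Subgroup G)) ⟨M, ⟨hM, bot_le⟩, hu⟩ g
    refine Cfsg.Lib.Coprime.conjMap_eq_self_iff.mp (hu _ ⟨?_, bot_le⟩)
    refine ⟨fun h => hM.1 (top_le_iff.mp fun x _ => ?_), fun N' hN' => ?_⟩
    · have h1 : g * x * g⁻¹ ∈ conjMap g M := h ▸ mem_top _
      rw [Cfsg.Lib.Coprime.mem_conjMap] at h1
      simpa [mul_assoc] using h1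
    · by_contra hne
      obtain ⟨N'', hN'', hle⟩ := exists_coatom_ge hne
      rw [hu N'' ⟨hN'', bot_le⟩] at hle
      have := card_le_card_group (conjMap g M)
      exact (hN'.trans_le hle).ne (eq_of_le_of_card_ge (hN'.trans_le hle).le
        (Cfsg.Lib.Coprime.card_conjMap g M).ge)
  haveI := normalizer_eq_top_iff.mp hn
  haveI := hG.2.1
  rcases IsSimpleGroup.eq_bot_or_eq_top_of_normal M inferInstance with h | h
  · subst h
    obtain ⟨x, hx⟩ : ∃ x : G, x ≠ 1 := exists_ne 1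
    have hz : zpowers x = ⊤ := hM.2 _ (bot_lt_iff_ne_bot.mpr (by simpa using hx))
    refine hG.2.2.1 ⟨⟨fun a b => ?_⟩⟩
    obtain ⟨i, rfl⟩ := mem_zpowers_iff.mp (hz ▸ mem_top a)
    obtain ⟨j, rfl⟩ := mem_zpowers_iff.mp (hz ▸ mem_top b)
    rw [← zpow_add, ← zpow_add, add_comm]
  · exact hM.1 h

end Unique

theorem ne_two (hG : Cfsg.IsMinSimpleOddOrder G) {B : Subgroup G} (hB : IsPGroup p B) (hB1 : B ≠ ⊥) :
    p ≠ 2 := by
  rintro rfl
  obtain ⟨j, hj⟩ := IsPGroup.iff_card.mp hB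
  have hj0 : j ≠ 0 := by
    rintro rfl
    exact hB1 (eq_bot_of_card_eq _ (by rw [hj, pow_zero]))
  exact Nat.not_even_iff_odd.mpr hG.1 (even_iff_two_dvd.mpr
    ((hj ▸ dvd_pow_self 2 hj0 : 2 ∣ Nat.card B).trans (card_subgroup_dvd_card B)))

theorem isPGroup_of_pow {B : Subgroup G} (h : ∀ b ∈ B, b ^ p = 1) : IsPGroup p B :=
  fun b => ⟨1, by rw [pow_one]; exact Subtype.ext (h b b.2)⟩

theorem not_isCyclic_of_card {B : Subgroup G} (hB : ∀ b ∈ B, b ^ p = 1) (hc : p ^ 2 ≤ Nat.card B) :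
    ¬ IsCyclic B := fun hcyc => by
  obtain ⟨b, hb⟩ := hcyc.exists_ofOrder_eq_natCard
  have h1 : orderOf b ∣ p := orderOf_dvd_of_pow_eq_one (Subtype.ext (hB b b.2))
  rw [hb] at h1
  have := Nat.le_of_dvd hp.out.pos h1
  have : p < p ^ 2 := lt_self_pow₀ hp.out.one_lt one_lt_two
  omega

theorem exists_elementary {k : ℕ} {X : Subgroup G} (h : ¬ Cfsg.PRankLE p k X) :
    ∃ E : Subgroup G, E ≤ X ∧ Cfsg.IsElementaryAbelian p E ∧ p ^ (k + 1) ≤ Nat.card E := by
  simp only [Cfsg.PRankLE, not_forall, not_le] at h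
  obtain ⟨F, hFc, hFp, hF⟩ := h
  refine ⟨F.map X.subtype, map_subtype_le _, ⟨⟨⟨?_⟩⟩, ?_⟩, ?_⟩
  · rintro ⟨_, a, ha, rfl⟩ ⟨_, b, hb, rfl⟩
    exact Subtype.ext (congrArg Subtype.val (ThompsonTransitivity.mul_comm_of hFc ha hb) :)
  · rintro _ ⟨x, hx, rfl⟩
    simpa using congrArg Subtype.val (hFp x hx)
  · rw [Subgroup.card_map_of_injective X.subtype_injective]
    obtain ⟨j, hj⟩ := IsPGroup.iff_card.mp (fun a => ⟨1, by
      rw [pow_one]; exact Subtype.ext (hFp a a.2)⟩ : IsPGroup p F)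
    rw [hj] at hF ⊢
    exact Nat.pow_le_pow_right hp.out.pos ((Nat.pow_lt_pow_iff_right hp.out.one_lt).mp hF)

theorem not_pRankLE_of {k : ℕ} {E X : Subgroup G} (hE : Cfsg.IsElementaryAbelian p E) (hEX : E ≤ X)
    (hcard : p ^ (k + 1) ≤ Nat.card E) : ¬ Cfsg.PRankLE p k X := fun h => by
  have h1 := h (E.subgroupOf X)
    ⟨⟨fun a b => Subtype.ext (Subtype.ext (ThompsonTransitivity.mul_comm_of hE.1 a.2 b.2))⟩⟩
    (fun a ha => Subtype.ext (by simpa using hE.2 a ha))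
  rw [Nat.card_congr (subgroupOfEquivOfLe hEX).toEquiv] at h1
  exact absurd (hcard.trans h1) (not_le.mpr (Nat.pow_lt_pow_right hp.out.one_lt k.lt_succ_self))

theorem exists_normal_sq (hp2 : p ≠ 2) {R : Subgroup G} (hR : IsPGroup p R) (hnc : ¬ IsCyclic R) :
    ∃ F : Subgroup G, F ≤ R ∧ R ≤ normalizer (F : Set G) ∧ Cfsg.IsElementaryAbelian p F ∧
      Nat.card F = p ^ 2 := by
  obtain ⟨F, hn, hF, hc⟩ := Cfsg.Lib.SolvStruct.exists_normal_elementary_sq hp2 hR hnc
  refine ⟨F.map R.subtype, map_subtype_le _, ?_, ⟨⟨⟨?_⟩⟩, ?_⟩, ?_⟩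
  · intro x hx
    refine le_normalizer_map R.subtype ⟨⟨x, hx⟩, ?_, rfl⟩
    rw [normalizer_eq_top]
    exact mem_top _
  · rintro ⟨_, a, ha, rfl⟩ ⟨_, b, hb, rfl⟩
    exact Subtype.ext (congrArg Subtype.val (ThompsonTransitivity.mul_comm_of hF.1 ha hb) :)
  · rintro _ ⟨x, hx, rfl⟩
    simpa using congrArg Subtype.val (hF.2 x hx)
  · rw [Subgroup.card_map_of_injective R.subtype_injective, hc]

theorem exists_scn3 (hp2 : p ≠ 2) {R : Subgroup G} (hR : IsPGroup p R) (hr : ¬ Cfsg.PRankLE p 2 R) :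
    ∃ A : Subgroup G, Cfsg.IsSCN R A ∧ ¬ Cfsg.PRankLE p 2 A := by
  obtain ⟨E, hER, hE, hEc⟩ := exists_elementary hr
  have hnc : ¬ IsCyclic R := fun hcyc =>
    not_isCyclic_of_card hE.2 ((Nat.pow_le_pow_right hp.out.pos (by norm_num)).trans hEc)
      (haveI := hcyc; isCyclic_of_injective (Subgroup.inclusion hER) (Subgroup.inclusion_injective hER))
  obtain ⟨F, hn, hF, hc⟩ := Cfsg.Lib.SolvStruct.exists_normal_elementary_sq hp2 hR hnc
  haveI := hn
  obtain ⟨A, -, hAn, hAc, hA3⟩ := Cfsg.Agent.S1452.result p hp2 hR hr F hF hc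
  refine ⟨A.map R.subtype, ⟨map_subtype_le _, ?_, le_antisymm ?_ (le_inf (map_subtype_le _) ?_)⟩, ?_⟩
  · intro x hx
    refine le_normalizer_map R.subtype ⟨⟨x, hx⟩, ?_, rfl⟩
    rw [normalizer_eq_top]
    exact mem_top _
  · intro x hx
    refine ⟨⟨x, hx.1⟩, hAc.le (mem_centralizer_iff.mpr fun a ha => Subtype.ext ?_), rfl⟩
    exact mem_centralizer_iff.mp hx.2 _ ⟨a, ha, rfl⟩
  · rintro _ ⟨a, ha, rfl⟩
    refine mem_centralizer_iff.mpr ?_
    rintro _ ⟨b, hb, rfl⟩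
    exact congrArg Subtype.val (mem_centralizer_iff.mp (hAc.ge ha) b hb)
  · exact fun h => hA3 (Cfsg.Lib.OddP.pRankLE_of_injective
      (A.equivMapOfInjective R.subtype R.subtype_injective).toMonoidHom (MulEquiv.injective _) h)

/-- An abelian normal subgroup containing its centralizer, in a Sylow group of `G`. -/
theorem mul_comm_of_scn {R A : Subgroup G} (hA : Cfsg.IsSCN R A) : IsMulCommutative A :=
  ⟨⟨fun a b => Subtype.ext (mem_centralizer_iff.mp (hA.2.2.ge b.2).2 a a.2)⟩⟩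

theorem not_rankLE_center {A : Subgroup G} (hAc : IsMulCommutative A) {k : ℕ}
    (h : ¬ Cfsg.PRankLE p k A) : ¬ Cfsg.RankLE k ↥(A ⊓ centralizer (A : Set G)) := by
  obtain ⟨E, hEA, hE, hEc⟩ := exists_elementary h
  exact FittingUniqueness.not_rankLE hp.out hE hEc (hEA.trans (le_inf le_rfl fun a ha =>
    mem_centralizer_iff.mpr fun b hb => ThompsonTransitivity.mul_comm_of hAc hb ha))

/-- Every proper subgroup containing a Sylow group of `M` is in `M`, when the invariant `p'`-subgroups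
are. -/
theorem le_of_sylow (hG : Cfsg.IsMinSimpleOddOrder G) {M R : Subgroup G} (hM : IsCoatom M)
    (hR : IsSylowOf p R M) (hR1 : R ≠ ⊥)
    (hinv : ∀ Y : Subgroup G, (Nat.card Y).Coprime p → R ≤ normalizer (Y : Set G) → Y ≤ M)
    {X : Subgroup G} (hX : X ≠ ⊤) (hRX : R ≤ X) : X ≤ M := by
  haveI := hG.2.2.2 M hM.1
  haveI := hG.2.2.2 X hX
  have hp2 := ne_two hG hR.2.1 hR1
  have hoddM : Odd (Nat.card M) := hG.1.of_dvd_nat (card_subgroup_dvd_card M)
  have hoddX : Odd (Nat.card X) := hG.1.of_dvd_nat (card_subgroup_dvd_card X)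
  set D := Op p M with hD
  set Y := Cfsg.Lib.Puig.centerPuigIn R with hY
  have hYM : Y ≤ M := (inf_le_left.trans (Cfsg.Lib.Puig.puigIn_le R)).trans hR.1
  have hY1 := FittingUniqueness.centerPuigIn_ne_bot hR.2.1 hR1
  have hDM : D ≤ M := PiCoreOf.le _ M
  have hRD : R ≤ normalizer (D : Set G) := hR.1.trans (PiCoreOf.le_normalizer' _ M)
  have hND : D ≠ ⊥ → normalizer (D : Set G) = M := fun h =>
    FittingUniqueness.normalizer_le_coatom hG hM h (FittingUniqueness.ne_top_of_le_coatom hM hDM)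
      (PiCoreOf.le_normalizer' _ M)
  have hNY : D = ⊥ → normalizer (Y : Set G) = M := fun h => by
    refine FittingUniqueness.normalizer_le_coatom hG hM hY1
      (FittingUniqueness.ne_top_of_le_coatom hM hYM) ?_
    have h1 := hR.factor_puig hoddM hp2
    rw [← hD, h, bot_sup_eq] at h1
    exact h1.trans inf_le_right
  have hconj : ∀ g : G, conjMap g D ≤ D → g ∈ normalizer (D : Set G) := fun g hg =>
    Cfsg.Lib.Coprime.conjMap_eq_self_iff.mp (Cfsg.Lib.Coprime.eq_of_le_of_card_eq hg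
      (Cfsg.Lib.Coprime.card_conjMap g D))
  have hcopc : ∀ g : G, (Nat.card (conjMap g D)).Coprime p := fun g => by
    rw [Cfsg.Lib.Coprime.card_conjMap]; exact coprime_Op M
  have hnconj : ∀ (g : G) (T : Subgroup G), g ∈ normalizer (T : Set G) → T ≤ normalizer (D : Set G) →
      T ≤ normalizer (conjMap g D : Set G) := fun g T hg hT => by
    rw [Cfsg.Lib.Coprime.normalizer_conjMap]
    exact (Cfsg.Lib.Coprime.conjMap_eq_self hg).ge.trans (Cfsg.Lib.Coprime.conjMap_mono hT)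
  -- `R` is a Sylow group of `G`
  have hNR : normalizer (R : Set G) ≤ M := by
    rcases eq_or_ne D ⊥ with h | h
    · exact ((Cfsg.Lib.Puig.normalizer_le_normalizer_puigIn R).trans
        (Cfsg.Lib.Puig.normalizer_puigIn_le R)).trans (hNY h).le
    · intro g hg
      have hn := hnconj g R hg hRD
      exact (hND h).le (hconj g (hR.inv_le_Op hp2 (hinv _ (hcopc g) hn) (hcopc g) hn))
  obtain ⟨P, hRP⟩ := hR.2.1.exists_le_sylow
  have hPR : (P : Subgroup G) = R := by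
    by_contra hne
    have hlt := FittingUniqueness.lt_inf_normalizer P.2 (lt_of_le_of_ne hRP fun h => hne h.symm)
    exact hlt.ne (hR.2.2 _ (P.2.to_le inf_le_left) (inf_le_right.trans hNR) hlt.le).symm
  have hRX' : IsSylowOf p R X := hPR ▸ isSylowOf_coe P (hPR.symm ▸ hRX)
  set O := Op p X with hO
  have hOn : R ≤ normalizer (O : Set G) := hRX.trans (PiCoreOf.le_normalizer' _ X)
  have hOM : O ≤ M := hinv O (coprime_Op X) hOn
  rcases eq_or_ne D ⊥ with h | hD1
  · have hO1 : O = ⊥ := le_bot_iff.mp ((hR.inv_le_Op hp2 hOM (coprime_Op X) hOn).trans h.le)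
    have h1 := hRX'.factor_puig hoddX hp2
    rw [← hO, hO1, bot_sup_eq] at h1
    exact h1.trans (inf_le_right.trans (hNY h).le)
  by_cases hr : Cfsg.PRankLE p 2 R
  · exact (hRX'.factor_rank_two hoddX hr).trans (sup_le hOM (inf_le_right.trans hNR))
  obtain ⟨A, hA, hA3⟩ := exists_scn3 hp2 hR.2.1 hr
  have hAc := mul_comm_of_scn hA
  have hAp : IsPGroup p A := hR.2.1.to_le hA.1
  have hpG : p ∣ Nat.card G := by
    obtain ⟨j, hj⟩ := IsPGroup.iff_card.mp hR.2.1
    refine dvd_trans ?_ (card_subgroup_dvd_card R)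
    rw [hj]
    refine dvd_pow_self p ?_
    rintro rfl
    exact hR1 (eq_bot_of_card_eq _ (by rw [hj, pow_zero]))
  have hr1 : ¬ Cfsg.PRankLE p 1 A := fun h => hA3 fun B hB hBp =>
    (h B hB hBp).trans (Nat.pow_le_pow_right hp.out.pos one_le_two)
  have htrans : Cfsg.TransitivityHypothesis A :=
    MinSimpleTransitivity.hypothesis_of_abelian hG hpG hAp hAc (Or.inr ⟨P, hPR.symm ▸ hA, hr1⟩)
  obtain ⟨j, hj⟩ := IsPGroup.iff_card.mp hAp
  have hj0 : j ≠ 0 := fun h0 => htrans.1 (eq_bot_of_card_eq _ (by rw [hj, h0, pow_zero]))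
  have hpA : p ∣ Nat.card A := hj ▸ dvd_pow_self p hj0
  have hKM : MinSimpleTransitivity.K A ≤ M :=
    hinv _ ((PiCoreOf.coprime_card _ _).coprime_dvd_left hpA).symm
      (hA.2.1.trans ((FittingParts.normalizer_centralizer_le A).trans (PiCoreOf.normalizer_le _ _)))
  have hinvA : ∀ W : Subgroup G, (Nat.card W).Coprime p → A ≤ normalizer (W : Set G) → W ≤ M := by
    intro W hW hAW
    refine Cfsg.Lib.Coprime.le_of_forall_sylow fun q hq => ?_
    haveI := Fact.mk hq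
    obtain ⟨T, hT⟩ := Cfsg.Lib.Coprime.exists_invariant_sylow hAW
      (by rw [hj]; exact (hW.pow_right j).symm) (Or.inl (htrans |> MinSimpleTransitivity.isSolvable hG)) q
    refine ⟨T, ?_⟩
    rcases eq_or_ne q p with rfl | hqp
    · have hqW : ¬ q ∣ Nat.card W := fun h => hq.not_dvd_one (hW ▸ Nat.dvd_gcd h dvd_rfl)
      have hbot : (T : Subgroup W) = ⊥ := eq_bot_of_card_eq _ (by
        obtain ⟨i, hi⟩ := IsPGroup.iff_card.mp T.2
        rcases i with _ | i
        · rw [hi, pow_zero]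
        · exact absurd ((hi ▸ dvd_pow_self q i.succ_ne_zero : q ∣ Nat.card (T : Subgroup W)).trans
            (card_subgroup_dvd_card _)) hqW)
      rw [hbot, Subgroup.map_bot]
      exact bot_le
    have hqA : ¬ q ∣ Nat.card A := fun h => hqp
      ((Nat.prime_dvd_prime_iff_eq hq hp.out).mp (hq.dvd_of_dvd_pow (hj ▸ h)))
    have htr := MinSimpleTransitivity.transitive_rank_three hG htrans (not_rankLE_center hAc hA3) hqA
    have hsn : (A.subgroupOf R).IsSubnormal := by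
      haveI : (A.subgroupOf R).Normal := normal_subgroupOf_of_le_normalizer hA.2.1
      exact Normal.isSubnormal inferInstance
    obtain ⟨-, -, hsub, -⟩ := SubnormalTransitivity.conclusion hG htrans hqA
      (FittingUniqueness.ne_top_of_le_coatom hM hR.1) (fun r hr hrd => by
        obtain ⟨i, hi⟩ := IsPGroup.iff_card.mp hR.2.1
        rw [hi] at hrd
        rw [(Nat.prime_dvd_prime_iff_eq hr hp.out).mp (hr.dvd_of_dvd_pow hrd)]
        exact hpA) hA.1 hsn htr
    obtain ⟨Q₀, hQ₀, -⟩ := Transitivity.exists_max (A := R) (q := q) (Y := ⊥) IsPGroup.of_bot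
      (fun b _ => by rw [normalizer_eq_top]; exact mem_top b)
    have hQ₀M : Q₀ ≤ M := hinv Q₀ (FittingParts.coprime_prime hp.out hqp
      (Transitivity.mem_inv_iff.mp hQ₀.1).1) (Transitivity.mem_inv_iff.mp hQ₀.1).2
    obtain ⟨S, hS, hTS⟩ := Transitivity.exists_max (A := A) (T.2.map W.subtype) hT
    obtain ⟨k, hk, hkS⟩ := htr Q₀ (hsub hQ₀) S hS
    refine hTS.trans ?_
    rw [hkS]
    exact (Cfsg.Lib.Coprime.conjMap_mono hQ₀M).trans
      (Cfsg.Lib.Coprime.conjMap_eq_self (le_normalizer (hKM hk))).le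
  obtain ⟨T, hTR, -, hfac, hAT⟩ := hRX'.factor hoddX
  refine hfac.trans (sup_le hOM fun g hg => (hND hD1).le (hconj g ?_))
  have hn : A ≤ normalizer (conjMap g D : Set G) :=
    (hAT A hA.1 hAc hA.2.1).trans (hnconj g T hg.2 (hTR.trans hRD))
  exact PiCoreOf.le_of_constrained (p := p) (fun r hr' h => (Nat.prime_dvd_prime_iff_eq hr' hp.out).mp h)
    InvariantCore.quotientConstrained_of_solvable (fun h' => absurd h' hp2) (hA.1.trans hR.1)
    (hinvA _ (hcopc g) hn) hAp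
    (fun x hx hxp => PiCoreOf.mem_of_scn P (hPR ▸ hA.2.1) (hPR ▸ hA.2.2) hx hxp) (hcopc g) hn

/-- A nontrivial `p`-subgroup whose invariant `p'`-subgroups are in `M` lies in no other maximal
subgroup. -/
theorem unique_of_inv_le (hG : Cfsg.IsMinSimpleOddOrder G) {M B : Subgroup G} (hM : IsCoatom M)
    (hBM : B ≤ M) (hBp : IsPGroup p B) (hB1 : B ≠ ⊥)
    (hinv : ∀ Y : Subgroup G, (Nat.card Y).Coprime p → B ≤ normalizer (Y : Set G) → Y ≤ M) :
    Cfsg.InUniqueMaximal B := by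
  have hp2 := ne_two hG hBp hB1
  refine ⟨M, ⟨hM, hBM⟩, fun L hL => ?_⟩
  by_contra hne
  obtain ⟨R, -, hR⟩ := Finite.exists_le_maximal
    (p := fun R : Subgroup G => IsPGroup p R ∧ B ≤ R ∧ R ≤ M ∧ ∃ L, IsCoatom L ∧ L ≠ M ∧ R ≤ L)
    (a := B) ⟨hBp, le_rfl, hBM, L, hL.1, hne, hL.2⟩
  obtain ⟨hRp, hBR, hRM, L, hLc, hLne, hRL⟩ := hR.prop
  have hbig : ∀ R' L' : Subgroup G, IsPGroup p R' → R ≤ R' → R' ≤ M → R' ≤ L' → IsCoatom L' →
      L' ≠ M → R' = R := fun R' L' hp' h1 h2 h3 h4 h5 =>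
    le_antisymm (hR.le_of_ge ⟨hp', hBR.trans h1, h2, L', h4, h5, h3⟩ h1) h1
  have hR1 : R ≠ ⊥ := fun h => hB1 (le_bot_iff.mp (h ▸ hBR))
  have hLM : ¬ L ≤ M := fun h => by
    rcases h.lt_or_eq with h' | h'
    · exact hM.1 (hLc.2 M h')
    · exact hLne h'
  by_cases hsyl : ∀ S : Subgroup G, IsPGroup p S → S ≤ M → R ≤ S → S = R
  · exact hLM (le_of_sylow hG hM ⟨hRM, hRp, hsyl⟩ hR1
      (fun Y hY hn => hinv Y hY (hBR.trans hn)) hLc.1 hRL)
  push Not at hsyl
  obtain ⟨S, hS, hSM, hRS, hSR⟩ := hsyl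
  have hlt := FittingUniqueness.lt_inf_normalizer hS (lt_of_le_of_ne hRS hSR.symm)
  have hkey : ∀ W : Subgroup G, W ≠ ⊥ → W ≤ R → normalizer (R : Set G) ≤ normalizer (W : Set G) →
      normalizer (W : Set G) ≤ M := by
    intro W hW1 hWR hW
    obtain ⟨N, hN, hle⟩ := exists_coatom_ge (MinSimpleTransitivity.normalizer_ne_top hG hW1
      (FittingUniqueness.ne_top_of_le_coatom hM (hWR.trans hRM)))
    by_cases hNM : N = M
    · exact hNM ▸ hle
    · exact absurd (hbig _ N (hS.to_le inf_le_left) hlt.le (inf_le_left.trans hSM)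
        ((inf_le_right.trans hW).trans hle) hN hNM) hlt.ne'
  have hLsyl : IsSylowOf p R L := by
    refine ⟨hRL, hRp, fun T hT hTL hRT => ?_⟩
    by_contra hne'
    have hlt' := FittingUniqueness.lt_inf_normalizer hT (lt_of_le_of_ne hRT fun h => hne' h.symm)
    exact hlt'.ne (hbig _ L (hT.to_le inf_le_left) hlt'.le
      (inf_le_right.trans (hkey R hR1 le_rfl le_rfl)) (inf_le_left.trans hTL) hLc hLne).symm
  haveI := hG.2.2.2 L hLc.1
  refine hLM ((hLsyl.factor_puig (hG.1.of_dvd_nat (card_subgroup_dvd_card L)) hp2).trans (sup_le ?_ ?_))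
  · exact hinv _ (coprime_Op L) ((hBR.trans hRL).trans (PiCoreOf.le_normalizer' _ L))
  · exact inf_le_right.trans (hkey _ (FittingUniqueness.centerPuigIn_ne_bot hRp hR1)
      (inf_le_left.trans (Cfsg.Lib.Puig.puigIn_le R))
      ((Cfsg.Lib.Puig.normalizer_le_normalizer_puigIn R).trans (Cfsg.Lib.Puig.normalizer_puigIn_le R)))

/-- Lemma 9.1. -/
theorem unique_of_elementary (hG : Cfsg.IsMinSimpleOddOrder G) {M B : Subgroup G} (hM : IsCoatom M)
    (hBM : B ≤ M) (hBe : Cfsg.IsElementaryAbelian p B) (hnc : ¬ IsCyclic B)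
    (h : (∀ b ∈ B, b ≠ 1 → centralizer ({b} : Set G) ≤ M) ∨
      ∀ Y ∈ Cfsg.invSubgroups ⊤ B (Cfsg.primesNotDvd p), Y ≤ M) :
    Cfsg.InUniqueMaximal B := by
  have hBp : IsPGroup p B := isPGroup_of_pow hBe.2
  have hB1 : B ≠ ⊥ := fun h0 => hnc (by rw [h0]; infer_instance)
  refine unique_of_inv_le hG hM hBM hBp hB1 fun Y hY hBY => ?_
  rcases h with h | h
  · haveI := hBe.1
    obtain ⟨j, hj⟩ := IsPGroup.iff_card.mp hBp
    rw [← Cfsg.Lib.Coprime.centralizerJoin_eq hnc hBY (by rw [hj]; exact (hY.pow_right j).symm)]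
    exact iSup₂_le fun b hb => inf_le_right.trans (h b hb.1 hb.2)
  · exact h Y ⟨le_top, PiCoreOf.isPiNat_of_coprime hY.symm, hBY⟩

/-- Lemma 9.2. -/
theorem unique_of_centralizes (hG : Cfsg.IsMinSimpleOddOrder G) {L K : Subgroup G}
    (hL : Cfsg.InUniqueMaximal L) (hK : K ≤ centralizer (L : Set G)) {B : Subgroup G}
    (hBK : B ≤ K) (hBe : Cfsg.IsElementaryAbelian p B) (hB : p ^ 2 ≤ Nat.card B) :
    Cfsg.InUniqueMaximal K := by
  obtain ⟨M, ⟨hM, hLM⟩, hu⟩ := hL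
  have hL : Cfsg.InUniqueMaximal L := ⟨M, ⟨hM, hLM⟩, hu⟩
  have hL1 := ne_bot_of_unique hG hL
  have hCM : centralizer (L : Set G) ≤ M := (centralizer_le_normalizer _).trans
    (le_of_unique hL hM hLM (MinSimpleTransitivity.normalizer_ne_top hG hL1
      (FittingUniqueness.ne_top_of_le_coatom hM hLM)) le_normalizer)
  refine unique_of_le (unique_of_elementary hG hM ((hBK.trans hK).trans hCM) hBe
    (not_isCyclic_of_card hBe.2 hB) (Or.inl fun b hb hb1 => ?_)) hBK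
    (FittingUniqueness.ne_top_of_le_coatom hM (hK.trans hCM))
  refine le_of_unique hL hM hLM (MinSimpleTransitivity.centralizer_singleton_ne_top hG hb1) ?_
  exact fun l hl => mem_centralizer_singleton_iff.mpr
    (mem_centralizer_iff.mp (hK (hBK hb)) l hl)

/-- The centralizer of a normal subgroup of order `p²` has small index. -/
theorem exists_sq_centralizing {P F E : Subgroup G} (hP : IsPGroup p P) (hFP : F ≤ P)
    (hPF : P ≤ normalizer (F : Set G)) (hF : Cfsg.IsElementaryAbelian p F) (hF2 : Nat.card F = p ^ 2)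
    (hEP : E ≤ P) (hE : Cfsg.IsElementaryAbelian p E) (hE3 : p ^ 3 ≤ Nat.card E) :
    ∃ W : Subgroup G, W ≤ E ∧ W ≤ centralizer (F : Set G) ∧ p ^ 2 ≤ Nat.card W := by
  set F' := F.subgroupOf P with hF'
  have hF'c : Nat.card F' = p ^ 2 := by rw [Nat.card_congr (subgroupOfEquivOfLe hFP).toEquiv, hF2]
  haveI : F'.Normal := normal_subgroupOf_of_le_normalizer hPF
  haveI : Group.IsNilpotent P := hP.isNilpotent
  have hF'1 : F' ≠ ⊥ := fun h => by
    rw [h, Subgroup.card_bot] at hF'c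
    exact absurd hF'c.symm (Nat.one_lt_pow two_ne_zero hp.out.one_lt).ne'
  obtain ⟨u, hu, hu1⟩ : ∃ u ∈ F' ⊓ center P, u ≠ 1 := by
    by_contra hall
    push Not at hall
    exact Cfsg.Lib.Coprime.inf_center_ne_bot F' hF'1 ((eq_bot_iff_forall _).mpr hall)
  obtain ⟨f, hf, hfu⟩ : ∃ f ∈ F', f ∉ zpowers u := by
    by_contra hall
    push Not at hall
    have h1 := Nat.le_of_dvd Nat.card_pos (card_dvd_of_le hall)
    rw [hF'c, Nat.card_zpowers] at h1
    have h2 := Nat.le_of_dvd hp.out.pos (orderOf_dvd_of_pow_eq_one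
      (Subtype.ext (by simpa using hF.2 (u : G) hu.1) : u ^ p = 1))
    have : p < p ^ 2 := lt_self_pow₀ hp.out.one_lt one_lt_two
    omega
  set C := centralizer ({f} : Set P) with hC
  have horb : C.index < p ^ 2 := by
    have h1 : C.index ≤ Set.ncard ((F' : Set P) \ {1}) := by
      rw [Subgroup.index_eq_card]
      let φ : P ⧸ C → ((F' : Set P) \ {1} : Set P) := Quotient.lift
        (fun x => ⟨x * f * x⁻¹, (inferInstance : F'.Normal).conj_mem f hf x, fun h => by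
          rw [Set.mem_singleton_iff, conj_eq_one_iff] at h
          exact hfu (h ▸ one_mem _)⟩) fun a b hab => by
        change QuotientGroup.leftRel C a b at hab
        rw [QuotientGroup.leftRel_apply, hC, mem_centralizer_singleton_iff] at hab
        refine Subtype.ext (?_ : a * f * a⁻¹ = b * f * b⁻¹)
        calc a * f * a⁻¹ = a * (f * (a⁻¹ * b)) * b⁻¹ := by group
          _ = a * ((a⁻¹ * b) * f) * b⁻¹ := by rw [hab]
          _ = _ := by group
      refine (Nat.card_le_card_of_injective φ ?_).trans_eq (Nat.card_coe_set_eq _)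
      rintro ⟨a⟩ ⟨b⟩ h
      have h' : a * f * a⁻¹ = b * f * b⁻¹ := congrArg Subtype.val h
      refine Quotient.sound (QuotientGroup.leftRel_apply.mpr ?_)
      rw [hC, mem_centralizer_singleton_iff]
      calc a⁻¹ * b * f = a⁻¹ * (b * f * b⁻¹) * b := by group
        _ = a⁻¹ * (a * f * a⁻¹) * b := by rw [h']
        _ = _ := by group
    refine lt_of_le_of_lt h1 ?_
    refine lt_of_lt_of_eq ?_ ((Nat.card_coe_set_eq (F' : Set P)).symm.trans hF'c)
    exact Set.ncard_sdiff_singleton_lt_of_mem (one_mem F') (Set.toFinite _)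
  have hCp : C.index ≤ p := by
    obtain ⟨n, hn⟩ := hP.index C
    rw [hn] at horb ⊢
    have := (Nat.pow_lt_pow_iff_right hp.out.one_lt).mp horb
    exact (Nat.pow_le_pow_right hp.out.pos (Nat.le_of_lt_succ this)).trans_eq (pow_one p)
  set E' := E.subgroupOf P with hE'
  have hrel : C.relIndex E' ≤ p := by
    refine le_trans (relIndex_le_of_le_right (le_top : E' ≤ ⊤) ?_) (by rwa [relIndex_top_right])
    rw [relIndex_top_right]
    exact index_ne_zero_of_finite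
  refine ⟨(C ⊓ E').map P.subtype, ?_, ?_, ?_⟩
  · rintro _ ⟨e, he, rfl⟩
    exact he.2
  · rintro _ ⟨e, he, rfl⟩
    refine mem_centralizer_iff.mpr fun x hx => ?_
    have hcl : F' ≤ centralizer ({e} : Set P) := by
      have h1 : zpowers u ⊔ zpowers f ≤ centralizer ({e} : Set P) := sup_le
        (zpowers_le.mpr (mem_centralizer_singleton_iff.mpr (mem_center_iff.mp hu.2 e).symm))
        (zpowers_le.mpr (mem_centralizer_singleton_iff.mpr (mem_centralizer_singleton_iff.mp he.1).symm))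
      refine le_trans (le_of_eq ?_) h1
      symm
      have hle : zpowers u ⊔ zpowers f ≤ F' := sup_le (zpowers_le.mpr hu.1) (zpowers_le.mpr hf)
      refine eq_of_le_of_card_ge hle ?_
      have hlt : zpowers u < zpowers u ⊔ zpowers f := lt_of_le_of_ne le_sup_left fun h =>
        hfu (h.symm ▸ mem_sup_right (mem_zpowers f))
      obtain ⟨i, hi⟩ := IsPGroup.iff_card.mp (hP.to_subgroup (zpowers u ⊔ zpowers f))
      have h2 : Nat.card (zpowers u) < Nat.card (zpowers u ⊔ zpowers f : Subgroup P) :=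
        lt_of_le_of_ne (Nat.le_of_dvd Nat.card_pos (card_dvd_of_le hlt.le))
          fun h => hlt.ne (eq_of_le_of_card_ge hlt.le h.ge)
      rw [Nat.card_zpowers, orderOf_eq_prime (Subtype.ext (by simpa using hF.2 (u : G) hu.1) : u ^ p = 1)
        hu1, hi] at h2
      rw [hF'c, hi]
      exact Nat.pow_le_pow_right hp.out.pos
        ((Nat.pow_lt_pow_iff_right hp.out.one_lt).mp (by rwa [pow_one] : p ^ 1 < p ^ i))
    exact congrArg Subtype.val (mem_centralizer_singleton_iff.mp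
      (hcl (show (⟨x, hFP hx⟩ : P) ∈ F' from hx)))
  · rw [Subgroup.card_map_of_injective P.subtype_injective]
    have h1 : Nat.card (C ⊓ E' : Subgroup P) * C.relIndex E' = Nat.card E' := by
      rw [← inf_relIndex_right, ← relIndex_bot_left, relIndex_mul_relIndex _ _ _ bot_le inf_le_right,
        relIndex_bot_left]
    have h2 : Nat.card E' = Nat.card E := Nat.card_congr (subgroupOfEquivOfLe hEP).toEquiv
    have h3 : p ^ 2 * p ≤ Nat.card (C ⊓ E' : Subgroup P) * p := by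
      calc p ^ 2 * p = p ^ 3 := by ring
        _ ≤ Nat.card E' := h2.symm ▸ hE3
        _ ≤ _ := h1 ▸ Nat.mul_le_mul_left _ hrel
    exact Nat.le_of_mul_le_mul_right h3 hp.out.pos

/-- Lemma 9.3. -/
theorem unique_of_rank_three (hG : Cfsg.IsMinSimpleOddOrder G) {A B : Subgroup G} (hAp : IsPGroup p A)
    (hAc : IsMulCommutative A) (hA3 : ¬ Cfsg.PRankLE p 2 A) (hAU : Cfsg.InUniqueMaximal A)
    (hBp : IsPGroup p B) (hBnc : ¬ IsCyclic B)
    (hB3 : ¬ Cfsg.PRankLE p 2 (centralizer (B : Set G))) : Cfsg.InUniqueMaximal B := by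
  have hB1 : B ≠ ⊥ := fun h0 => hBnc (by rw [h0]; infer_instance)
  have hp2 := ne_two hG hBp hB1
  obtain ⟨E, hEC, hE, hEc⟩ := exists_elementary hB3
  have hBE : B ≤ centralizer (E : Set G) := le_centralizer_iff.mp hEC
  have hp' : IsPGroup p (E ⊔ B : Subgroup G) := (isPGroup_of_pow hE.2).to_sup_of_normal_left' hBp
    (hBE.trans (centralizer_le_normalizer _))
  obtain ⟨P, hP⟩ := hp'.exists_le_sylow
  obtain ⟨P', hP'⟩ := hAp.exists_le_sylow
  obtain ⟨g, hg⟩ := MulAction.exists_smul_eq G P' P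
  set A' := conjMap g A with hA'
  have hA'P : A' ≤ (P : Subgroup G) := by
    rw [← hg]
    exact Cfsg.Lib.Coprime.conjMap_mono hP'
  have hA'U := unique_conj hAU g
  have hA'c : IsMulCommutative A' := ⟨⟨by
    rintro ⟨_, a, ha, rfl⟩ ⟨_, b, hb, rfl⟩
    exact Subtype.ext (by
      simpa using congrArg (MulAut.conj g) (ThompsonTransitivity.mul_comm_of hAc ha hb))⟩⟩
  obtain ⟨E₁, hE₁A, hE₁, hE₁c⟩ := exists_elementary (X := A') (p := p) (k := 2) fun h => hA3
    (Cfsg.Lib.OddP.pRankLE_of_injective (A.equivMapOfInjective _ (MulAut.conj g).injective).toMonoidHom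
      (MulEquiv.injective _) h)
  have hnc : ¬ IsCyclic (P : Subgroup G) := fun hcyc => hBnc
    (haveI := hcyc; isCyclic_of_injective (Subgroup.inclusion (le_sup_right.trans hP))
      (Subgroup.inclusion_injective _))
  obtain ⟨F, hFP, hPF, hF, hF2⟩ := exists_normal_sq hp2 P.2 hnc
  have hsq : ∀ (L : Subgroup G), Cfsg.InUniqueMaximal L → ∀ K : Subgroup G, K ≤ centralizer (L : Set G) →
      ∀ D : Subgroup G, D ≤ K → Cfsg.IsElementaryAbelian p D → p ^ 2 ≤ Nat.card D →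
      Cfsg.InUniqueMaximal K := fun L hL K hK D hDK hD hDc => unique_of_centralizes hG hL hK hDK hD hDc
  have h23 : p ^ 2 ≤ p ^ 3 := Nat.pow_le_pow_right hp.out.pos (by norm_num)
  have helem : ∀ {X Y : Subgroup G}, Y ≤ X → Cfsg.IsElementaryAbelian p X → Cfsg.IsElementaryAbelian p Y :=
    fun hYX hX => ⟨⟨⟨fun a b => Subtype.ext (ThompsonTransitivity.mul_comm_of hX.1 (hYX a.2) (hYX b.2))⟩⟩,
      fun y hy => hX.2 y (hYX hy)⟩
  have hE₁U : Cfsg.InUniqueMaximal E₁ := hsq A' hA'U E₁ (hE₁A.trans fun a ha =>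
    mem_centralizer_iff.mpr fun b hb => ThompsonTransitivity.mul_comm_of hA'c hb ha) E₁ le_rfl hE₁
    (h23.trans hE₁c)
  obtain ⟨W, hWE, hWF, hWc⟩ := exists_sq_centralizing P.2 hFP hPF hF hF2 (hE₁A.trans hA'P) hE₁ hE₁c
  have hWU : Cfsg.InUniqueMaximal W := hsq E₁ hE₁U W (hWE.trans fun a ha =>
    mem_centralizer_iff.mpr fun b hb => ThompsonTransitivity.mul_comm_of hE₁.1 hb ha) W le_rfl
    (helem hWE hE₁) hWc
  have hFU : Cfsg.InUniqueMaximal F := hsq W hWU F (le_centralizer_iff.mp hWF) F le_rfl hF hF2.ge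
  obtain ⟨V, hVE, hVF, hVc⟩ := exists_sq_centralizing P.2 hFP hPF hF hF2 (le_sup_left.trans hP) hE hEc
  have hVU : Cfsg.InUniqueMaximal V := hsq F hFU V hVF V le_rfl (helem hVE hE) hVc
  have hEU : Cfsg.InUniqueMaximal E := hsq V hVU E (fun a ha =>
    mem_centralizer_iff.mpr fun b hb => ThompsonTransitivity.mul_comm_of hE.1 (hVE hb) ha) E le_rfl hE
    (h23.trans hEc)
  obtain ⟨D, hDB, -, hD, hDc⟩ := exists_normal_sq hp2 hBp hBnc
  exact hsq E hEU B hBE D hDB hD hDc.ge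

/-- Lemma 9.4. -/
theorem unique_of_fitting (hG : Cfsg.IsMinSimpleOddOrder G) {M : Subgroup G} (hM : IsCoatom M)
    (hF : ¬ Cfsg.PRankLE p 2 (Cfsg.fittingOf M)) {A : Subgroup G} (hAp : IsPGroup p A)
    (hAc : IsMulCommutative A) (hA3 : ¬ Cfsg.PRankLE p 2 A) : Cfsg.InUniqueMaximal A := by
  obtain ⟨E, hEF, hE, hEc⟩ := exists_elementary hF
  obtain ⟨A₀, hEA₀, hA₀⟩ := Finite.exists_le_maximal
    (p := fun B : Subgroup G => B ≤ Cfsg.fittingOf M ∧ Cfsg.IsElementaryAbelian p B) (a := E) ⟨hEF, hE⟩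
  have hA₀3 : p ^ 3 ≤ Nat.card A₀ := hEc.trans (Nat.le_of_dvd Nat.card_pos (card_dvd_of_le hEA₀))
  have h23 : p ^ 2 ≤ p ^ 3 := Nat.pow_le_pow_right hp.out.pos (by norm_num)
  obtain ⟨A₁, hA₁p, hA₁c, hA₁3, hA₁U⟩ : ∃ A₁ : Subgroup G, IsPGroup p A₁ ∧ IsMulCommutative A₁ ∧
      ¬ Cfsg.PRankLE p 2 A₁ ∧ Cfsg.InUniqueMaximal A₁ := by
    by_cases hnp : IsPGroup p (Cfsg.fittingOf M)
    · obtain ⟨P⟩ : Nonempty (Sylow p M) := inferInstance
      have hF1 : Cfsg.fittingOf M ≠ ⊥ := fun h => by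
        rw [h, le_bot_iff] at hEF
        rw [hEF, Subgroup.card_bot] at hEc
        exact absurd hEc (not_le.mpr (Nat.one_lt_pow (by norm_num) hp.out.one_lt))
      obtain ⟨-, hA⟩ := FittingUniqueness.unique_pGroup hG hM hF1 hnp P
      set R := (P : Subgroup M).map M.subtype
      have hp2 := ne_two hG hnp hF1
      have hFR : Cfsg.fittingOf M ≤ R := by
        intro x hx
        have hxM := FittingParts.fittingOf_le M hx
        obtain ⟨y, hy, hyx⟩ := FittingParts.le_of_isPGroup (FittingParts.fittingOf_le M)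
          (FittingParts.le_normalizer_fittingOf M) hnp hx
        change y ∈ Cfsg.piCore {p} M at hy
        rw [FittingParts.piCore_singleton] at hy
        exact ⟨y, Cfsg.Lib.Coprime.pCore_le_sylow p P hy, hyx⟩
      obtain ⟨A₁, hA₁, hA₁3⟩ := exists_scn3 hp2 (P.2.map _ : IsPGroup p R)
        (not_pRankLE_of hE (hEF.trans hFR) hEc)
      exact ⟨A₁, (P.2.map _ : IsPGroup p R).to_le hA₁.1, mul_comm_of_scn hA₁, hA₁3, (hA A₁ hA₁ hA₁3).2⟩
    · have h := FittingUniqueness.unique_not_pGroup hG hM hA₀.prop.1 hA₀.prop.2 hA₀3 hnp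
      exact ⟨A₀, isPGroup_of_pow hA₀.prop.2.2, hA₀.prop.2.1, not_pRankLE_of hA₀.prop.2 le_rfl hA₀3,
        unique_of_centralizes hG h (le_centralizer_iff.mp inf_le_right) le_rfl hA₀.prop.2 (h23.trans hA₀3)⟩
  obtain ⟨E', hE'A, hE', hE'c⟩ := exists_elementary hA3
  refine unique_of_rank_three hG hA₁p hA₁c hA₁3 hA₁U hAp (fun hcyc =>
    not_isCyclic_of_card hE'.2 (h23.trans hE'c)
      (haveI := hcyc; isCyclic_of_injective (Subgroup.inclusion hE'A) (Subgroup.inclusion_injective hE'A)))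
    (not_pRankLE_of hE' (hE'A.trans fun a ha => mem_centralizer_iff.mpr fun b hb =>
      ThompsonTransitivity.mul_comm_of hAc hb ha) hE'c)

end Cfsg.Lib.OddLocal.Uniqueness
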