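import Cfsg.Agent.Coprime.Sylow
import Cfsg.Agent.Coprime.Generation
import Cfsg.Agent.Elementary.Basics

/-!
# The transitivity theorem
-/

set_option linter.unusedSectionVars false
set_option linter.unusedVariables false
set_option linter.style.haveILetI false

namespace Cfsg.Lib.OddLocal.Transitivity

open Subgroup
open Cfsg.Lib.Coprime (conjMap mem_conjMap)

universe u

variable {G : Type u} [Group G] [Finite G]

/-- Conjugate under an element of `K`. -/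
def ConjUnder (K Q₁ Q₂ : Subgroup G) : Prop := ∃ k ∈ K, Q₂ = Q₁.map (MulAut.conj k).toMonoidHom

theorem ConjUnder.refl (K Q : Subgroup G) : ConjUnder K Q Q :=
  ⟨1, one_mem K, (Cfsg.Lib.Coprime.conjMap_one Q).symm⟩

theorem ConjUnder.symm {K Q₁ Q₂ : Subgroup G} : ConjUnder K Q₁ Q₂ → ConjUnder K Q₂ Q₁ := by
  rintro ⟨k, hk, rfl⟩
  exact ⟨k⁻¹, inv_mem hk, (Cfsg.Lib.Coprime.conjMap_inv_conjMap k Q₁).symm⟩

theorem ConjUnder.trans {K Q₁ Q₂ Q₃ : Subgroup G} :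
    ConjUnder K Q₁ Q₂ → ConjUnder K Q₂ Q₃ → ConjUnder K Q₁ Q₃ := by
  rintro ⟨k, hk, rfl⟩ ⟨l, hl, rfl⟩
  exact ⟨l * k, mul_mem hl hk, Cfsg.Lib.Coprime.conjMap_mul l k Q₁⟩

section Primes

variable {A : Subgroup G} {q : ℕ} [hq : Fact q.Prime]

theorem isPGroup_of_primes {Y : Subgroup G} (h : ∀ p : ℕ, p.Prime → p ∣ Nat.card Y → p ∈ ({q} : Set ℕ)) :
    IsPGroup q Y :=
  IsPGroup.of_card (n := (Nat.card Y).primeFactorsList.length)
    (Nat.eq_prime_pow_of_unique_prime_dvd Nat.card_pos.ne' fun {d} hd hdd =>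
      Set.mem_singleton_iff.mp (h d hd hdd))

theorem mem_inv_iff {Y : Subgroup G} :
    Y ∈ Cfsg.invSubgroups ⊤ A {q} ↔ IsPGroup q Y ∧ A ≤ normalizer (Y : Set G) := by
  constructor
  · exact fun h => ⟨isPGroup_of_primes h.2.1, h.2.2⟩
  · rintro ⟨h1, h2⟩
    refine ⟨le_top, fun p hp hpd => ?_, h2⟩
    obtain ⟨k, hk⟩ := IsPGroup.iff_card.mp h1
    rw [hk] at hpd
    exact Set.mem_singleton_iff.mpr
      ((Nat.prime_dvd_prime_iff_eq hp hq.out).mp (hp.dvd_of_dvd_pow hpd))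

theorem exists_max {Y : Subgroup G} (h1 : IsPGroup q Y) (h2 : A ≤ normalizer (Y : Set G)) :
    ∃ Q ∈ Cfsg.maxInvSubgroups ⊤ A {q}, Y ≤ Q := by
  have h := mem_inv_iff.mpr ⟨h1, h2⟩
  obtain ⟨Q, hYQ, hQ⟩ := Finite.exists_le_maximal (p := fun Z => Z ∈ Cfsg.invSubgroups ⊤ A {q}) h
  exact ⟨Q, ⟨hQ.prop, fun R hR hQR => le_antisymm (hQ.le_of_ge hR hQR) hQR⟩, hYQ⟩

theorem conjMap_centralizes {c : G} (hc : c ∈ centralizer (A : Set G)) : conjMap c A = A :=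
  Cfsg.Lib.Coprime.conjMap_eq_self (centralizer_le_normalizer _ hc)

theorem mem_inv_conj {Q : Subgroup G} (hQ : Q ∈ Cfsg.invSubgroups ⊤ A {q}) {c : G}
    (hc : c ∈ centralizer (A : Set G)) : conjMap c Q ∈ Cfsg.invSubgroups ⊤ A {q} := by
  obtain ⟨h1, h2⟩ := mem_inv_iff.mp hQ
  refine mem_inv_iff.mpr ⟨h1.map _, fun a ha => ?_⟩
  refine Cfsg.Lib.Coprime.conjMap_eq_self_iff.mp ?_
  rw [Cfsg.Lib.Coprime.conjMap_mul, show a * c = c * a from (mem_centralizer_iff.mp hc a ha),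
    ← Cfsg.Lib.Coprime.conjMap_mul, Cfsg.Lib.Coprime.conjMap_eq_self (h2 ha)]

theorem mem_max_conj {Q : Subgroup G} (hQ : Q ∈ Cfsg.maxInvSubgroups ⊤ A {q}) {c : G}
    (hc : c ∈ centralizer (A : Set G)) : conjMap c Q ∈ Cfsg.maxInvSubgroups ⊤ A {q} := by
  refine ⟨mem_inv_conj hQ.1 hc, fun R hR hle => ?_⟩
  have h1 := hQ.2 _ (mem_inv_conj hR (inv_mem hc))
    (by simpa [Cfsg.Lib.Coprime.conjMap_inv_conjMap] using
      Cfsg.Lib.Coprime.conjMap_mono (g := c⁻¹) hle)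
  rw [← h1, Cfsg.Lib.Coprime.conjMap_conjMap_inv]

/-- One step: pairs with bigger intersections are conjugate, so this pair is. -/
theorem chain (hA : Group.IsSolvable A) {K : Subgroup G} (hKc : K ≤ centralizer (A : Set G))
    (hK : ∀ c ∈ centralizer (A : Set G), (orderOf c).Coprime (Nat.card A) → c ∈ K) {d : ℕ}
    (hbig : ∀ S ∈ Cfsg.maxInvSubgroups ⊤ A {q}, ∀ T ∈ Cfsg.maxInvSubgroups ⊤ A {q},
      d < Nat.card (S ⊓ T : Subgroup G) → ConjUnder K S T)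
    {Q₁ Q₂ : Subgroup G} (h₁ : Q₁ ∈ Cfsg.maxInvSubgroups ⊤ A {q})
    (h₂ : Q₂ ∈ Cfsg.maxInvSubgroups ⊤ A {q}) {M R₁ R₂ : Subgroup G}
    (hAM : A ≤ normalizer (M : Set G)) (hM : (Nat.card A).Coprime (Nat.card M))
    (hR₁ : R₁ ≤ Q₁ ⊓ M) (hR₂ : R₂ ≤ Q₂ ⊓ M) (hA₁ : A ≤ normalizer (R₁ : Set G))
    (hA₂ : A ≤ normalizer (R₂ : Set G)) (hd₁ : d < Nat.card R₁) (hd₂ : d < Nat.card R₂) :
    ConjUnder K Q₁ Q₂ := by
  have hp₁ : IsPGroup q R₁ := (mem_inv_iff.mp h₁.1).1.to_le (hR₁.trans inf_le_left)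
  have hp₂ : IsPGroup q R₂ := (mem_inv_iff.mp h₂.1).1.to_le (hR₂.trans inf_le_left)
  obtain ⟨T₁, hT₁, hAT₁⟩ := Cfsg.Lib.Coprime.exists_invariant_sylow_ge hAM hM (Or.inl hA) q
    (hR₁.trans inf_le_right) hp₁ hA₁
  obtain ⟨T₂, hT₂, hAT₂⟩ := Cfsg.Lib.Coprime.exists_invariant_sylow_ge hAM hM (Or.inl hA) q
    (hR₂.trans inf_le_right) hp₂ hA₂
  obtain ⟨c, hc, hcT⟩ := Cfsg.Lib.Coprime.invariant_sylow_conj hAM hM (Or.inl hA) q T₁ T₂ hAT₁ hAT₂
  have hcK : (c : G) ∈ K := hK _ hc (by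
    rw [Subgroup.orderOf_coe]
    exact (hM.coprime_dvd_right (orderOf_dvd_natCard c)).symm)
  obtain ⟨S₁, hS₁, hTS₁⟩ := exists_max (A := A) (T₁.2.map M.subtype) hAT₁
  have hc' : (c : G) ∈ centralizer (A : Set G) := hc
  have hS₁' := mem_max_conj hS₁ hc'
  have e1 : ConjUnder K Q₁ S₁ := hbig _ h₁ _ hS₁ (hd₁.trans_le (Nat.le_of_dvd Nat.card_pos
    (card_dvd_of_le (le_inf (hR₁.trans inf_le_left) (hT₁.trans hTS₁)))))
  have e2 : ConjUnder K S₁ (conjMap c S₁) := ⟨c, hcK, rfl⟩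
  have e3 : ConjUnder K (conjMap c S₁) Q₂ := hbig _ hS₁' _ h₂ (hd₂.trans_le (Nat.le_of_dvd
    Nat.card_pos (card_dvd_of_le (le_inf (hT₂.trans (by
      rw [← hcT, Cfsg.Lib.Coprime.map_subtype_smul]
      exact Cfsg.Lib.Coprime.conjMap_mono hTS₁)) (hR₂.trans inf_le_left)))))
  exact (e1.trans e2).trans e3

/-- Induction on the intersection. -/
theorem of_step (hA : Group.IsSolvable A) {K : Subgroup G} (hKc : K ≤ centralizer (A : Set G))
    (hK : ∀ c ∈ centralizer (A : Set G), (orderOf c).Coprime (Nat.card A) → c ∈ K)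
    (Good : ℕ → Prop) (hGood : ∀ a b, a ≤ b → Good a → Good b)
    (hstep : ∀ Q₁ ∈ Cfsg.maxInvSubgroups ⊤ A {q}, ∀ Q₂ ∈ Cfsg.maxInvSubgroups ⊤ A {q}, Q₁ ≠ Q₂ →
      Good (Nat.card (Q₁ ⊓ Q₂ : Subgroup G)) → ∃ M R₁ R₂ : Subgroup G,
        A ≤ normalizer (M : Set G) ∧ (Nat.card A).Coprime (Nat.card M) ∧ R₁ ≤ Q₁ ⊓ M ∧ R₂ ≤ Q₂ ⊓ M ∧
        A ≤ normalizer (R₁ : Set G) ∧ A ≤ normalizer (R₂ : Set G) ∧
        Nat.card (Q₁ ⊓ Q₂ : Subgroup G) < Nat.card R₁ ∧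
        Nat.card (Q₁ ⊓ Q₂ : Subgroup G) < Nat.card R₂) :
    ∀ Q₁ ∈ Cfsg.maxInvSubgroups ⊤ A {q}, ∀ Q₂ ∈ Cfsg.maxInvSubgroups ⊤ A {q},
      Good (Nat.card (Q₁ ⊓ Q₂ : Subgroup G)) → ConjUnder K Q₁ Q₂ := by
  suffices key : ∀ n : ℕ, ∀ Q₁ ∈ Cfsg.maxInvSubgroups ⊤ A {q}, ∀ Q₂ ∈ Cfsg.maxInvSubgroups ⊤ A {q},
      Nat.card G - Nat.card (Q₁ ⊓ Q₂ : Subgroup G) = n →
      Good (Nat.card (Q₁ ⊓ Q₂ : Subgroup G)) → ConjUnder K Q₁ Q₂ from
    fun Q₁ h₁ Q₂ h₂ hg => key _ Q₁ h₁ Q₂ h₂ rfl hg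
  intro n
  induction n using Nat.strong_induction_on with
  | _ n ih =>
    intro Q₁ h₁ Q₂ h₂ hn hg
    rcases eq_or_ne Q₁ Q₂ with rfl | hne
    · exact ConjUnder.refl K Q₁
    obtain ⟨M, R₁, R₂, hAM, hM, hR₁, hR₂, hA₁, hA₂, hd₁, hd₂⟩ := hstep Q₁ h₁ Q₂ h₂ hne hg
    refine chain hA hKc hK (fun S hS T hT hlt => ?_) h₁ h₂ hAM hM hR₁ hR₂ hA₁ hA₂ hd₁ hd₂
    refine ih _ ?_ S hS T hT rfl (hGood _ _ hlt.le hg)
    have := card_le_card_group (S ⊓ T)
    omega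

/-- The intersection grows in the normalizer. -/
theorem lt_normalizer {Q₁ Q₂ : Subgroup G} (h₁ : Q₁ ∈ Cfsg.maxInvSubgroups ⊤ A {q})
    (h₂ : Q₂ ∈ Cfsg.maxInvSubgroups ⊤ A {q}) (hne : Q₁ ≠ Q₂) :
    A ≤ normalizer ((Q₁ ⊓ Q₂ : Subgroup G) : Set G) ∧
      Q₁ ⊓ Q₂ < Q₁ ⊓ normalizer ((Q₁ ⊓ Q₂ : Subgroup G) : Set G) := by
  obtain ⟨hp₁, hA₁⟩ := mem_inv_iff.mp h₁.1
  obtain ⟨-, hA₂⟩ := mem_inv_iff.mp h₂.1
  refine ⟨Cfsg.Lib.Coprime.le_normalizer_inf hA₁ hA₂, lt_of_le_of_ne (le_inf inf_le_left le_normalizer)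
    fun h => ?_⟩
  have hlt : Q₁ ⊓ Q₂ < Q₁ := lt_of_le_of_ne inf_le_left fun h' =>
    hne ((h₁.2 Q₂ h₂.1 (inf_eq_left.mp h')).symm)
  haveI : Group.IsNilpotent Q₁ := hp₁.isNilpotent
  have hN := (Group.normalizerCondition_of_isNilpotent (G := Q₁)) ((Q₁ ⊓ Q₂).subgroupOf Q₁) (by
    rw [lt_top_iff_ne_top, ne_eq, subgroupOf_eq_top]
    exact hlt.not_ge)
  obtain ⟨x, hx, hxn⟩ := SetLike.exists_of_lt hN
  apply hxn
  rw [mem_subgroupOf, h]
  refine ⟨x.2, mem_normalizer_iff.mpr fun y => ?_⟩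
  constructor
  · intro hy
    exact (mem_normalizer_iff.mp hx ⟨y, hy.1⟩).mp hy
  · intro hy
    have hyQ : y ∈ Q₁ := by
      have := mul_mem (mul_mem (inv_mem x.2) hy.1) x.2
      simpa [mul_assoc] using this
    exact (mem_normalizer_iff.mp hx ⟨y, hyQ⟩).mpr hy

end Primes

/-- A group acting coprimely with a noncyclic abelian subgroup: some element has fixed points outside
a given proper subgroup. -/
theorem exists_fixed_outside {E R D : Subgroup G} [IsMulCommutative E] (hE : ¬ IsCyclic E)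
    (hER : E ≤ normalizer (R : Set G)) (hcop : (Nat.card E).Coprime (Nat.card R)) (hRD : ¬ R ≤ D) :
    ∃ e ∈ E, e ≠ 1 ∧ ¬ R ⊓ centralizer ({e} : Set G) ≤ D := by
  by_contra hall
  push Not at hall
  apply hRD
  rw [← Cfsg.Lib.Coprime.centralizerJoin_eq hE hER hcop]
  exact iSup₂_le fun e he => hall e he.1 he.2

/-- With an elementary abelian group of order `p³`, two groups have fixed points outside for a
common element. -/
theorem exists_common {p : ℕ} [Fact p.Prime] {E R₁ R₂ D : Subgroup G}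
    (hE : Cfsg.IsElementaryAbelian p E) (hE3 : p ^ 3 ≤ Nat.card E)
    (hER₁ : E ≤ normalizer (R₁ : Set G)) (hER₂ : E ≤ normalizer (R₂ : Set G))
    (hcop₁ : (Nat.card E).Coprime (Nat.card R₁)) (hcop₂ : (Nat.card E).Coprime (Nat.card R₂))
    (h₁ : ¬ R₁ ≤ D) (h₂ : ¬ R₂ ≤ D) :
    ∃ e ∈ E, e ≠ 1 ∧ ¬ R₁ ⊓ centralizer ({e} : Set G) ≤ D ∧ ¬ R₂ ⊓ centralizer ({e} : Set G) ≤ D := by
  haveI : IsMulCommutative E := hE.1
  have hp := (Fact.out : p.Prime)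
  have hEne : ∀ B : Subgroup G, B ≤ E → p < Nat.card B → ¬ IsCyclic B := by
    intro B hB hlt hcyc
    obtain ⟨b, hb⟩ := hcyc.exists_ofOrder_eq_natCard
    have h1 : orderOf b ∣ p := orderOf_dvd_of_pow_eq_one (Subtype.ext (hE.2 b (hB b.2)))
    rw [hb] at h1
    exact absurd (Nat.le_of_dvd hp.pos h1) (not_le.mpr hlt)
  have hpE : p < Nat.card E := lt_of_lt_of_le (by
    nlinarith [hp.two_le, mul_le_mul hp.two_le hp.two_le (Nat.zero_le _) (Nat.zero_le _)]) hE3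
  obtain ⟨e, he, he1, heD⟩ := exists_fixed_outside (hEne E le_rfl hpE) hER₁ hcop₁ h₁
  -- a subgroup of order at least `p²` centralizing a point outside
  set R' := R₁ ⊓ centralizer ({e} : Set G) with hR'
  have hER' : E ≤ normalizer (R' : Set G) := Cfsg.Lib.Coprime.le_normalizer_inf hER₁ fun x hx =>
    le_normalizer (mem_centralizer_singleton_iff.mpr (setLike_mul_comm hx he))
  obtain ⟨x, hx, hxe⟩ : ∃ x ∈ E, x ∉ zpowers e := by
    by_contra hall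
    push Not at hall
    have h3 := Nat.le_of_dvd Nat.card_pos (card_dvd_of_le hall)
    rw [Nat.card_zpowers] at h3
    have h4 := Nat.le_of_dvd hp.pos (orderOf_dvd_of_pow_eq_one (hE.2 e he))
    omega
  -- choose a complement
  obtain ⟨F, hFE, hFe, hFp⟩ : ∃ F : Subgroup G, F ≤ E ∧ e ∉ F ∧ p < Nat.card F := by
    obtain ⟨y, hy, hy'⟩ : ∃ y ∈ E, y ∉ zpowers e ⊔ zpowers x := by
      by_contra hall
      push Not at hall
      have h3 := Nat.le_of_dvd Nat.card_pos (card_dvd_of_le hall)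
      have h4 : Nat.card (zpowers e ⊔ zpowers x : Subgroup G) ≤ p * p := by
        have hn : zpowers x ≤ normalizer (zpowers e : Set G) := zpowers_le.mpr
          (centralizer_le_normalizer _ (mem_centralizer_iff.mpr fun z hz =>
            setLike_mul_comm (zpowers_le.mpr he hz) hx))
        have h5 := Cfsg.Lib.Coprime.card_sup_mul_card_inf (N := zpowers e) (H := zpowers x) hn
        have he2 := Nat.le_of_dvd hp.pos (orderOf_dvd_of_pow_eq_one (hE.2 e he))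
        have hx2 := Nat.le_of_dvd hp.pos (orderOf_dvd_of_pow_eq_one (hE.2 x hx))
        rw [← Nat.card_zpowers] at he2 hx2
        calc _ ≤ Nat.card (zpowers e ⊔ zpowers x : Subgroup G) *
              Nat.card (zpowers e ⊓ zpowers x : Subgroup G) := Nat.le_mul_of_pos_right _ Nat.card_pos
          _ = _ := h5
          _ ≤ p * p := Nat.mul_le_mul he2 hx2
      nlinarith [hp.two_le]
    refine ⟨zpowers x ⊔ zpowers y, sup_le (zpowers_le.mpr hx) (zpowers_le.mpr hy), fun hmem => ?_, ?_⟩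
    · have hn : zpowers y ≤ normalizer (zpowers x : Set G) := zpowers_le.mpr
        (centralizer_le_normalizer _ (mem_centralizer_iff.mpr fun z hz =>
          setLike_mul_comm (zpowers_le.mpr hx hz) hy))
      obtain ⟨a, ha, b, hb, hab⟩ := (Cfsg.Lib.Coprime.mem_sup_of_le_normalizer hn).mp hmem
      by_cases hb1 : b = 1
      · rw [hb1, mul_one] at hab
        have : e ∈ zpowers x := hab ▸ ha
        apply hxe
        have h6 : zpowers e = zpowers x := eq_of_le_of_card_ge (zpowers_le.mpr this) (by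
          rw [Nat.card_zpowers, Nat.card_zpowers,
            orderOf_eq_prime (hE.2 e he) he1,
            orderOf_eq_prime (hE.2 x hx) (fun h => hxe (h ▸ one_mem _))])
        exact h6 ▸ mem_zpowers x
      · apply hy'
        have hbm : b ∈ zpowers e ⊔ zpowers x := by
          rw [show b = a⁻¹ * e by rw [← hab, inv_mul_cancel_left]]
          exact mul_mem (inv_mem (mem_sup_right ha)) (mem_sup_left (mem_zpowers e))
        have h6 : zpowers b = zpowers y := eq_of_le_of_card_ge (zpowers_le.mpr hb) (by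
          rw [Nat.card_zpowers, Nat.card_zpowers,
            orderOf_eq_prime (hE.2 y hy) (fun h => hy' (h ▸ one_mem _)),
            orderOf_eq_prime (hE.2 b (zpowers_le.mpr hy hb)) hb1])
        exact zpowers_le.mpr hbm (h6 ▸ mem_zpowers y)
    · have h7 : zpowers x < zpowers x ⊔ zpowers y := lt_of_le_of_ne le_sup_left fun h =>
        hy' (mem_sup_right (h.symm ▸ mem_sup_right (mem_zpowers y) : y ∈ zpowers x))
      have h8 : Nat.card (zpowers x) < Nat.card (zpowers x ⊔ zpowers y : Subgroup G) :=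
        lt_of_le_of_ne (Nat.le_of_dvd Nat.card_pos (card_dvd_of_le h7.le))
          fun h => h7.ne (eq_of_le_of_card_ge h7.le h.ge)
      rwa [Nat.card_zpowers, orderOf_eq_prime (hE.2 x hx) (fun h => hxe (h ▸ one_mem _))] at h8
  haveI : IsMulCommutative F := ⟨⟨fun a b => Subtype.ext (setLike_mul_comm (hFE a.2) (hFE b.2))⟩⟩
  have hcopF : (Nat.card F).Coprime (Nat.card R') := (hcop₁.coprime_dvd_left (card_dvd_of_le hFE)
    ).coprime_dvd_right (card_dvd_of_le inf_le_left)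
  obtain ⟨f, hf, hf1, hfD⟩ := exists_fixed_outside (hEne F hFE hFp) (hFE.trans hER') hcopF heD
  set B := zpowers e ⊔ zpowers f
  have hBE : B ≤ E := sup_le (zpowers_le.mpr he) (zpowers_le.mpr (hFE hf))
  have hBp : p < Nat.card B := by
    have h7 : zpowers f < B := lt_of_le_of_ne le_sup_right fun h =>
      hFe (zpowers_le.mpr hf (h.symm ▸ mem_sup_left (mem_zpowers e) : e ∈ zpowers f))
    have h8 : Nat.card (zpowers f) < Nat.card B :=
      lt_of_le_of_ne (Nat.le_of_dvd Nat.card_pos (card_dvd_of_le h7.le))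
        fun h => h7.ne (eq_of_le_of_card_ge h7.le h.ge)
    rwa [Nat.card_zpowers, orderOf_eq_prime (hE.2 f (hFE hf)) hf1] at h8
  haveI : IsMulCommutative B := ⟨⟨fun a b => Subtype.ext (setLike_mul_comm (hBE a.2) (hBE b.2))⟩⟩
  obtain ⟨b, hb, hb1, hbD⟩ := exists_fixed_outside (hEne B hBE hBp) (hBE.trans hER₂)
    (hcop₂.coprime_dvd_left (card_dvd_of_le hBE)) h₂
  refine ⟨b, hBE hb, hb1, fun hle => hfD ?_, hbD⟩
  intro r hr
  refine hle ⟨hr.1.1, mem_centralizer_singleton_iff.mpr ?_⟩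
  have hBc : B ≤ centralizer ({r} : Set G) := sup_le
    (zpowers_le.mpr (mem_centralizer_singleton_iff.mpr (mem_centralizer_singleton_iff.mp hr.1.2).symm))
    (zpowers_le.mpr (mem_centralizer_singleton_iff.mpr (mem_centralizer_singleton_iff.mp hr.2).symm))
  exact (mem_centralizer_singleton_iff.mp (hBc hb)).symm

/-- The transitivity theorem, for an elementary abelian central subgroup of order `p³`. -/
theorem transitive {A : Subgroup G} (hA : Group.IsSolvable A) {p : ℕ} [Fact p.Prime] {E : Subgroup G}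
    (hEA : E ≤ A) (hE : Cfsg.IsElementaryAbelian p E) (hE3 : p ^ 3 ≤ Nat.card E)
    (hAE : A ≤ centralizer (E : Set G)) {K : Subgroup G} (hKc : K ≤ centralizer (A : Set G))
    (hK : ∀ c ∈ centralizer (A : Set G), (orderOf c).Coprime (Nat.card A) → c ∈ K)
    (Θ : G → Subgroup G) (hΘA : ∀ e ∈ E, e ≠ 1 → A ≤ normalizer (Θ e : Set G))
    (hΘc : ∀ e ∈ E, e ≠ 1 → (Nat.card A).Coprime (Nat.card (Θ e)))
    (hΘ : ∀ e ∈ E, e ≠ 1 → ∀ Y : Subgroup G, Y ≤ centralizer ({e} : Set G) →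
      (Nat.card A).Coprime (Nat.card Y) → A ≤ normalizer (Y : Set G) → Y ≤ Θ e)
    {q : ℕ} [Fact q.Prime] (hqA : ¬ q ∣ Nat.card A) :
    ∀ Q₁ ∈ Cfsg.maxInvSubgroups ⊤ A {q}, ∀ Q₂ ∈ Cfsg.maxInvSubgroups ⊤ A {q}, ConjUnder K Q₁ Q₂ := by
  have hqcop : ∀ Y : Subgroup G, IsPGroup q Y → (Nat.card A).Coprime (Nat.card Y) := fun Y hY => by
    obtain ⟨k, hk⟩ := IsPGroup.iff_card.mp hY
    rw [hk]
    exact ((Fact.out : q.Prime).coprime_iff_not_dvd.mpr hqA).symm.pow_right k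
  refine fun Q₁ h₁ Q₂ h₂ => of_step hA hKc hK (fun _ => True) (fun _ _ _ _ => trivial) ?_ Q₁ h₁ Q₂ h₂
    trivial
  intro Q₁ h₁ Q₂ h₂ hne _
  obtain ⟨hp₁, hA₁⟩ := mem_inv_iff.mp h₁.1
  obtain ⟨hp₂, hA₂⟩ := mem_inv_iff.mp h₂.1
  set D := Q₁ ⊓ Q₂ with hD
  obtain ⟨hAD, hlt₁⟩ := lt_normalizer h₁ h₂ hne
  obtain ⟨-, hlt₂⟩ := lt_normalizer h₂ h₁ hne.symm
  rw [inf_comm Q₂ Q₁, ← hD] at hlt₂
  rw [← hD] at hlt₁
  set N := normalizer (D : Set G) with hN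
  have hAN : A ≤ normalizer (N : Set G) := hAD.trans le_normalizer
  obtain ⟨e, he, he1, hf₁, hf₂⟩ := exists_common (R₁ := Q₁ ⊓ N) (R₂ := Q₂ ⊓ N) (D := D) hE hE3
    (hEA.trans (Cfsg.Lib.Coprime.le_normalizer_inf hA₁ hAN))
    (hEA.trans (Cfsg.Lib.Coprime.le_normalizer_inf hA₂ hAN))
    ((hqcop _ (hp₁.to_le inf_le_left)).coprime_dvd_left (card_dvd_of_le hEA))
    ((hqcop _ (hp₂.to_le inf_le_left)).coprime_dvd_left (card_dvd_of_le hEA))
    hlt₁.not_ge hlt₂.not_ge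
  set W := Θ e ⊓ N with hW
  have hWD : W ≤ normalizer (D : Set G) := inf_le_right
  have hAC : A ≤ normalizer ((centralizer ({e} : Set G)) : Set G) := fun a ha =>
    le_normalizer (mem_centralizer_singleton_iff.mpr (mem_centralizer_iff.mp (hAE ha) e he).symm)
  have hin : ∀ Q : Subgroup G, IsPGroup q Q → A ≤ normalizer (Q : Set G) →
      Q ⊓ N ⊓ centralizer ({e} : Set G) ≤ W := fun Q hQ hAQ =>
    le_inf (hΘ e he he1 _ inf_le_right (hqcop _ (hQ.to_le (inf_le_left.trans inf_le_left)))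
      (Cfsg.Lib.Coprime.le_normalizer_inf (Cfsg.Lib.Coprime.le_normalizer_inf hAQ hAN) hAC))
      (inf_le_left.trans inf_le_right)
  have hAR : ∀ Q : Subgroup G, A ≤ normalizer (Q : Set G) →
      A ≤ normalizer ((D ⊔ Q ⊓ N ⊓ centralizer ({e} : Set G) : Subgroup G) : Set G) := fun Q hAQ =>
    Cfsg.Lib.Coprime.le_normalizer_sup hAD
      (Cfsg.Lib.Coprime.le_normalizer_inf (Cfsg.Lib.Coprime.le_normalizer_inf hAQ hAN) hAC)
  have hgrow : ∀ Q : Subgroup G, ¬ Q ⊓ N ⊓ centralizer ({e} : Set G) ≤ D →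
      Nat.card D < Nat.card (D ⊔ Q ⊓ N ⊓ centralizer ({e} : Set G) : Subgroup G) := fun Q hQ => by
    have hle : D ≤ D ⊔ Q ⊓ N ⊓ centralizer ({e} : Set G) := le_sup_left
    exact lt_of_le_of_ne (Nat.le_of_dvd Nat.card_pos (card_dvd_of_le hle))
      fun h => hQ (le_sup_right.trans (eq_of_le_of_card_ge hle h.ge).ge)
  refine ⟨D ⊔ W, D ⊔ Q₁ ⊓ N ⊓ centralizer ({e} : Set G), D ⊔ Q₂ ⊓ N ⊓ centralizer ({e} : Set G),
    Cfsg.Lib.Coprime.le_normalizer_sup hAD (Cfsg.Lib.Coprime.le_normalizer_inf (hΘA e he he1) hAN),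
    ?_, sup_le (le_inf inf_le_left le_sup_left)
      (le_inf (inf_le_left.trans inf_le_left) ((hin Q₁ hp₁ hA₁).trans le_sup_right)),
    sup_le (le_inf inf_le_right le_sup_left)
      (le_inf (inf_le_left.trans inf_le_left) ((hin Q₂ hp₂ hA₂).trans le_sup_right)),
    hAR Q₁ hA₁, hAR Q₂ hA₂, hgrow Q₁ hf₁, hgrow Q₂ hf₂⟩
  refine Nat.Coprime.coprime_dvd_right ?_ (Nat.Coprime.mul_right (hqcop D (hp₁.to_le inf_le_left))
    ((hΘc e he he1).coprime_dvd_right (card_dvd_of_le (inf_le_left : W ≤ Θ e))))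
  exact ⟨Nat.card (D ⊓ W : Subgroup G), (Cfsg.Lib.Coprime.card_sup_mul_card_inf hWD).symm⟩

end Cfsg.Lib.OddLocal.Transitivity
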