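import Cfsg.Agent.OddLocal.PiCoreOf
import Cfsg.Agent.Coprime.Fitting

/-!
# The primary parts of the Fitting subgroup of a subgroup
-/

set_option linter.unusedSectionVars false
set_option linter.style.haveILetI false

namespace Cfsg.Lib.OddLocal.FittingParts

open Subgroup
open scoped commutatorElement

universe u

variable {G : Type u} [Group G] [Finite G] {X : Subgroup G} {q r : ℕ}

/-- The `q`-core of a subgroup. -/
abbrev O (q : ℕ) (X : Subgroup G) : Subgroup G := Cfsg.piCoreOf {q} X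

/-- The centre of the `q`-core. -/
abbrev Z (q : ℕ) (X : Subgroup G) : Subgroup G := O q X ⊓ centralizer (O q X : Set G)

theorem isPGroup [Fact q.Prime] (X : Subgroup G) : IsPGroup q (O q X) :=
  Transitivity.isPGroup_of_primes (PiCoreOf.isPi {q} X)

theorem le_of_isPGroup [Fact q.Prime] {N : Subgroup G} (hN : N ≤ X) (hn : X ≤ normalizer (N : Set G))
    (h : IsPGroup q N) : N ≤ O q X := by
  refine PiCoreOf.le_piCoreOf hN hn fun r hr hrd => ?_
  obtain ⟨k, hk⟩ := IsPGroup.iff_card.mp h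
  rw [hk] at hrd
  exact Set.mem_singleton_iff.mpr
    ((Nat.prime_dvd_prime_iff_eq hr Fact.out).mp (hr.dvd_of_dvd_pow hrd))

theorem coprime [Fact q.Prime] [Fact r.Prime] (h : q ≠ r) {A B : Subgroup G} (hA : IsPGroup q A)
    (hB : IsPGroup r B) : (Nat.card A).Coprime (Nat.card B) :=
  IsPGroup.coprime_card_of_ne q r h _ _ hA hB

theorem coprime_prime [Fact q.Prime] {p : ℕ} (hp : p.Prime) (h : q ≠ p) {A : Subgroup G}
    (hA : IsPGroup q A) : (Nat.card A).Coprime p := by
  obtain ⟨k, hk⟩ := IsPGroup.iff_card.mp hA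
  rw [hk]
  exact ((Nat.coprime_primes Fact.out hp).mpr h).pow_left k

theorem le_centralizer_of_disjoint {A B : Subgroup G} (hAB : A ≤ normalizer (B : Set G))
    (hBA : B ≤ normalizer (A : Set G)) (hcop : (Nat.card A).Coprime (Nat.card B)) :
    A ≤ centralizer (B : Set G) := by
  refine fun a ha => mem_centralizer_iff.mpr fun b hb => ?_
  have h1 : b * a * b⁻¹ * a⁻¹ ∈ A :=
    mul_mem ((mem_normalizer_iff.mp (hBA hb) a).mp ha) (inv_mem ha)
  have h2 : b * a * b⁻¹ * a⁻¹ ∈ B := by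
    rw [mul_assoc, mul_assoc]
    refine mul_mem hb ?_
    rw [← mul_assoc]
    exact (mem_normalizer_iff.mp (hAB ha) _).mp (inv_mem hb)
  exact mul_inv_eq_iff_eq_mul.mp (mul_inv_eq_one.mp (Cfsg.Lib.Coprime.eq_one_of_coprime hcop h1 h2))

theorem commute [Fact q.Prime] [Fact r.Prime] (h : q ≠ r) :
    O q X ≤ centralizer (O r X : Set G) :=
  le_centralizer_of_disjoint ((PiCoreOf.le _ X).trans (PiCoreOf.le_normalizer' _ X))
    ((PiCoreOf.le _ X).trans (PiCoreOf.le_normalizer' _ X)) (coprime h (isPGroup X) (isPGroup X))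

theorem piCore_singleton (H : Type*) [Group H] [Finite H] [Fact q.Prime] :
    Cfsg.piCore {q} H = Cfsg.pCore q H := by
  refine le_antisymm (Cfsg.Lib.Components.le_pCore ?_) (Cfsg.Lib.Elementary.le_piCore ?_)
  · exact Transitivity.isPGroup_of_primes (Cfsg.Lib.Elementary.piCore_isPi _)
  · intro r hr hrd
    obtain ⟨k, hk⟩ := IsPGroup.iff_card.mp (Cfsg.Lib.Components.isPGroup_pCore (G := H) q)
    rw [hk] at hrd
    exact Set.mem_singleton_iff.mpr
      ((Nat.prime_dvd_prime_iff_eq hr Fact.out).mp (hr.dvd_of_dvd_pow hrd))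

theorem fittingOf_eq (X : Subgroup G) :
    Cfsg.fittingOf X = ⨆ q : {q : ℕ // q.Prime}, O q.1 X := by
  rw [Cfsg.fittingOf, Cfsg.Lib.Components.fitting_eq_iSup_pCore, Subgroup.map_iSup]
  refine iSup_congr fun q => ?_
  haveI := Fact.mk q.2
  rw [O, Cfsg.piCoreOf, piCore_singleton]

theorem le_fittingOf [hq : Fact q.Prime] (X : Subgroup G) : O q X ≤ Cfsg.fittingOf X :=
  (fittingOf_eq X).symm ▸ le_iSup (fun q : {q : ℕ // q.Prime} => O q.1 X) ⟨q, hq.out⟩

theorem fittingOf_le (X : Subgroup G) : Cfsg.fittingOf X ≤ X := map_subtype_le _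

theorem le_normalizer_fittingOf (X : Subgroup G) : X ≤ normalizer (Cfsg.fittingOf X : Set G) := by
  rw [fittingOf_eq]
  intro x hx
  refine Cfsg.Lib.Coprime.conjMap_eq_self_iff.mp ?_
  show Subgroup.map _ _ = _
  rw [Subgroup.map_iSup]
  exact iSup_congr fun q => Cfsg.Lib.Coprime.conjMap_eq_self (PiCoreOf.le_normalizer' _ X hx)

/-- Something centralizes the Fitting subgroup when it centralizes every part. -/
theorem le_centralizer_fittingOf {A : Subgroup G}
    (h : ∀ q : ℕ, q.Prime → A ≤ centralizer (O q X : Set G)) :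
    A ≤ centralizer (Cfsg.fittingOf X : Set G) := by
  rw [le_centralizer_iff, fittingOf_eq]
  exact iSup_le fun q => le_centralizer_iff.mp (h q.1 q.2)

theorem centralizer_fittingOf_le [Group.IsSolvable X] :
    X ⊓ centralizer (Cfsg.fittingOf X : Set G) ≤ Cfsg.fittingOf X := by
  intro x hx
  refine ⟨⟨x, hx.1⟩, Cfsg.Lib.Coprime.centralizer_fitting_le (G := X)
    (mem_centralizer_iff.mpr fun f hf => Subtype.ext ?_), rfl⟩
  exact mem_centralizer_iff.mp hx.2 _ ⟨f, hf, rfl⟩

theorem dvd_fittingOf_iff [hr : Fact r.Prime] (X : Subgroup G) :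
    r ∣ Nat.card (Cfsg.fittingOf X) ↔ O r X ≠ ⊥ := by
  constructor
  · intro hd hb
    set F := Cfsg.fittingSubgroup X with hF
    have hd' : r ∣ Nat.card F := by
      rwa [Cfsg.fittingOf, Subgroup.card_map_of_injective X.subtype_injective] at hd
    haveI := Cfsg.Lib.Components.isNilpotent_fitting (G := X)
    obtain ⟨P⟩ : Nonempty (Sylow r F) := inferInstance
    haveI : (P : Subgroup F).Characteristic := Sylow.characteristic_of_normal P inferInstance
    have h1 : (P : Subgroup F).map F.subtype ≤ Cfsg.pCore r X :=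
      Cfsg.Lib.Components.le_pCore (P.2.map _)
    rw [O, Cfsg.piCoreOf, piCore_singleton, map_eq_bot_iff_of_injective _ X.subtype_injective] at hb
    rw [hb, le_bot_iff, map_eq_bot_iff_of_injective _ F.subtype_injective] at h1
    exact P.ne_bot_of_dvd_card hd' h1
  · intro hb
    obtain ⟨k, hk⟩ := IsPGroup.iff_card.mp (isPGroup (q := r) X)
    refine dvd_trans ?_ (card_dvd_of_le (le_fittingOf (q := r) X))
    rw [hk]
    refine dvd_pow_self r ?_
    rintro rfl
    exact hb (eq_bot_of_card_eq _ (by rw [hk, pow_zero]))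

theorem Z_ne_bot [Fact q.Prime] (h : O q X ≠ ⊥) : Z q X ≠ ⊥ := by
  intro hb
  haveI : Nontrivial (O q X) := (nontrivial_iff_ne_bot _).mpr h
  haveI := (isPGroup (q := q) X).center_nontrivial
  obtain ⟨z, hz⟩ := exists_ne (1 : center (O q X))
  have h1 : ((z : O q X) : G) ∈ Z q X := ⟨(z : O q X).2, mem_centralizer_iff.mpr fun y hy =>
    congrArg Subtype.val (mem_center_iff.mp z.2 ⟨y, hy⟩)⟩
  rw [hb, mem_bot] at h1
  exact hz (Subtype.ext (Subtype.ext h1))

theorem normalizer_centralizer_le (A : Subgroup G) :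
    normalizer (A : Set G) ≤ normalizer (centralizer (A : Set G) : Set G) := by
  intro g hg
  refine Cfsg.Lib.Coprime.conjMap_eq_self_iff.mp (Cfsg.Lib.Coprime.eq_of_le_of_card_eq ?_
    (Cfsg.Lib.Coprime.card_conjMap _ _))
  intro y hy
  rw [Cfsg.Lib.Coprime.mem_conjMap] at hy
  refine mem_centralizer_iff.mpr fun b hb => ?_
  have h1 := mem_centralizer_iff.mp hy (g⁻¹ * b * g) (by
    simpa using (mem_normalizer_iff.mp ((normalizer (A : Set G)).inv_mem hg) b).mp hb)
  calc b * y = g * ((g⁻¹ * b * g) * (g⁻¹ * y * g)) * g⁻¹ := by group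
    _ = g * ((g⁻¹ * y * g) * (g⁻¹ * b * g)) * g⁻¹ := by rw [h1]
    _ = y * b := by group

theorem le_normalizer_Z (q : ℕ) (X : Subgroup G) : X ≤ normalizer (Z q X : Set G) :=
  Cfsg.Lib.Coprime.le_normalizer_inf (PiCoreOf.le_normalizer' _ X)
    ((PiCoreOf.le_normalizer' _ X).trans (normalizer_centralizer_le _))

theorem Z_le_centralizer_fittingOf [Fact q.Prime] (X : Subgroup G) :
    Z q X ≤ centralizer (Cfsg.fittingOf X : Set G) :=
  le_centralizer_fittingOf fun r hr => by
    haveI := Fact.mk hr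
    rcases eq_or_ne q r with rfl | h
    · exact inf_le_right
    · exact inf_le_left.trans (commute h)

/-- The `r`-part of an element of the Fitting subgroup. -/
theorem split [hr : Fact r.Prime] {c : G} (hc : c ∈ Cfsg.fittingOf X) :
    ∃ a b : G, a ∈ O r X ∧ a ∈ zpowers c ∧ a * b = c ∧ (orderOf b).Coprime r ∧
      b ∈ ⨆ s : {s : ℕ // s.Prime ∧ s ≠ r}, O s.1 X := by
  set W := ⨆ s : {s : ℕ // s.Prime ∧ s ≠ r}, O s.1 X with hW
  have hWX : W ≤ X := iSup_le fun s => PiCoreOf.le _ X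
  have hsplit : Cfsg.fittingOf X ≤ O r X ⊔ W := by
    rw [fittingOf_eq]
    refine iSup_le fun s => ?_
    rcases eq_or_ne s.1 r with h | h
    · rw [h]; exact le_sup_left
    · exact le_trans (le_iSup (fun t : {s : ℕ // s.Prime ∧ s ≠ r} => O t.1 X) ⟨s.1, s.2, h⟩) le_sup_right
  have hWcop : ∀ b ∈ W, (orderOf b).Coprime r := by
    intro b hb
    have hle : W ≤ Cfsg.piCoreOf {t | t ≠ r} X := iSup_le fun s => map_mono
      (Cfsg.Lib.Elementary.le_piCore fun t ht htd => by
        have := Cfsg.Lib.Elementary.piCore_isPi {s.1} t ht htd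
        rw [Set.mem_singleton_iff] at this
        exact this ▸ s.2.2)
    refine Nat.Coprime.symm ((hr.out.coprime_iff_not_dvd).mpr fun hrb => ?_)
    have h1 : r ∈ {t : ℕ | t ≠ r} :=
      PiCoreOf.isPi _ X r hr.out (hrb.trans (Subgroup.orderOf_dvd_natCard _ (hle hb)))
    exact h1 rfl
  obtain ⟨a, ha, b, hb, rfl⟩ := (Cfsg.Lib.Coprime.mem_sup_of_le_normalizer
    (hWX.trans (PiCoreOf.le_normalizer' _ X))).mp (hsplit hc)
  refine ⟨a, b, ha, ?_, rfl, hWcop b hb, hb⟩
  have hcomm : Commute a b := by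
    have hle : W ≤ centralizer (O r X : Set G) := iSup_le fun s => by
      haveI := Fact.mk s.2.1
      exact commute s.2.2
    exact mem_centralizer_iff.mp (hle hb) a ha
  obtain ⟨k, hk⟩ := isPGroup (q := r) X ⟨a, ha⟩
  have hk' : a ^ r ^ k = 1 := congrArg Subtype.val hk
  obtain ⟨m, hm⟩ := exists_pow_eq_self_of_coprime (x := a) (n := orderOf b)
    (((hWcop b hb).pow_right k).coprime_dvd_right (orderOf_dvd_of_pow_eq_one hk'))
  refine mem_zpowers_iff.mpr ⟨((orderOf b * m : ℕ) : ℤ), ?_⟩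
  rw [zpow_natCast, hcomm.mul_pow, pow_mul b, pow_orderOf_eq_one, one_pow, mul_one, pow_mul, hm]

end Cfsg.Lib.OddLocal.FittingParts
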