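import Mathlib

/-!
# Pairs of norm-one elements with sum two in a finite field
-/

set_option linter.unusedSectionVars false
set_option linter.style.haveILetI false

namespace Cfsg.Lib.OddLocal.NormOnePairs

open Polynomial Finset
open scoped ComplexConjugate

section Cubic

variable {p : ℕ} [Fact p.Prime]

/-- A monic irreducible cubic with values `-1` at `0` and `1` at `2`. -/
theorem exists_cubic (hp : p ≠ 2) :
    ∃ f : (ZMod p)[X], f.Monic ∧ f.natDegree = 3 ∧ Irreducible f ∧ f.eval 0 = -1 ∧ f.eval 2 = 1 := by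
  classical
  have h2 : (2 : ZMod p) ≠ 0 := fun h => by
    have : ((2 : ℕ) : ZMod p) = 0 := by simpa using h
    rw [CharP.cast_eq_zero_iff (ZMod p) p] at this
    exact hp ((Nat.prime_dvd_prime_iff_eq Fact.out Nat.prime_two).mp this)
  set S : Finset (ZMod p) := (univ \ {0, 2}).image fun x => (x ^ 3 - 3 * x - 1) / (x ^ 2 - 2 * x)
  have hS : S.card < (univ : Finset (ZMod p)).card := by
    refine lt_of_le_of_lt card_image_le (card_lt_card ?_)
    exact Finset.ssubset_iff_subset_ne.mpr ⟨subset_univ _, fun h => by simpa using h.ge (mem_univ (0 : ZMod p))⟩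
  obtain ⟨s, -, hs⟩ : ∃ s ∈ (univ : Finset (ZMod p)), s ∉ S := exists_mem_notMem_of_card_lt_card hS
  set f : (ZMod p)[X] := X ^ 3 - C s * X ^ 2 + C (2 * s - 3) * X - 1 with hf
  have hdeg : f.natDegree = 3 := by rw [hf]; compute_degree!
  have hev : ∀ x, f.eval x = x ^ 3 - s * x ^ 2 + (2 * s - 3) * x - 1 := fun x => by simp [hf]
  refine ⟨f, by rw [hf]; monicity!, hdeg, ?_, by simp [hev], by rw [hev]; ring⟩
  refine (irreducible_iff_roots_eq_zero_of_degree_le_three (by omega) (by omega)).mpr ?_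
  refine Multiset.eq_zero_of_forall_notMem fun x hx => ?_
  have h0 : x ^ 3 - s * x ^ 2 + (2 * s - 3) * x - 1 = 0 := by
    rw [← hev]; exact (mem_roots'.mp hx).2
  by_cases hx0 : x = 0
  · simp [hx0] at h0
  by_cases hx2 : x = 2
  · rw [hx2] at h0
    ring_nf at h0
    exact one_ne_zero h0
  refine hs (mem_image.mpr ⟨x, by simp [hx0, hx2], ?_⟩)
  rw [div_eq_iff (by rw [sq, ← sub_mul]; exact mul_ne_zero (sub_ne_zero.mpr hx2) hx0)]
  linear_combination h0

theorem two_le_three (hp : p ≠ 2) :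
    2 ≤ Set.ncard {a : GaloisField p 3 | Algebra.norm (ZMod p) a = 1 ∧ Algebra.norm (ZMod p) (2 - a) = 1} := by
  obtain ⟨f, hmon, hdeg, hirr, hf0, hf2⟩ := exists_cubic hp
  haveI := Fact.mk hirr
  let pb := AdjoinRoot.powerBasis hmon.ne_zero
  haveI : Module.Finite (ZMod p) (AdjoinRoot f) := pb.finite
  haveI : Finite (AdjoinRoot f) := Module.finite_of_finite (ZMod p)
  have hrank : Module.finrank (ZMod p) (AdjoinRoot f) = 3 := by rw [pb.finrank]; exact hdeg
  obtain ⟨e⟩ : Nonempty (AdjoinRoot f →ₐ[ZMod p] GaloisField p 3) :=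
    FiniteField.nonempty_algHom_of_finrank_dvd (by rw [hrank, GaloisField.finrank p three_ne_zero])
  have hbij : Function.Bijective e := by
    refine ⟨e.toRingHom.injective, ?_⟩
    exact (LinearMap.injective_iff_surjective_of_finrank_eq_finrank (f := e.toLinearMap)
      (by rw [hrank, GaloisField.finrank p three_ne_zero])).mp e.toRingHom.injective
  let E := AlgEquiv.ofBijective e hbij
  have hev : ∀ c : ZMod p, Algebra.norm (ZMod p) (algebraMap (ZMod p) (AdjoinRoot f) c - pb.gen) = f.eval c := fun c => by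
    classical
    have hmin : minpoly (ZMod p) pb.gen = f := by
      rw [AdjoinRoot.powerBasis_gen, AdjoinRoot.minpoly_root hmon.ne_zero, hmon.leadingCoeff, inv_one, C_1,
        mul_one]
    conv_rhs => rw [← hmin]
    rw [Algebra.norm_eq_matrix_det pb.basis, ← charpoly_leftMulMatrix, Matrix.eval_charpoly, map_sub,
      AlgHom.commutes]
    rfl
  have ha : Algebra.norm (ZMod p) pb.gen = 1 := by
    have h := hev 0
    rw [map_zero, zero_sub, hf0, show -pb.gen = algebraMap (ZMod p) (AdjoinRoot f) (-1) * pb.gen by simp, map_mul,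
      Algebra.norm_algebraMap, hrank] at h
    linear_combination -h
  have hb : Algebra.norm (ZMod p) (2 - pb.gen) = 1 := by
    have h := hev 2
    rwa [hf2, map_ofNat] at h
  have hne : E pb.gen ≠ 1 := fun h1 => by
    have hg : pb.gen = 1 := E.injective (by rw [h1, map_one])
    have : (1 : ℕ) = 3 := by
      rw [← hdeg, ← natDegree_X_sub_C (1 : ZMod p), C_1, ← minpoly.one (ZMod p) (AdjoinRoot f), ← hg,
        pb.natDegree_minpoly]
      rfl
    omega
  refine (Set.one_lt_ncard (Set.toFinite _)).mpr ⟨1, ⟨map_one _, ?_⟩, E pb.gen, ⟨?_, ?_⟩, hne.symm⟩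
  · rw [show (2 : GaloisField p 3) - 1 = 1 by ring, map_one]
  · exact (Algebra.norm_eq_of_algEquiv E pb.gen).trans ha
  · rw [show (2 : GaloisField p 3) - E pb.gen = E (2 - pb.gen) by simp [map_ofNat],
      ]
    exact (Algebra.norm_eq_of_algEquiv E (2 - pb.gen)).trans hb

end Cubic

section Large

variable {p q : ℕ} [Fact p.Prime] [Fact q.Prime]

theorem norm_eq_one_iff (x : GaloisField p q) :
    Algebra.norm (ZMod p) x = 1 ↔ x ^ ((p ^ q - 1) / (p - 1)) = 1 := by
  rw [← (algebraMap (ZMod p) (GaloisField p q)).injective.eq_iff, FiniteField.algebraMap_norm_eq_pow, map_one,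
    GaloisField.card p q (Fact.out : q.Prime).ne_zero, Nat.card_zmod]

theorem two_le_large (hp : p ≠ 2) (hq : 5 ≤ q) :
    2 ≤ Set.ncard {a : GaloisField p q | Algebra.norm (ZMod p) a = 1 ∧ Algebra.norm (ZMod p) (2 - a) = 1} := by
  classical
  set K := GaloisField p q
  letI : Fintype K := Fintype.ofFinite K
  have hp3 : 3 ≤ p := by have := (Fact.out : p.Prime).two_le; omega
  have hQ : Fintype.card K = p ^ q := by
    rw [← Nat.card_eq_fintype_card]; exact GaloisField.card p q (Fact.out : q.Prime).ne_zero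
  set u := (p ^ q - 1) / (p - 1) with hu
  have hgeom : u = ∑ i ∈ range q, p ^ i := (Nat.geomSum_eq (by omega) q).symm
  have hudvd : u ∣ p ^ q - 1 := Nat.div_dvd_of_dvd (Nat.sub_one_dvd_pow_sub_one p q)
  have hu1 : p ^ (q - 1) ≤ u := by
    rw [hgeom]; exact single_le_sum (f := fun i => p ^ i) (fun i _ => Nat.zero_le _) (mem_range.mpr (by omega))
  have hu0 : 0 < u := lt_of_lt_of_le (pow_pos (by omega) _) hu1
  obtain ⟨g, hg⟩ := IsCyclic.exists_ofOrder_eq_natCard (α := Kˣ)
  rw [Nat.card_units, Nat.card_eq_fintype_card, hQ] at hg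
  have hprim : IsPrimitiveRoot (g : K) (p ^ q - 1) :=
    IsPrimitiveRoot.coe_units_iff.mpr (hg ▸ IsPrimitiveRoot.orderOf g)
  have hpu := hprim.pow (by have : 1 < p ^ q := Nat.one_lt_pow (by omega) (by omega); omega)
    (Nat.div_mul_cancel hudvd).symm
  set U : Finset K := nthRootsFinset u (1 : K) with hU
  have hUcard : U.card = u := hpu.card_nthRootsFinset
  have hmemU : ∀ x : K, x ∈ U ↔ Algebra.norm (ZMod p) x = 1 := fun x => by
    rw [hU, mem_nthRootsFinset hu0, norm_eq_one_iff]
  set ψ := AddChar.FiniteField.primitiveChar_to_Complex K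
  have hψ : ψ.IsPrimitive := AddChar.FiniteField.primitiveChar_to_Complex_isPrimitive K
  set S : K → ℂ := fun c => ∑ a ∈ U, ψ (c * a) with hSdef
  set E : Finset K := U.filter fun a => 2 - a ∈ U
  suffices h : 2 ≤ E.card by
    refine h.trans (le_of_eq ?_)
    rw [← Set.ncard_coe_finset]
    congr 1
    ext a
    simp [E, hmemU]
    exact Iff.rfl
  by_contra hE
  have hsumK : ∀ b : K, ∑ c : K, ψ (c * b) = if b = 0 then (Fintype.card K : ℂ) else 0 := fun b => by
    rw [AddChar.sum_mulShift b hψ]; split_ifs <;> simp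
  -- counting solutions of `a + b = 2`
  have hN : (Fintype.card K : ℂ) * E.card = ∑ c : K, S c ^ 2 * ψ (c * -2) := by
    have hexp : ∀ c : K, S c ^ 2 * ψ (c * -2) = ∑ a ∈ U, ∑ b ∈ U, ψ (c * (b - (2 - a))) := fun c => by
      simp only [hSdef, sq]
      rw [sum_mul_sum, sum_mul]
      refine sum_congr rfl fun a _ => ?_
      rw [sum_mul]
      refine sum_congr rfl fun b _ => ?_
      rw [← AddChar.map_add_eq_mul, ← AddChar.map_add_eq_mul]
      congr 1
      ring
    rw [sum_congr rfl fun c _ => hexp c, sum_comm, card_filter, Nat.cast_sum, mul_sum]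
    refine sum_congr rfl fun a _ => ?_
    rw [sum_comm, sum_congr rfl fun b _ => hsumK (b - (2 - a)),
      sum_congr rfl fun b _ => if_congr (sub_eq_zero (a := b) (b := 2 - a)) rfl rfl, sum_ite_eq']
    split_ifs <;> simp
  have hinv : ∀ c, ∀ a ∈ U, S (c * a) = S c := fun c a ha => by
    have ha0 : a ≠ 0 := fun h => by
      have := (hmemU a).mp ha
      rw [h, Algebra.norm_zero] at this
      exact zero_ne_one this
    refine Finset.sum_bij' (fun b _ => a * b) (fun b _ => a⁻¹ * b) ?_ ?_ ?_ ?_ ?_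
    · intro b hb
      rw [hmemU, map_mul, (hmemU a).mp ha, (hmemU b).mp hb, one_mul]
    · intro b hb
      rw [hmemU, map_mul, (hmemU b).mp hb, Algebra.norm_inv, (hmemU a).mp ha, inv_one, one_mul]
    · intro b _; rw [inv_mul_cancel_left₀ ha0]
    · intro b _; rw [mul_inv_cancel_left₀ ha0]
    · intro b _; rw [mul_assoc]
  -- the second moment
  have hM : ∑ c : K, ‖S c‖ ^ 2 = Fintype.card K * (u : ℝ) := by
    have hC : ∑ c : K, S c * conj (S c) = (Fintype.card K : ℂ) * u := by
      simp only [hSdef, map_sum, sum_mul_sum, ← AddChar.map_neg_eq_conj, ← AddChar.map_add_eq_mul]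
      rw [sum_comm]
      rw [← hUcard, Finset.card_eq_sum_ones, Nat.cast_sum, mul_sum]
      refine sum_congr rfl fun a ha => ?_
      rw [sum_comm]
      have hkey : ∀ b : K, ∑ c : K, ψ (c * a + -(c * b)) = if b = a then (Fintype.card K : ℂ) else 0 := fun b => by
        rw [sum_congr rfl fun c _ => congrArg ψ (show c * a + -(c * b) = c * (a - b) by ring), hsumK]
        exact if_congr ⟨fun h => by linear_combination -h, fun h => by linear_combination -h⟩ rfl rfl
      rw [sum_congr rfl fun b _ => hkey b, sum_ite_eq', if_pos ha, Nat.cast_one, mul_one]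
    simp only [Complex.mul_conj'] at hC
    exact_mod_cast hC
  set Q : ℝ := (Fintype.card K : ℝ) with hQdef
  have hQ0 : 0 < Q := by rw [hQdef]; exact_mod_cast Fintype.card_pos
  have hu0' : (0 : ℝ) < u := by exact_mod_cast hu0
  have hbound : ∀ c : K, c ≠ 0 → ‖S c‖ ≤ Real.sqrt Q := fun c hc => by
    refine Real.le_sqrt_of_sq_le ?_
    refine le_of_mul_le_mul_left ?_ hu0'
    calc (u : ℝ) * ‖S c‖ ^ 2 = ∑ a ∈ U, ‖S (c * a)‖ ^ 2 := by
          rw [sum_congr rfl fun a ha => by rw [hinv c a ha], sum_const, hUcard, nsmul_eq_mul]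
      _ = ∑ d ∈ U.image (c * ·), ‖S d‖ ^ 2 := by
          rw [sum_image fun a _ b _ h => mul_left_cancel₀ hc h]
      _ ≤ ∑ d : K, ‖S d‖ ^ 2 := sum_le_sum_of_subset_of_nonneg (subset_univ _) fun _ _ _ => sq_nonneg _
      _ = _ := by rw [hM]; ring
  set T : ℂ := ∑ c ∈ univ.erase (0 : K), S c ^ 2 * ψ (c * -2) with hT
  have hTu : (u : ℂ) * T = ∑ c ∈ univ.erase (0 : K), S c ^ 2 * S (c * -2) := by
    have h1 : ∀ a ∈ U, T = ∑ c ∈ univ.erase (0 : K), S c ^ 2 * ψ (c * -2 * a) := fun a ha => by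
      have ha0 : a ≠ 0 := fun h => by
        have := (hmemU a).mp ha
        rw [h, Algebra.norm_zero] at this
        exact zero_ne_one this
      refine Finset.sum_bij' (fun c _ => c * a⁻¹) (fun c _ => c * a) ?_ ?_ ?_ ?_ ?_
      · intro c hc; exact mem_erase.mpr ⟨mul_ne_zero (mem_erase.mp hc).1 (inv_ne_zero ha0), mem_univ _⟩
      · intro c hc; exact mem_erase.mpr ⟨mul_ne_zero (mem_erase.mp hc).1 ha0, mem_univ _⟩
      · intro c _; rw [mul_assoc, inv_mul_cancel₀ ha0, mul_one]
      · intro c _; rw [mul_assoc, mul_inv_cancel₀ ha0, mul_one]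
      · intro c _
        rw [← hinv (c * a⁻¹) a ha, mul_assoc c, inv_mul_cancel₀ ha0, mul_one]
        congr 2
        rw [mul_right_comm c a⁻¹ (-2), mul_assoc (c * -2), inv_mul_cancel₀ ha0, mul_one]
    calc (u : ℂ) * T = ∑ a ∈ U, ∑ c ∈ univ.erase (0 : K), S c ^ 2 * ψ (c * -2 * a) := by
          rw [← sum_congr rfl h1, sum_const, hUcard, nsmul_eq_mul]
      _ = _ := by rw [sum_comm]; exact sum_congr rfl fun c _ => by rw [← mul_sum]
  have h2K : (2 : K) ≠ 0 := fun h => by
    haveI : CharP K p := charP_of_injective_algebraMap' (ZMod p) p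
    have : ((2 : ℕ) : K) = 0 := by simpa using h
    rw [CharP.cast_eq_zero_iff K p] at this
    exact hp ((Nat.prime_dvd_prime_iff_eq Fact.out Nat.prime_two).mp this)
  have hTb : ‖T‖ ≤ Q * Real.sqrt Q := by
    refine le_of_mul_le_mul_left ?_ hu0'
    calc (u : ℝ) * ‖T‖ = ‖(u : ℂ) * T‖ := by simp
      _ ≤ ∑ c ∈ univ.erase (0 : K), ‖S c‖ ^ 2 * Real.sqrt Q := by
          rw [hTu]
          refine (norm_sum_le _ _).trans (sum_le_sum fun c hc => ?_)
          rw [norm_mul, norm_pow]
          exact mul_le_mul_of_nonneg_left (hbound _ (mul_ne_zero (mem_erase.mp hc).1 (neg_ne_zero.mpr h2K)))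
            (sq_nonneg _)
      _ ≤ (∑ c : K, ‖S c‖ ^ 2) * Real.sqrt Q := by
          rw [sum_mul]
          exact sum_le_sum_of_subset_of_nonneg (subset_univ _) fun _ _ _ =>
            mul_nonneg (sq_nonneg _) (Real.sqrt_nonneg _)
      _ = _ := by rw [hM]; ring
  have hmain : (u : ℝ) ^ 2 ≤ Q + Q * Real.sqrt Q := by
    have hS0 : S 0 = u := by simp [hSdef, hUcard]
    rw [← add_sum_erase univ _ (mem_univ (0 : K)), zero_mul, AddChar.map_zero_eq_one, mul_one, hS0, ← hT] at hN
    have hsq : ((u : ℂ)) ^ 2 = (Fintype.card K : ℂ) * E.card - T := by rw [hN]; ring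
    have := norm_sub_le ((Fintype.card K : ℂ) * E.card) T
    rw [← hsq, norm_pow, Complex.norm_natCast, norm_mul, Complex.norm_natCast, Complex.norm_natCast] at this
    have hE1 : (E.card : ℝ) ≤ 1 := by exact_mod_cast Nat.lt_succ_iff.mp (not_le.mp hE)
    nlinarith
  -- contradiction
  set r := p ^ (q - 2) with hr
  have hr27 : p ^ 3 ≤ r := Nat.pow_le_pow_right (by omega) (by omega)
  have hQr : Q = (p : ℝ) ^ 2 * r := by
    rw [hQdef, hQ, hr]; push_cast; rw [← pow_add]; congr 1; omega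
  have hur : Q * r ≤ (u : ℝ) ^ 2 := by
    rw [hQdef, hQ, hr]
    have : p ^ q * p ^ (q - 2) ≤ u ^ 2 := by
      refine le_trans ?_ (Nat.pow_le_pow_left hu1 2)
      rw [← pow_mul, ← pow_add]
      exact Nat.pow_le_pow_right (by omega) (by omega)
    exact_mod_cast this
  have hpr : (p : ℝ) ^ 3 ≤ r := by exact_mod_cast hr27
  have hp3' : (3 : ℝ) ≤ p := by exact_mod_cast hp3
  have hr1 : (r : ℝ) ≤ 1 + Real.sqrt Q := by nlinarith
  have hsq := Real.sq_sqrt hQ0.le
  have hge : (p : ℝ) ^ 2 + 2 < r := by nlinarith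
  have : ((r : ℝ) - 1) ^ 2 ≤ Q := by
    rw [← hsq]; exact pow_le_pow_left₀ (by nlinarith) (by linarith) 2
  nlinarith

end Large

end Cfsg.Lib.OddLocal.NormOnePairs
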