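import Cfsg.Agent.OddLocal.AppendixC
import Cfsg.Agent.OddLocal.NormOnePairs

/-!
# Appendix C: `p ≤ q`
-/

set_option linter.unusedSectionVars false

namespace Cfsg.Lib.OddLocal.AppendixC

variable {p q : ℕ} [hp : Fact p.Prime] [hq : Fact q.Prime] {F : Type*} [Field F] [Fintype F]
  {G : Type*} [Group G] [Finite G]

/-- Norm-one elements `a ≠ 1` with `2 - a` of norm one exist in any field with `p ^ q` elements. -/
theorem exists_pair (hF : Fintype.card F = p ^ q) (hp2 : p ≠ 2) (hq2 : q ≠ 2) :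
    ∃ a : F, a ≠ 1 ∧ a ^ ((p ^ q - 1) / (p - 1)) = 1 ∧ (2 - a) ^ ((p ^ q - 1) / (p - 1)) = 1 := by
  have h2 : 2 ≤ Set.ncard {a : GaloisField p q | Algebra.norm (ZMod p) a = 1 ∧
      Algebra.norm (ZMod p) (2 - a) = 1} := by
    rcases Nat.lt_or_ge q 5 with h | h
    · have h2 := hq.out.two_le
      have hq3 : q = 3 := by
        rcases (show q = 2 ∨ q = 3 ∨ q = 4 by omega) with h' | h' | h'
        · exact absurd h' hq2
        · exact h'
        · exact absurd (h' ▸ hq.out) (by norm_num)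
      subst hq3
      exact NormOnePairs.two_le_three hp2
    · exact NormOnePairs.two_le_large hp2 h
  obtain ⟨a, ⟨ha, ha'⟩, ha1⟩ := Set.exists_ne_of_one_lt_ncard (lt_of_lt_of_le one_lt_two h2) 1
  haveI : Fintype (GaloisField p q) := Fintype.ofFinite _
  have hcard : Fintype.card (GaloisField p q) = Fintype.card F := by
    rw [Fintype.card_eq_nat_card, GaloisField.card p q hq.out.ne_zero, hF]
  let e := FiniteField.ringEquivOfCardEq hcard
  have key : ∀ x : GaloisField p q, Algebra.norm (ZMod p) x = 1 → (e x) ^ ((p ^ q - 1) / (p - 1)) = 1 := by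
    intro x hx
    have h := FiniteField.algebraMap_norm_eq_pow (K := ZMod p) (K' := GaloisField p q) (x := x)
    rw [hx, map_one, GaloisField.card p q hq.out.ne_zero, Nat.card_zmod] at h
    rw [← map_pow, ← h, map_one]
  exact ⟨e a, fun h => ha1 (e.injective (h.trans (map_one e).symm)), key a ha, by
    have := key _ ha'; rwa [map_sub, map_ofNat] at this⟩

/-- The configuration of Appendix C forces `p ≤ q`. -/
theorem le_of_config (c : Config p q F G) (hF : Fintype.card F = p ^ q)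
    (hA : Nat.Coprime ((p ^ q - 1) / (p - 1)) (p - 1)) : p ≤ q := by
  by_contra hlt
  rw [not_le] at hlt
  haveI : CharP F p := charP_of_card_eq_prime_pow hF
  have hp2 : p ≠ 2 := by have := hq.out.two_le; omega
  have hpodd : Odd p := hp.out.odd_of_ne_two hp2
  have hq2 : q ≠ 2 := by
    rintro rfl
    obtain ⟨k, rfl⟩ := hpodd
    have hk : 0 < k := by omega
    have e : ((2 * k + 1) ^ 2 - 1) / (2 * k + 1 - 1) = 2 * k + 2 := by
      have h1 : (2 * k + 1) ^ 2 - 1 = (2 * k) * (2 * k + 2) := by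
        rw [Nat.sub_eq_iff_eq_add (Nat.one_le_pow _ _ (by omega))]; ring
      rw [h1, Nat.add_sub_cancel, Nat.mul_div_cancel_left _ (by omega)]
    rw [e, Nat.add_sub_cancel] at hA
    exact Nat.not_coprime_of_dvd_of_dvd one_lt_two ⟨k + 1, by ring⟩ ⟨k, rfl⟩ hA
  have hqodd : Odd q := hq.out.odd_of_ne_two hq2
  have hpq : q + 1 < p := by
    obtain ⟨a, rfl⟩ := hpodd
    obtain ⟨b, rfl⟩ := hqodd
    omega
  obtain ⟨a, ha1, ha, ha'⟩ := exists_pair (F := F) hF hp2 hq2
  obtain ⟨u, hu, rfl⟩ := c.ψ_surj a ha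
  obtain ⟨v, hv, hv'⟩ := c.ψ_surj _ ha'
  exact ha1 (c.eq_one hF hA hp2 hpq hu hv (by rw [hv']; ring))

/-- The form with the field given on a subgroup `P`. -/
theorem le_of_field (hA : Nat.Coprime ((p ^ q - 1) / (p - 1)) (p - 1))
    (hF : Fintype.card F = p ^ q) (P U Q : Subgroup G) (f ψ : G → F)
    (hf : Set.BijOn f (P : Set G) Set.univ) (hfadd : ∀ x ∈ P, ∀ z ∈ P, f (x * z) = f x + f z)
    (hUP : U ≤ Subgroup.normalizer (P : Set G))
    (hψ : ∀ u ∈ U, ψ u ≠ 0 ∧ ∀ x ∈ P, f (u * x * u⁻¹) = ψ u * f x)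
    (hψmul : ∀ u ∈ U, ∀ v ∈ U, ψ (u * v) = ψ u * ψ v) (hψinj : Set.InjOn ψ (U : Set G))
    (hUcard : Nat.card U * (p - 1) = p ^ q - 1)
    (hQ : IsMulCommutative Q) (hQp : (Nat.card Q).Coprime p)
    (hP0Q : ∀ x ∈ P, f x ^ p = f x → x ∈ Subgroup.normalizer (Q : Set G))
    (y : G) (hy : y ∈ Q)
    (hP0U : ∀ x ∈ P, f x ^ p = f x → y * x * y⁻¹ ∈ Subgroup.normalizer (U : Set G)) :
    p ≤ q := by
  classical
  have hex : ∀ a : F, ∃ x ∈ P, f x = a := fun a => by
    obtain ⟨x, hx, h⟩ := hf.surjOn (Set.mem_univ a); exact ⟨x, hx, h⟩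
  choose g hgP hgf using hex
  have hgg : ∀ x ∈ P, g (f x) = x := fun x hx => hf.injOn (hgP _) hx (hgf _)
  have gadd : ∀ a b, g (a + b) = g a * g b := fun a b => by
    rw [← hgg _ (mul_mem (hgP a) (hgP b)), hfadd _ (hgP a) _ (hgP b), hgf, hgf]
  let π : Multiplicative F →* G := MonoidHom.mk' (fun a => g a.toAdd) fun a b => gadd a.toAdd b.toAdd
  have π_inj : Function.Injective π := fun a b h => by
    have := congrArg f h
    simp only [π, MonoidHom.mk'_apply, hgf] at this
    exact Multiplicative.toAdd.injective this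
  have hn : (p ^ q - 1) / (p - 1) = Nat.card U := by
    rw [← hUcard, Nat.mul_div_cancel]
    have := hp.out.two_le; omega
  have ψ1 : ψ 1 = 1 := by
    have h := hψmul 1 (one_mem _) 1 (one_mem _)
    rw [mul_one] at h
    exact (mul_eq_left₀ (hψ 1 (one_mem _)).1).mp h.symm
  have ψpow : ∀ u ∈ U, ∀ k : ℕ, ψ (u ^ k) = ψ u ^ k := fun u hu k => by
    induction k with
    | zero => simp [ψ1]
    | succ k ih => rw [pow_succ, hψmul _ (pow_mem hu k) _ hu, ih, pow_succ]
  have ψroot : ∀ u ∈ U, ψ u ^ ((p ^ q - 1) / (p - 1)) = 1 := fun u hu => by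
    rw [hn, ← ψpow u hu, show u ^ Nat.card U = 1 from
      congrArg Subtype.val (pow_card_eq_one' (x := (⟨u, hu⟩ : U))), ψ1]
  have ψsurj : ∀ x : F, x ^ ((p ^ q - 1) / (p - 1)) = 1 → ∃ u ∈ U, ψ u = x := by
    intro x hx
    haveI := Fintype.ofFinite U
    set s : Finset F := (Finset.univ : Finset U).image fun u => ψ u.1 with hs
    have hcard : s.card = Nat.card U := by
      rw [hs, Finset.card_image_of_injective _ (fun (a b : U) (h : ψ a.1 = ψ b.1) => Subtype.ext (hψinj a.2 b.2 h) : Function.Injective fun u : U => ψ u.1),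
        Finset.card_univ, Nat.card_eq_fintype_card]
    set n := (p ^ q - 1) / (p - 1) with hn'
    have hn0 : 0 < n := hn ▸ Nat.card_pos
    have hsub : s ⊆ (Polynomial.nthRoots n (1 : F)).toFinset := fun z hz => by
      obtain ⟨u, -, rfl⟩ := Finset.mem_image.mp hz
      rw [Multiset.mem_toFinset, Polynomial.mem_nthRoots hn0]
      exact ψroot u.1 u.2
    have hle : (Polynomial.nthRoots n (1 : F)).toFinset.card ≤ s.card := by
      rw [hcard, ← hn]; exact (Multiset.toFinset_card_le _).trans (Polynomial.card_nthRoots n 1)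
    have : x ∈ (Polynomial.nthRoots n (1 : F)).toFinset := by
      rw [Multiset.mem_toFinset, Polynomial.mem_nthRoots hn0]; exact hx
    rw [← Finset.eq_of_subset_of_card_le hsub hle] at this
    obtain ⟨u, -, hu⟩ := Finset.mem_image.mp this
    exact ⟨u.1, u.2, hu⟩
  have h1P : f (g 1) ^ p = f (g 1) := by rw [hgf, one_pow]
  let c : Config p q F G :=
    { π := π
      π_inj := π_inj
      U := U
      ψ := ψ
      ψ_mul := hψmul
      ψ_inj := hψinj
      ψ_pow := ψroot
      ψ_surj := ψsurj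
      act := fun u hu a => by
        show u * g a * u⁻¹ = g (ψ u * a)
        have hm : u * g a * u⁻¹ ∈ P := (Subgroup.mem_normalizer_iff.mp (hUP hu) _).mp (hgP a)
        rw [← hgg _ hm, (hψ u hu).2 _ (hgP a), hgf]
      Q := Q
      Q_comm := hQ
      Q_cop := hQp
      y := y
      y_mem := hy
      S_norm := hP0Q _ (hgP 1) h1P
      t_norm := hP0U _ (hgP 1) h1P }
  exact le_of_config c hF hA

end Cfsg.Lib.OddLocal.AppendixC
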