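import Cfsg.Agent.Coprime.Basic

/-!
# A cyclic group of odd order acting on a nonabelian group of order `p³`
-/

set_option linter.unusedSectionVars false
set_option linter.unusedVariables false

namespace Cfsg.Lib.OddLocal.Heisenberg

open Subgroup
open Cfsg.Lib.Coprime (conjMap)
open scoped commutatorElement

universe u

variable {G : Type u} [Group G] [Finite G] {p : ℕ} [hp : Fact p.Prime] {P Z K : Subgroup G} {a b c z : G}

/-- An element of order prime to `p` fixing `z` and moving `a` to `a z` has `z = 1`. -/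
theorem eq_one_of_stable (hcop : (orderOf c).Coprime p) (hzp : z ^ p = 1) (hcz : Commute c z)
    (h : c * a * c⁻¹ = a * z) : z = 1 := by
  have key : ∀ n : ℕ, c ^ n * a * (c ^ n)⁻¹ = a * z ^ n := by
    intro n
    induction n with
    | zero => simp
    | succ n ih =>
      calc c ^ (n + 1) * a * (c ^ (n + 1))⁻¹ = c * (c ^ n * a * (c ^ n)⁻¹) * c⁻¹ := by
            rw [pow_succ']; group
        _ = (c * a * c⁻¹) * (c * z ^ n * c⁻¹) := by rw [ih]; group
        _ = a * z * z ^ n := by rw [h, (hcz.pow_right n).eq, mul_inv_cancel_right]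
        _ = a * z ^ (n + 1) := by rw [pow_succ', mul_assoc]
  have h1 := key (orderOf c)
  rw [pow_orderOf_eq_one, inv_one, one_mul, mul_one] at h1
  exact orderOf_eq_one_iff.mp (Nat.dvd_one.mp (hcop.gcd_eq_one ▸
    Nat.dvd_gcd (orderOf_dvd_of_pow_eq_one (left_eq_mul.mp h1)) (orderOf_dvd_of_pow_eq_one hzp)))

theorem comm_zpow (hca : Commute c a) (hcb : Commute c b) (h : a * b * a⁻¹ = c * b) (e f : ℤ) :
    a ^ e * b ^ f * (a ^ e)⁻¹ = c ^ (e * f) * b ^ f := by
  have h1 : b⁻¹ * a * b = c * a := by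
    calc b⁻¹ * a * b = b⁻¹ * (a * b * a⁻¹) * a := by group
      _ = b⁻¹ * (b * c) * a := by rw [h, hcb.eq]
      _ = c * a := by group
  have h2 : b⁻¹ * a ^ e * b = c ^ e * a ^ e := by
    rw [← hca.mul_zpow, ← h1]
    simpa using (map_zpow (MulAut.conj b⁻¹) a e)
  have h3 : a ^ e * b * (a ^ e)⁻¹ = c ^ e * b := by
    calc a ^ e * b * (a ^ e)⁻¹ = b * (b⁻¹ * a ^ e * b) * (a ^ e)⁻¹ := by group
      _ = b * c ^ e := by rw [h2]; group
      _ = c ^ e * b := ((hcb.zpow_left e).eq).symm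
  have h4 : a ^ e * b ^ f * (a ^ e)⁻¹ = (a ^ e * b * (a ^ e)⁻¹) ^ f := by
    simpa using (map_zpow (MulAut.conj (a ^ e)) b f)
  rw [h4, h3, (hcb.zpow_left e).mul_zpow, ← zpow_mul]

variable (hP : Nat.card P = p ^ 3) (hna : ¬ IsMulCommutative P)
  (hZ : Z = P ⊓ centralizer (P : Set G)) (hZc : Nat.card Z = p)

include hP hna hZ hZc

theorem Z_le : Z ≤ P := hZ ▸ inf_le_left

theorem Z_comm (hz : z ∈ Z) (ha : a ∈ P) : Commute z a :=
  (mem_centralizer_iff.mp (hZ ▸ hz : z ∈ P ⊓ centralizer (P : Set G)).2 a ha).symm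

theorem card_line (ha : a ∈ P) (haZ : a ∉ Z) :
    Nat.card ↥(P ⊓ centralizer ({a} : Set G)) = p ^ 2 := by
  set L := P ⊓ centralizer ({a} : Set G) with hL
  have hZL : Z ≤ L := fun z hz =>
    ⟨Z_le hP hna hZ hZc hz, mem_centralizer_singleton_iff.mpr (Z_comm hP hna hZ hZc hz ha).eq⟩
  have haL : a ∈ L := ⟨ha, mem_centralizer_singleton_iff.mpr rfl⟩
  obtain ⟨i, hi, hc⟩ := (Nat.dvd_prime_pow hp.out).mp
    (hP ▸ card_dvd_of_le (inf_le_left : L ≤ P))
  rw [hc]
  have h1 : p ^ 1 < p ^ i := by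
    rw [pow_one, ← hc, ← hZc]
    refine lt_of_le_of_ne (card_le_of_le hZL) fun he => haZ ?_
    rw [Cfsg.Lib.Coprime.eq_of_le_of_card_eq hZL he]
    exact haL
  have h2 : i ≠ 3 := fun h3 => haZ ?_
  · have h4 := (Nat.pow_lt_pow_iff_right hp.out.one_lt).mp h1
    rw [show i = 2 by omega]
  · rw [hZ]
    refine ⟨ha, mem_centralizer_iff.mpr fun y hy => ?_⟩
    have h5 : L = P := Cfsg.Lib.Coprime.eq_of_le_of_card_eq inf_le_left (by rw [hc, h3, hP])
    exact mem_centralizer_singleton_iff.mp (h5.symm ▸ hy : y ∈ L).2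

theorem line_comm (ha : a ∈ P) (haZ : a ∉ Z) :
    ∀ x ∈ P ⊓ centralizer ({a} : Set G), ∀ y ∈ P ⊓ centralizer ({a} : Set G), x * y = y * x :=
  fun x hx y hy => congrArg Subtype.val
    ((IsPGroup.commutative_of_card_eq_prime_sq (p := p) (card_line hP hna hZ hZc ha haZ)) ⟨x, hx⟩ ⟨y, hy⟩)

theorem line_eq (ha : a ∈ P) (haZ : a ∉ Z) (hb : b ∈ P ⊓ centralizer ({a} : Set G)) (hbZ : b ∉ Z) :
    P ⊓ centralizer ({b} : Set G) = P ⊓ centralizer ({a} : Set G) :=
  (Cfsg.Lib.Coprime.eq_of_le_of_card_eq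
    (show P ⊓ centralizer ({a} : Set G) ≤ P ⊓ centralizer ({b} : Set G) from fun y hy =>
      ⟨hy.1, mem_centralizer_singleton_iff.mpr (line_comm hP hna hZ hZc ha haZ y hy b hb)⟩)
    ((card_line hP hna hZ hZc ha haZ).trans (card_line hP hna hZ hZc hb.1 hbZ).symm)).symm

theorem exists_decomp (ha : a ∈ P) (haZ : a ∉ Z) (hb : b ∈ P ⊓ centralizer ({a} : Set G)) :
    ∃ z ∈ Z, ∃ e : ℤ, b = z * a ^ e := by
  have hn : zpowers a ≤ normalizer (Z : Set G) := zpowers_le.mpr <| centralizer_le_normalizer _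
    (mem_centralizer_iff.mpr fun z hz => (Z_comm hP hna hZ hZc hz ha).eq)
  have hle : Z ⊔ zpowers a ≤ P ⊓ centralizer ({a} : Set G) := sup_le
    (fun z hz => ⟨Z_le hP hna hZ hZc hz, mem_centralizer_singleton_iff.mpr (Z_comm hP hna hZ hZc hz ha).eq⟩)
    (zpowers_le.mpr ⟨ha, mem_centralizer_singleton_iff.mpr rfl⟩)
  have heq : Z ⊔ zpowers a = P ⊓ centralizer ({a} : Set G) := by
    obtain ⟨i, hi, hc⟩ := (Nat.dvd_prime_pow hp.out).mp
      (card_line hP hna hZ hZc ha haZ ▸ card_dvd_of_le hle)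
    refine Cfsg.Lib.Coprime.eq_of_le_of_card_eq hle ?_
    rw [card_line hP hna hZ hZc ha haZ, hc]
    have h1 : p ^ 1 < p ^ i := by
      rw [pow_one, ← hc, ← hZc]
      refine lt_of_le_of_ne (card_le_of_le le_sup_left) fun he => haZ ?_
      rw [Cfsg.Lib.Coprime.eq_of_le_of_card_eq (le_sup_left : Z ≤ Z ⊔ zpowers a) he]
      exact mem_sup_right (mem_zpowers a)
    have h4 := (Nat.pow_lt_pow_iff_right hp.out.one_lt).mp h1
    rw [show i = 2 by omega]
  rw [← heq] at hb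
  obtain ⟨z, hz, y, hy, rfl⟩ := (Cfsg.Lib.Coprime.mem_sup_of_le_normalizer hn).mp hb
  obtain ⟨e, rfl⟩ := hy
  exact ⟨z, hz, e, rfl⟩

theorem pow_mem_Z (ha : a ∈ P) (haZ : a ∉ Z) : a ^ p ∈ Z := by
  set L := P ⊓ centralizer ({a} : Set G) with hL
  have hZL : Z ≤ L := fun z hz =>
    ⟨Z_le hP hna hZ hZc hz, mem_centralizer_singleton_iff.mpr (Z_comm hP hna hZ hZc hz ha).eq⟩
  haveI : IsMulCommutative L :=
    ⟨⟨fun x y => Subtype.ext (line_comm hP hna hZ hZc ha haZ x x.2 y y.2)⟩⟩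
  have hidx : (Z.subgroupOf L).index = p := by
    have h1 := (Z.subgroupOf L).card_mul_index
    rw [Nat.card_congr (subgroupOfEquivOfLe hZL).toEquiv, hZc, card_line hP hna hZ hZc ha haZ, pow_two] at h1
    exact Nat.eq_of_mul_eq_mul_left hp.out.pos h1
  have h2 := pow_index_mem (Z.subgroupOf L) (⟨a, ha, mem_centralizer_singleton_iff.mpr rfl⟩ : L)
  rwa [hidx] at h2

theorem commutator_mem (ha : a ∈ P) (hb : b ∈ P) : a * b * a⁻¹ * b⁻¹ ∈ Z := by
  have hcZ : Z.subgroupOf P = center P := by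
    ext y
    rw [mem_subgroupOf, hZ, Subgroup.mem_center_iff]
    constructor
    · exact fun h w => Subtype.ext (mem_centralizer_iff.mp h.2 w w.2)
    · exact fun h => ⟨y.2, mem_centralizer_iff.mpr fun w hw => congrArg Subtype.val (h ⟨w, hw⟩)⟩
  have hidx : Nat.card (P ⧸ center P) = p ^ 2 := by
    have h1 := (center P).card_mul_index
    rw [← hcZ, Nat.card_congr (subgroupOfEquivOfLe (Z_le hP hna hZ hZc)).toEquiv, hZc, hP, pow_succ'] at h1
    rw [← hcZ]
    exact Nat.eq_of_mul_eq_mul_left hp.out.pos h1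
  have h2 := IsPGroup.commutative_of_card_eq_prime_sq (p := p) hidx
    ((⟨a, ha⟩ : P) : P ⧸ center P) ((⟨b, hb⟩ : P) : P ⧸ center P)
  rw [← QuotientGroup.mk_mul, ← QuotientGroup.mk_mul, QuotientGroup.eq_iff_div_mem, ← hcZ] at h2
  simpa [mem_subgroupOf, div_eq_mul_inv, mul_assoc] using h2

/-- Two lines fixed by an element centralizing `Z` have inverse eigenvalues. -/
theorem eigen_mul {k : G} (hk : ∀ z ∈ Z, Commute k z) (ha : a ∈ P) (haZ : a ∉ Z) (hb : b ∈ P)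
    (hbL : b ∉ P ⊓ centralizer ({a} : Set G)) {z₁ z₂ : G} (hz₁ : z₁ ∈ Z) (hz₂ : z₂ ∈ Z) {e f : ℤ}
    (hka : k * a * k⁻¹ = z₁ * a ^ e) (hkb : k * b * k⁻¹ = z₂ * b ^ f) : ((e * f : ℤ) : ZMod p) = 1 := by
  set c := a * b * a⁻¹ * b⁻¹ with hc
  have hcZ : c ∈ Z := commutator_mem hP hna hZ hZc ha hb
  have hc1 : c ≠ 1 := fun h => hbL ⟨hb, mem_centralizer_singleton_iff.mpr
    (commutatorElement_eq_one_iff_mul_comm.mp h).symm⟩
  have hab : a * b * a⁻¹ = c * b := by rw [hc]; group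
  have hef := comm_zpow (Z_comm hP hna hZ hZc hcZ ha) (Z_comm hP hna hZ hZc hcZ hb) hab e f
  have h1 : (k * a * k⁻¹) * (k * b * k⁻¹) * (k * a * k⁻¹)⁻¹ = c * (k * b * k⁻¹) := by
    calc _ = k * (a * b * a⁻¹) * k⁻¹ := by group
      _ = (k * c * k⁻¹) * (k * b * k⁻¹) := by rw [hab]; group
      _ = c * (k * b * k⁻¹) := by rw [(hk c hcZ).eq, mul_inv_cancel_right]
  rw [hka, hkb] at h1
  have hA : a ^ e ∈ P := zpow_mem ha e
  have hB : b ^ f ∈ P := zpow_mem hb f
  have h2 : z₁ * a ^ e * (z₂ * b ^ f) * (z₁ * a ^ e)⁻¹ = z₂ * (a ^ e * b ^ f * (a ^ e)⁻¹) := by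
    have k1 : Commute z₁ (a ^ e * (z₂ * b ^ f) * (a ^ e)⁻¹) := Z_comm hP hna hZ hZc hz₁
      (mul_mem (mul_mem hA (mul_mem (Z_le hP hna hZ hZc hz₂) hB)) (inv_mem hA))
    calc z₁ * a ^ e * (z₂ * b ^ f) * (z₁ * a ^ e)⁻¹
        = z₁ * (a ^ e * (z₂ * b ^ f) * (a ^ e)⁻¹) * z₁⁻¹ := by group
      _ = (a ^ e * z₂) * b ^ f * (a ^ e)⁻¹ := by rw [k1.eq, mul_inv_cancel_right]; group
      _ = z₂ * (a ^ e * b ^ f * (a ^ e)⁻¹) := by
        rw [← (Z_comm hP hna hZ hZc hz₂ hA).eq]; group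
  rw [h2, hef, ← mul_assoc, ← mul_assoc] at h1
  have h3 : z₂ * c ^ (e * f) = c * z₂ := mul_right_cancel h1
  rw [← (Z_comm hP hna hZ hZc hz₂ (Z_le hP hna hZ hZc hcZ)).eq] at h3
  have h4 : c ^ (e * f - 1) = 1 := by rw [zpow_sub_one, mul_left_cancel h3, mul_inv_cancel]
  have hco : orderOf c = p := by
    have h5 : orderOf c ∣ p := hZc ▸ Subgroup.orderOf_dvd_natCard Z hcZ
    exact ((Nat.dvd_prime hp.out).mp h5).resolve_left fun h => hc1 (orderOf_eq_one_iff.mp h)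
  have h6 := orderOf_dvd_iff_zpow_eq_one.mpr h4
  rw [hco, ← ZMod.intCast_zmod_eq_zero_iff_dvd] at h6
  push_cast at h6 ⊢
  exact sub_eq_zero.mp h6

/-- `|K|` divides `p + 1`, or `K` has exponent dividing `p - 1`. -/
theorem dvd_succ_or_pow_pred (hKP : K ≤ normalizer (P : Set G)) (hKc : IsCyclic K)
    (hcop : (Nat.card K).Coprime p) (hodd : Odd (Nat.card K))
    (hfix : ∀ k ∈ K, k ≠ 1 → P ⊓ centralizer ({k} : Set G) = Z)
    (htriv : ∀ L : Subgroup G, Z ≤ L → L.relIndex P ∣ p → Z.relIndex L ∣ p → L ≤ P →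
      K ≤ normalizer (L : Set G) → ∀ k ∈ K, ∀ y ∈ L, y⁻¹ * k ^ (p - 1) * y * (k ^ (p - 1))⁻¹ ∈ Z) :
    Nat.card K ∣ p + 1 ∨ ∀ k ∈ K, k ^ (p - 1) = 1 := by
  have hcZ : ∀ k ∈ K, ∀ z ∈ Z, Commute k z := fun k hk z hz => by
    by_cases hk1 : k = 1
    · rw [hk1]; exact Commute.one_left z
    · exact (mem_centralizer_singleton_iff.mp ((hfix k hk hk1).symm ▸ hz : z ∈ P ⊓ _).2).symm
  -- stability
  have hstab : ∀ k ∈ K, ∀ a ∈ P, ∀ z ∈ Z, k * a * k⁻¹ = a * z → a ∉ Z → k = 1 := fun k hk a ha z hz h haZ => by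
    by_contra hk1
    have h1 := eq_one_of_stable (hcop.coprime_dvd_left (Subgroup.orderOf_dvd_natCard K hk))
      (orderOf_dvd_iff_pow_eq_one.mp (hZc ▸ Subgroup.orderOf_dvd_natCard Z hz)) (hcZ k hk z hz) h
    rw [h1, mul_one, mul_inv_eq_iff_eq_mul] at h
    exact haZ ((hfix k hk hk1) ▸ (⟨ha, mem_centralizer_singleton_iff.mpr h.symm⟩ :
      a ∈ P ⊓ centralizer ({k} : Set G)))
  set L : G → Subgroup G := fun a => P ⊓ centralizer ({a} : Set G) with hLdef
  have hconj : ∀ k ∈ K, ∀ a : G, conjMap k (L a) = L (k * a * k⁻¹) := fun k hk a => by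
    simp only [hLdef]
    rw [Cfsg.Lib.Coprime.conjMap_inf, Cfsg.Lib.Coprime.conjMap_eq_self (hKP hk)]
    congr 1
    ext y
    rw [Cfsg.Lib.Coprime.mem_conjMap, mem_centralizer_singleton_iff, mem_centralizer_singleton_iff]
    constructor <;> intro h
    · calc y * (k * a * k⁻¹) = k * ((k⁻¹ * y * k) * a) * k⁻¹ := by group
        _ = k * a * k⁻¹ * y := by rw [h]; group
    · calc k⁻¹ * y * k * a = k⁻¹ * (y * (k * a * k⁻¹)) * k := by group
        _ = a * (k⁻¹ * y * k) := by rw [h]; group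
  have hmemP : ∀ k ∈ K, ∀ a ∈ P, k * a * k⁻¹ ∈ P := fun k hk a ha =>
    (mem_normalizer_iff.mp (hKP hk) a).mp ha
  have hnotZ : ∀ k ∈ K, ∀ a, a ∉ Z → k * a * k⁻¹ ∉ Z := fun k hk a ha h => ha (by
    have h1 := (hcZ k hk _ h).eq
    have h2 : a = k * a * k⁻¹ := by
      have h3 : k * (k * a * k⁻¹) * k⁻¹ = k * a * k⁻¹ := by rw [h1, mul_inv_cancel_right]
      have h4 := mul_left_cancel (mul_right_cancel h3)
      exact h4.symm
    exact h2 ▸ h)
  by_cases hA : ∃ k ∈ K, k ≠ 1 ∧ ∃ a ∈ P, a ∉ Z ∧ conjMap k (L a) = L a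
  · obtain ⟨k, hk, hk1, a, ha, haZ, hkL⟩ := hA
    haveI := hKc
    obtain ⟨k₀, hk₀⟩ := IsCyclic.exists_generator (α := K)
    by_cases hgen : conjMap (k₀ : G) (L a) = L a
    · right
      have hn : K ≤ normalizer (L a : Set G) := fun x hx => by
        obtain ⟨n, hn⟩ := hk₀ ⟨x, hx⟩
        have h1 : x = (k₀ : G) ^ n := by rw [← Subgroup.coe_zpow]; exact congrArg Subtype.val hn.symm
        rw [h1]
        exact zpow_mem (Cfsg.Lib.Coprime.conjMap_eq_self_iff.mp hgen) n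
      intro x hx
      have hZL : Z ≤ L a := fun z hz =>
        ⟨Z_le hP hna hZ hZc hz, mem_centralizer_singleton_iff.mpr (Z_comm hP hna hZ hZc hz ha).eq⟩
      have hc1 := card_line hP hna hZ hZc ha haZ
      have h1 : Z.relIndex (L a) ∣ p := by
        have := relIndex_mul_relIndex ⊥ Z (L a) bot_le hZL
        rw [relIndex_bot_left, relIndex_bot_left, hZc, hc1, pow_two] at this
        exact (Nat.eq_of_mul_eq_mul_left hp.out.pos this).dvd
      have h2 : (L a).relIndex P ∣ p := by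
        have := relIndex_mul_relIndex ⊥ (L a) P bot_le inf_le_left
        rw [relIndex_bot_left, relIndex_bot_left, hc1, hP, pow_succ] at this
        exact (Nat.eq_of_mul_eq_mul_left (pow_pos hp.out.pos 2) this).dvd
      have h3 := htriv (L a) hZL h2 h1 inf_le_left hn x hx a ⟨ha, mem_centralizer_singleton_iff.mpr rfl⟩
      refine hstab _ (pow_mem hx _) a ha _ h3 ?_ haZ
      have h5 : Commute a (a⁻¹ * x ^ (p - 1) * a * (x ^ (p - 1))⁻¹) := (Z_comm hP hna hZ hZc h3 ha).symm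
      have h6 := h5.eq
      set w := x ^ (p - 1) with hw
      have h7 : a⁻¹ * w * a * w⁻¹ * a = w * a * w⁻¹ := by rw [← h6]; group
      calc w * a * w⁻¹ = a⁻¹ * w * a * w⁻¹ * a := h7.symm
        _ = a * (a⁻¹ * w * a * w⁻¹) := h6.symm
    exfalso
    have hne : ∀ y ∈ K, conjMap y (L a) = L a → conjMap (k₀ : G) (L a) ≠ L a := fun _ _ _ => hgen
    have hcomm : Commute k (k₀ : G) := by
      obtain ⟨n, hn⟩ := hk₀ ⟨k, hk⟩
      have h1 : k = (k₀ : G) ^ n := by rw [← Subgroup.coe_zpow]; exact congrArg Subtype.val hn.symm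
      rw [h1]; exact (Commute.refl _).zpow_left n
    -- three distinct fixed lines
    set a₁ := (k₀ : G) * a * (k₀ : G)⁻¹ with ha₁
    set a₂ := (k₀ : G) * a₁ * (k₀ : G)⁻¹ with ha₂
    have ha₁P : a₁ ∈ P := hmemP _ k₀.2 a ha
    have ha₁Z : a₁ ∉ Z := hnotZ _ k₀.2 a haZ
    have ha₂P : a₂ ∈ P := hmemP _ k₀.2 a₁ ha₁P
    have ha₂Z : a₂ ∉ Z := hnotZ _ k₀.2 a₁ ha₁Z
    have hfx : ∀ b : G, conjMap k (L b) = L b →
        conjMap k (L ((k₀ : G) * b * (k₀ : G)⁻¹)) = L ((k₀ : G) * b * (k₀ : G)⁻¹) := fun b hb => by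
      rw [← hconj _ k₀.2 b, Cfsg.Lib.Coprime.conjMap_mul, hcomm.eq, ← Cfsg.Lib.Coprime.conjMap_mul, hb]
    have hk1' := hfx a hkL
    have hk2' := hfx a₁ hk1'
    have n01 : L a₁ ≠ L a := by rw [ha₁, ← hconj _ k₀.2 a]; exact hgen
    have n12 : L a₂ ≠ L a₁ := fun h => hgen (by
      rw [ha₂, ← hconj _ k₀.2 a₁, ha₁, ← hconj _ k₀.2 a] at h
      exact Subgroup.map_injective (MulEquiv.injective _) h)
    have n02 : L a₂ ≠ L a := fun h => hgen (by
      rw [ha₂, ← hconj _ k₀.2 a₁, ha₁, ← hconj _ k₀.2 a, Cfsg.Lib.Coprime.conjMap_mul, ← pow_two] at h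
      have h1 : (k₀ : G) ^ 2 ∈ normalizer (L a : Set G) := Cfsg.Lib.Coprime.conjMap_eq_self_iff.mp h
      obtain ⟨m, hm⟩ := exists_pow_eq_self_of_coprime (x := (k₀ : G)) (n := 2)
        ((Nat.coprime_two_left).mpr (hodd.of_dvd_nat (Subgroup.orderOf_dvd_natCard K k₀.2)))
      exact Cfsg.Lib.Coprime.conjMap_eq_self (hm ▸ pow_mem h1 m))
    have hmem : ∀ b ∈ P, b ∉ Z → conjMap k (L b) = L b → ∃ z ∈ Z, ∃ e : ℤ, k * b * k⁻¹ = z * b ^ e :=
      fun b hb hbZ h => exists_decomp hP hna hZ hZc hb hbZ (by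
        have h1 : k * b * k⁻¹ ∈ conjMap k (L b) :=
          ⟨b, ⟨hb, mem_centralizer_singleton_iff.mpr rfl⟩, rfl⟩
        rwa [h] at h1)
    have hout : ∀ b₁ b₂ : G, b₁ ∈ P → b₁ ∉ Z → b₂ ∈ P → b₂ ∉ Z → L b₂ ≠ L b₁ → b₂ ∉ L b₁ :=
      fun b₁ b₂ h1 h2 h3 h4 hne' h => hne' (line_eq hP hna hZ hZc h1 h2 h h4)
    obtain ⟨z₀, hz₀, e₀, he₀⟩ := hmem a ha haZ hkL
    obtain ⟨z₁, hz₁, e₁, he₁⟩ := hmem a₁ ha₁P ha₁Z hk1'
    obtain ⟨z₂, hz₂, e₂, he₂⟩ := hmem a₂ ha₂P ha₂Z hk2'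
    have hk' := hcZ k hk
    have q01 := eigen_mul hP hna hZ hZc hk' ha haZ ha₁P (hout _ _ ha haZ ha₁P ha₁Z n01) hz₀ hz₁ he₀ he₁
    have q02 := eigen_mul hP hna hZ hZc hk' ha haZ ha₂P (hout _ _ ha haZ ha₂P ha₂Z n02) hz₀ hz₂ he₀ he₂
    have q12 := eigen_mul hP hna hZ hZc hk' ha₁P ha₁Z ha₂P (hout _ _ ha₁P ha₁Z ha₂P ha₂Z n12) hz₁ hz₂ he₁ he₂
    push_cast at q01 q02 q12
    have hsq : ((e₀ * e₀ - 1 : ℤ) : ZMod p) = 0 := by
      push_cast
      rw [sub_eq_zero]
      have : (e₀ : ZMod p) = e₁ := by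
        calc (e₀ : ZMod p) = e₀ * (e₁ * e₂) := by rw [q12, mul_one]
          _ = (e₀ * e₂) * e₁ := by ring
          _ = e₁ := by rw [q02, one_mul]
      calc (e₀ : ZMod p) * e₀ = e₀ * e₁ := by rw [← this]
        _ = 1 := q01
    obtain ⟨t, ht⟩ := (ZMod.intCast_zmod_eq_zero_iff_dvd _ p).mp hsq
    have hq : a ^ (e₀ * e₀ - 1) ∈ Z := by
      rw [ht, zpow_mul, zpow_natCast]
      exact zpow_mem (pow_mem_Z hP hna hZ hZc ha haZ) t
    have hpw : k * a ^ e₀ * k⁻¹ = z₀ ^ e₀ * a ^ (e₀ * e₀) := by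
      have := map_zpow (MulAut.conj k) a e₀
      rw [MulAut.conj_apply, MulAut.conj_apply, he₀, (Z_comm hP hna hZ hZc hz₀ (zpow_mem ha e₀)).mul_zpow,
        ← zpow_mul] at this
      exact this
    refine hk1 ?_
    have hk2 : k ^ 2 * a * (k ^ 2)⁻¹ = a * (z₀ * z₀ ^ e₀ * a ^ (e₀ * e₀ - 1)) := by
      calc k ^ 2 * a * (k ^ 2)⁻¹ = (k * z₀ * k⁻¹) * (k * a ^ e₀ * k⁻¹) := by
            rw [show k ^ 2 * a * (k ^ 2)⁻¹ = k * (k * a * k⁻¹) * k⁻¹ by rw [pow_two]; group, he₀]; group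
        _ = (z₀ * z₀ ^ e₀) * (a ^ (e₀ * e₀ - 1) * a) := by
            rw [(hk' z₀ hz₀).eq, mul_inv_cancel_right, hpw, zpow_sub_one, inv_mul_cancel_right,
              mul_assoc]
        _ = a * (z₀ * z₀ ^ e₀ * a ^ (e₀ * e₀ - 1)) := by
            rw [← mul_assoc]
            exact (Z_comm hP hna hZ hZc (mul_mem (mul_mem hz₀ (zpow_mem hz₀ _)) hq) ha).eq
    have hk21 := hstab _ (pow_mem hk 2) a ha _ (mul_mem (mul_mem hz₀ (zpow_mem hz₀ _)) hq) hk2 haZ
    obtain ⟨m, hm⟩ := exists_pow_eq_self_of_coprime (x := k) (n := 2)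
      ((Nat.coprime_two_left).mpr (hodd.of_dvd_nat (Subgroup.orderOf_dvd_natCard K hk)))
    rw [← hm, hk21, one_pow]
  · left
    classical
    haveI := Fintype.ofFinite G
    set D : Finset G := Finset.univ.filter (fun a => a ∈ P ∧ a ∉ Z) with hD
    set S : Finset (Subgroup G) := D.image L with hS
    have hDc : D.card = p ^ 3 - p := by
      have h1 : Finset.univ.filter (fun a => a ∈ P) = D ∪ Finset.univ.filter (fun a => a ∈ Z) := by
        ext y
        simp only [hD, Finset.mem_filter, Finset.mem_univ, true_and, Finset.mem_union]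
        constructor
        · intro h; tauto
        · rintro (h | h)
          · exact h.1
          · exact Z_le hP hna hZ hZc h
      have h2 : Disjoint D (Finset.univ.filter (fun a => a ∈ Z)) := by
        rw [Finset.disjoint_left]
        intro y hy hy'
        simp only [hD, Finset.mem_filter, Finset.mem_univ, true_and] at hy hy'
        exact hy.2 hy'
      have h3 := congrArg Finset.card h1
      rw [Finset.card_union_of_disjoint h2] at h3
      have h4 : (Finset.univ.filter (fun a => a ∈ P)).card = p ^ 3 := by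
        rw [← Fintype.card_subtype, ← Nat.card_eq_fintype_card]; exact hP
      have h5 : (Finset.univ.filter (fun a => a ∈ Z)).card = p := by
        rw [← Fintype.card_subtype, ← Nat.card_eq_fintype_card]; exact hZc
      omega
    have hfib : ∀ T ∈ S, (D.filter (fun a => L a = T)).card = p ^ 2 - p := by
      intro T hT
      obtain ⟨b, hb, rfl⟩ := Finset.mem_image.mp hT
      simp only [hD, Finset.mem_filter, Finset.mem_univ, true_and] at hb
      have h1 : (D.filter (fun a => L a = L b)) ∪ Finset.univ.filter (fun a => a ∈ Z) =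
          Finset.univ.filter (fun a => a ∈ L b) := by
        ext y
        simp only [hD, Finset.mem_filter, Finset.mem_univ, true_and, Finset.mem_union]
        constructor
        · rintro (⟨⟨hyP, -⟩, hy⟩ | hy)
          · rw [← hy]; exact ⟨hyP, mem_centralizer_singleton_iff.mpr rfl⟩
          · exact ⟨Z_le hP hna hZ hZc hy,
              mem_centralizer_singleton_iff.mpr (Z_comm hP hna hZ hZc hy hb.1).eq⟩
        · intro hy
          by_cases hyZ : y ∈ Z
          · exact Or.inr hyZ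
          · exact Or.inl ⟨⟨hy.1, hyZ⟩, line_eq hP hna hZ hZc hb.1 hb.2 hy hyZ⟩
      have h2 : Disjoint (D.filter (fun a => L a = L b)) (Finset.univ.filter (fun a => a ∈ Z)) := by
        rw [Finset.disjoint_left]
        intro y hy hy'
        simp only [hD, Finset.mem_filter, Finset.mem_univ, true_and] at hy hy'
        exact hy.1.2 hy'
      have h3 := congrArg Finset.card h1
      rw [Finset.card_union_of_disjoint h2] at h3
      have h4 : (Finset.univ.filter (fun a => a ∈ L b)).card = p ^ 2 := by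
        rw [← Fintype.card_subtype, ← Nat.card_eq_fintype_card]
        exact card_line hP hna hZ hZc hb.1 hb.2
      have h5 : (Finset.univ.filter (fun a => a ∈ Z)).card = p := by
        rw [← Fintype.card_subtype, ← Nat.card_eq_fintype_card]; exact hZc
      omega
    have hScard : S.card = p + 1 := by
      have h1 : D.card = ∑ T ∈ S, (D.filter (fun a => L a = T)).card :=
        Finset.card_eq_sum_card_fiberwise fun y hy => Finset.mem_image_of_mem L hy
      rw [Finset.sum_congr rfl hfib, Finset.sum_const, smul_eq_mul, hDc] at h1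
      have h2 := hp.out.two_le
      have h3 : p ^ 3 - p = (p + 1) * (p ^ 2 - p) := by
        zify [Nat.le_self_pow (show (3 : ℕ) ≠ 0 by norm_num) p, Nat.le_self_pow (show (2 : ℕ) ≠ 0 by norm_num) p]
        ring
      rw [h3] at h1
      exact (Nat.eq_of_mul_eq_mul_right (by
        have : p < p ^ 2 := by nlinarith
        omega) h1).symm
    have hclosed : ∀ k ∈ K, ∀ T ∈ S, conjMap k T ∈ S := by
      intro k hk T hT
      obtain ⟨b, hb, rfl⟩ := Finset.mem_image.mp hT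
      simp only [hD, Finset.mem_filter, Finset.mem_univ, true_and] at hb
      rw [hconj k hk b]
      exact Finset.mem_image_of_mem L (by
        simp only [hD, Finset.mem_filter, Finset.mem_univ, true_and]
        exact ⟨hmemP k hk b hb.1, hnotZ k hk b hb.2⟩)
    letI : MulAction K {T : Subgroup G // T ∈ S} :=
      { smul := fun k T => ⟨conjMap (k : G) T.1, hclosed k k.2 T.1 T.2⟩
        one_smul := fun T => Subtype.ext (Cfsg.Lib.Coprime.conjMap_one T.1)
        mul_smul := fun k l T => Subtype.ext (Cfsg.Lib.Coprime.conjMap_mul (k : G) l T.1).symm }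
    have hfree : ∀ T : {T : Subgroup G // T ∈ S}, MulAction.stabilizer K T = ⊥ := by
      intro T
      rw [eq_bot_iff]
      intro k hk
      rw [mem_bot]
      by_contra hk1
      obtain ⟨b, hb, hbT⟩ := Finset.mem_image.mp T.2
      simp only [hD, Finset.mem_filter, Finset.mem_univ, true_and] at hb
      refine hA ⟨k, k.2, fun e => hk1 (Subtype.ext e), b, hb.1, hb.2, ?_⟩
      rw [hbT]
      exact congrArg Subtype.val hk
    have hc := Nat.card_congr (MulAction.selfEquivOrbitsQuotientProd hfree)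
    rw [Nat.card_prod, Nat.card_eq_fintype_card, Fintype.card_coe, hScard] at hc
    exact ⟨_, hc.trans (mul_comm _ _)⟩

end Cfsg.Lib.OddLocal.Heisenberg
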