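import Cfsg.Agent.OddLocal.ProperPLength
import Cfsg.Agent.S1461

/-!
# Fusion is controlled by Sylow normalizers
-/

set_option linter.unusedSectionVars false
set_option linter.unusedVariables false
set_option linter.style.haveILetI false

namespace Cfsg.Lib.OddLocal.Sigma

open Subgroup Uniqueness
open Cfsg.Lib.Coprime (conjMap)
open scoped commutatorElement

universe u

variable {G : Type u} [Group G] [Finite G] {p : ℕ} [hp : Fact p.Prime]

theorem exists_over_normalizer (hG : Cfsg.IsMinSimpleOddOrder G) (P : Sylow p G)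
    (hP : (P : Subgroup G) ≠ ⊥) : ∃ M : Subgroup G, IsCoatom M ∧
      normalizer ((P : Subgroup G) : Set G) ≤ M ∧ p ∈ Cfsg.sigma M := by
  have hPt : (P : Subgroup G) ≠ ⊤ := fun h => by
    haveI : Group.IsNilpotent G := by
      haveI := P.2.isNilpotent
      exact Group.nilpotent_of_mulEquiv ((MulEquiv.subgroupCongr h).trans topEquiv)
    haveI := hG.2.1
    have hlt : commutator G < ⊤ := Group.IsSolvable.commutator_lt_top_of_nontrivial G
    rcases IsSimpleGroup.eq_bot_or_eq_top_of_normal (commutator G) inferInstance with h0 | h0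
    · refine hG.2.2.1 ⟨⟨fun a b => ?_⟩⟩
      have h1 : ⁅a, b⁆ ∈ commutator G := commutator_mem_commutator (mem_top a) (mem_top b)
      rw [h0, mem_bot] at h1
      exact commutatorElement_eq_one_iff_mul_comm.mp h1
    · exact hlt.ne h0
  obtain ⟨M, hM, hNM⟩ := exists_coatom_ge (MinSimpleTransitivity.normalizer_ne_top hG hP hPt)
  obtain ⟨S, hS⟩ := (isSylowOf_coe P (le_normalizer.trans hNM)).exists_sylow
  refine ⟨M, hM, hNM, hp.out, ?_, S, by rw [hS]; exact hNM⟩
  obtain ⟨j, hj⟩ := IsPGroup.iff_card.mp P.2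
  refine (hj ▸ dvd_pow_self p (fun h0 => hP (eq_bot_of_card_eq _ (by rw [hj, h0, pow_zero]))) :
    p ∣ Nat.card (P : Subgroup G)).trans (card_dvd_of_le (le_normalizer.trans hNM))

theorem le_derived_normalizer (hG : Cfsg.IsMinSimpleOddOrder G) (P : Sylow p G) :
    (P : Subgroup G) ≤
      ⁅normalizer ((P : Subgroup G) : Set G), normalizer ((P : Subgroup G) : Set G)⁆ := by
  by_cases hP : (P : Subgroup G) = ⊥
  · exact hP.le.trans bot_le
  obtain ⟨M, hM, hNM, hσ⟩ := exists_over_normalizer hG P hP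
  haveI := hG.2.2.2 M hM.1
  have hPM : (P : Subgroup G) ≤ M := le_normalizer.trans hNM
  obtain ⟨S, hS⟩ := (isSylowOf_coe P hPM).exists_sylow
  have hd : (S : Subgroup M) ≤ commutator M := fun x hx => by
    have h1 := sylow_le_derived hG hM hσ (isSylowOf_sylow S) (mem_map_of_mem _ hx)
    rw [← map_subtype_commutator M] at h1
    obtain ⟨y, hy, hyx⟩ := h1
    rwa [← Subtype.ext hyx]
  have h := (Cfsg.Agent.S1461.result p (pLength_proper hG p hM.1) S).1 hd
  rw [← hS]
  refine (map_mono h).trans ?_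
  rw [Subgroup.map_commutator]
  exact commutator_mono (le_normalizer_map _) (le_normalizer_map _)

/-- Fusion in a Sylow group takes place in its normalizer. -/
theorem exists_conj_normalizer (hG : Cfsg.IsMinSimpleOddOrder G) (P : Sylow p G) {Q : Subgroup G} {x : G}
    (hQ : Q ≤ (P : Subgroup G)) (hxQ : conjMap x Q ≤ (P : Subgroup G)) :
    ∃ y ∈ normalizer ((P : Subgroup G) : Set G), conjMap x Q = conjMap y Q := by
  by_cases hQ1 : Q = ⊥
  · refine ⟨1, one_mem _, ?_⟩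
    subst hQ1
    simp [conjMap]
  have hP : (P : Subgroup G) ≠ ⊥ := fun h0 => hQ1 (le_bot_iff.mp (h0 ▸ hQ))
  obtain ⟨M, hM, hNM, hσ⟩ := exists_over_normalizer hG P hP
  haveI := hG.2.2.2 M hM.1
  have hPM : (P : Subgroup G) ≤ M := le_normalizer.trans hNM
  obtain ⟨m, hm, c, hc, rfl⟩ := factor_conj hG hM hσ (P.2.to_le hQ) hQ1 (hQ.trans hPM) (hxQ.trans hPM)
  have hcQ : conjMap c Q = Q := Transitivity.conjMap_centralizes hc
  rw [← Cfsg.Lib.Coprime.conjMap_mul, hcQ] at hxQ ⊢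
  obtain ⟨S, hS⟩ := (isSylowOf_coe P hPM).exists_sylow
  have hmem : ∀ {w : M}, (w : G) ∈ (P : Subgroup G) → w ∈ (S : Subgroup M) := fun {w} hw => by
    rw [← hS] at hw
    obtain ⟨v, hv, hvw⟩ := hw
    rwa [← Subtype.ext hvw]
  obtain ⟨g, hg, c', hc', hgc⟩ := (Cfsg.Agent.S1461.result p (pLength_proper hG p hM.1) S).2.1
    ((Q.subgroupOf M : Subgroup M) : Set M) ⟨m, hm⟩ (fun w hw => hmem (hQ hw)) (by
      rintro _ ⟨w, hw, rfl⟩
      exact hmem (hxQ ⟨w, hw, rfl⟩))
  refine ⟨g, ?_, ?_⟩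
  · rw [← hS]
    exact le_normalizer_map M.subtype ⟨g, hg, rfl⟩
  · have hc2 : (c' : G) ∈ centralizer (Q : Set G) := mem_centralizer_iff.mpr fun q hq =>
      congrArg Subtype.val (mem_centralizer_iff.mp hc' ⟨q, (hQ.trans hPM) hq⟩ hq)
    rw [show m = (g : G) * c' from (congrArg Subtype.val hgc).symm, ← Cfsg.Lib.Coprime.conjMap_mul,
      Transitivity.conjMap_centralizes hc2]

theorem not_dvd_relIndex (hG : Cfsg.IsMinSimpleOddOrder G) (P : Sylow p G) {Q : Subgroup G}
    (hQ : Q ≤ (P : Subgroup G)) :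
    ¬ p ∣ ((P : Subgroup G) ⊓ normalizer (Q : Set G)).relIndex (normalizer (Q : Set G)) := by
  set N := normalizer (Q : Set G)
  obtain ⟨S, hS, hPS⟩ := exists_sylowOf (M := N) (P.2.to_le inf_le_left)
    (inf_le_right : (P : Subgroup G) ⊓ N ≤ N)
  obtain ⟨P', hSP'⟩ := hS.2.1.exists_le_sylow
  obtain ⟨x, hx⟩ := MulAction.exists_smul_eq G P P'
  have hSx : S ≤ conjMap x (P : Subgroup G) := by
    rw [← Cfsg.Lib.Coprime.conj_smul_eq, ← Sylow.coe_subgroup_smul, hx]
    exact hSP'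
  have hQx : conjMap x⁻¹ Q ≤ (P : Subgroup G) := by
    have h1 : conjMap x⁻¹ Q ≤ conjMap x⁻¹ (conjMap x (P : Subgroup G)) :=
      Cfsg.Lib.Coprime.conjMap_mono ((le_inf hQ le_normalizer).trans (hPS.trans hSx))
    rwa [Cfsg.Lib.Coprime.conjMap_inv_conjMap] at h1
  obtain ⟨y, hy, hxy⟩ := exists_conj_normalizer hG P hQ hQx
  have hn : x * y ∈ N := by
    rw [← Cfsg.Lib.Coprime.conjMap_eq_self_iff, ← Cfsg.Lib.Coprime.conjMap_mul, ← hxy,
      Cfsg.Lib.Coprime.conjMap_conjMap_inv]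
  have hle : conjMap (x * y)⁻¹ S ≤ (P : Subgroup G) ⊓ N := by
    refine le_inf ?_ ((Cfsg.Lib.Coprime.conjMap_mono hS.1).trans
      (Cfsg.Lib.Coprime.conjMap_eq_self (le_normalizer (inv_mem hn))).le)
    refine (Cfsg.Lib.Coprime.conjMap_mono hSx).trans ?_
    rw [Cfsg.Lib.Coprime.conjMap_mul, show (x * y)⁻¹ * x = y⁻¹ by group,
      Cfsg.Lib.Coprime.conjMap_eq_self (inv_mem hy)]
  have heq : S = (P : Subgroup G) ⊓ N := (eq_of_le_of_card_ge hPS (by
    rw [← Cfsg.Lib.Coprime.card_conjMap (x * y)⁻¹ S]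
    exact Nat.le_of_dvd Nat.card_pos (card_dvd_of_le hle))).symm
  obtain ⟨T, hT⟩ := hS.exists_sylow
  rw [← heq, ← hT, relIndex]
  change ¬ p ∣ (comap N.subtype ((T : Subgroup N).map N.subtype)).index
  rw [comap_map_eq_self_of_injective N.subtype_injective]
  exact T.not_dvd_index

theorem normalizer_le_of_weakly_closed (hG : Cfsg.IsMinSimpleOddOrder G) (P : Sylow p G) {R Q : Subgroup G}
    (hR : IsPGroup p R) (hQ : Q ≤ (P : Subgroup G) ⊓ R)
    (hn : normalizer ((P : Subgroup G) : Set G) ≤ normalizer (Q : Set G)) :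
    normalizer (R : Set G) ≤ normalizer (Q : Set G) := by
  intro g hg
  obtain ⟨P', hRP'⟩ := hR.exists_le_sylow
  obtain ⟨x, hx⟩ := MulAction.exists_smul_eq G P P'
  have hRx : R ≤ conjMap x (P : Subgroup G) := by
    rw [← Cfsg.Lib.Coprime.conj_smul_eq, ← Sylow.coe_subgroup_smul, hx]
    exact hRP'
  have key : ∀ Y : Subgroup G, Y ≤ R → ∀ z : G, conjMap z Q = Y → conjMap x⁻¹ Y = Q := by
    intro Y hY z hz
    subst hz
    have h1 : conjMap x⁻¹ (conjMap z Q) ≤ conjMap x⁻¹ (conjMap x (P : Subgroup G)) :=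
      Cfsg.Lib.Coprime.conjMap_mono (hY.trans hRx)
    rw [Cfsg.Lib.Coprime.conjMap_inv_conjMap, Cfsg.Lib.Coprime.conjMap_mul] at h1
    obtain ⟨y, hy, hxy⟩ := exists_conj_normalizer hG P (hQ.trans inf_le_left) h1
    rw [Cfsg.Lib.Coprime.conjMap_mul, hxy, Cfsg.Lib.Coprime.conjMap_eq_self (hn hy)]
  have h1 := key Q (hQ.trans inf_le_right) 1 (Cfsg.Lib.Coprime.conjMap_one Q)
  have h2 := key (conjMap g Q) ((Cfsg.Lib.Coprime.conjMap_mono (hQ.trans inf_le_right)).trans
    (Cfsg.Lib.Coprime.conjMap_eq_self hg).le) g rfl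
  refine Cfsg.Lib.Coprime.conjMap_eq_self_iff.mp ?_
  rw [← Cfsg.Lib.Coprime.conjMap_conjMap_inv x (conjMap g Q), h2]
  conv_rhs => rw [← Cfsg.Lib.Coprime.conjMap_conjMap_inv x Q, h1]

theorem eq_commutator_compl (hG : Cfsg.IsMinSimpleOddOrder G) (P : Sylow p G) {V : Subgroup G}
    (hV : Cfsg.IsComplIn (P : Subgroup G) V (normalizer ((P : Subgroup G) : Set G))) :
    (P : Subgroup G) = ⁅(P : Subgroup G), V⁆ := by
  by_cases hP : (P : Subgroup G) = ⊥
  · rw [hP, commutator_bot_left]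
  set N := normalizer ((P : Subgroup G) : Set G) with hN
  obtain ⟨M, hM, hNM, -⟩ := exists_over_normalizer hG P hP
  haveI := hG.2.2.2 N (FittingUniqueness.ne_top_of_le_coatom hM hNM)
  obtain ⟨hPN, hVN, hPV, hprod⟩ := hV
  set H := (P : Subgroup G).subgroupOf N
  set K := V.subgroupOf N
  haveI : H.Normal := normal_subgroupOf_of_le_normalizer le_rfl
  have hidx : (Nat.card H).Coprime H.index := by
    obtain ⟨j, hj⟩ := IsPGroup.iff_card.mp P.2
    rw [Nat.card_congr (subgroupOfEquivOfLe hPN).toEquiv, hj]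
    refine ((hp.out.coprime_iff_not_dvd).mpr fun hd => P.not_dvd_index ?_).pow_left j
    exact hd.trans (relIndex_dvd_index_of_le hPN)
  have hcompl : IsComplement' H K := by
    refine isComplement'_of_disjoint_and_mul_eq_univ ?_ ?_
    · rw [disjoint_iff_inf_le]
      intro x hx
      exact mem_bot.mpr (Subtype.ext (mem_bot.mp (hPV.le hx)))
    · refine Set.eq_univ_of_forall fun x => ?_
      obtain ⟨a, ha, b, hb, hab⟩ := hprod x x.2
      exact ⟨⟨a, hPN ha⟩, ha, ⟨b, hVN hb⟩, hb, Subtype.ext hab.symm⟩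
  have hd : H ≤ commutator N := fun x hx => by
    have h1 : (x : G) ∈ ⁅N, N⁆ := le_derived_normalizer hG P hx
    rw [← map_subtype_commutator N] at h1
    obtain ⟨y, hy, hyx⟩ := h1
    rwa [← Subtype.ext hyx]
  have h := ((Cfsg.Agent.S1459.result (G := N)).1 H K inferInstance hidx hcompl hd).1
  have h2 := congrArg (Subgroup.map N.subtype) h
  rwa [Subgroup.map_commutator, map_subgroupOf_eq_of_le hPN, map_subgroupOf_eq_of_le hVN] at h2

end Cfsg.Lib.OddLocal.Sigma
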