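import Cfsg.Agent.OddLocal.FittingMeet
import Cfsg.Agent.OddLocal.HeisenbergAction
import Cfsg.Agent.S1412

/-!
# The structure of `M` when `F(M)` is not a TI-subgroup
-/

set_option linter.unusedSectionVars false
set_option linter.unusedVariables false
set_option linter.style.haveILetI false

namespace Cfsg.Lib.OddLocal.RankTwoMax

open Subgroup Uniqueness Sigma
open Cfsg.Lib.Coprime (conjMap)
open scoped commutatorElement

universe u

variable {G : Type u} [Group G] [Finite G] {M N A K U E U₀ L : Subgroup G} {p q : ℕ} {g x y : G}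

local notation "fix(" M ", " K ")" => Cfsg.sigmaCore M ⊓ centralizer (SetLike.coe K)

/-- A subgroup acting freely on an `M`-invariant line of order `q` has exponent dividing `q - 1`. -/
theorem pow_pred_eq_one_of_line [hq : Fact q.Prime] (hL : Nat.card L = q) (hn : M ≤ normalizer (L : Set G))
    (hU : U₀ ≤ M) (hfree : ∀ u ∈ U₀, u ≠ 1 → ∀ z ∈ L, u * z = z * u → z = 1) :
    ∀ u ∈ U₀, u ^ (q - 1) = 1 := fun u hu => by
  by_contra h1
  obtain ⟨z, hz⟩ := (Subgroup.ne_bot_iff_exists_ne_one).mp (line_ne_bot hL)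
  refine hz (Subtype.ext (hfree _ (pow_mem hu _) h1 z z.2 ?_))
  have h2 := Cfsg.Lib.OddP.trivial_on_factor (p := q) (L := (⊥ : Subgroup G)) (U := L) bot_le
    (normalizer_eq_top (H := (⊥ : Subgroup G)) ▸ le_top) (by rw [relIndex_bot_left, hL]) hn
    (normalizer_eq_top (H := (⊥ : Subgroup G)) ▸ le_top) (Or.inr ⟨u, hU hu, rfl⟩) z z.2
  rw [mem_bot] at h2
  calc u ^ (q - 1) * z = (z : G) * ((z : G)⁻¹ * u ^ (q - 1) * z * (u ^ (q - 1))⁻¹) * u ^ (q - 1) := by group
    _ = z * u ^ (q - 1) := by rw [h2, mul_one]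

/-- The exponent of `M / M_F` divides every multiple of the exponent of a complement. -/
theorem exponent_quotient_dvd (hF : Cfsg.fittingHallOf M = Cfsg.sigmaCore M) {n : ℕ} (hE : E ≤ M)
    (hprod : ∀ m ∈ M, ∃ e ∈ E, ∃ s ∈ Cfsg.sigmaCore M, m = e * s) (hn : ∀ e ∈ E, e ^ n = 1) :
    Monoid.exponent (↥M ⧸ Cfsg.fittingHall ↥M) ∣ n := by
  refine Monoid.exponent_dvd_of_forall_pow_eq_one fun w => ?_
  induction w using QuotientGroup.induction_on with
  | H m =>
    obtain ⟨e, he, s, hs, hm⟩ := hprod m m.2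
    rw [← hF] at hs
    obtain ⟨s', hs', rfl⟩ := hs
    have h1 : m = ⟨e, hE he⟩ * s' := Subtype.ext hm
    rw [h1, QuotientGroup.mk_mul, (QuotientGroup.eq_one_iff s').mpr hs', mul_one, ← QuotientGroup.mk_pow,
      show (⟨e, hE he⟩ : M) ^ n = 1 from Subtype.ext (hn e he), QuotientGroup.mk_one]

/-- The `p`-core of `M_F` against `O_p(M)`. -/
theorem pCore_fittingHall [hp : Fact p.Prime] (hG : Cfsg.IsMinSimpleOddOrder G) (hM : IsCoatom M)
    (hnil : Group.IsNilpotent (Cfsg.sigmaCore M)) (hF : Cfsg.fittingHallOf M = Cfsg.sigmaCore M)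
    (hσ : p ∈ Cfsg.sigma M) :
    (Cfsg.pCore p ↥(Cfsg.fittingHallOf M)).map (Cfsg.fittingHallOf M).subtype = FittingParts.O p M := by
  have hn : Group.IsNilpotent (Cfsg.fittingHallOf M) := fittingHallOf_nilpotent M
  refine le_antisymm ?_ ?_
  · have h1 : IsPGroup p ↥((Cfsg.pCore p ↥(Cfsg.fittingHallOf M)).map (Cfsg.fittingHallOf M).subtype) := by
      rw [← FittingParts.piCore_singleton]
      exact FittingParts.isPGroup _
    exact pgroup_le_O hG hM hnil hσ h1 ((map_subtype_le _).trans (Cfsg.Lib.FittingHall.fittingHallOf_le M))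
  · rw [← FittingParts.piCore_singleton]
    exact FittingParts.le_of_isPGroup (hF ▸ O_le_sigmaCore hG hM hσ)
      ((Cfsg.Lib.FittingHall.fittingHallOf_le M).trans (PiCoreOf.le_normalizer' _ M)) (FittingParts.isPGroup M)

theorem comm_iff_map {X : Type u} [Group X] {Y : Type u} [Group Y] (f : X →* Y) (hf : Function.Injective f)
    (H : Subgroup X) : IsMulCommutative (H.map f) ↔ IsMulCommutative H := by
  constructor
  · intro h
    exact ⟨⟨fun a b => Subtype.ext (hf (by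
      rw [Subgroup.coe_mul, Subgroup.coe_mul, map_mul, map_mul]
      exact congrArg Subtype.val (h.is_comm.comm (⟨f a, a, a.2, rfl⟩ : H.map f) ⟨f b, b, b.2, rfl⟩)))⟩⟩
  · intro h
    haveI := h
    infer_instance

namespace MovedPoint

variable [hp : Fact p.Prime]

theorem pPrimeCore_cyclic (d : MovedPoint M N A p x) (hG : Cfsg.IsMinSimpleOddOrder G)
    (hF : Cfsg.fittingHallOf M = Cfsg.sigmaCore M) (hna : ¬ IsMulCommutative ↥(FittingParts.O p M)) :
    IsCyclic ↥(Cfsg.pPrimeCore p ↥(Cfsg.fittingHallOf M)) := by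
  set W := (Cfsg.pPrimeCore p ↥(Cfsg.fittingHallOf M)).map (Cfsg.fittingHallOf M).subtype with hW
  have hWH : W ≤ Cfsg.sigmaCore M := (map_subtype_le _).trans hF.le
  haveI : Group.IsNilpotent ↥W := CN.nilpotent_of_le hWH d.nil
  have hcyc : IsCyclic ↥W := by
    refine isCyclic_of_sylows hG (hWH.trans (sigmaCore_le M)) fun q hq hd => ?_
    haveI := Fact.mk hq
    refine d.other_rank_one hG hna (sigmaCore_isPi q hq (hd.trans (card_dvd_of_le hWH))) fun he => ?_
    rw [he, hW, card_map_of_injective (Cfsg.fittingHallOf M).subtype_injective] at hd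
    exact (Nat.Prime.coprime_iff_not_dvd hp.out).mp (Cfsg.Lib.Components.coprime_card_pPrimeCore p).symm hd
  exact (MulEquiv.isCyclic ((Cfsg.pPrimeCore p ↥(Cfsg.fittingHallOf M)).equivMapOfInjective _
    (Cfsg.fittingHallOf M).subtype_injective)).mpr hcyc

/-- Every prime of `M_σ` has an `M`-invariant line in `M_σ`. -/
theorem exists_line (d : MovedPoint M N A p x) (hG : Cfsg.IsMinSimpleOddOrder G)
    (hna : ¬ IsMulCommutative ↥(FittingParts.O p M)) (hq : q.Prime) (hne : q ≠ p)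
    (hd : q ∣ Nat.card ↥(Cfsg.sigmaCore M)) :
    ∃ L : Subgroup G, Nat.card L = q ∧ L ≤ FittingParts.O q M ∧ M ≤ normalizer (L : Set G) := by
  haveI := Fact.mk hq
  obtain ⟨w, hw⟩ := exists_prime_orderOf_dvd_card' q hd
  have hσ := sigmaCore_isPi q hq hd
  have hc : Nat.card ↥(zpowers (w : G)) = q := (Nat.card_zpowers _).trans ((Subgroup.orderOf_coe w).trans hw)
  have hle := pgroup_le_O hG d.pair.max d.nil hσ (isPGroup_of_card hc)
    (zpowers_le.mpr (sigmaCore_le M w.2))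
  exact ⟨_, hc, hle, (PiCoreOf.le_normalizer' _ M).trans
    (normalizer_le_of_cyclic (d.other_cyclic hG hna hσ hne) hle)⟩

/-- The exponent condition when `K = 1`. -/
theorem exponent_case (d : MovedPoint M N A p x) (hG : Cfsg.IsMinSimpleOddOrder G)
    (hd : Cfsg.IsSigmaDecomposition M K U) (hK : K = ⊥) (hF : Cfsg.fittingHallOf M = Cfsg.sigmaCore M)
    (hna : ¬ IsMulCommutative ↥(FittingParts.O p M)) (hq : q.Prime)
    (hqd : q ∣ Nat.card ↥(Cfsg.sigmaCore M)) :
    Monoid.exponent (↥M ⧸ Cfsg.fittingHall ↥M) ∣ q - 1 := by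
  haveI := Fact.mk hq
  obtain ⟨U₀, hU₀, hexp, hfree⟩ := decomp_free hG d.pair.max hd
  obtain ⟨L, hLc, hLH, hLn⟩ : ∃ L : Subgroup G, Nat.card L = q ∧ L ≤ Cfsg.sigmaCore M ∧ M ≤ normalizer (L : Set G) := by
    by_cases hne : q = p
    · subst hne
      obtain ⟨z, hz, hzo, hzn⟩ := d.center_line hG hna
      exact ⟨zpowers z, (Nat.card_zpowers z).trans hzo,
        zpowers_le.mpr (O_le_sigmaCore hG d.pair.max d.sigma hz.1), hzn⟩
    · obtain ⟨L, h1, h2, h3⟩ := d.exists_line hG hna hq hne hqd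
      exact ⟨L, h1, h2.trans (O_le_sigmaCore hG d.pair.max (sigmaCore_isPi q hq hqd)), h3⟩
  have h1 : Monoid.exponent U ∣ q - 1 := by
    rw [← hexp]
    refine Monoid.exponent_dvd_of_forall_pow_eq_one fun u => Subtype.ext ?_
    refine (pow_pred_eq_one_of_line hLc hLn (hU₀.trans hd.compl.1) (fun v hv hv1 z hz hc => ?_) u u.2)
    by_contra hz1
    exact hv1 (hfree v hv ⟨hd.compl.1 (hU₀ hv), z, hLH hz, hz1, hc⟩)
  refine exponent_quotient_dvd hF hd.compl.1 (fun m hm => ?_) fun e he => ?_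
  · obtain ⟨a, ha, b, hb, rfl⟩ := hd.compl.2.2.2 m hm
    rw [hK, bot_sup_eq] at hb
    exact ⟨a, ha, b, hb, rfl⟩
  · exact congrArg Subtype.val (orderOf_dvd_iff_pow_eq_one.mp
      ((Monoid.order_dvd_exponent (⟨e, he⟩ : U)).trans h1))

/-- With `K ≠ 1` and `U = 1`: either the exponent condition, or `|O_p(M)| = p³` and `|K| ∣ p + 1`. -/
theorem kappa_case (d : MovedPoint M N A p x) (hG : Cfsg.IsMinSimpleOddOrder G)
    (hd : Cfsg.IsSigmaDecomposition M K U) (hK : K ≠ ⊥) (hU : U = ⊥)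
    (hF : Cfsg.fittingHallOf M = Cfsg.sigmaCore M) (hna : ¬ IsMulCommutative ↥(FittingParts.O p M)) :
    (∀ r : ℕ, r.Prime → r ∣ Nat.card ↥(Cfsg.sigmaCore M) →
        Monoid.exponent (↥M ⧸ Cfsg.fittingHall ↥M) ∣ r - 1) ∨
      (Nat.card ↥(FittingParts.O p M) = p ^ 3 ∧ (Cfsg.sigmaCore M).relIndex M ∣ p + 1) := by
  have hM := d.pair.max
  set P := FittingParts.O p M with hP
  set F := fix(M, K) with hFix
  have hPp : IsPGroup p P := FittingParts.isPGroup M
  have hPH : P ≤ Cfsg.sigmaCore M := O_le_sigmaCore hG hM d.sigma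
  have hp2 : p ≠ 2 := ne_two hG d.maxSq.isPGroup d.maxSq.ne_bot
  have hKM : K ≤ M := hd.hall.1
  have hKn : K ≤ normalizer (P : Set G) := hKM.trans (PiCoreOf.le_normalizer' _ M)
  haveI := hd.cyclic
  -- `fix` has order `p` and lies in `P`
  have hFP : F ≤ P := by
    have h1 := (derived_theorem hG hM hd hK)
    have h2 := h1.2
    rw [h1.1, hU, bot_sup_eq] at h2
    exact h2.trans (d.derived_core_le hG)
  have hFc : Nat.card F = p :=
    ((Nat.prime_dvd_prime_iff_eq hp.out (fix_prime_of_trivial hG hM hd hK hU)).mp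
      (dvd_card_of_isPGroup (hPp.to_le hFP) (kappa_group_fixed_ne hG hM hKM hd.hall.2.1))).symm
  have hfix : ∀ k ∈ K, k ≠ 1 → ∀ z ∈ Cfsg.sigmaCore M, k * z = z * k → z ∈ F := fun k hk hk1 z hz hc =>
    (kappa_group_fixed hG hM hKM hd.hall.2.1 hk hk1).le ⟨hz, mem_centralizer_singleton_iff.mpr hc.symm⟩
  have hcopK : (Nat.card K).Coprime p :=
    ((Nat.Prime.coprime_iff_not_dvd hp.out).mpr fun hdp => (hd.hall.2.1 p hp.out hdp).2.2.1 d.sigma).symm
  have hprod : ∀ m ∈ M, ∃ e ∈ K, ∃ s ∈ Cfsg.sigmaCore M, m = e * s := fun m hm => by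
    obtain ⟨a, ha, b, hb, rfl⟩ := hd.compl.2.2.2 m hm
    rw [hU, mem_bot] at ha
    rw [ha, one_mul]
    obtain ⟨s, hs, k, hk, rfl⟩ := (Cfsg.Lib.Coprime.mem_sup_of_le_normalizer
      (hKM.trans (le_normalizer_sigmaCore M))).mp (sup_comm K (Cfsg.sigmaCore M) ▸ hb)
    exact ⟨k, hk, k⁻¹ * s * k, by
      simpa using (mem_normalizer_iff.mp (le_normalizer_sigmaCore M (inv_mem (hKM hk))) s).mp hs, by group⟩
  -- the other primes
  have hother : ∀ r : ℕ, r.Prime → r ∣ Nat.card ↥(Cfsg.sigmaCore M) → r ≠ p → ∀ k ∈ K, k ^ (r - 1) = 1 :=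
    fun r hr hrd hne => by
      haveI := Fact.mk hr
      obtain ⟨L, hLc, hLO, hLn⟩ := d.exists_line hG hna hr hne hrd
      refine pow_pred_eq_one_of_line hLc hLn hKM fun k hk hk1 z hz hc => ?_
      have hzH := O_le_sigmaCore hG hM (sigmaCore_isPi r hr hrd) (hLO hz)
      have hzF : z ∈ F := hfix k hk hk1 z hzH hc
      have h1 : orderOf z ∣ r := hLc ▸ Subgroup.orderOf_dvd_natCard L hz
      have h2 : orderOf z ∣ p := hFc ▸ Subgroup.orderOf_dvd_natCard F hzF
      exact orderOf_eq_one_iff.mp (Nat.dvd_one.mp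
        (((Nat.coprime_primes hr hp.out).mpr hne).gcd_eq_one ▸ Nat.dvd_gcd h1 h2))
  by_cases hpred : ∀ k ∈ K, k ^ (p - 1) = 1
  · refine Or.inl fun r hr hrd => exponent_quotient_dvd hF hKM hprod ?_
    by_cases hne : r = p
    · subst hne; exact hpred
    · exact hother r hr hrd hne
  refine Or.inr ?_
  -- rank at most two
  have hPF : ¬ P ≤ F := fun h => by
    have h2 := card_dvd_of_le ((d.sq_le hG).trans h)
    rw [d.maxSq.card, hFc] at h2
    exact absurd (Nat.le_of_dvd hp.out.pos h2) (not_le.mpr (lt_self_pow₀ hp.out.one_lt (by norm_num)))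
  have hr2 : Cfsg.PRankLE p 2 P := by
    by_contra hr
    refine hpred fun k hk => ?_
    obtain ⟨T, hT⟩ : ∃ T : Sylow p M, (T : Subgroup M).map M.subtype = P := by
      obtain ⟨T₀, hT₀⟩ := exists_sylow_O hG hM d.nil d.sigma
      exact (isSylowOf_coe T₀ (hT₀ ▸ PiCoreOf.le _ M)).exists_sylow.imp fun T hT => hT.trans hT₀
    have hs : Cfsg.Lib.OddP.IsSmall p P := Cfsg.Lib.OddP.IsSmall.of_equiv
      (((T : Subgroup M).equivMapOfInjective M.subtype M.subtype_injective).trans (MulEquiv.subgroupCongr hT))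
      (isSmall_sylow hG hM d.not_beta T)
    have hc := Cfsg.Lib.OddP.pow_pred_centralizes hp2 hPp hs hr (hKn hk)
      (hcopK.coprime_dvd_left (Subgroup.orderOf_dvd_natCard K hk))
    by_contra h1
    exact hPF fun y hy => hfix _ (pow_mem hk _) h1 y (hPH hy) (mem_centralizer_iff.mp hc y hy).symm
  -- the centre
  obtain ⟨z, hz, hzo, hzn⟩ := d.center_line hG hna
  have hzc : Nat.card ↥(zpowers z) = p := (Nat.card_zpowers z).trans hzo
  have hzF : z ∈ F := by
    by_contra hzF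
    refine hpred (pow_pred_eq_one_of_line hzc hzn hKM fun k hk hk1 w hw hc => ?_)
    by_contra hw1
    refine hzF ?_
    have h1 : zpowers w ≤ F := zpowers_le.mpr (hfix k hk hk1 w (hPH (zpowers_le.mpr hz.1 hw)) hc)
    rw [line_eq_of_mem hzc hw hw1] at h1
    exact h1 (mem_zpowers z)
  have hZF : FittingParts.Z p M = F := by
    have h1 : FittingParts.Z p M ≤ centralizer (K : Set G) :=
      ScnUniqueness.le_centralizer_of_cyclic (hPp.to_le inf_le_left) (d.center_cyclic hG hna)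
        (hKM.trans (FittingParts.le_normalizer_Z p M)) (by
          obtain ⟨i, hi⟩ := IsPGroup.iff_card.mp (hPp.to_le (inf_le_left : FittingParts.Z p M ≤ P))
          rw [hi]; exact hcopK.pow_right i) hz
        (fun e => by rw [e, orderOf_one] at hzo; exact hp.out.one_lt.ne hzo) hzF.2
    have h2 : FittingParts.Z p M ≤ F := fun y hy => ⟨hPH hy.1, h1 hy⟩
    refine Cfsg.Lib.Coprime.eq_of_le_of_card_eq h2 (le_antisymm (card_le_of_le h2) ?_)
    calc Nat.card F = p := hFc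
      _ = Nat.card ↥(zpowers z) := hzc.symm
      _ ≤ _ := card_le_of_le (zpowers_le.mpr hz)
  obtain ⟨T₀, hT₀⟩ := exists_sylow_O hG hM d.nil d.sigma
  obtain h | ⟨P₁, P₂, hsup, hcomm, -, hc3, -, hP₂, hZ₂⟩ := Cfsg.Agent.S1412.result hG p T₀
    (hT₀.symm ▸ hr2 : Cfsg.PRankLE p 2 (T₀ : Subgroup G))
  · rw [hT₀] at h
    exact absurd h hna
  have hPc : Nat.card P = p ^ 3 := by
    rw [hT₀] at hsup
    have hP₂Z : P₂ ≤ FittingParts.Z p M := fun b hb => ⟨hsup ▸ mem_sup_right hb, mem_centralizer_iff.mpr (by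
      haveI := hP₂
      have hcc : P₁ ⊔ P₂ ≤ centralizer ({b} : Set G) := sup_le
        (fun a ha => mem_centralizer_singleton_iff.mpr (hcomm a ha b hb))
        (fun a ha => mem_centralizer_singleton_iff.mpr
          (congrArg Subtype.val (IsMulCommutative.is_comm.comm (⟨a, ha⟩ : P₂) ⟨b, hb⟩)))
      intro a ha
      exact mem_centralizer_singleton_iff.mp (hcc (hsup.symm ▸ ha : a ∈ P₁ ⊔ P₂)))⟩
    have hle : P₂ ≤ P₁ := fun b hb => by
      have hbF : b ∈ F := hZF ▸ hP₂Z hb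
      have hbp : b ^ p = 1 := orderOf_dvd_iff_pow_eq_one.mp (hFc ▸ Subgroup.orderOf_dvd_natCard F hbF)
      have h1 : b ∈ P₁ ⊓ centralizer (P₁ : Set G) := hZ₂ ▸ subset_closure ⟨hb, hbp⟩
      exact h1.1
    rw [← hc3, hP, ← hsup, sup_eq_left.mpr hle]
  have hdvd : Nat.card K ∣ p + 1 := by
    refine (Heisenberg.dvd_succ_or_pow_pred (Z := F) hPc hna hZF.symm hFc hKn hd.cyclic hcopK
      (hG.1.of_dvd_nat (card_subgroup_dvd_card K)) (fun k hk hk1 => le_antisymm ?_ ?_) ?_).resolve_right hpred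
    · exact fun y hy => hfix k hk hk1 y (hPH hy.1) (mem_centralizer_singleton_iff.mp hy.2).symm
    · exact fun y hy => ⟨hFP hy,
        mem_centralizer_singleton_iff.mpr (mem_centralizer_iff.mp hy.2 k hk).symm⟩
    · intro L hFL hLP hFLi hLle hKL k hk y hy
      have hUL : L ≤ normalizer (F : Set G) := fun w hw => centralizer_le_normalizer _
        (mem_centralizer_iff.mpr fun v hv => ((mem_centralizer_iff.mp (hZF.symm ▸ hv :
          v ∈ FittingParts.Z p M).2) w (hLle hw)).symm)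
      have hKF : K ≤ normalizer (F : Set G) := hZF ▸ hKM.trans (FittingParts.le_normalizer_Z p M)
      exact Cfsg.Lib.OddP.trivial_on_factor hFL hUL hFLi hKL hKF (Or.inr ⟨k, hk, rfl⟩) y hy
  refine ⟨hPc, ?_⟩
  have hcard := trivial_card hG hM hd hU
  have h1 := relIndex_mul_relIndex ⊥ (Cfsg.sigmaCore M) M bot_le (sigmaCore_le M)
  rw [relIndex_bot_left, relIndex_bot_left, hcard] at h1
  rw [Nat.eq_of_mul_eq_mul_left Nat.card_pos h1]
  exact hdvd

/-- `M' ≤ F(M)`. -/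
theorem derived_le_fitting (d : MovedPoint M N A p x) (hG : Cfsg.IsMinSimpleOddOrder G) :
    ⁅M, M⁆ ≤ Cfsg.fittingOf M := by
  have hM := d.pair.max
  obtain ⟨E, hE⟩ := exists_complement hG hM
  set W := E ⊓ ⁅M, M⁆ with hW
  have hWH : W ≤ centralizer (Cfsg.sigmaCore M : Set G) := le_centralizer_sigmaCore hG hM d.nil fun r hr hσ => by
    haveI := Fact.mk hr
    refine centralizes_of_derived hG hM (d.not_beta_all hG hσ) ?_ inf_le_right (FittingParts.isPGroup M) ?_
      (inf_le_left.trans (hE.1.trans (PiCoreOf.le_normalizer' _ M)))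
    · exact (O_le_sigmaCore hG hM hσ).trans (sigmaCore_le_derived hG hM)
    · exact ((Nat.Prime.coprime_iff_not_dvd hr).mpr fun hdv =>
        not_sigma_of_dvd hG hM hE hr (hdv.trans (card_dvd_of_le inf_le_left)) hσ).symm
  refine le_fittingOf_of_normal (Subgroup.commutator_le_self M) (commutator_normal M) ?_
  refine nilpotent_sup_of_commute (A := W) (B := Cfsg.sigmaCore M) (derived_complement_comm hG hM hE).2 d.nil
    inf_le_right (sigmaCore_le_derived hG hM) hWH fun c hc => derived_product hG hM hE hc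

end MovedPoint

/-- The structure of `M` when `F(M)` meets a conjugate. -/
theorem nonTI_fitting_structure (hG : Cfsg.IsMinSimpleOddOrder G) (hM : IsCoatom M)
    (hd : Cfsg.IsSigmaDecomposition M K U) (hg : g ∉ M)
    (hX : Cfsg.fittingOf M ⊓ (Cfsg.fittingOf M).map (MulAut.conj g).toMonoidHom ≠ ⊥) :
    (Cfsg.fittingOf M ⊓ (Cfsg.fittingOf M).map (MulAut.conj g).toMonoidHom ≤ Cfsg.fittingHallOf M ∧
        IsCyclic ↥(Cfsg.fittingOf M ⊓ (Cfsg.fittingOf M).map (MulAut.conj g).toMonoidHom)) ∧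
      (⁅M, M⁆ ≤ Cfsg.fittingOf M ∧ Cfsg.fittingOf M =
        Cfsg.sigmaCore M ⊔ Cfsg.piCoreOf {q | q.Prime ∧ q ∉ Cfsg.sigma M} (Cfsg.fittingOf M)) ∧
      ((K = ⊥ ∧ IsMulCommutative (Cfsg.fittingHallOf M) ∧ Cfsg.RankLE 2 (Cfsg.fittingHallOf M) ∧
          ¬ Cfsg.RankLE 1 (Cfsg.fittingHallOf M)) ∨
       (∃ p : ℕ, p.Prime ∧
          Nat.card ↥(Cfsg.fittingOf M ⊓ (Cfsg.fittingOf M).map (MulAut.conj g).toMonoidHom) = p ∧
          p ∈ Cfsg.sigma M ∧ p ∉ Cfsg.beta M ∧
          ¬ IsMulCommutative (Cfsg.pCore p ↥(Cfsg.fittingHallOf M)) ∧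
          IsCyclic (Cfsg.pPrimeCore p ↥(Cfsg.fittingHallOf M)) ∧
          ∀ q : ℕ, q.Prime → q ∣ Nat.card (Cfsg.fittingHallOf M) →
            Monoid.exponent (↥M ⧸ Cfsg.fittingHall ↥M) ∣ q - 1) ∨
       (∃ p : ℕ, p.Prime ∧
          Nat.card ↥(Cfsg.fittingOf M ⊓ (Cfsg.fittingOf M).map (MulAut.conj g).toMonoidHom) = p ∧
          p ∈ Cfsg.sigma M ∧ p ∉ Cfsg.beta M ∧
          IsCyclic (Cfsg.pPrimeCore p ↥(Cfsg.fittingHallOf M)) ∧
          Nat.card (Cfsg.pCore p ↥(Cfsg.fittingHallOf M)) = p ^ 3 ∧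
          ¬ IsMulCommutative (Cfsg.pCore p ↥(Cfsg.fittingHallOf M)) ∧ K ≠ ⊥ ∧ U = ⊥ ∧
          (Cfsg.fittingHallOf M).relIndex M ∣ p + 1)) := by
  have hF1 : Cfsg.fittingOf M ≠ ⊥ := fun h => hX (by rw [h]; exact bot_inf_eq _)
  have hN := normalizer_eq hG hM hF1 (FittingParts.fittingOf_le M) (FittingParts.le_normalizer_fittingOf M)
  have hti : ¬ Cfsg.IsTISubset (Cfsg.fittingOf M : Set G) := fun hti => by
    obtain ⟨y, hy⟩ := (Subgroup.ne_bot_iff_exists_ne_one).mp hX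
    refine hy (Subtype.ext ?_)
    obtain ⟨y₀, hy₀, he⟩ := y.2.2
    have he' : g * y₀ * g⁻¹ = (y : G) := he
    have h1 := hti g (by rw [hN]; exact hg) y₀ hy₀ (he'.symm ▸ y.2.1)
    rw [← he', h1, mul_one, mul_inv_cancel]
    rfl
  have hF : Cfsg.fittingHallOf M = Cfsg.sigmaCore M := by
    by_contra hne
    exact hti (nonNilpotent_summary hG hM hd hne).2.1
  have hnil : Group.IsNilpotent (Cfsg.sigmaCore M) := hF ▸ fittingHallOf_nilpotent M
  have hKU : K ≠ ⊥ → U = ⊥ := fun hK => by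
    by_contra hU
    obtain ⟨E, hs⟩ := decomp_split hG hM hd
    exact hti (hs.fitting_ti hG hM hd.hall hK hU)
  obtain ⟨p, hp, N, A, x, hx, d⟩ := exists_moved hG hM hnil hg hX
  have hσY : Cfsg.fittingOf M =
      Cfsg.sigmaCore M ⊔ Cfsg.piCoreOf {q | q.Prime ∧ q ∉ Cfsg.sigma M} (Cfsg.fittingOf M) := by
    have h1 : Cfsg.fittingOf (Cfsg.sigmaCore M) = Cfsg.sigmaCore M :=
      le_antisymm (FittingParts.fittingOf_le _) (le_fittingOf_of_normal le_rfl le_normalizer hnil)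
    have h2 := (fitting_sigma_prime hG hM).2.2
    rwa [h1] at h2
  refine ⟨⟨(meet_le_sigmaCore hG hM hg).trans hF.ge, meet_cyclic hG hM hg⟩,
    ⟨d.derived_le_fitting hG, hσY⟩, ?_⟩
  by_cases hc : IsMulCommutative ↥(FittingParts.O p M)
  · obtain ⟨hHc, hr2, hr1⟩ := d.abelian_case hG hc
    refine Or.inl ⟨?_, by rw [hF]; exact hHc, by rw [hF]; exact hr2, by rw [hF]; exact hr1⟩
    by_contra hK
    have h1 := derived_theorem hG hM hd hK
    have h2 := h1.2
    rw [h1.1, hKU hK, bot_sup_eq] at h2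
    have h3 : ⁅Cfsg.sigmaCore M, Cfsg.sigmaCore M⁆ = ⊥ := commutator_eq_bot_iff_le_centralizer.mpr
      fun a ha => mem_centralizer_iff.mpr fun b hb => ThompsonTransitivity.mul_comm_of hHc hb ha
    rw [h3, le_bot_iff] at h2
    exact kappa_group_fixed_ne hG hM hd.hall.1 hd.hall.2.1 h2
  have hmap := pCore_fittingHall hG hM hnil hF d.sigma
  have hna' : ¬ IsMulCommutative ↥(Cfsg.pCore p ↥(Cfsg.fittingHallOf M)) := fun h =>
    hc (hmap ▸ (comm_iff_map _ (Cfsg.fittingHallOf M).subtype_injective _).mpr h)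
  have hcard : Nat.card ↥(Cfsg.pCore p ↥(Cfsg.fittingHallOf M)) = Nat.card ↥(FittingParts.O p M) := by
    rw [← hmap, card_map_of_injective (Cfsg.fittingHallOf M).subtype_injective]
  have hXc := meet_card hG hM hg d hx hc
  by_cases hK : K = ⊥
  · refine Or.inr (Or.inl ⟨p, hp.out, hXc, d.sigma, d.not_beta, hna', d.pPrimeCore_cyclic hG hF hc,
      fun q hq hqd => d.exponent_case hG hd hK hF hc hq (hF ▸ hqd)⟩)
  obtain h | ⟨h1, h2⟩ := d.kappa_case hG hd hK (hKU hK) hF hc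
  · exact Or.inr (Or.inl ⟨p, hp.out, hXc, d.sigma, d.not_beta, hna', d.pPrimeCore_cyclic hG hF hc,
      fun q hq hqd => h q hq (hF ▸ hqd)⟩)
  · exact Or.inr (Or.inr ⟨p, hp.out, hXc, d.sigma, d.not_beta, d.pPrimeCore_cyclic hG hF hc,
      hcard.trans h1, hna', hK, hKU hK, hF.symm ▸ h2⟩)

end Cfsg.Lib.OddLocal.RankTwoMax
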