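import Cfsg.Agent.OddLocal.ProperPLength
import Cfsg.Agent.OddLocal.SmallStructure
import Cfsg.Agent.Transfer.Basic

/-!
# The core `M_β`
-/

set_option linter.unusedSectionVars false
set_option linter.unusedVariables false
set_option linter.style.haveILetI false

namespace Cfsg.Lib.OddLocal.Sigma

open Subgroup Uniqueness
open Cfsg.Lib.Coprime (conjMap)

universe u v

/-- Every element of order prime to `p` is in the `p'`-core. -/
def PNil (p : ℕ) (X : Type u) [Group X] : Prop :=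
  ∀ x : X, (orderOf x).Coprime p → x ∈ Cfsg.pPrimeCore p X

theorem PNil.of_injective {X : Type u} [Group X] [Finite X] {X' : Type v} [Group X'] [Finite X'] {p : ℕ}
    [hp : Fact p.Prime] {f : X' →* X} (hf : Function.Injective f) (h : PNil p X) : PNil p X' := by
  intro x hx
  have hN : (Cfsg.pPrimeCore p X).comap f ≤ Cfsg.pPrimeCore p X' :=
    Cfsg.Lib.Components.le_pPrimeCore ((Cfsg.Lib.Components.coprime_card_pPrimeCore (G := X) p).coprime_dvd_left
      (Subgroup.card_comap_dvd_of_injective _ f hf))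
  exact hN (h (f x) (by rwa [orderOf_injective f hf]))

theorem PNil.hasNormalPComplement {X : Type u} [Group X] [Finite X] {p : ℕ} [hp : Fact p.Prime]
    (h : PNil p X) : Cfsg.HasNormalPComplement p X := by
  refine Cfsg.Lib.OddP.hasNormalPComplement_of_quotient (Cfsg.pPrimeCore p X)
    (Cfsg.Lib.Components.coprime_card_pPrimeCore p) fun y => ?_
  obtain ⟨x, rfl⟩ := QuotientGroup.mk_surjective y
  have hn : orderOf x ≠ 0 := (orderOf_pos x).ne'
  refine ⟨(orderOf x).factorization p, ?_⟩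
  rw [← QuotientGroup.mk_pow, QuotientGroup.eq_one_iff]
  refine h _ ?_
  rw [orderOf_pow, Nat.gcd_eq_right (Nat.ordProj_dvd _ p)]
  exact (Nat.coprime_ordCompl hp.out hn).symm

theorem isNilpotent_of_pnil {X : Type u} [Group X] [Finite X]
    (h : ∀ p : ℕ, p.Prime → p ∣ Nat.card X → PNil p X) : Group.IsNilpotent X := by
  refine ((Group.isNilpotent_of_finite_tfae (G := X)).out 0 3 rfl rfl).mpr fun q hqf P => ?_
  have hq : q.Prime := Fact.out
  set N : Subgroup X := ⨅ r : {r : ℕ // r.Prime ∧ r ≠ q}, Cfsg.pPrimeCore r.1 X with hN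
  haveI : N.Normal := normal_iInf_normal fun r => inferInstance
  have hPN : (P : Subgroup X) ≤ N := le_iInf fun r => by
    haveI := Fact.mk r.2.1
    intro x hx
    by_cases hr : r.1 ∣ Nat.card X
    · refine h r.1 r.2.1 hr x ?_
      obtain ⟨i, hi⟩ := P.2 ⟨x, hx⟩
      exact (((Nat.coprime_primes hq r.2.1).mpr r.2.2.symm).pow_left i).coprime_dvd_left
        (orderOf_dvd_of_pow_eq_one (congrArg Subtype.val hi))
    · exact Cfsg.Lib.Components.le_pPrimeCore (N := (⊤ : Subgroup X))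
        (by rw [card_top]; exact ((r.2.1.coprime_iff_not_dvd).mpr hr).symm) (mem_top x)
  have hNq : IsPGroup q N := Transitivity.isPGroup_of_primes fun r hr hrd => by
    by_contra hne
    haveI := Fact.mk hr
    have h1 := hrd.trans (card_dvd_of_le (iInf_le (fun r : {r : ℕ // r.Prime ∧ r ≠ q} =>
      Cfsg.pPrimeCore r.1 X) ⟨r, hr, hne⟩))
    exact hr.not_dvd_one ((Cfsg.Lib.Components.coprime_card_pPrimeCore (G := X) r) ▸
      Nat.dvd_gcd h1 dvd_rfl)
  have heq : N = (P : Subgroup X) := P.3 hNq hPN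
  exact heq ▸ inferInstance

variable {G : Type u} [Group G] [Finite G] {M : Subgroup G}

theorem isSmall_sylow (hG : Cfsg.IsMinSimpleOddOrder G) (hM : IsCoatom M) {p : ℕ} [hp : Fact p.Prime]
    (hβ : p ∉ Cfsg.beta M) (S : Sylow p M) : Cfsg.Lib.OddP.IsSmall p (S : Subgroup M) := by
  by_cases hα : p ∈ Cfsg.alpha M
  swap
  · refine Or.inl (Cfsg.Lib.OddP.pRankLE_of_injective (S : Subgroup M).subtype (subtype_injective _) ?_)
    by_contra h
    exact hα ⟨hp.out, h⟩
  have hr : ¬ Cfsg.PRankLE p 2 G := fun h =>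
    hα.2 (Cfsg.Lib.OddP.pRankLE_of_injective M.subtype M.subtype_injective h)
  have hni : ¬ Cfsg.IsIdealPrime p G := fun h => hβ ⟨hα, h⟩
  simp only [Cfsg.IsIdealPrime, hp.out, hr, true_and, not_false_eq_true, not_forall, not_exists,
    not_and] at hni
  obtain ⟨P, A, hAP, hA, hAc, hmax⟩ := hni
  obtain ⟨P₀, hP₀M, -⟩ := exists_sylow_le (alpha_subset_sigma hG hM hα)
  obtain ⟨T, hT⟩ := (isSylowOf_coe P₀ hP₀M).exists_sylow
  let e : (P : Subgroup G) ≃* (S : Subgroup M) :=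
    (Sylow.equiv P P₀).trans ((MulEquiv.subgroupCongr hT.symm).trans
      (((T : Subgroup M).equivMapOfInjective _ M.subtype_injective).symm.trans (Sylow.equiv T S)))
  refine Cfsg.Lib.OddP.IsSmall.of_equiv e (Or.inr ⟨A.subgroupOf (P : Subgroup G), ?_, ?_, fun B hB hAB => ?_⟩)
  · exact ⟨⟨⟨fun a b => Subtype.ext (Subtype.ext (ThompsonTransitivity.mul_comm_of hA.1 a.2 b.2))⟩⟩,
      fun a ha => Subtype.ext (by simpa using hA.2 a ha)⟩
  · rw [Nat.card_congr (subgroupOfEquivOfLe hAP).toEquiv, hAc]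
  · have hle : A ≤ B.map (P : Subgroup G).subtype := fun a ha => ⟨⟨a, hAP ha⟩, hAB ha, rfl⟩
    have h1 : B.map (P : Subgroup G).subtype = A := by
      by_contra hne
      exact hmax _ (map_subtype_le _) (Cfsg.Lib.OddP.isElementaryAbelian_map hB _)
        (lt_of_le_of_ne hle (Ne.symm hne))
    rw [← h1, subgroupOf, comap_map_eq_self_of_injective (P : Subgroup G).subtype_injective]

theorem structure_not_beta (hG : Cfsg.IsMinSimpleOddOrder G) (hM : IsCoatom M) {p : ℕ} [hp : Fact p.Prime]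
    (hpM : p ∣ Nat.card M) (hβ : p ∉ Cfsg.beta M) :
    (∀ q : ℕ, q.Prime → q ∣ (Cfsg.pPrimeCore p M).index → q ≤ p) ∧ PNil p ↥(commutator M) := by
  haveI := hG.2.2.2 M hM.1
  obtain ⟨S⟩ : Nonempty (Sylow p M) := inferInstance
  set π := QuotientGroup.mk' (Cfsg.pPrimeCore p M)
  let e : (S : Subgroup M) ≃* (S : Subgroup M).map π := MulEquiv.ofBijective (π.subgroupMap _)
    ⟨fun a b h => Subtype.ext (Cfsg.Lib.OddP.injOn_pPrimeCore S.2 a.2 b.2 (congrArg Subtype.val h)),
      MonoidHom.subgroupMap_surjective _ _⟩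
  have h2 : Cfsg.pCore p (M ⧸ Cfsg.pPrimeCore p M) = (S : Subgroup M).map π :=
    le_antisymm (Cfsg.Lib.Thompson.le_sylow_of_normal (Cfsg.Lib.Components.isPGroup_pCore p)
      (S.mapSurjective (QuotientGroup.mk'_surjective _)))
      (map_le_iff_le_comap.mpr
        (Cfsg.Lib.OddP.le_pPrimePCore_of_pLength (pLength_proper hG p hM.1) S.2))
  obtain ⟨h1, -, -, h4, -⟩ := Cfsg.Lib.OddP.small_structure
    (hG.1.of_dvd_nat (card_subgroup_dvd_card M)) hpM
    (((isSmall_sylow hG hM hβ S).of_equiv e).of_equiv (MulEquiv.subgroupCongr h2.symm))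
  refine ⟨h1, fun x hx => h4 (zpowers x) ?_ (mem_zpowers x)⟩
  rwa [Nat.card_zpowers]

theorem pnil_of_le_derived (hG : Cfsg.IsMinSimpleOddOrder G) (hM : IsCoatom M) {p : ℕ} [hp : Fact p.Prime]
    (hpM : p ∣ Nat.card M) (hβ : p ∉ Cfsg.beta M) {X : Subgroup G} (hX : X ≤ ⁅M, M⁆) : PNil p X := by
  have hX' : X ≤ (commutator M).map M.subtype := by rwa [map_subtype_commutator]
  let e := ((commutator M).equivMapOfInjective _ M.subtype_injective).symm
  exact PNil.of_injective (f := e.toMonoidHom.comp (inclusion hX'))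
    (e.injective.comp (inclusion_injective hX')) (structure_not_beta hG hM hpM hβ).2

theorem sigmaCore_le_derived (hG : Cfsg.IsMinSimpleOddOrder G) (hM : IsCoatom M) :
    Cfsg.sigmaCore M ≤ ⁅M, M⁆ := by
  refine Cfsg.Lib.Coprime.le_of_forall_sylow fun r hr => ?_
  haveI := Fact.mk hr
  obtain ⟨T⟩ : Nonempty (Sylow r (Cfsg.sigmaCore M)) := inferInstance
  refine ⟨T, ?_⟩
  by_cases hrd : r ∣ Nat.card (Cfsg.sigmaCore M)
  · have hσ : r ∈ Cfsg.sigma M := by
      rw [Cfsg.sigmaCore, card_map_of_injective M.subtype_injective] at hrd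
      exact Cfsg.Lib.Elementary.piCore_isPi _ r hr hrd
    obtain ⟨R, hR, hTR⟩ := exists_sylowOf (M := M) (T.2.map (Cfsg.sigmaCore M).subtype)
      ((map_subtype_le _).trans (map_subtype_le _))
    exact hTR.trans (sylow_le_derived hG hM hσ hR)
  · have hbot : (T : Subgroup (Cfsg.sigmaCore M)) = ⊥ := eq_bot_of_card_eq _ (by
      obtain ⟨i, hi⟩ := IsPGroup.iff_card.mp T.2
      rcases i with _ | i
      · rw [hi, pow_zero]
      · exact absurd ((hi ▸ dvd_pow_self r i.succ_ne_zero :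
          r ∣ Nat.card (T : Subgroup (Cfsg.sigmaCore M))).trans (card_subgroup_dvd_card _)) hrd)
    rw [hbot, Subgroup.map_bot]
    exact bot_le

theorem exists_nilpotent_hall (hG : Cfsg.IsMinSimpleOddOrder G) (hM : IsCoatom M) {X : Subgroup G}
    (hX : X ≤ ⁅M, M⁆) :
    ∃ H : Subgroup G, Cfsg.IsPiHallOf {q | q.Prime ∧ q ∉ Cfsg.beta M} H X ∧ Group.IsNilpotent H := by
  have hXM : X ≤ M := hX.trans (commutator_le_self M)
  haveI : Group.IsSolvable X := Cfsg.Lib.Coprime.isSolvable_of_le hXM (hG.2.2.2 M hM.1)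
  obtain ⟨H, hH⟩ := Cfsg.Lib.Coprime.exists_piHall (G := X) {q | q.Prime ∧ q ∉ Cfsg.beta M}
  refine ⟨H.map X.subtype, ⟨map_subtype_le _, fun q hq hd => hH.1 q hq
    (by rwa [card_map_of_injective X.subtype_injective] at hd), fun q hq hqπ hd => hH.2 q hq hqπ ?_⟩, ?_⟩
  · rwa [relIndex, subgroupOf, comap_map_eq_self_of_injective X.subtype_injective] at hd
  · refine isNilpotent_of_pnil fun q hq hd => ?_
    haveI := Fact.mk hq
    have hd' := hd
    rw [card_map_of_injective X.subtype_injective] at hd'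
    exact pnil_of_le_derived hG hM (hd.trans (card_dvd_of_le ((map_subtype_le _).trans hXM)))
      (hH.1 q hq hd').2 ((map_subtype_le _).trans hX)

theorem sylow_le_betaCore (hG : Cfsg.IsMinSimpleOddOrder G) (hM : IsCoatom M) {q : ℕ} [hq : Fact q.Prime]
    (hβ : q ∈ Cfsg.beta M) (S : Sylow q M) : (S : Subgroup M) ≤ Cfsg.piCore (Cfsg.beta M) M := by
  set D := commutator M with hD
  set Y : Subgroup M := D ⊓ ⨅ r : {r : ℕ // r.Prime ∧ r ∣ Nat.card M ∧ r ∉ Cfsg.beta M},
    (Cfsg.pPrimeCore r.1 D).map D.subtype with hY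
  haveI : ∀ r : ℕ, ((Cfsg.pPrimeCore r D).map D.subtype).Normal := fun r => by
    rw [← normalizer_eq_top_iff, eq_top_iff]
    exact (normalizer_eq_top (H := D)).ge.trans (Cfsg.Lib.OddP.le_normalizer_map_of_char _)
  haveI : (⨅ r : {r : ℕ // r.Prime ∧ r ∣ Nat.card M ∧ r ∉ Cfsg.beta M},
    (Cfsg.pPrimeCore r.1 D).map D.subtype).Normal := normal_iInf_normal fun r => inferInstance
  haveI : Y.Normal := normal_inf_normal _ _
  refine le_trans ?_ (Cfsg.Lib.Elementary.le_piCore (N := Y) fun r hr hrd => ?_)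
  · intro x hx
    have hxD : x ∈ D := by
      have h1 := sylow_le_derived hG hM (alpha_subset_sigma hG hM hβ.1) (isSylowOf_sylow S)
        (mem_map_of_mem _ hx)
      rw [← map_subtype_commutator M] at h1
      obtain ⟨y, hy, hyx⟩ := h1
      rwa [← Subtype.ext hyx]
    refine ⟨hxD, mem_iInf.mpr fun r => ⟨⟨x, hxD⟩, ?_, rfl⟩⟩
    haveI := Fact.mk r.2.1
    obtain ⟨i, hi⟩ := S.2 ⟨x, hx⟩
    refine (structure_not_beta hG hM r.2.2.1 r.2.2.2).2 ⟨x, hxD⟩ ?_
    rw [← orderOf_coe]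
    exact (((Nat.coprime_primes hq.out r.2.1).mpr fun h => r.2.2.2 (h ▸ hβ)).pow_left i).coprime_dvd_left
      (orderOf_dvd_of_pow_eq_one (congrArg Subtype.val hi))
  · by_contra hrβ
    haveI := Fact.mk hr
    have h1 := hrd.trans (card_dvd_of_le ((inf_le_right : Y ≤ _).trans
      (iInf_le (fun r : {r : ℕ // r.Prime ∧ r ∣ Nat.card M ∧ r ∉ Cfsg.beta M} =>
        (Cfsg.pPrimeCore r.1 D).map D.subtype) ⟨r, hr, hrd.trans (card_subgroup_dvd_card _), hrβ⟩)))
    rw [card_map_of_injective D.subtype_injective] at h1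
    exact hr.not_dvd_one ((Cfsg.Lib.Components.coprime_card_pPrimeCore (G := D) r) ▸
      Nat.dvd_gcd h1 dvd_rfl)

theorem betaCore_hall (hG : Cfsg.IsMinSimpleOddOrder G) (hM : IsCoatom M) :
    Cfsg.IsPiHallOf (Cfsg.beta M) (Cfsg.piCoreOf (Cfsg.beta M) M) M ∧
      Cfsg.IsPiHall (Cfsg.beta M) (Cfsg.piCoreOf (Cfsg.beta M) M) := by
  have hpi : ∀ q : ℕ, q.Prime → q ∣ Nat.card (Cfsg.piCoreOf (Cfsg.beta M) M) → q ∈ Cfsg.beta M :=
    PiCoreOf.isPi _ M
  refine ⟨⟨PiCoreOf.le _ M, hpi, fun q hq hβ hd => ?_⟩, hpi, fun q hq hβ hd => ?_⟩ <;>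
    haveI := Fact.mk hq
  · obtain ⟨S⟩ : Nonempty (Sylow q M) := inferInstance
    refine S.not_dvd_index (dvd_trans ?_ (index_dvd_of_le (sylow_le_betaCore hG hM hβ S)))
    rwa [relIndex, show (Cfsg.piCoreOf (Cfsg.beta M) M).subgroupOf M = Cfsg.piCore (Cfsg.beta M) M from
      comap_map_eq_self_of_injective M.subtype_injective _] at hd
  · obtain ⟨P, hPM, -⟩ := exists_sylow_le (alpha_subset_sigma hG hM hβ.1)
    obtain ⟨S, hS⟩ := (isSylowOf_coe P hPM).exists_sylow
    refine P.not_dvd_index (hd.trans (index_dvd_of_le ?_))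
    rw [← hS]
    exact map_mono (sylow_le_betaCore hG hM hβ S)

theorem beta_theorem (hG : Cfsg.IsMinSimpleOddOrder G) (hM : IsCoatom M) {p : ℕ} (hp : p.Prime)
    (hpM : p ∣ Nat.card M) (hβ : p ∉ Cfsg.beta M) :
    Cfsg.HasNormalPComplement p ↥⁅M, M⁆ ∧ Cfsg.HasNormalPComplement p ↥(Cfsg.sigmaCore M) ∧
      ∀ q : ℕ, q.Prime → q ∣ (Cfsg.pPrimeCore p M).index → q ≤ p := by
  haveI := Fact.mk hp
  exact ⟨(pnil_of_le_derived hG hM hpM hβ le_rfl).hasNormalPComplement,
    (pnil_of_le_derived hG hM hpM hβ (sigmaCore_le_derived hG hM)).hasNormalPComplement,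
    (structure_not_beta hG hM hpM hβ).1⟩

end Cfsg.Lib.OddLocal.Sigma
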