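import Cfsg.Agent.OddLocal.ThompsonTransitivity
import Cfsg.Agent.OddLocal.PLengthOne
import Cfsg.Prelude.Def_OddOrder

/-!
# The transitivity hypothesis in a minimal simple group of odd order
-/

set_option linter.unusedSectionVars false
set_option linter.style.haveILetI false

namespace Cfsg.Lib.OddLocal.MinSimpleTransitivity

open Subgroup
open Transitivity (ConjUnder)
open scoped commutatorElement

universe u

variable {G : Type u} [Group G] [Finite G] {A : Subgroup G} {q : ℕ} [hq : Fact q.Prime]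

/-- The core of the centralizer. -/
abbrev K (A : Subgroup G) : Subgroup G :=
  Cfsg.piCoreOf (Cfsg.primesNotDvd (Nat.card A)) (centralizer (A : Set G))

theorem normalizer_ne_top (hG : Cfsg.IsMinSimpleOddOrder G) {D : Subgroup G} (h1 : D ≠ ⊥)
    (h2 : D ≠ ⊤) : normalizer (D : Set G) ≠ ⊤ := fun h => by
  haveI := normalizer_eq_top_iff.mp h
  haveI := hG.2.1
  exact (IsSimpleGroup.eq_bot_or_eq_top_of_normal D inferInstance).elim h1 h2

theorem centralizer_singleton_ne_top (hG : Cfsg.IsMinSimpleOddOrder G) {e : G} (he : e ≠ 1) :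
    centralizer ({e} : Set G) ≠ ⊤ := fun h => by
  haveI := hG.2.1
  rcases IsSimpleGroup.eq_bot_or_eq_top_of_normal (center G) inferInstance with hc | hc
  · have h1 : e ∈ center G := mem_center_iff.mpr fun g =>
      mem_centralizer_singleton_iff.mp (h.symm ▸ mem_top g : g ∈ centralizer ({e} : Set G))
    rw [hc, mem_bot] at h1
    exact he h1
  · exact hG.2.2.1 ⟨⟨fun a b => (mem_center_iff.mp (hc.symm ▸ mem_top b : b ∈ center G) a)⟩⟩

theorem isSolvable (hG : Cfsg.IsMinSimpleOddOrder G) (hA : Cfsg.TransitivityHypothesis A) :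
    Group.IsSolvable A := hG.2.2.2 A hA.2.1

theorem le_core (hA : Cfsg.TransitivityHypothesis A) {X Y : Subgroup G} (hX : X ≠ ⊤) (hAX : A ≤ X)
    (hYX : Y ≤ X) (hcop : (Nat.card A).Coprime (Nat.card Y)) (hAY : A ≤ normalizer (Y : Set G)) :
    Y ≤ Cfsg.piCoreOf (Cfsg.primesNotDvd (Nat.card A)) X := by
  rw [← hA.2.2 X hX hAX]
  exact le_sSup ⟨hYX, PiCoreOf.isPiNat_of_coprime hcop, hAY⟩

theorem mem_K (hG : Cfsg.IsMinSimpleOddOrder G) (hA : Cfsg.TransitivityHypothesis A) {c : G}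
    (hc : c ∈ centralizer (A : Set G)) (hcop : (orderOf c).Coprime (Nat.card A)) : c ∈ K A := by
  set C := centralizer (A : Set G) with hC
  set N := normalizer (A : Set G) with hN
  have hCN : C ≤ N := centralizer_le_normalizer _
  have h1 : zpowers c ≤ Cfsg.piCoreOf (Cfsg.primesNotDvd (Nat.card A)) N :=
    le_core hA (normalizer_ne_top hG hA.1 hA.2.1) le_normalizer (zpowers_le.mpr (hCN hc))
      (by rw [Nat.card_zpowers]; exact hcop.symm) fun a ha => centralizer_le_normalizer _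
        (mem_centralizer_iff.mpr fun x hx => by
          obtain ⟨k, rfl⟩ := mem_zpowers_iff.mp hx
          exact (((show Commute a c from mem_centralizer_iff.mp hc a ha).zpow_right k).eq).symm)
  refine (PiCoreOf.le_piCoreOf (X := C) (π := Cfsg.primesNotDvd (Nat.card A))
    (N := Cfsg.piCoreOf (Cfsg.primesNotDvd (Nat.card A)) N ⊓ C) inf_le_right
    (Cfsg.Lib.Coprime.le_normalizer_inf (hCN.trans (PiCoreOf.le_normalizer' _ _)) le_normalizer)
    fun r hr hrd => PiCoreOf.isPi _ _ r hr (hrd.trans (card_dvd_of_le inf_le_left)))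
    ⟨h1 (mem_zpowers c), hc⟩

theorem coprime_of_isPGroup (hqA : ¬ q ∣ Nat.card A) {Y : Subgroup G} (hY : IsPGroup q Y) :
    (Nat.card A).Coprime (Nat.card Y) := by
  obtain ⟨k, hk⟩ := IsPGroup.iff_card.mp hY
  rw [hk]
  exact (hq.out.coprime_iff_not_dvd.mpr hqA).symm.pow_right k

theorem conj_of_common (hG : Cfsg.IsMinSimpleOddOrder G) (hA : Cfsg.TransitivityHypothesis A)
    (hqA : ¬ q ∣ Nat.card A) {Q₁ Q₂ : Subgroup G} (h₁ : Q₁ ∈ Cfsg.maxInvSubgroups ⊤ A {q})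
    (h₂ : Q₂ ∈ Cfsg.maxInvSubgroups ⊤ A {q}) {H : Subgroup G} (hH : H ≠ ⊤) (hAH : A ≤ H)
    (hH₁ : H ⊓ Q₁ ≠ ⊥) (hH₂ : H ⊓ Q₂ ≠ ⊥) : ConjUnder (K A) Q₁ Q₂ := by
  have hsol := isSolvable hG hA
  have hstep : ∀ S ∈ Cfsg.maxInvSubgroups ⊤ A {q}, ∀ T ∈ Cfsg.maxInvSubgroups ⊤ A {q},
      1 < Nat.card (S ⊓ T : Subgroup G) → ConjUnder (K A) S T := by
    refine Transitivity.of_step hsol (PiCoreOf.le _ _) (fun c hc h => mem_K hG hA hc h)
      (fun d => 1 < d) (fun a b hab h => lt_of_lt_of_le h hab) ?_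
    intro S hS T hT hne hgood
    obtain ⟨hpS, hAS⟩ := Transitivity.mem_inv_iff.mp hS.1
    obtain ⟨hpT, hAT⟩ := Transitivity.mem_inv_iff.mp hT.1
    obtain ⟨hAD, hlt₁⟩ := Transitivity.lt_normalizer hS hT hne
    obtain ⟨-, hlt₂⟩ := Transitivity.lt_normalizer hT hS hne.symm
    rw [inf_comm T S] at hlt₂
    set D := S ⊓ T with hD
    set X := normalizer (D : Set G) with hX
    have hD1 : D ≠ ⊥ := fun h => by rw [h, Subgroup.card_bot] at hgood; exact lt_irrefl 1 hgood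
    have hD2 : D ≠ ⊤ := fun h => hne ((inf_eq_top_iff.mp h).1.trans (inf_eq_top_iff.mp h).2.symm)
    have hXt := normalizer_ne_top hG hD1 hD2
    have hcard : ∀ Q : Subgroup G, D < Q → Nat.card D < Nat.card Q := fun Q h =>
      lt_of_le_of_ne (Nat.le_of_dvd Nat.card_pos (card_dvd_of_le h.le))
        fun he => h.ne (eq_of_le_of_card_ge h.le he.ge)
    have hin : ∀ Q : Subgroup G, IsPGroup q Q → A ≤ normalizer (Q : Set G) →
        A ≤ normalizer ((Q ⊓ X : Subgroup G) : Set G) ∧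
        Q ⊓ X ≤ Q ⊓ Cfsg.piCoreOf (Cfsg.primesNotDvd (Nat.card A)) X := fun Q hQ hAQ =>
      have h1 := Cfsg.Lib.Coprime.le_normalizer_inf hAQ (hAD.trans le_normalizer)
      ⟨h1, le_inf inf_le_left (le_core hA hXt hAD inf_le_right
        (coprime_of_isPGroup hqA (hQ.to_le inf_le_left)) h1)⟩
    exact ⟨_, S ⊓ X, T ⊓ X, hAD.trans (PiCoreOf.le_normalizer' _ X), PiCoreOf.coprime_card _ _,
      (hin S hpS hAS).2, (hin T hpT hAT).2, (hin S hpS hAS).1, (hin T hpT hAT).1,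
      hcard _ hlt₁, hcard _ hlt₂⟩
  obtain ⟨hp₁, hA₁⟩ := Transitivity.mem_inv_iff.mp h₁.1
  obtain ⟨hp₂, hA₂⟩ := Transitivity.mem_inv_iff.mp h₂.1
  have hAHn : A ≤ normalizer (H : Set G) := hAH.trans le_normalizer
  have hin : ∀ Q : Subgroup G, IsPGroup q Q → A ≤ normalizer (Q : Set G) →
      A ≤ normalizer ((H ⊓ Q : Subgroup G) : Set G) ∧
      H ⊓ Q ≤ Q ⊓ Cfsg.piCoreOf (Cfsg.primesNotDvd (Nat.card A)) H := fun Q hQ hAQ =>
    have h1 := Cfsg.Lib.Coprime.le_normalizer_inf hAHn hAQ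
    ⟨h1, le_inf inf_le_right (le_core hA hH hAH inf_le_left
      (coprime_of_isPGroup hqA (hQ.to_le inf_le_right)) h1)⟩
  exact Transitivity.chain hsol (PiCoreOf.le _ _) (fun c hc h => mem_K hG hA hc h) hstep h₁ h₂
    (hAH.trans (PiCoreOf.le_normalizer' _ H)) (PiCoreOf.coprime_card _ _) (hin Q₁ hp₁ hA₁).2
    (hin Q₂ hp₂ hA₂).2 (hin Q₁ hp₁ hA₁).1 (hin Q₂ hp₂ hA₂).1
    (one_lt_card_iff_ne_bot _ |>.mpr hH₁) (one_lt_card_iff_ne_bot _ |>.mpr hH₂)

theorem exists_elementary {k : ℕ} (h : ¬ Cfsg.RankLE k ↥(A ⊓ centralizer (A : Set G))) :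
    ∃ (p : ℕ) (E : Subgroup G), p.Prime ∧ Cfsg.IsElementaryAbelian p E ∧ E ≤ A ∧
      A ≤ centralizer (E : Set G) ∧ p ^ (k + 1) ≤ Nat.card E := by
  simp only [Cfsg.RankLE, Cfsg.PRankLE, not_forall, not_le] at h
  obtain ⟨p, hp, F, hFc, hFp, hF⟩ := h
  haveI := Fact.mk hp
  refine ⟨p, F.map (A ⊓ centralizer (A : Set G)).subtype, hp, ⟨⟨⟨?_⟩⟩, ?_⟩, (map_subtype_le _).trans inf_le_left,
    le_centralizer_iff.mp ((map_subtype_le _).trans inf_le_right), ?_⟩
  · rintro ⟨_, a, ha, rfl⟩ ⟨_, b, hb, rfl⟩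
    exact Subtype.ext (congrArg Subtype.val (ThompsonTransitivity.mul_comm_of hFc ha hb) :)
  · rintro _ ⟨x, hx, rfl⟩
    simpa using congrArg Subtype.val (hFp x hx)
  · rw [Subgroup.card_map_of_injective (subtype_injective _)]
    obtain ⟨j, hj⟩ := IsPGroup.iff_card.mp (fun a => ⟨1, by
      rw [pow_one]; exact Subtype.ext (hFp a a.2)⟩ : IsPGroup p F)
    rw [hj] at hF ⊢
    exact Nat.pow_le_pow_right hp.pos ((Nat.pow_lt_pow_iff_right hp.one_lt).mp hF)

theorem transitive_rank_three (hG : Cfsg.IsMinSimpleOddOrder G) (hA : Cfsg.TransitivityHypothesis A)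
    (hZ : ¬ Cfsg.RankLE 2 ↥(A ⊓ centralizer (A : Set G))) (hqA : ¬ q ∣ Nat.card A) :
    ∀ Q₁ ∈ Cfsg.maxInvSubgroups ⊤ A {q}, ∀ Q₂ ∈ Cfsg.maxInvSubgroups ⊤ A {q},
      ConjUnder (K A) Q₁ Q₂ := by
  obtain ⟨p, E, hp, hE, hEA, hAE, hE3⟩ := exists_elementary hZ
  haveI := Fact.mk hp
  have hAC : ∀ e ∈ E, A ≤ centralizer ({e} : Set G) := fun e he a ha =>
    mem_centralizer_singleton_iff.mpr (mem_centralizer_iff.mp (hAE ha) e he).symm
  exact Transitivity.transitive (isSolvable hG hA) hEA hE hE3 hAE (PiCoreOf.le _ _)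
    (fun c hc h => mem_K hG hA hc h)
    (fun e => Cfsg.piCoreOf (Cfsg.primesNotDvd (Nat.card A)) (centralizer ({e} : Set G)))
    (fun e he _ => (hAC e he).trans (PiCoreOf.le_normalizer' _ _))
    (fun e _ _ => PiCoreOf.coprime_card _ _)
    (fun e he he1 Y hY hcop hAY =>
      le_core hA (centralizer_singleton_ne_top hG he1) (hAC e he) hY hcop hAY) hqA

theorem transitive_rank_two (hG : Cfsg.IsMinSimpleOddOrder G) (hA : Cfsg.TransitivityHypothesis A)
    (hZ : ¬ Cfsg.RankLE 1 ↥(A ⊓ centralizer (A : Set G))) (hqA : ¬ q ∣ Nat.card A)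
    (hqC : q ∣ Nat.card (centralizer (A : Set G))) :
    ∀ Q₁ ∈ Cfsg.maxInvSubgroups ⊤ A {q}, ∀ Q₂ ∈ Cfsg.maxInvSubgroups ⊤ A {q},
      ConjUnder (K A) Q₁ Q₂ := by
  obtain ⟨p, E, hp, hE, hEA, hAE, hE2⟩ := exists_elementary hZ
  haveI := Fact.mk hp
  haveI : IsMulCommutative E := hE.1
  have hEnc : ¬ IsCyclic E := by
    intro hcyc
    obtain ⟨b, hb⟩ := hcyc.exists_ofOrder_eq_natCard
    have h1 : orderOf b ∣ p := orderOf_dvd_of_pow_eq_one (Subtype.ext (hE.2 b b.2))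
    rw [hb] at h1
    have h2 := Nat.le_of_dvd hp.pos h1
    have h3 : p < p ^ (1 + 1) := by rw [pow_succ, pow_one]; exact lt_mul_self hp.one_lt
    omega
  obtain ⟨R⟩ : Nonempty (Sylow q (centralizer (A : Set G))) := inferInstance
  set R₀ := (R : Subgroup _).map (centralizer (A : Set G)).subtype
  have hR₀ : R₀ ≤ centralizer (A : Set G) := map_subtype_le _
  have hR₀n : A ≤ normalizer (R₀ : Set G) :=
    (le_centralizer_iff.mp hR₀).trans (centralizer_le_normalizer _)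
  obtain ⟨Q₃, hQ₃, hRQ⟩ := Transitivity.exists_max (A := A) (R.2.map _ : IsPGroup q R₀) hR₀n
  have hR₀1 : R₀ ≠ ⊥ := fun h => by
    rw [Subgroup.map_eq_bot_iff_of_injective _ (subtype_injective _)] at h
    exact R.ne_bot_of_dvd_card hqC h
  suffices h : ∀ Q ∈ Cfsg.maxInvSubgroups ⊤ A {q}, ConjUnder (K A) Q Q₃ from
    fun Q₁ h₁ Q₂ h₂ => (h Q₁ h₁).trans (h Q₂ h₂).symm
  intro Q hQ
  obtain ⟨hQp, hAQ⟩ := Transitivity.mem_inv_iff.mp hQ.1
  have hQ1 : Q ≠ ⊥ := fun h => hR₀1 (eq_bot_iff.mpr (hRQ.trans ((hQ.2 Q₃ hQ₃.1 (h ▸ bot_le)).trans h).le))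
  obtain ⟨e, he, he1, hne⟩ := Transitivity.exists_fixed_outside (R := Q) (D := ⊥) hEnc (hEA.trans hAQ)
    ((coprime_of_isPGroup hqA hQp).coprime_dvd_left (card_dvd_of_le hEA))
    (fun h => hQ1 (le_bot_iff.mp h))
  refine conj_of_common hG hA hqA hQ hQ₃ (centralizer_singleton_ne_top hG he1)
    (fun a ha => mem_centralizer_singleton_iff.mpr (mem_centralizer_iff.mp (hAE ha) e he).symm) ?_ ?_
  · rw [inf_comm]
    exact fun h => hne h.le
  · intro h
    refine hR₀1 (eq_bot_iff.mpr (le_trans (le_inf ?_ hRQ) h.le))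
    intro r hr
    exact mem_centralizer_singleton_iff.mpr (mem_centralizer_iff.mp (hR₀ hr) e (hEA he)).symm

theorem hypothesis_of_abelian (hG : Cfsg.IsMinSimpleOddOrder G) {p : ℕ} [Fact p.Prime]
    (hp : p ∣ Nat.card G) (hAp : IsPGroup p A) (hAc : IsMulCommutative A)
    (h : (∀ x ∈ centralizer (A : Set G), x ^ p = 1 ↔ x ∈ A) ∧ (∀ H : Subgroup G, H ≠ ⊤ → Cfsg.PLengthLE p 1 H) ∨
      ∃ P : Sylow p G, Cfsg.IsSCN (P : Subgroup G) A ∧ ¬ Cfsg.PRankLE p 1 A) :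
    Cfsg.TransitivityHypothesis A := by
  have hp2 : p ≠ 2 := by
    rintro rfl
    exact Nat.not_even_iff_odd.mpr hG.1 (even_iff_two_dvd.mpr hp)
  have hA1 : A ≠ ⊥ := by
    rintro rfl
    rcases h with ⟨h, -⟩ | ⟨P, -, h⟩
    · obtain ⟨x, hx⟩ := exists_prime_orderOf_dvd_card' p hp
      have h1 : x ∈ (⊥ : Subgroup G) := (h x (mem_centralizer_iff.mpr fun b hb => by
        rw [mem_bot.mp hb, one_mul, mul_one])).mp
        (hx ▸ pow_orderOf_eq_one x)
      rw [mem_bot] at h1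
      rw [h1, orderOf_one] at hx
      exact (Fact.out : p.Prime).ne_one hx.symm
    · refine h fun B hB hBp => ?_
      rw [pow_one]
      exact le_trans (Nat.le_of_dvd Nat.card_pos (card_subgroup_dvd_card B)) (by
        rw [Subgroup.card_bot]; exact (Fact.out : p.Prime).one_lt.le)
  have hAt : A ≠ ⊤ := fun h1 => hG.2.2.1 ⟨⟨fun a b =>
    ThompsonTransitivity.mul_comm_of hAc (h1.symm ▸ mem_top a) (h1.symm ▸ mem_top b)⟩⟩
  refine ⟨hA1, hAt, fun X hX hAX => le_antisymm (sSup_le fun Y hY => ?_)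
    (le_sSup ⟨PiCoreOf.le _ _, PiCoreOf.isPi _ _, hAX.trans (PiCoreOf.le_normalizer' _ _)⟩)⟩
  obtain ⟨hYX, hYπ, hAY⟩ := hY
  haveI : Group.IsSolvable X := hG.2.2.2 X hX
  obtain ⟨k, hk⟩ := IsPGroup.iff_card.mp hAp
  have hn : ∀ r : ℕ, r.Prime → r ∣ Nat.card A → r = p := fun r hr hrd =>
    (Nat.prime_dvd_prime_iff_eq hr (Fact.out : p.Prime)).mp (hr.dvd_of_dvd_pow (hk ▸ hrd))
  have hYp : (Nat.card Y).Coprime p := by
    have h1 : k ≠ 0 := by
      rintro rfl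
      exact hA1 (eq_bot_of_card_eq _ (by rw [hk, pow_zero]))
    have h2 := PiCoreOf.coprime_of_isPiNat hYπ
    rw [hk] at h2
    exact ((Nat.coprime_pow_left_iff (Nat.pos_of_ne_zero h1) _ _).mp h2).symm
  rcases h with ⟨h, hlen⟩ | ⟨P, hP, -⟩
  · refine le_trans ?_ (PiCoreOf.map_pPrimeCore_le hn X)
    have hAC : A ≤ centralizer (A : Set G) := fun a ha =>
      mem_centralizer_iff.mpr fun b hb => ThompsonTransitivity.mul_comm_of hAc hb ha
    have hle := Cfsg.Lib.OddP.le_pPrimeCore_of_maximal_elementary hp2 (hlen X hX) (E := A.subgroupOf X)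
      (L := Y.subgroupOf X)
      ⟨⟨⟨fun a b => Subtype.ext (Subtype.ext (ThompsonTransitivity.mul_comm_of hAc a.2 b.2))⟩⟩,
        fun x hx => Subtype.ext (by simpa using (h x (hAC hx)).mpr hx)⟩
      (fun B hB hAB => le_antisymm (fun (x : X) hx => (h (x : G) (mem_centralizer_iff.mpr fun a ha =>
        congrArg Subtype.val (ThompsonTransitivity.mul_comm_of hB.1
          (hAB (show (⟨a, hAX ha⟩ : X) ∈ A.subgroupOf X from ha)) hx)
          )).mp (by simpa using congrArg Subtype.val (hB.2 x hx))) hAB)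
      (by rwa [Nat.card_congr (subgroupOfEquivOfLe hYX).toEquiv])
      (fun a ha => mem_normalizer_iff.mpr fun y => by
        simp only [mem_subgroupOf, Subgroup.coe_mul, Subgroup.coe_inv]
        exact mem_normalizer_iff.mp (hAY ha) y)
    intro y hy
    exact ⟨⟨y, hYX hy⟩, hle hy, rfl⟩
  · exact PiCoreOf.le_of_constrained hn InvariantCore.quotientConstrained_of_solvable
      (fun h' => absurd h' hp2) hAX hYX hAp (fun x hx hxp => PiCoreOf.mem_of_scn P hP.2.1 hP.2.2 hx hxp)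
      hYp hAY

end Cfsg.Lib.OddLocal.MinSimpleTransitivity
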