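import Cfsg.Agent.OddLocal.AlphaCore

/-!
# Primes outside `σ(M)` of rank two
-/

set_option linter.unusedSectionVars false
set_option linter.unusedVariables false
set_option linter.style.haveILetI false

namespace Cfsg.Lib.OddLocal.Sigma

open Subgroup Uniqueness
open Cfsg.Lib.Coprime (conjMap)

universe u

variable {G : Type u} [Group G] [Finite G] {M : Subgroup G} {p : ℕ} [hp : Fact p.Prime]

theorem pRankLE_of_not_sigma (hG : Cfsg.IsMinSimpleOddOrder G) (hM : IsCoatom M)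
    (hσ : p ∉ Cfsg.sigma M) : Cfsg.PRankLE p 2 M := by
  by_contra h
  exact hσ (alpha_subset_sigma hG hM ⟨hp.out, h⟩)

theorem maximal_of_rank_two (hG : Cfsg.IsMinSimpleOddOrder G) (hM : IsCoatom M)
    (hr2 : Cfsg.PRankLE p 2 M) {A B : Subgroup G} (hAM : A ≤ M) (hA : Cfsg.IsElementaryAbelian p A)
    (hAc : Nat.card A = p ^ 2) (hB : Cfsg.IsElementaryAbelian p B) (hAB : A ≤ B) : B = A := by
  by_contra hne
  have h3 : p ^ 3 ≤ Nat.card B := by
    obtain ⟨j, hj⟩ := IsPGroup.iff_card.mp (isPGroup_of_pow hB.2 : IsPGroup p B)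
    have h1 : Nat.card A < Nat.card B :=
      lt_of_le_of_ne (Nat.le_of_dvd Nat.card_pos (card_dvd_of_le hAB))
        fun h => hne (eq_of_le_of_card_ge hAB h.ge).symm
    rw [hAc, hj] at h1
    rw [hj]
    exact Nat.pow_le_pow_right hp.out.pos ((Nat.pow_lt_pow_iff_right hp.out.one_lt).mp h1)
  have hU : Cfsg.InUniqueMaximal A := unique_of_centralizes hG (ScnUniqueness.unique_of_abelian hG hB h3)
    (fun a ha => mem_centralizer_iff.mpr fun b hb => ThompsonTransitivity.mul_comm_of hB.1 hb (hAB ha))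
    le_rfl hA hAc.ge
  have hBt : B ≠ ⊤ := fun ht => hG.2.2.1 ⟨⟨fun a b =>
    ThompsonTransitivity.mul_comm_of hB.1 (ht ▸ mem_top a) (ht ▸ mem_top b)⟩⟩
  exact not_pRankLE_of hB (le_of_unique hU hM hAM hBt hAB) h3 hr2

theorem not_ideal (hG : Cfsg.IsMinSimpleOddOrder G) (hM : IsCoatom M) (hr2 : Cfsg.PRankLE p 2 M)
    (hr1 : ¬ Cfsg.PRankLE p 1 M) : ¬ Cfsg.IsIdealPrime p G := by
  intro hI
  obtain ⟨E, hEM, hE, hEc⟩ := exists_elementary hr1
  have hEc' : Nat.card E = p ^ 2 := by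
    refine le_antisymm ?_ hEc
    have h := hr2 (E.subgroupOf M)
      ⟨⟨fun a b => Subtype.ext (Subtype.ext (ThompsonTransitivity.mul_comm_of hE.1 a.2 b.2))⟩⟩
      (fun a ha => Subtype.ext (by simpa using hE.2 a ha))
    rwa [Nat.card_congr (subgroupOfEquivOfLe hEM).toEquiv] at h
  obtain ⟨S, hES⟩ := (isPGroup_of_pow hE.2 : IsPGroup p E).exists_le_sylow
  obtain ⟨B, -, hB, hEB⟩ := hI.2.2 S E hES hE hEc'
  exact hEB.ne (maximal_of_rank_two hG hM hr2 hEM hE hEc' hB hEB.le).symm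

theorem exists_sq_ge (hG : Cfsg.IsMinSimpleOddOrder G) (hM : IsCoatom M) (hσ : p ∉ Cfsg.sigma M)
    {X : Subgroup G} (hX : Nat.card X = p) (hNX : normalizer (X : Set G) ≤ M) :
    ¬ Cfsg.PRankLE p 1 M ∧
      ∃ A : Subgroup G, Cfsg.IsElementaryAbelian p A ∧ Nat.card A = p ^ 2 ∧ X ≤ A := by
  have hXp : IsPGroup p X := IsPGroup.of_card (n := 1) (by rw [hX, pow_one])
  have hXM : X ≤ M := le_normalizer.trans hNX
  have hpM : p ∣ Nat.card M := hX ▸ card_dvd_of_le hXM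
  obtain ⟨S, hS⟩ := (hXp.comap_subtype (K := M)).exists_le_sylow
  set R := (S : Subgroup M).map M.subtype with hR
  have hXR : X ≤ R := fun x hx => ⟨⟨x, hXM hx⟩, hS hx, rfl⟩
  have hRp : IsPGroup p R := S.2.map _
  have hX1 : X ≠ ⊥ := fun h0 => hp.out.ne_one (by rw [← hX, h0, Subgroup.card_bot])
  have hnc : ¬ IsCyclic R := by
    intro hcyc
    refine hσ ⟨hp.out, hpM, S, fun g hg => hNX ?_⟩
    refine Cfsg.Lib.Coprime.conjMap_eq_self_iff.mp ?_
    haveI := hcyc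
    letI : CommGroup R := IsCyclic.commGroup
    have hle : conjMap g X ≤ R :=
      (Cfsg.Lib.Coprime.conjMap_mono hXR).trans (Cfsg.Lib.Coprime.conjMap_eq_self hg).le
    obtain ⟨r, hr⟩ := hcyc.exists_generator
    have key : ∀ Y : Subgroup G, Y ≤ R → Nat.card Y = p → ∀ y ∈ Y, ∃ h : y ∈ R, (⟨y, h⟩ : R) ^ p = 1 :=
      fun Y hY hYc y hy => ⟨hY hy, Subtype.ext (by
        have h1 := pow_card_eq_one' (G := Y) (x := ⟨y, hy⟩)
        rw [hYc] at h1
        exact congrArg Subtype.val h1 :)⟩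
    by_contra hne
    obtain ⟨y, hy, hyX⟩ := SetLike.exists_of_lt (lt_of_le_of_ne
      (le_sup_left : X ≤ X ⊔ conjMap g X) fun h => hne (eq_of_le_of_card_ge (h.ge.trans' le_sup_right)
        (by rw [Cfsg.Lib.Coprime.card_conjMap])))
    have hle2 : X ⊔ conjMap g X ≤ R := sup_le hXR hle
    refine not_isCyclic_of_card (B := X ⊔ conjMap g X) (p := p) (fun b hb => ?_) ?_
      (isCyclic_of_injective (inclusion hle2) (inclusion_injective hle2))
    · have hker : X ⊔ conjMap g X ≤ ((powMonoidHom (α := R) p).ker).map R.subtype := by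
        refine sup_le (fun z hz => ?_) (fun z hz => ?_)
        · obtain ⟨h, h'⟩ := key X hXR hX z hz
          exact ⟨⟨z, h⟩, h', rfl⟩
        · obtain ⟨h, h'⟩ := key _ hle (by rw [Cfsg.Lib.Coprime.card_conjMap, hX]) z hz
          exact ⟨⟨z, h⟩, h', rfl⟩
      obtain ⟨z, hz, rfl⟩ := hker hb
      exact congrArg Subtype.val (hz : z ^ p = 1)
    · obtain ⟨j, hj⟩ := IsPGroup.iff_card.mp (hRp.to_le hle2)
      have h1 : Nat.card X < Nat.card (X ⊔ conjMap g X : Subgroup G) :=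
        lt_of_le_of_ne (Nat.le_of_dvd Nat.card_pos (card_dvd_of_le le_sup_left))
          fun h => hyX ((eq_of_le_of_card_ge le_sup_left h.ge).ge hy)
      rw [hX, hj] at h1
      rw [hj]
      exact Nat.pow_le_pow_right hp.out.pos ((Nat.pow_lt_pow_iff_right hp.out.one_lt).mp ((pow_one p).trans_lt h1))
  obtain ⟨F, hFR, hRF, hF, hFc⟩ := exists_normal_sq (ne_two hG hXp hX1) hRp hnc
  refine ⟨not_pRankLE_of hF (hFR.trans (map_subtype_le _)) hFc.ge, ?_⟩
  haveI : (F.subgroupOf R).Normal := normal_subgroupOf_of_le_normalizer hRF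
  haveI : Group.IsNilpotent R := hRp.isNilpotent
  have hF1 : F.subgroupOf R ≠ ⊥ := fun h0 => by
    have h1 := Nat.card_congr (subgroupOfEquivOfLe hFR).toEquiv
    rw [h0, Subgroup.card_bot, hFc] at h1
    exact absurd h1.symm (Nat.one_lt_pow two_ne_zero hp.out.one_lt).ne'
  obtain ⟨w, hw, hw1⟩ : ∃ w ∈ F.subgroupOf R ⊓ center R, w ≠ 1 := by
    by_contra hall
    push Not at hall
    exact Cfsg.Lib.Coprime.inf_center_ne_bot (F.subgroupOf R) hF1 ((eq_bot_iff_forall _).mpr hall)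
  have hw1' : (w : G) ≠ 1 := fun h => hw1 (Subtype.ext h)
  by_cases hwX : (w : G) ∈ X
  · refine ⟨F, hF, hFc, ?_⟩
    have h1 : zpowers (w : G) = X := eq_of_le_of_card_ge (zpowers_le.mpr hwX) (by
      rw [hX, Nat.card_zpowers, orderOf_eq_prime (show (w : G) ^ p = 1 from hF.2 _ hw.1) hw1'])
    exact h1 ▸ zpowers_le.mpr hw.1
  have hcomm : ∀ x ∈ X, x * (w : G) = w * x := fun x hx =>
    congrArg Subtype.val (mem_center_iff.mp hw.2 ⟨x, hXR hx⟩)
  have hn : zpowers (w : G) ≤ normalizer (X : Set G) :=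
    zpowers_le.mpr (centralizer_le_normalizer _ (mem_centralizer_iff.mpr hcomm))
  have hXe : ∀ x ∈ X, x ^ p = 1 := fun x hx => by
    have h1 := pow_card_eq_one' (G := X) (x := ⟨x, hx⟩)
    rw [hX] at h1
    exact congrArg Subtype.val h1
  haveI : IsCyclic X := isCyclic_of_prime_card hX
  refine ⟨X ⊔ zpowers (w : G), ⟨⟨⟨?_⟩⟩, ?_⟩, ?_, le_sup_left⟩
  · rintro ⟨_, h₁⟩ ⟨_, h₂⟩
    obtain ⟨x₁, hx₁, w₁, hw₁, rfl⟩ := (Cfsg.Lib.Coprime.mem_sup_of_le_normalizer hn).mp h₁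
    obtain ⟨x₂, hx₂, w₂, hw₂, rfl⟩ := (Cfsg.Lib.Coprime.mem_sup_of_le_normalizer hn).mp h₂
    obtain ⟨i, rfl⟩ := hw₁
    obtain ⟨k, rfl⟩ := hw₂
    apply Subtype.ext
    simp only [Subgroup.coe_mul]
    have hxw : ∀ x ∈ X, ∀ l : ℤ, Commute x ((w : G) ^ l) := fun x hx l => Commute.zpow_right (hcomm x hx) l
    have e1 : Commute x₁ x₂ := ThompsonTransitivity.mul_comm_of (A := X) inferInstance hx₁ hx₂
    exact ((e1.mul_right (hxw x₁ hx₁ k)).mul_left
      (((hxw x₂ hx₂ i).symm).mul_right (Commute.zpow_zpow (Commute.refl _) i k))).eq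
  · intro z hz
    obtain ⟨x, hx, v, hv, rfl⟩ := (Cfsg.Lib.Coprime.mem_sup_of_le_normalizer hn).mp hz
    obtain ⟨i, rfl⟩ := hv
    rw [(Commute.zpow_right (hcomm x hx) i : Commute x ((w : G) ^ i)).mul_pow, hXe x hx, one_mul,
      ← zpow_natCast, zpow_comm, zpow_natCast, show (w : G) ^ p = 1 from hF.2 _ hw.1, one_zpow]
  · have hd : X ⊓ zpowers (w : G) = ⊥ := by
      by_contra h0
      have h1 : X ⊓ zpowers (w : G) = X := eq_of_le_of_card_ge inf_le_left (by
        rcases (Nat.dvd_prime hp.out).mp (hX ▸ card_dvd_of_le (inf_le_left : X ⊓ zpowers (w : G) ≤ X))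
          with h | h
        · exact absurd (eq_bot_of_card_eq _ h) h0
        · rw [h, hX])
      have h2 : X = zpowers (w : G) := eq_of_le_of_card_ge (inf_eq_left.mp h1) (by
        rw [hX, Nat.card_zpowers, orderOf_eq_prime (show (w : G) ^ p = 1 from hF.2 _ hw.1) hw1'])
      exact hwX (h2.ge (mem_zpowers _))
    rw [Cfsg.Lib.Coprime.card_sup_of_inf_eq_bot hn hd, hX, Nat.card_zpowers,
      orderOf_eq_prime (show (w : G) ^ p = 1 from hF.2 _ hw.1) hw1', sq]

end Cfsg.Lib.OddLocal.Sigma
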