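import Cfsg.Agent.OddLocal.SigmaComplement
import Cfsg.Agent.OddLocal.RankTwoSigma
import Cfsg.Agent.OddLocal.BetaCore
import Cfsg.Agent.OddLocal.MinSimpleTransitivity
import Cfsg.Agent.Coprime.FrobeniusFixed

/-!
# Preliminaries on maximal elementary abelian subgroups of order `p²` and maximal subgroups
-/

set_option linter.unusedSectionVars false
set_option linter.unusedVariables false
set_option linter.style.haveILetI false

namespace Cfsg.Lib.OddLocal.RankTwoMax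

open Subgroup Uniqueness Sigma
open Cfsg.Lib.Coprime (conjMap)
open scoped commutatorElement

universe u

variable {G : Type u} [Group G] [Finite G] {M : Subgroup G} {p : ℕ} [hp : Fact p.Prime]

theorem isPGroup_of_card {X : Subgroup G} (hX : Nat.card X = p) : IsPGroup p X :=
  IsPGroup.of_card (n := 1) (by rw [hX, pow_one])

theorem isPGroup_zpowers {x : G} (hx : x ^ p = 1) : IsPGroup p (zpowers x) := by
  refine isPGroup_of_pow fun b hb => ?_
  obtain ⟨k, rfl⟩ := mem_zpowers_iff.mp hb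
  rw [← zpow_natCast, zpow_comm, zpow_natCast, hx, one_zpow]

theorem dvd_card_of_isPGroup {X : Subgroup G} (hXp : IsPGroup p X) (hX1 : X ≠ ⊥) : p ∣ Nat.card X := by
  obtain ⟨j, hj⟩ := IsPGroup.iff_card.mp hXp
  refine hj ▸ dvd_pow_self p ?_
  rintro rfl
  exact hX1 (eq_bot_of_card_eq _ (by rw [hj, pow_zero]))

theorem coprime_of_ne {q : ℕ} [hq : Fact q.Prime] (h : p ≠ q) {X : Subgroup G} (hXp : IsPGroup p X) :
    (Nat.card X).Coprime q := by
  obtain ⟨j, hj⟩ := IsPGroup.iff_card.mp hXp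
  rw [hj]
  exact ((Nat.coprime_primes hp.out hq.out).mpr h).pow_left j

theorem coatom_ne_bot (hG : Cfsg.IsMinSimpleOddOrder G) (hM : IsCoatom M) : M ≠ ⊥ := by
  rintro rfl
  haveI := hG.2.1
  obtain ⟨g, hg⟩ := exists_ne (1 : G)
  have h : zpowers g = ⊤ := hM.2 _ (bot_lt_iff_ne_bot.mpr (by simpa using hg))
  refine hG.2.2.1 ⟨⟨fun a b => ?_⟩⟩
  obtain ⟨i, rfl⟩ := mem_zpowers_iff.mp (h.ge (mem_top a) : a ∈ zpowers g)
  obtain ⟨j, rfl⟩ := mem_zpowers_iff.mp (h.ge (mem_top b) : b ∈ zpowers g)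
  exact zpow_mul_comm g i j

theorem normalizer_eq (hG : Cfsg.IsMinSimpleOddOrder G) (hM : IsCoatom M) {T : Subgroup G} (hT1 : T ≠ ⊥)
    (hTM : T ≤ M) (hn : M ≤ normalizer (T : Set G)) : normalizer (T : Set G) = M :=
  FittingUniqueness.normalizer_le_coatom hG hM hT1 (FittingUniqueness.ne_top_of_le_coatom hM hTM) hn

theorem eq_of_conj_fix (hG : Cfsg.IsMinSimpleOddOrder G) (hM : IsCoatom M) {g : G}
    (h : conjMap g M = M) : g ∈ M :=
  (normalizer_eq hG hM (coatom_ne_bot hG hM) le_rfl le_normalizer).le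
    (Cfsg.Lib.Coprime.conjMap_eq_self_iff.mp h)

theorem mem_centralizer_conjMap {X : Subgroup G} {g y : G} :
    y ∈ centralizer (conjMap g X : Set G) ↔ y ∈ conjMap g (centralizer (X : Set G)) := by
  rw [Cfsg.Lib.Coprime.mem_conjMap, mem_centralizer_iff, mem_centralizer_iff]
  constructor
  · intro h x hx
    have h1 := h (g * x * g⁻¹) ⟨x, hx, rfl⟩
    calc x * (g⁻¹ * y * g) = g⁻¹ * (g * x * g⁻¹ * y) * g := by group
      _ = g⁻¹ * (y * (g * x * g⁻¹)) * g := by rw [h1]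
      _ = _ := by group
  · intro h z hz
    have hx : g⁻¹ * z * g ∈ X := Cfsg.Lib.Coprime.mem_conjMap.mp hz
    have h1 := h _ hx
    calc z * y = g * (g⁻¹ * z * g * (g⁻¹ * y * g)) * g⁻¹ := by group
      _ = g * (g⁻¹ * y * g * (g⁻¹ * z * g)) * g⁻¹ := by rw [h1]
      _ = _ := by group

theorem sylow_normalizer_not_le (hσ : p ∉ Cfsg.sigma M) (hpM : p ∣ Nat.card M) {R : Subgroup G}
    (hR : IsSylowOf p R M) : ¬ normalizer (R : Set G) ≤ M := fun h => by
  obtain ⟨S, hS⟩ := hR.exists_sylow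
  exact hσ ⟨hp.out, hpM, S, by rw [hS]; exact h⟩

theorem le_sigmaCore_of_pgroup (hG : Cfsg.IsMinSimpleOddOrder G) (hM : IsCoatom M)
    (hσ : p ∈ Cfsg.sigma M) {T : Subgroup G} (hTp : IsPGroup p T) (hTM : T ≤ M) :
    T ≤ Cfsg.sigmaCore M := by
  obtain ⟨R, hR, hTR⟩ := exists_sylowOf hTp hTM
  obtain ⟨S, rfl⟩ := hR.exists_sylow
  exact hTR.trans (map_mono (sylow_le_sigmaCore hG hM hσ S))

theorem isSylowOf_of_sigmaCore (hG : Cfsg.IsMinSimpleOddOrder G) (hM : IsCoatom M)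
    (hσ : p ∈ Cfsg.sigma M) (S : Sylow p ↥(Cfsg.sigmaCore M)) :
    IsSylowOf p ((S : Subgroup ↥(Cfsg.sigmaCore M)).map (Cfsg.sigmaCore M).subtype) M := by
  refine ⟨(map_subtype_le _).trans (sigmaCore_le M), S.2.map _, fun T hT hTM hle => ?_⟩
  have hTC := le_sigmaCore_of_pgroup hG hM hσ hT hTM
  have h1 : T.subgroupOf (Cfsg.sigmaCore M) = S := S.3 hT.comap_subtype fun x hx =>
    mem_subgroupOf.mpr (hle (mem_map_of_mem _ hx))
  rw [← h1, map_subgroupOf_eq_of_le hTC]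

theorem not_alpha_of_alphaCore_eq_bot (hG : Cfsg.IsMinSimpleOddOrder G) (hM : IsCoatom M)
    (h : Cfsg.alphaCore M = ⊥) : p ∉ Cfsg.alpha M := by
  intro hα
  obtain ⟨S⟩ : Nonempty (Sylow p M) := inferInstance
  refine S.ne_bot_of_dvd_card (dvd_card_of_alpha hα) ?_
  have h1 := (map_mono (f := M.subtype) (sylow_le_alphaCore hG hM hα S)).trans h.le
  rwa [le_bot_iff, map_eq_bot_iff_of_injective _ M.subtype_injective] at h1

theorem rankLE_two_of_alphaCore_eq_bot (hG : Cfsg.IsMinSimpleOddOrder G) (hM : IsCoatom M)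
    (h : Cfsg.alphaCore M = ⊥) : Cfsg.RankLE 2 M := fun q hq => by
  haveI := Fact.mk hq
  by_contra hc
  exact not_alpha_of_alphaCore_eq_bot hG hM h ⟨hq, hc⟩

theorem derived_nilpotent_of_alphaCore_eq_bot (hG : Cfsg.IsMinSimpleOddOrder G) (hM : IsCoatom M)
    (h : Cfsg.alphaCore M = ⊥) : Group.IsNilpotent ↥⁅M, M⁆ := by
  haveI := hG.2.2.2 M hM.1
  obtain ⟨hnil, -⟩ := Cfsg.Agent.S1451.result (hG.1.of_dvd_nat (card_subgroup_dvd_card M))
    (Or.inl (rankLE_two_of_alphaCore_eq_bot hG hM h))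
  haveI := hnil
  rw [← map_subtype_commutator M]
  exact Group.nilpotent_of_mulEquiv ((commutator M).equivMapOfInjective _ M.subtype_injective)

theorem sigmaCore_ne_bot (hG : Cfsg.IsMinSimpleOddOrder G) (hM : IsCoatom M) :
    Cfsg.sigmaCore M ≠ ⊥ := by
  by_cases hα : Cfsg.alphaCore M = ⊥
  swap
  · exact fun h => hα (le_bot_iff.mp (h ▸ alphaCore_le_sigmaCore hG hM))
  intro h0
  haveI := hG.2.2.2 M hM.1
  have hne : (Nat.card M).primeFactors.Nonempty := Nat.nonempty_primeFactors.mpr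
    ((one_lt_card_iff_ne_bot M).mpr (coatom_ne_bot hG hM))
  set r := (Nat.card M).primeFactors.max' hne
  obtain ⟨hr, hrM, -⟩ := Nat.mem_primeFactors.mp ((Nat.card M).primeFactors.max'_mem hne)
  haveI := Fact.mk hr
  obtain ⟨N, hNc, hN⟩ := (Cfsg.Agent.S1451.result (hG.1.of_dvd_nat (card_subgroup_dvd_card M))
    (Or.inl (rankLE_two_of_alphaCore_eq_bot hG hM hα))).2.2 (r - 1)
  have hNr : IsPGroup r N := Transitivity.isPGroup_of_primes fun q hq hqd => by
    have h1 := (hN.1 q hq hqd).2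
    have h2 := (Nat.card M).primeFactors.le_max' q
      (Nat.mem_primeFactors.mpr ⟨hq, hqd.trans (card_subgroup_dvd_card N), Nat.card_pos.ne'⟩)
    exact Set.mem_singleton_iff.mpr (show q = r by omega)
  obtain ⟨S, hS⟩ := hNr.exists_le_sylow
  have hdvd : Nat.card (S : Subgroup M) ∣ Nat.card N := by
    obtain ⟨j, hj⟩ := IsPGroup.iff_card.mp S.2
    refine (Nat.Coprime.dvd_of_dvd_mul_right ?_ ((card_subgroup_dvd_card (S : Subgroup M)).trans
      (dvd_of_eq N.card_mul_index.symm)))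
    rw [hj]
    exact (hr.coprime_iff_not_dvd.mpr (hN.2 r hr ⟨hr, by have := hr.one_lt; omega⟩)).pow_left j
  have hSN : N = (S : Subgroup M) := eq_of_le_of_card_ge hS (Nat.le_of_dvd Nat.card_pos hdvd)
  haveI := hNc
  set T := (S : Subgroup M).map M.subtype
  have hT1 : T ≠ ⊥ := fun h => S.ne_bot_of_dvd_card hrM
    ((map_eq_bot_iff_of_injective _ M.subtype_injective).mp h)
  have hTn : M ≤ normalizer (T : Set G) := by
    haveI : (S : Subgroup M).Normal := hSN ▸ inferInstance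
    intro x hx
    exact le_normalizer_map M.subtype ⟨⟨x, hx⟩, by rw [normalizer_eq_top]; exact mem_top _, rfl⟩
  have hσ : r ∈ Cfsg.sigma M := ⟨hr, hrM, S, (normalizer_eq hG hM hT1 (map_subtype_le _) hTn).le⟩
  exact hT1 (le_bot_iff.mp (h0 ▸ le_sigmaCore_of_pgroup hG hM hσ (S.2.map _) (map_subtype_le _)))

/-- In a derived subgroup, a `q`-group is centralized by `q'`-groups normalizing it. -/
theorem centralizes_of_derived (hG : Cfsg.IsMinSimpleOddOrder G) (hM : IsCoatom M) {q : ℕ}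
    [hq : Fact q.Prime] (hβ : q ∉ Cfsg.beta M) {X Y : Subgroup G} (hX : X ≤ ⁅M, M⁆) (hY : Y ≤ ⁅M, M⁆)
    (hXq : IsPGroup q X) (hYq : (Nat.card Y).Coprime q) (hn : Y ≤ normalizer (X : Set G)) :
    Y ≤ centralizer (X : Set G) := by
  by_cases hX1 : X = ⊥
  · intro y _
    rw [hX1]
    refine mem_centralizer_iff.mpr fun x hx => ?_
    rw [mem_bot.mp (hx : x ∈ (⊥ : Subgroup G)), one_mul, mul_one]
  have hqM : q ∣ Nat.card M :=
    (dvd_card_of_isPGroup hXq hX1).trans (card_dvd_of_le (hX.trans (commutator_le_self M)))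
  set W := X ⊔ Y
  have hpn : PNil q W := pnil_of_le_derived hG hM hqM hβ (sup_le hX hY)
  intro y hy
  refine mem_centralizer_iff.mpr fun x hx => ?_
  have hyo : (orderOf (⟨y, mem_sup_right hy⟩ : W)).Coprime q := by
    rw [← orderOf_coe]
    exact hYq.coprime_dvd_left (by rw [← Nat.card_zpowers]; exact card_dvd_of_le (zpowers_le.mpr hy))
  have hy' := hpn _ hyo
  set x' : W := ⟨x, mem_sup_left hx⟩
  set y' : W := ⟨y, mem_sup_right hy⟩
  have h1 : x' * y' * x'⁻¹ * y'⁻¹ ∈ Cfsg.pPrimeCore q W :=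
    mul_mem ((inferInstance : (Cfsg.pPrimeCore q W).Normal).conj_mem _ hy' x') (inv_mem hy')
  have h2 : ((x' * y' * x'⁻¹ * y'⁻¹ : W) : G) ∈ X := by
    simp only [Subgroup.coe_mul, InvMemClass.coe_inv, x', y', mul_assoc]
    refine mul_mem hx ?_
    rw [← mul_assoc]
    exact (mem_normalizer_iff.mp (hn hy) _).mp (inv_mem hx)
  have h3 : ((x' * y' * x'⁻¹ * y'⁻¹ : W) : G) ∈ (Cfsg.pPrimeCore q W).map W.subtype := mem_map_of_mem _ h1
  have hcop : (Nat.card X).Coprime (Nat.card ((Cfsg.pPrimeCore q W).map W.subtype)) := by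
    obtain ⟨j, hj⟩ := IsPGroup.iff_card.mp hXq
    rw [card_map_of_injective W.subtype_injective, hj]
    exact ((Cfsg.Lib.Components.coprime_card_pPrimeCore (G := W) q).symm).pow_left j
  have h4 := Cfsg.Lib.Coprime.eq_one_of_coprime hcop h2 h3
  simp only [Subgroup.coe_mul, InvMemClass.coe_inv, x', y'] at h4
  exact mul_inv_eq_iff_eq_mul.mp (mul_inv_eq_one.mp h4)

theorem sylow_le_derived' (hG : Cfsg.IsMinSimpleOddOrder G) (hM : IsCoatom M) (hσ : p ∈ Cfsg.sigma M)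
    {T : Subgroup G} (hTp : IsPGroup p T) (hTM : T ≤ M) : T ≤ ⁅M, M⁆ := by
  obtain ⟨R, hR, hTR⟩ := exists_sylowOf hTp hTM
  exact hTR.trans (sylow_le_derived hG hM hσ hR)

/-- An elementary abelian subgroup of order `p²` contained in no larger one. -/
structure MaxSq (p : ℕ) (A : Subgroup G) : Prop where
  ea : Cfsg.IsElementaryAbelian p A
  card : Nat.card A = p ^ 2
  max : ∀ B : Subgroup G, Cfsg.IsElementaryAbelian p B → A ≤ B → B = A

namespace MaxSq

variable {A : Subgroup G}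

theorem isPGroup (h : MaxSq p A) : IsPGroup p A := isPGroup_of_pow h.ea.2

theorem ne_bot (h : MaxSq p A) : A ≠ ⊥ := fun h0 => by
  have h1 := h.card
  rw [h0, Subgroup.card_bot] at h1
  exact (Nat.one_lt_pow two_ne_zero hp.out.one_lt).ne h1

theorem dvd (h : MaxSq p A) {X : Subgroup G} (hAX : A ≤ X) : p ∣ Nat.card X :=
  (dvd_card_of_isPGroup h.isPGroup h.ne_bot).trans (card_dvd_of_le hAX)

theorem comm_of_mem (h : MaxSq p A) {a b : G} (ha : a ∈ A) (hb : b ∈ A) : a * b = b * a :=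
  ThompsonTransitivity.mul_comm_of h.ea.1 ha hb

theorem le_centralizer (h : MaxSq p A) : A ≤ centralizer (A : Set G) := fun a ha =>
  mem_centralizer_iff.mpr fun b hb => h.comm_of_mem hb ha

theorem not_isCyclic (h : MaxSq p A) : ¬ IsCyclic A := not_isCyclic_of_card h.ea.2 h.card.ge

theorem mem_of_commute (h : MaxSq p A) {x : G} (hx : x ∈ centralizer (A : Set G)) (hxp : x ^ p = 1) :
    x ∈ A := by
  have hn : zpowers x ≤ normalizer (A : Set G) := zpowers_le.mpr (centralizer_le_normalizer _ hx)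
  have hB : Cfsg.IsElementaryAbelian p (A ⊔ zpowers x : Subgroup G) := by
    refine ⟨⟨⟨?_⟩⟩, ?_⟩
    · rintro ⟨_, h₁⟩ ⟨_, h₂⟩
      obtain ⟨a₁, ha₁, w₁, hw₁, rfl⟩ := (Cfsg.Lib.Coprime.mem_sup_of_le_normalizer hn).mp h₁
      obtain ⟨a₂, ha₂, w₂, hw₂, rfl⟩ := (Cfsg.Lib.Coprime.mem_sup_of_le_normalizer hn).mp h₂
      obtain ⟨i, rfl⟩ := hw₁
      obtain ⟨k, rfl⟩ := hw₂
      apply Subtype.ext
      simp only [Subgroup.coe_mul]
      have hxw : ∀ a ∈ A, ∀ l : ℤ, Commute a (x ^ l) := fun a ha l =>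
        Commute.zpow_right (mem_centralizer_iff.mp hx a ha) l
      exact (((show Commute a₁ a₂ from h.comm_of_mem ha₁ ha₂).mul_right (hxw a₁ ha₁ k)).mul_left
        (((hxw a₂ ha₂ i).symm).mul_right (Commute.zpow_zpow (Commute.refl _) i k))).eq
    · intro z hz
      obtain ⟨a, ha, v, ⟨i, rfl⟩, rfl⟩ := (Cfsg.Lib.Coprime.mem_sup_of_le_normalizer hn).mp hz
      rw [(Commute.zpow_right (mem_centralizer_iff.mp hx a ha) i : Commute a (x ^ i)).mul_pow,
        h.ea.2 a ha, one_mul, ← zpow_natCast, zpow_comm, zpow_natCast, hxp, one_zpow]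
  exact (h.max _ hB le_sup_left).le (mem_sup_right (mem_zpowers x))

theorem not_ideal (h : MaxSq p A) : ¬ Cfsg.IsIdealPrime p G := by
  intro hI
  obtain ⟨S, hS⟩ := h.isPGroup.exists_le_sylow
  obtain ⟨B, -, hB, hAB⟩ := hI.2.2 S A hS h.ea h.card
  exact hAB.ne (h.max B hB hAB.le).symm

theorem not_beta (h : MaxSq p A) (L : Subgroup G) : p ∉ Cfsg.beta L := fun hb => h.not_ideal hb.2

theorem transitivity (hG : Cfsg.IsMinSimpleOddOrder G) (h : MaxSq p A) :
    Cfsg.TransitivityHypothesis A :=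
  MinSimpleTransitivity.hypothesis_of_abelian hG ((h.dvd le_rfl).trans (card_subgroup_dvd_card A))
    h.isPGroup h.ea.1 (Or.inl ⟨fun x hx => ⟨h.mem_of_commute hx, h.ea.2 x⟩,
      fun _ hH => pLength_proper hG p hH⟩)

theorem not_dvd_card (h : MaxSq p A) {q : ℕ} (hq : q.Prime) (hqp : q ≠ p) : ¬ q ∣ Nat.card A :=
  fun hd => hqp ((Nat.prime_dvd_prime_iff_eq hq hp.out).mp (hq.dvd_of_dvd_pow (h.card ▸ hd)))

theorem transitive (hG : Cfsg.IsMinSimpleOddOrder G) (h : MaxSq p A) {q : ℕ} [hq : Fact q.Prime]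
    (hqp : q ≠ p) (hqC : q ∣ Nat.card (centralizer (A : Set G))) :
    ∀ Q₁ ∈ Cfsg.maxInvSubgroups ⊤ A {q}, ∀ Q₂ ∈ Cfsg.maxInvSubgroups ⊤ A {q},
      Transitivity.ConjUnder (MinSimpleTransitivity.K A) Q₁ Q₂ :=
  MinSimpleTransitivity.transitive_rank_two hG (h.transitivity hG)
    (FittingUniqueness.not_rankLE hp.out h.ea (by rw [h.card]) (le_inf le_rfl h.le_centralizer))
    (h.not_dvd_card hq.out hqp) hqC

theorem of_not_sigma (hG : Cfsg.IsMinSimpleOddOrder G) (hM : IsCoatom M) (hσ : p ∉ Cfsg.sigma M)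
    (hAM : A ≤ M) (hA : Cfsg.IsElementaryAbelian p A) (hAc : Nat.card A = p ^ 2) : MaxSq p A :=
  ⟨hA, hAc, fun _ hB hAB => maximal_of_rank_two hG hM (pRankLE_of_not_sigma hG hM hσ) hAM hA hAc hB hAB⟩

end MaxSq

/-- An element of ideal prime order in a maximal subgroup determines it by its centralizer. -/
theorem unique_centralizer_of_ideal (hG : Cfsg.IsMinSimpleOddOrder G) (hM : IsCoatom M) {q : ℕ}
    [hq : Fact q.Prime] (hI : Cfsg.IsIdealPrime q G) (hσ : q ∈ Cfsg.sigma M) {x : G} (hxM : x ∈ M)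
    (hx : orderOf x = q) :
    centralizer ({x} : Set G) ≤ M ∧
      ∀ L : Subgroup G, IsCoatom L → centralizer ({x} : Set G) ≤ L → L = M := by
  have hxq : x ^ q = 1 := hx ▸ pow_orderOf_eq_one x
  have hx1 : x ≠ 1 := fun h => hq.out.ne_one (by rw [← hx, h, orderOf_one])
  obtain ⟨R, hR, hxR⟩ := exists_sylowOf (M := M) (isPGroup_zpowers hxq) (zpowers_le.mpr hxM)
  obtain ⟨P, hRP⟩ := hR.2.1.exists_le_sylow
  have hPR := sylow_max hσ hR P.2 hRP
  have hxP : x ∈ (P : Subgroup G) := hRP (hxR (mem_zpowers x))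
  -- an element commuting with `x` outside its span
  obtain ⟨w, hw, hwq, hwx, hwn⟩ : ∃ w ∈ (P : Subgroup G), w ^ q = 1 ∧ x * w = w * x ∧ w ∉ zpowers x := by
    by_contra hall
    push Not at hall
    have hnr : ¬ Cfsg.PRankLE q 2 (P : Subgroup G) := by
      intro hr
      refine hI.2.1 fun B hBc hBp => ?_
      obtain ⟨T, hT⟩ := (isPGroup_of_pow hBp : IsPGroup q B).exists_le_sylow
      have h1 := Cfsg.Lib.OddP.pRankLE_of_injective (Sylow.equiv T P).toMonoidHom (MulEquiv.injective _) hr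
        (B.subgroupOf (T : Subgroup G))
        ⟨⟨fun a b => Subtype.ext (Subtype.ext (ThompsonTransitivity.mul_comm_of hBc a.2 b.2))⟩⟩
        (fun a ha => Subtype.ext (by simpa using hBp a ha))
      rwa [Nat.card_congr (subgroupOfEquivOfLe hT).toEquiv] at h1
    obtain ⟨E, hEP, hE, hEc⟩ := exists_elementary hnr
    haveI : Nontrivial ↥(P : Subgroup G) := ⟨⟨⟨x, hxP⟩, 1, fun h => hx1 (congrArg Subtype.val h)⟩⟩
    have := P.2.center_nontrivial
    obtain ⟨⟨c, hc⟩, hc1⟩ := exists_ne (1 : center ↥(P : Subgroup G))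
    obtain ⟨j, hj⟩ := (P.2.to_subgroup (center _)) ⟨c, hc⟩
    -- a central element of order `q` lies in `⟨x⟩`
    obtain ⟨z, hz, hzo⟩ : ∃ z : center ↥(P : Subgroup G), z ≠ 1 ∧ z ^ q = 1 := by
      obtain ⟨z, hz⟩ := exists_prime_orderOf_dvd_card' q
        (show q ∣ Nat.card (center ↥(P : Subgroup G)) by
          obtain ⟨i, hi⟩ := IsPGroup.iff_card.mp (P.2.to_subgroup (center _))
          rw [hi]
          refine dvd_pow_self q ?_
          rintro rfl
          exact absurd hi (by simpa using (Finite.one_lt_card (α := center ↥(P : Subgroup G))).ne'))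
      exact ⟨z, fun h => hq.out.ne_one (by rw [← hz, h, orderOf_one]), orderOf_dvd_iff_pow_eq_one.mp hz.dvd⟩
    set z' : G := ((z : ↥(P : Subgroup G)) : G)
    have hzc : ∀ v ∈ (P : Subgroup G), v * z' = z' * v := fun v hv =>
      congrArg Subtype.val (mem_center_iff.mp z.2 ⟨v, hv⟩)
    have hz1 : z' ≠ 1 := fun h => hz (Subtype.ext (Subtype.ext h))
    have hz' : z' ∈ zpowers x := hall z' z.1.2 (by
      have := congrArg (fun t : center ↥(P : Subgroup G) => ((t : ↥(P : Subgroup G)) : G)) hzo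
      simpa [z'] using this) (hzc x hxP)
    have hxz : zpowers z' = zpowers x := eq_of_le_of_card_ge (zpowers_le.mpr hz') (by
      rw [Nat.card_zpowers, Nat.card_zpowers, hx, orderOf_eq_prime (p := q) (by
        have := congrArg (fun t : center ↥(P : Subgroup G) => ((t : ↥(P : Subgroup G)) : G)) hzo
        simpa [z'] using this) hz1])
    have hxc : ∀ v ∈ (P : Subgroup G), x * v = v * x := fun v hv => by
      obtain ⟨i, hi⟩ := mem_zpowers_iff.mp (hxz.ge (mem_zpowers x))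
      rw [← hi]
      exact ((show Commute v z' from hzc v hv).zpow_right i).eq.symm
    have hle : E ≤ zpowers x := fun e he => hall e (hEP he) (hE.2 e he) (hxc e (hEP he))
    have h2 := Nat.le_of_dvd Nat.card_pos (card_dvd_of_le hle)
    rw [Nat.card_zpowers, hx] at h2
    exact absurd (hEc.trans h2) (not_le.mpr (lt_self_pow₀ hq.out.one_lt (by norm_num)))
  set B₀ := zpowers x ⊔ zpowers w with hB₀
  have hn : zpowers w ≤ normalizer (zpowers x : Set G) := zpowers_le.mpr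
    (centralizer_le_normalizer _ (by
      rw [Cfsg.Lib.Coprime.centralizer_zpowers]
      exact mem_centralizer_singleton_iff.mpr hwx.symm))
  have hB₀e : Cfsg.IsElementaryAbelian q B₀ := by
    refine ⟨⟨⟨?_⟩⟩, ?_⟩
    · rintro ⟨_, h₁⟩ ⟨_, h₂⟩
      obtain ⟨_, ⟨i, rfl⟩, _, ⟨k, rfl⟩, rfl⟩ := (Cfsg.Lib.Coprime.mem_sup_of_le_normalizer hn).mp h₁
      obtain ⟨_, ⟨i', rfl⟩, _, ⟨k', rfl⟩, rfl⟩ := (Cfsg.Lib.Coprime.mem_sup_of_le_normalizer hn).mp h₂
      apply Subtype.ext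
      simp only [Subgroup.coe_mul]
      have hc : Commute x w := hwx
      exact ((((Commute.refl x).zpow_zpow i i').mul_right (hc.zpow_zpow i k')).mul_left
        ((hc.symm.zpow_zpow k i').mul_right ((Commute.refl w).zpow_zpow k k'))).eq
    · intro z hz
      obtain ⟨_, ⟨i, rfl⟩, _, ⟨k, rfl⟩, rfl⟩ := (Cfsg.Lib.Coprime.mem_sup_of_le_normalizer hn).mp hz
      rw [((show Commute x w from hwx).zpow_zpow i k).mul_pow, ← zpow_natCast, zpow_comm, zpow_natCast, hxq,
        one_zpow, ← zpow_natCast, zpow_comm, zpow_natCast, hwq, one_zpow, one_mul]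
  have hd : zpowers x ⊓ zpowers w = ⊥ := by
    by_contra h0
    have hwo : orderOf w = q := orderOf_eq_prime hwq fun h => hwn (h ▸ one_mem _)
    have h1 : zpowers x ⊓ zpowers w = zpowers w := eq_of_le_of_card_ge inf_le_right (by
      rcases (Nat.dvd_prime hq.out).mp (show Nat.card ↥(zpowers x ⊓ zpowers w) ∣ q from
        hwo ▸ Nat.card_zpowers w ▸ card_dvd_of_le inf_le_right) with h | h
      · exact absurd (eq_bot_of_card_eq _ h) h0
      · rw [h, Nat.card_zpowers, hwo])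
    exact hwn ((h1.ge.trans inf_le_left) (mem_zpowers w))
  have hB₀c : Nat.card B₀ = q ^ 2 := by
    rw [Cfsg.Lib.Coprime.card_sup_of_inf_eq_bot hn hd, Nat.card_zpowers, Nat.card_zpowers, hx,
      orderOf_eq_prime hwq fun h => hwn (h ▸ one_mem _), sq]
  obtain ⟨E, hEP, hE, hlt⟩ := hI.2.2 P B₀ (sup_le (zpowers_le.mpr hxP) (zpowers_le.mpr hw)) hB₀e hB₀c
  have hE3 : q ^ 3 ≤ Nat.card E := by
    obtain ⟨j, hj⟩ := IsPGroup.iff_card.mp (isPGroup_of_pow hE.2 : IsPGroup q E)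
    have h1 : Nat.card B₀ < Nat.card E := lt_of_le_of_ne (Nat.le_of_dvd Nat.card_pos (card_dvd_of_le hlt.le))
      fun h => hlt.ne (eq_of_le_of_card_ge hlt.le h.ge)
    rw [hB₀c, hj] at h1
    rw [hj]
    exact Nat.pow_le_pow_right hq.out.pos ((Nat.pow_lt_pow_iff_right hq.out.one_lt).mp h1)
  have hU := ScnUniqueness.unique_of_abelian hG hE hE3
  have hEC : E ≤ centralizer ({x} : Set G) := fun e he => mem_centralizer_singleton_iff.mpr
    (ThompsonTransitivity.mul_comm_of hE.1 he (hlt.le (mem_sup_left (mem_zpowers x))))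
  have hEM : E ≤ M := hEP.trans (hPR.le.trans hR.1)
  have hCM := le_of_unique hU hM hEM (MinSimpleTransitivity.centralizer_singleton_ne_top hG hx1) hEC
  refine ⟨hCM, fun L hL hCL => ?_⟩
  obtain ⟨M₀, -, hu⟩ := hU
  rw [hu L ⟨hL, hEC.trans hCL⟩, hu M ⟨hM, hEM⟩]

/-- A `q`-element of two maximal subgroups, with `q` in `β` of one and `σ` of the other. -/
theorem eq_of_beta (hG : Cfsg.IsMinSimpleOddOrder G) {L : Subgroup G} (hM : IsCoatom M) (hL : IsCoatom L)
    {q : ℕ} [hq : Fact q.Prime] (hσ : q ∈ Cfsg.sigma M) (hβ : q ∈ Cfsg.beta L) {R : Subgroup G}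
    (hRq : IsPGroup q R) (hR1 : R ≠ ⊥) (hRM : R ≤ M) (hRL : R ≤ L) : M = L := by
  obtain ⟨x, hx, hxo⟩ := ScnUniqueness.exists_orderOf hRq hR1
  have h1 := unique_centralizer_of_ideal hG hM hβ.2 hσ (hRM hx) hxo
  have h2 := unique_centralizer_of_ideal hG hL hβ.2 (alpha_subset_sigma hG hL hβ.1) (hRL hx) hxo
  exact h2.2 M hM h1.1

/-- A kernel acts trivially when its complement acts fixed point freely. -/
theorem le_centralizer_of_fpf {U K : Subgroup G} {a : G} (ha : orderOf a = p)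
    (hKs : Group.IsSolvable K) (haU : zpowers a ≤ normalizer (U : Set G))
    (hUK : U ≤ normalizer (K : Set G)) (haK : zpowers a ≤ normalizer (K : Set G))
    (hUp : (Nat.card U).Coprime p) (hKp : (Nat.card K).Coprime p)
    (hKU : (Nat.card K).Coprime (Nat.card U))
    (hU : U ⊓ centralizer ({a} : Set G) = ⊥) (hK : K ⊓ centralizer ({a} : Set G) = ⊥) :
    U ≤ centralizer (K : Set G) := by
  have hd : U ⊓ zpowers a = ⊥ := Cfsg.Lib.Coprime.inf_eq_bot_of_coprime (by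
    rw [Nat.card_zpowers, ha]; exact hUp)
  have hfpf : ∀ e ∈ zpowers a, e ≠ 1 → ∀ u ∈ U, e * u = u * e → u = 1 := by
    intro e he he1 u hu heu
    have hze : zpowers e = zpowers a := eq_of_le_of_card_ge (zpowers_le.mpr he) (by
      rw [Nat.card_zpowers, Nat.card_zpowers, ha]
      rcases (Nat.dvd_prime hp.out).mp (ha ▸ Nat.card_zpowers a ▸ Nat.card_zpowers e ▸
        card_dvd_of_le (zpowers_le.mpr he) : orderOf e ∣ p) with h | h
      · exact absurd (orderOf_eq_one_iff.mp h) he1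
      · exact h.ge)
    have hua : u ∈ centralizer ({a} : Set G) := by
      rw [← Cfsg.Lib.Coprime.centralizer_zpowers, ← hze, Cfsg.Lib.Coprime.centralizer_zpowers]
      exact mem_centralizer_singleton_iff.mpr heu.symm
    exact mem_bot.mp (hU.le ⟨hu, hua⟩)
  have hcardUE : Nat.card ↥(U ⊔ zpowers a) = Nat.card U * p := by
    rw [Cfsg.Lib.Coprime.card_sup_of_inf_eq_bot haU hd, Nat.card_zpowers, ha]
  have h := Cfsg.Lib.FixedDim.frobenius_fixed_solvable U (zpowers a) hd haU hfpf (Nat.card K) K le_rfl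
    (sup_le hUK haK) hKs (by rw [hcardUE]; exact hKU.mul_right hKp)
  have hKE : K ⊓ centralizer (zpowers a : Set G) = ⊥ := by
    rw [Cfsg.Lib.Coprime.centralizer_zpowers, hK]
  have hKUE : K ⊓ centralizer ((U ⊔ zpowers a : Subgroup G) : Set G) = ⊥ :=
    le_bot_iff.mp ((inf_le_inf_left K (centralizer_le (le_sup_right : zpowers a ≤ U ⊔ zpowers a))).trans
      hKE.le)
  rw [hKE, hKUE, Subgroup.card_bot, one_pow, one_mul, one_mul] at h
  have h2 : K ⊓ centralizer (U : Set G) = K := eq_of_le_of_card_ge inf_le_left h.le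
  exact le_centralizer_iff.mp (inf_eq_left.mp h2)

/-- A nontrivial normal `q`-subgroup, `q ∉ σ(M)`, gives a normal subgroup of order `q`. -/
theorem exists_normal_line (hG : Cfsg.IsMinSimpleOddOrder G) (hM : IsCoatom M) {q : ℕ} [hq : Fact q.Prime]
    (hσ : q ∉ Cfsg.sigma M) {T : Subgroup G} (hTq : IsPGroup q T) (hT1 : T ≠ ⊥) (hTM : T ≤ M)
    (hTn : M ≤ normalizer (T : Set G)) :
    ∃ X : Subgroup G, X ≤ M ∧ Nat.card X = q ∧ M ≤ normalizer (X : Set G) := by
  haveI := hG.2.2.2 M hM.1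
  have hqM : q ∣ Nat.card M := (dvd_card_of_isPGroup hTq hT1).trans (card_dvd_of_le hTM)
  set Z := T ⊓ centralizer (T : Set G) with hZ
  have hZc : ∀ a ∈ Z, ∀ b ∈ Z, Commute a b := fun a ha b hb =>
    (mem_centralizer_iff.mp hb.2 a ha.1 : a * b = b * a)
  let B₀ : Subgroup G :=
    { carrier := {x | x ∈ Z ∧ x ^ q = 1}
      one_mem' := ⟨one_mem _, one_pow _⟩
      mul_mem' := fun {a b} ha hb => ⟨mul_mem ha.1 hb.1, by
        rw [(hZc a ha.1 b hb.1).mul_pow, ha.2, hb.2, one_mul]⟩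
      inv_mem' := fun {a} ha => ⟨inv_mem ha.1, by rw [inv_pow, ha.2, inv_one]⟩ }
  have hB₀e : Cfsg.IsElementaryAbelian q B₀ :=
    ⟨⟨⟨fun a b => Subtype.ext (hZc a a.2.1 b b.2.1)⟩⟩, fun a ha => ha.2⟩
  have hB₀M : B₀ ≤ M := fun x hx => hTM hx.1.1
  have hB₀n : M ≤ normalizer (B₀ : Set G) := by
    intro m hm
    have hZn : m ∈ normalizer (Z : Set G) :=
      Cfsg.Lib.Coprime.le_normalizer_inf (le_refl (normalizer (T : Set G)))
        (FittingParts.normalizer_centralizer_le T) (hTn hm)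
    refine Cfsg.Lib.Coprime.mem_normalizer_of_conj_mem (fun x hx => ?_) (fun x hx => ?_)
    · exact ⟨(mem_normalizer_iff.mp hZn x).mp hx.1, by rw [conj_pow, hx.2, mul_one, mul_inv_cancel]⟩
    · refine ⟨(mem_normalizer_iff''.mp hZn x).mp hx.1, ?_⟩
      calc (m⁻¹ * x * m) ^ q = (m⁻¹ * x * (m⁻¹)⁻¹) ^ q := by rw [inv_inv]
        _ = 1 := by rw [conj_pow, hx.2, mul_one, mul_inv_cancel]
  obtain ⟨z, hz, hzo⟩ : ∃ z ∈ Z, orderOf z = q := by
    haveI : Nontrivial T := (nontrivial_iff_ne_bot _).mpr hT1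
    refine ScnUniqueness.exists_orderOf (hTq.to_le inf_le_left) fun h0 => ?_
    have := hTq.center_nontrivial
    obtain ⟨⟨c, hc⟩, hc1⟩ := exists_ne (1 : center T)
    refine hc1 (Subtype.ext (Subtype.ext (mem_bot.mp (h0.le (show (c : G) ∈ Z from
      ⟨c.2, mem_centralizer_iff.mpr fun b hb => congrArg Subtype.val (mem_center_iff.mp hc ⟨b, hb⟩)⟩)))))
  have hzB : z ∈ B₀ := ⟨hz, hzo ▸ pow_orderOf_eq_one z⟩
  have hqB : q ∣ Nat.card B₀ := hzo ▸ Nat.card_zpowers z ▸ card_dvd_of_le (zpowers_le.mpr hzB)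
  have hle2 : Nat.card B₀ ≤ q ^ 2 := by
    have h := pRankLE_of_not_sigma hG hM hσ (B₀.subgroupOf M)
      ⟨⟨fun a b => Subtype.ext (Subtype.ext (hZc a a.2.1 b b.2.1))⟩⟩
      (fun a ha => Subtype.ext (by simpa using hB₀e.2 a ha))
    rwa [Nat.card_congr (subgroupOfEquivOfLe hB₀M).toEquiv] at h
  obtain ⟨j, hj⟩ := IsPGroup.iff_card.mp (isPGroup_of_pow hB₀e.2 : IsPGroup q B₀)
  have hj2 : j ≤ 2 := by rw [hj] at hle2; exact (Nat.pow_le_pow_iff_right hq.out.one_lt).mp hle2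
  rcases (show j = 0 ∨ j = 1 ∨ j = 2 by omega) with rfl | rfl | rfl
  · rw [hj, pow_zero] at hqB
    exact absurd hqB hq.out.not_dvd_one
  · exact ⟨B₀, hB₀M, by rw [hj, pow_one], hB₀n⟩
  have hB₀max := MaxSq.of_not_sigma hG hM hσ hB₀M hB₀e hj
  obtain ⟨R, hR, hTR⟩ := exists_sylowOf hTq hTM
  have hB₀R : B₀ ≤ R := fun x hx => hTR hx.1.1
  have hR1 : R ≠ ⊥ := fun h => hB₀max.ne_bot (le_bot_iff.mp (h ▸ hB₀R))
  have hnot := sylow_normalizer_not_le hσ hqM hR
  by_cases hcen : R ≤ centralizer (B₀ : Set G)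
  · refine absurd (fun g hg => (normalizer_eq hG hM hB₀max.ne_bot hB₀M hB₀n).le ?_) hnot
    refine Cfsg.Lib.Coprime.conjMap_eq_self_iff.mp
      (Cfsg.Lib.Coprime.eq_of_le_of_card_eq ?_ (Cfsg.Lib.Coprime.card_conjMap _ _))
    rintro _ ⟨x, hx, rfl⟩
    exact hB₀max.mem_of_commute (hcen ((mem_normalizer_iff.mp hg x).mp (hB₀R hx))) (by
      simp [hx.2])
  set L := B₀ ⊓ centralizer (R : Set G) with hL
  have hLlt : L ≠ B₀ := fun h => hcen (le_centralizer_iff.mp (inf_eq_left.mp h))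
  have hL1 : L ≠ ⊥ := by
    haveI : Group.IsNilpotent R := hR.2.1.isNilpotent
    haveI : (B₀.subgroupOf R).Normal :=
      normal_subgroupOf_of_le_normalizer (hR.1.trans hB₀n)
    intro h0
    refine Cfsg.Lib.Coprime.inf_center_ne_bot (B₀.subgroupOf R) (fun h => ?_) ((eq_bot_iff_forall _).mpr
      fun w hw => Subtype.ext (mem_bot.mp (h0.le (show (w : G) ∈ L from ⟨hw.1, mem_centralizer_iff.mpr
        fun r hr => congrArg Subtype.val (mem_center_iff.mp hw.2 ⟨r, hr⟩)⟩))))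
    have h1 := Nat.card_congr (subgroupOfEquivOfLe hB₀R).toEquiv
    rw [h, Subgroup.card_bot, hj] at h1
    exact (Nat.one_lt_pow two_ne_zero hq.out.one_lt).ne h1
  have hLc : Nat.card L = q := by
    obtain ⟨i, hi, hic⟩ := (Nat.dvd_prime_pow hq.out).mp (hj ▸ card_dvd_of_le (inf_le_left : L ≤ B₀))
    rcases (show i = 0 ∨ i = 1 ∨ i = 2 by omega) with rfl | rfl | rfl
    · exact absurd (eq_bot_of_card_eq _ (by rw [hic, pow_zero])) hL1
    · rw [hic, pow_one]
    · exact absurd (Cfsg.Lib.Coprime.eq_of_le_of_card_eq inf_le_left (hic.trans hj.symm)) hLlt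
  refine ⟨L, inf_le_left.trans hB₀M, hLc, ?_⟩
  have hrR : Cfsg.PRankLE q 2 R :=
    Cfsg.Lib.OddP.pRankLE_of_injective (inclusion hR.1) (inclusion_injective _) (pRankLE_of_not_sigma hG hM hσ)
  refine (hR.factor_rank_two (hG.1.of_dvd_nat (card_subgroup_dvd_card M)) hrR).trans (sup_le ?_ ?_)
  · refine le_trans ?_ (centralizer_le_normalizer _)
    refine le_trans ?_ (centralizer_le inf_le_left)
    refine FittingParts.le_centralizer_of_disjoint ((PiCoreOf.le _ M).trans hB₀n)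
      (hB₀M.trans (PiCoreOf.le_normalizer' _ M)) ?_
    rw [hj]
    exact (coprime_Op M).pow_right 2
  · exact Cfsg.Lib.Coprime.le_normalizer_inf (inf_le_left.trans hB₀n)
      (inf_le_right.trans (FittingParts.normalizer_centralizer_le R))

end Cfsg.Lib.OddLocal.RankTwoMax
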