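import Cfsg.Agent.OddLocal.SigmaDisjointAux

/-!
# The sets `σ(M)` for non-conjugate maximal subgroups are disjoint
-/

set_option linter.unusedSectionVars false
set_option linter.unusedVariables false
set_option linter.style.haveILetI false

namespace Cfsg.Lib.OddLocal.RankTwoMax

open Subgroup Uniqueness Sigma
open Cfsg.Lib.Coprime (conjMap)
open scoped commutatorElement

universe u

variable {G : Type u} [Group G] [Finite G] {M N L S : Subgroup G} {p : ℕ} [hp : Fact p.Prime]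

theorem pow_mul_mem {E H : Subgroup G} (hn : E ≤ normalizer (H : Set G)) {e k : G} (he : e ∈ E) (hk : k ∈ H) :
    ∀ n : ℕ, ∃ k' ∈ H, (e * k) ^ n = e ^ n * k' := by
  intro n
  induction n with
  | zero => exact ⟨1, one_mem _, by simp⟩
  | succ n ih =>
    obtain ⟨k', hk', h⟩ := ih
    refine ⟨e⁻¹ * k' * e * k, mul_mem ?_ hk, by rw [pow_succ, h, pow_succ]; group⟩
    simpa using (mem_normalizer_iff.mp (hn (inv_mem he)) k').mp hk'

/-- An element of prime order commuting with another one of its line's prime fixes that line. -/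
theorem commute_of_fixed (hG : Cfsg.IsMinSimpleOddOrder G) (hN : IsCoatom N) {q s : ℕ} [hq : Fact q.Prime]
    [hs : Fact s.Prime] (hqN : q ∉ Cfsg.sigma N) (hsN : s ∉ Cfsg.sigma N) (hr : Cfsg.PRankLE q 1 N) {a z₀ z₁ : G}
    (haN : a ∈ N) (hao : orderOf a = s) (hz₀N : z₀ ∈ N) (hz₀o : orderOf z₀ = q)
    (ha : a ∈ normalizer (zpowers z₀ : Set G)) (hz₁N : z₁ ∈ N) (hz₁o : orderOf z₁ = q) (hz₁ : z₁ * a = a * z₁) :
    z₀ * a = a * z₀ := by
  by_contra hne
  have hXc : Nat.card (zpowers z₀) = q := by rw [Nat.card_zpowers, hz₀o]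
  have hAc : Nat.card (zpowers a) = s := by rw [Nat.card_zpowers, hao]
  have hAX : zpowers a ≤ normalizer (zpowers z₀ : Set G) := zpowers_le.mpr ha
  obtain ⟨E, hE, hle⟩ := exists_complement_ge hG hN (X := zpowers z₀ ⊔ zpowers a)
    (sup_le (zpowers_le.mpr hz₀N) (zpowers_le.mpr haN)) fun t ht hd => by
      rcases dvd_card_sup hAX ht hd with h | h
      · rw [hXc, Nat.prime_dvd_prime_iff_eq ht hq.out] at h; exact h ▸ hqN
      · rw [hAc, Nat.prime_dvd_prime_iff_eq ht hs.out] at h; exact h ▸ hsN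
  have hz₀E : z₀ ∈ E := hle (mem_sup_left (mem_zpowers _))
  have haE : a ∈ E := hle (mem_sup_right (mem_zpowers _))
  have hu : ⁅z₀, a⁆ ∈ zpowers z₀ := by
    rw [commutatorElement_def, mul_assoc, mul_assoc, ← mul_assoc a]
    exact mul_mem (mem_zpowers _) ((mem_normalizer_iff.mp ha _).mp (inv_mem (mem_zpowers _)))
  have hu1 : ⁅z₀, a⁆ ≠ 1 := fun h => hne (commutatorElement_eq_one_iff_mul_comm.mp h)
  have hz₀D : z₀ ∈ ⁅E, E⁆ := by
    have h1 := zpowers_le.mpr (commutator_mem_commutator hz₀E haE)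
    rw [line_eq_of_mem hXc hu hu1] at h1
    exact h1 (mem_zpowers _)
  have hqD : q ∣ Nat.card ↥⁅N, N⁆ := (dvd_of_eq hXc.symm).trans
    (card_dvd_of_le ((zpowers_le.mpr hz₀D).trans (commutator_mono hE.1 hE.1)))
  set H := Cfsg.sigmaCore N with hH
  have hEH : E ≤ normalizer (H : Set G) := hE.1.trans (le_normalizer_sigmaCore N)
  obtain ⟨e, heE, k, hk, hek⟩ := hE.2.2.2 z₁ hz₁N
  have hcomm : e * a = a * e := by
    have h2 : (a * e)⁻¹ * (e * a) ∈ H ⊓ E := by
      refine ⟨?_, Subgroup.mul_mem _ (Subgroup.inv_mem _ (Subgroup.mul_mem _ haE heE)) (Subgroup.mul_mem _ heE haE)⟩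
      show _ ∈ H
      rw [hek] at hz₁
      rw [show (a * e)⁻¹ * (e * a) = k * ((e * k * a)⁻¹ * (e * k * a)) * (a⁻¹ * k⁻¹ * a) by
        rw [show (a * e)⁻¹ * (e * a) = k * ((a * (e * k))⁻¹ * (e * k * a)) * (a⁻¹ * k⁻¹ * a) by group, hz₁],
        inv_mul_cancel, mul_one]
      refine mul_mem hk ?_
      simpa using (mem_normalizer_iff.mp (hEH (inv_mem haE)) k⁻¹).mp (inv_mem hk)
    rw [inf_comm, hE.2.2.1, mem_bot] at h2
    exact (inv_mul_eq_one.mp h2).symm
  have he1 : e ≠ 1 := fun h => hqN (sigmaCore_isPi q hq.out (by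
    rw [← hz₁o, ← Nat.card_zpowers]
    exact card_dvd_of_le (zpowers_le.mpr (by rw [hek, h, one_mul]; exact hk))))
  have heo : orderOf e = q := by
    refine orderOf_eq_prime ?_ he1
    obtain ⟨k', hk', h⟩ := pow_mul_mem hEH heE hk q
    rw [← hek, ← hz₁o, pow_orderOf_eq_one] at h
    have h2 : e ^ orderOf z₁ ∈ E ⊓ H := ⟨Subgroup.pow_mem _ heE _, by
      rw [eq_inv_of_mul_eq_one_left h.symm]; exact Subgroup.inv_mem _ hk'⟩
    rw [hE.2.2.1, mem_bot, hz₁o] at h2
    exact h2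
  have heD : e ∈ ⁅E, E⁆ := by
    obtain ⟨R, hR, hRe⟩ := exists_sylowOf (isPGroup_of_card (p := q) (X := zpowers e)
      (by rw [Nat.card_zpowers, heo])) (zpowers_le.mpr heE)
    exact sylow_le_derived_tau3 hG hN hE ⟨hq.out, hqN, hqD, hr⟩ hR (hRe (mem_zpowers e))
  have hc : z₀ * e = e * z₀ :=
    ThompsonTransitivity.mul_comm_of (sigma_prime_corollary hG hN hE).2.1 hz₀D heD
  have hn : zpowers e ≤ normalizer (zpowers z₀ : Set G) := zpowers_le.mpr (centralizer_le_normalizer _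
    (by rw [Cfsg.Lib.Coprime.centralizer_zpowers]; exact mem_centralizer_singleton_iff.mpr hc.symm))
  have hec : Nat.card (zpowers e) = q := by rw [Nat.card_zpowers, heo]
  have hcyc := isCyclic_sylow_of_rank_one hG
    ((isPGroup_of_card hXc).to_sup_of_normal_left' (isPGroup_of_card hec) hn)
    (sup_le (zpowers_le.mpr hz₀N) ((zpowers_le.mpr heE).trans hE.1)) hr
  have heq := eq_of_cyclic hcyc (le_sup_left : zpowers z₀ ≤ _) (le_sup_right : zpowers e ≤ _)
    (hXc.trans hec.symm)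
  obtain ⟨i, hi⟩ := mem_zpowers_iff.mp (heq.le (mem_zpowers z₀))
  rw [← hi] at hne
  exact hne ((Commute.zpow_left hcomm i).eq)

/-- The normalizer of a line of an ideal `σ(M)` prime lies in `M`. -/
theorem normalizer_line_le (hG : Cfsg.IsMinSimpleOddOrder G) (hM : IsCoatom M) {q : ℕ} [hq : Fact q.Prime]
    (hβ : q ∈ Cfsg.beta M) {x : G} (hxM : x ∈ M) (hxo : orderOf x = q) :
    normalizer (zpowers x : Set G) ≤ M := by
  obtain ⟨-, huniq⟩ := unique_centralizer_of_ideal hG hM hβ.2 (alpha_subset_sigma hG hM hβ.1) hxM hxo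
  obtain ⟨L, hL, hNL⟩ := exists_coatom_ge (MinSimpleTransitivity.normalizer_ne_top hG
    (line_ne_bot (p := q) (X := zpowers x) (by rw [Nat.card_zpowers, hxo]))
    (FittingUniqueness.ne_top_of_le_coatom hM (zpowers_le.mpr hxM)))
  exact huniq L hL (by
    rw [← Cfsg.Lib.Coprime.centralizer_zpowers]; exact (centralizer_le_normalizer _).trans hNL) ▸ hNL

/-- With an `α(M)`-element of `N` commuting with the moving element a contradiction. -/
theorem common_final (hG : Cfsg.IsMinSimpleOddOrder G) (hM : IsCoatom M) (hN : IsCoatom N) (hL : IsCoatom L)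
    (hσ : p ∈ Cfsg.sigma M) (hσN : p ∈ Cfsg.sigma N) (hpβ : p ∉ Cfsg.beta M) (hS : IsSylowOf p S M)
    (hS' : IsSylowOf p S N) (hSc : IsMulCommutative S)
    (hSM : normalizer (S : Set G) ≤ M) (hSN : normalizer (S : Set G) ≤ N) {q : ℕ} [hq : Fact q.Prime]
    (hqβ : q ∈ Cfsg.beta M) (hqN : q ∉ Cfsg.sigma N) (hqL : Cfsg.PRankLE q 1 L) {a : G} {s : ℕ}
    [hs : Fact s.Prime] (haM : a ∈ M) (haN : a ∈ N) (hao : orderOf a = s) (hsσ : s ∉ Cfsg.sigma M)
    (hsN : s ∉ Cfsg.sigma N) (haS : a ∈ normalizer (S : Set G))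
    (hfix : S ⊓ centralizer ({a} : Set G) = ⊥) (haL : centralizer ({a} : Set G) ≤ L)
    {z₁ : G} (hz₁N : z₁ ∈ N) (hz₁o : orderOf z₁ = q) (hz₁a : z₁ * a = a * z₁) : False := by
  have hqr : Cfsg.PRankLE q 1 N :=
    by_contra fun h => not_ideal hG hN (pRankLE_of_not_sigma hG hN hqN) h hqβ.2
  have hsp : s ≠ p := fun e => hsσ (e ▸ hσ)
  have hqp : q ≠ p := fun e => hpβ (e ▸ hqβ)
  have hac : Nat.card (zpowers a) = s := by rw [Nat.card_zpowers, hao]
  have haS' : zpowers a ≤ normalizer (S : Set G) := zpowers_le.mpr haS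
  -- an element of order `q` of `M ⊓ N`
  obtain ⟨F, hF, hFS⟩ := exists_complement_normalizing hG hN hσN hS'
  have hqF : q ∣ Nat.card F := by
    have h1 : q ∣ Nat.card N := by
      rw [← hz₁o, ← Nat.card_zpowers]; exact card_dvd_of_le (zpowers_le.mpr hz₁N)
    rw [card_eq_mul hF] at h1
    exact (hq.out.dvd_mul.mp h1).resolve_left fun h => hqN (sigmaCore_isPi q hq.out h)
  set W := Cfsg.piCoreOf (Cfsg.beta M) M with hW
  have hWM : W ≤ M := PiCoreOf.le _ _
  have hWπ : ∀ t : ℕ, t.Prime → t ∣ Nat.card W → t ∈ Cfsg.beta M := (betaCore_hall hG hM).1.2.1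
  set K := W ⊓ N with hK
  have hqK : q ∣ Nat.card K := by
    obtain ⟨y, hy⟩ := exists_prime_orderOf_dvd_card' q hqF
    have hyM : (y : G) ∈ M := hSM (hFS y.2)
    obtain ⟨R, hR⟩ := ((isPGroup_of_card (p := q) (X := zpowers (y : G))
      (by rw [Nat.card_zpowers, orderOf_coe, hy])).comap_subtype (K := M)).exists_le_sylow
    have hyW : (y : G) ∈ W := ⟨⟨y, hyM⟩, sylow_le_betaCore hG hM hqβ R (hR (mem_zpowers _)), rfl⟩
    rw [← hy, ← orderOf_coe, ← Nat.card_zpowers]
    exact card_dvd_of_le (zpowers_le.mpr ⟨hyW, hF.1 y.2⟩)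
  have hSa : S ⊔ zpowers a ≤ normalizer (K : Set G) := Cfsg.Lib.Coprime.le_normalizer_inf
    ((sup_le hS.1 (zpowers_le.mpr haM)).trans (PiCoreOf.le_normalizer' _ _))
    ((sup_le hS'.1 (zpowers_le.mpr haN)).trans le_normalizer)
  have hcop : (Nat.card ↥(S ⊔ zpowers a)).Coprime (Nat.card K) := coprime_card_of_disjoint fun t ht h1 h2 => by
    have h3 := hWπ t ht (h2.trans (card_dvd_of_le inf_le_left))
    rcases dvd_card_sup haS' ht h1 with h | h
    · exact hpβ (eq_of_dvd_pgroup hS.2.1 ht h ▸ h3)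
    · exact hsσ (alpha_subset_sigma hG hM (eq_of_dvd_pgroup (isPGroup_of_card (p := s) hac) ht h ▸ h3).1)
  obtain ⟨T₀, hT₀⟩ := Cfsg.Lib.Coprime.exists_invariant_sylow hSa hcop
    (Or.inl (hG.2.2.2 _ (FittingUniqueness.ne_top_of_le_coatom hM (sup_le hS.1 (zpowers_le.mpr haM))))) q
  set T := (T₀ : Subgroup K).map K.subtype with hT
  have hTp : IsPGroup q T := T₀.2.map _
  have hTN : T ≤ N := (map_subtype_le _).trans inf_le_right
  have hTM : T ≤ M := ((map_subtype_le _).trans inf_le_left).trans hWM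
  have hT1 : T ≠ ⊥ := by
    intro (h0 : T = ⊥)
    have h1 : q ∣ Nat.card (T₀ : Subgroup K) := T₀.dvd_card_of_dvd_card hqK
    rw [← card_map_of_injective K.subtype_injective (K := (T₀ : Subgroup K))] at h1
    change q ∣ Nat.card T at h1
    rw [h0, card_bot] at h1
    exact hq.out.not_dvd_one h1
  have hTc : IsCyclic T := isCyclic_sylow_of_rank_one hG hTp hTN hqr
  obtain ⟨z₀, hz₀T, hz₀o⟩ := ScnUniqueness.exists_orderOf hTp hT1
  have hXc : Nat.card (zpowers z₀) = q := by rw [Nat.card_zpowers, hz₀o]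
  have hXn : S ⊔ zpowers a ≤ normalizer (zpowers z₀ : Set G) :=
    hT₀.trans (normalizer_le_of_cyclic hTc (zpowers_le.mpr hz₀T))
  -- `S` centralizes the line, `a` as well
  haveI := hSc
  obtain ⟨-, hsup⟩ := Cfsg.Lib.Coprime.abelian_coprime_decomp (A := zpowers a) (V := S) haS'
    (by rw [hac]; exact (coprime_of_ne hsp.symm hS.2.1).symm)
  have hfix' : S ⊓ centralizer (zpowers a : Set G) = ⊥ := by
    rwa [Cfsg.Lib.Coprime.centralizer_zpowers]
  have hSz : S ≤ centralizer (zpowers z₀ : Set G) := by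
    rw [hfix', bot_sup_eq] at hsup
    refine hsup.ge.trans (le_trans ?_ (commutator_le_centralizer_line inferInstance hXn))
    exact commutator_mono le_sup_left le_sup_right
  have haz : z₀ * a = a * z₀ := commute_of_fixed hG hN hqN hsN hqr haN hao (hTN hz₀T) hz₀o
    (hXn (mem_sup_right (mem_zpowers a))) hz₁N hz₁o hz₁a
  have hCz : S ⊔ zpowers a ≤ centralizer (zpowers z₀ : Set G) := sup_le hSz (zpowers_le.mpr (by
    rw [Cfsg.Lib.Coprime.centralizer_zpowers]; exact mem_centralizer_singleton_iff.mpr haz.symm))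
  obtain ⟨T₁, hT₁, -, hUT, x, hxT, hxq, hxa, hxS⟩ := exists_fixed_not_centralized hG hM hN hσ hpβ hS hSN hqβ
    hqN haM hao hsσ haS hfix (isPGroup_of_card hXc) (zpowers_le.mpr (hTM hz₀T))
    (hCz.trans (centralizer_le_normalizer _))
  by_cases hx1 : x = 1
  · exact hxS (hx1 ▸ one_mem _)
  have hcyc := isCyclic_sylow_of_rank_one hG (hT₁.to_le (inf_le_left : T₁ ⊓ L ≤ T₁)) inf_le_right hqL
  have heq := eq_of_cyclic hcyc (H := zpowers x) (K := zpowers z₀)
    (zpowers_le.mpr ⟨hxT, haL (mem_centralizer_singleton_iff.mpr hxa)⟩)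
    (zpowers_le.mpr ⟨hUT (mem_zpowers _), haL (mem_centralizer_singleton_iff.mpr haz)⟩)
    (by rw [hXc, Nat.card_zpowers, orderOf_eq_prime hxq hx1])
  exact hxS (le_centralizer_iff.mp hSz (heq.le (mem_zpowers x)))

/-- Two non-conjugate maximal subgroups have no common `σ`-prime. -/
theorem sigma_common_false (hG : Cfsg.IsMinSimpleOddOrder G) (hM : IsCoatom M) (hN : IsCoatom N)
    (hnc : ∀ g : G, N ≠ conjMap g M) (hnc' : ∀ g : G, M ≠ conjMap g N) (hσ : p ∈ Cfsg.sigma M)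
    (hσN : p ∈ Cfsg.sigma N) (P : Sylow p G) (hPM : normalizer ((P : Subgroup G) : Set G) ≤ M)
    (hPN : normalizer ((P : Subgroup G) : Set G) ≤ N) : False := by
  set S := (P : Subgroup G) with hSdef
  have hne : N ≠ M := fun h => hnc 1 (by rw [Cfsg.Lib.Coprime.conjMap_one]; exact h)
  have hS : IsSylowOf p S M := isSylowOf_coe P (le_normalizer.trans hPM)
  have hS' : IsSylowOf p S N := isSylowOf_coe P (le_normalizer.trans hPN)
  have hS1 : S ≠ ⊥ := fun h0 => by
    have h1 := P.dvd_card_of_dvd_card (hσ.2.1.trans (card_subgroup_dvd_card M))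
    rw [← hSdef, h0, card_bot] at h1
    exact hp.out.not_dvd_one h1
  have hSc : IsMulCommutative S := by_contra fun hna =>
    hne ((nonabelian_unique hG P.2 hna).unique ⟨hN, hS'.1⟩ ⟨hM, hS.1⟩)
  have hpβ : p ∉ Cfsg.beta M := fun h => hne (eq_of_beta hG hN hM hσN h P.2 hS1 hS'.1 hS.1)
  have hpβN : p ∉ Cfsg.beta N := fun h => hne.symm (eq_of_beta hG hM hN hσ h P.2 hS1 hS.1 hS'.1)
  obtain ⟨-, hrM⟩ := not_nilpotent_of_common hG hM hN hne hσ hS hPN
  obtain ⟨-, hrN⟩ := not_nilpotent_of_common hG hN hM hne.symm hσN hS' hPM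
  obtain ⟨E, hE, hES⟩ := exists_complement_normalizing hG hM hσ hS
  -- a moving element
  obtain ⟨a, haE, haS, has⟩ : ∃ a ∈ E, a ∉ centralizer (S : Set G) ∧ (orderOf a).Prime := by
    by_contra hno
    have hno' : ∀ a ∈ E, (orderOf a).Prime → a ∈ centralizer (S : Set G) := fun a ha hao =>
      by_contra fun h => hno ⟨a, ha, h, hao⟩
    refine hS1 ?_
    rw [← sylow_eq_commutator_complement hG hM hσ hpβ hS hE hES, commutator_eq_bot_iff_le_centralizer,
      le_centralizer_iff]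
    refine Cfsg.Lib.Coprime.le_of_forall_sylow fun t ht => ?_
    haveI := Fact.mk ht
    obtain ⟨Et⟩ : Nonempty (Sylow t E) := inferInstance
    refine ⟨Et, fun b hb => ?_⟩
    by_cases hb1 : b = 1
    · rw [hb1]; exact one_mem _
    have htE : t ∣ Nat.card E := (dvd_card_of_isPGroup (Et.2.map E.subtype) fun h0 =>
      hb1 (mem_bot.mp (h0 ▸ hb))).trans (card_dvd_of_le (map_subtype_le _))
    have htM := not_sigma_of_dvd hG hM hE ht htE
    have hts := isSylowOf_complement hG hM hE htM Et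
    have hcyc := isCyclic_sylow_of_rank_one hG hts.2.1 hts.1 (hrM t ht htM)
    obtain ⟨b', hb', hb'o⟩ := ScnUniqueness.exists_orderOf (hts.2.1.to_le (zpowers_le.mpr hb))
      fun h0 => hb1 (zpowers_eq_bot.mp h0)
    have hb'T := zpowers_le.mpr hb hb'
    have h1 := prime_action hG hM htM hts hcyc hb'T fun h => ht.ne_one (by rw [← hb'o, h, orderOf_one])
    refine mem_centralizer_iff.mpr fun y hy => ?_
    have h2 := h1.le ⟨le_sigmaCore_of_pgroup hG hM hσ P.2 hS.1 hy, mem_centralizer_singleton_iff.mpr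
      (mem_centralizer_iff.mp (hno' b' (map_subtype_le _ hb'T) (hb'o ▸ ht)) y hy)⟩
    exact (mem_centralizer_iff.mp h2.2 b hb).symm
  haveI hsF : Fact (orderOf a).Prime := ⟨has⟩
  set s := orderOf a with hao
  have han : a ∈ normalizer (S : Set G) := hES haE
  have haM : a ∈ M := hPM han
  have haN : a ∈ N := hPN han
  have hsp : s ≠ p := fun e => not_sigma_of_dvd hG hM hE hp.out
    (e ▸ (by rw [hao, ← Nat.card_zpowers]; exact card_dvd_of_le (zpowers_le.mpr haE))) hσ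
  have hτ := tau_one_of_move hG hM hσ hpβ P.2 hS.1 hrM haM han hao.symm hsp haS
  have hτN := tau_one_of_move hG hN hσN hpβN P.2 hS'.1 hrN haN han hao.symm hsp haS
  have hac : Nat.card (zpowers a) = s := Nat.card_zpowers a
  have hfix : S ⊓ centralizer ({a} : Set G) = ⊥ := by
    by_contra h
    obtain ⟨z, hz, hzo⟩ := ScnUniqueness.exists_orderOf (P.2.to_le inf_le_left) h
    have hzc : Nat.card (zpowers z) = p := by rw [Nat.card_zpowers, hzo]
    have hQP : zpowers a ≤ centralizer (zpowers z : Set G) := zpowers_le.mpr (by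
      rw [Cfsg.Lib.Coprime.centralizer_zpowers]
      exact mem_centralizer_singleton_iff.mpr (mem_centralizer_singleton_iff.mp hz.2).symm)
    obtain ⟨hle, -⟩ := tau_one_unique hG hM hτ hac (zpowers_le.mpr haM) hzc
      (zpowers_le.mpr (le_sigmaCore_of_pgroup hG hM hσ P.2 hS.1 hz.1)) hQP
    obtain ⟨-, huniq⟩ := tau_one_unique hG hN hτN hac (zpowers_le.mpr haN) hzc
      (zpowers_le.mpr (le_sigmaCore_of_pgroup hG hN hσN P.2 hS'.1 hz.1)) hQP
    exact hne (huniq M hM hle).symm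
  -- nonregular lines of ideal primes in both
  obtain ⟨q, hq, hqβ, hqN, hqp⟩ := exists_beta_of_common hG hM hN hnc hne hσ hσN hS hPN hpβ
  obtain ⟨r, hr, hrβ, hrM', hrp⟩ := exists_beta_of_common hG hN hM hnc' hne.symm hσN hσ hS' hPM hpβN
  haveI := Fact.mk hq
  haveI := Fact.mk hr
  obtain ⟨T, -, hTM, -, z, hzT, hzq, hza, hzS⟩ := exists_fixed_not_centralized hG hM hN hσ hpβ hS hPN hqβ hqN
    haM hao.symm hτ.2.1 han hfix (IsPGroup.of_bot (p := q) (G := G)) bot_le
    (fun x _ => by rw [normalizer_eq_top_iff.mpr inferInstance]; trivial)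
  obtain ⟨T', -, hTN, -, z', hzT', hzr, hza', hzS'⟩ := exists_fixed_not_centralized hG hN hM hσN hpβN hS' hPM
    hrβ hrM' haN hao.symm hτN.2.1 han hfix (IsPGroup.of_bot (p := r) (G := G)) bot_le
    (fun x _ => by rw [normalizer_eq_top_iff.mpr inferInstance]; trivial)
  have hzo : orderOf z = q := orderOf_eq_prime hzq fun h => hzS (h ▸ one_mem _)
  have hzo' : orderOf z' = r := orderOf_eq_prime hzr fun h => hzS' (h ▸ one_mem _)
  have hzM : z ∈ M := hTM hzT
  have hzN' : z' ∈ N := hTN hzT'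
  have hqσ : q ∈ Cfsg.sigma M := alpha_subset_sigma hG hM hqβ.1
  -- the maximal subgroup over the centralizer of `a`
  obtain ⟨L, hL, hNL⟩ := exists_coatom_ge (MinSimpleTransitivity.normalizer_ne_top hG (line_ne_bot hac)
    (FittingUniqueness.ne_top_of_le_coatom hM (zpowers_le.mpr haM)))
  have hCL : centralizer ({a} : Set G) ≤ L := by
    rw [← Cfsg.Lib.Coprime.centralizer_zpowers]; exact (centralizer_le_normalizer _).trans hNL
  have hsL : s ∈ Cfsg.sigma L := sigma_of_fixed (p := s) (q := q) hG hM hτ hac (zpowers_le.mpr haM)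
    (le_sigmaCore_of_pgroup hG hM hqσ (isPGroup_of_card (p := q) (X := zpowers z)
      (by rw [Nat.card_zpowers, hzo])) (zpowers_le.mpr hzM) (mem_zpowers z)) hzo
    (by rw [Cfsg.Lib.Coprime.centralizer_zpowers]; exact mem_centralizer_singleton_iff.mpr hza) hL hNL
  have hLM : L ≠ M := fun h => hτ.2.1 (h ▸ hsL)
  have hLN : L ≠ N := fun h => hτN.2.1 (h ▸ hsL)
  set C := centralizer ({a} : Set G) with hC
  have hzC : z ∈ C := mem_centralizer_singleton_iff.mpr hza
  have hzC' : z' ∈ C := mem_centralizer_singleton_iff.mpr hza'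
  have hqL : Cfsg.PRankLE q 1 L := (rank_one_of_ideal (p := q) hG hM hL hLM hqβ
    (isPGroup_of_card (p := q) (X := zpowers z) (by rw [Nat.card_zpowers, hzo]))
    (line_ne_bot (p := q) (by rw [Nat.card_zpowers, hzo])) (zpowers_le.mpr hzM) (zpowers_le.mpr (hCL hzC))).2
  have hrL : Cfsg.PRankLE r 1 L := (rank_one_of_ideal (p := r) hG hN hL hLN hrβ
    (isPGroup_of_card (p := r) (X := zpowers z') (by rw [Nat.card_zpowers, hzo']))
    (line_ne_bot (p := r) (by rw [Nat.card_zpowers, hzo'])) (zpowers_le.mpr hzN') (zpowers_le.mpr (hCL hzC'))).2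
  -- a Hall group for the two primes
  haveI : Group.IsSolvable C := hG.2.2.2 C (FittingUniqueness.ne_top_of_le_coatom hL hCL)
  obtain ⟨H, hH⟩ := Cfsg.Lib.Coprime.exists_piHall (G := C) {t : ℕ | t = q ∨ t = r}
  have hdiv : ∀ t : ℕ, t.Prime → (t = q ∨ t = r) → t ∣ Nat.card C → t ∣ Nat.card H := fun t ht htπ hd => by
    rw [← H.index_mul_card] at hd
    exact (ht.dvd_mul.mp hd).resolve_left (hH.2 t ht htπ)
  have hqH : q ∣ Nat.card H := hdiv q hq (Or.inl rfl) (by
    rw [← hzo, ← Nat.card_zpowers]; exact card_dvd_of_le (zpowers_le.mpr hzC))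
  have hrH : r ∣ Nat.card H := hdiv r hr (Or.inr rfl) (by
    rw [← hzo', ← Nat.card_zpowers]; exact card_dvd_of_le (zpowers_le.mpr hzC'))
  have hHne : (⊤ : Subgroup H) ≠ ⊥ := fun h0 => by
    have h1 := card_top (G := H)
    rw [h0, card_bot] at h1
    exact hq.not_dvd_one (h1 ▸ hqH)
  obtain ⟨V, -, hVn, hV1, hVmin⟩ := Cfsg.Lib.Coprime.exists_minimal_normal (G := H) inferInstance hHne
  haveI := hVn
  obtain ⟨-, t, ht, hVt, -⟩ := Cfsg.Lib.Coprime.minimal_normal_solvable (N := V) inferInstance hV1 hVmin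
  haveI := Fact.mk ht
  set V' := (V.map H.subtype).map C.subtype with hV'
  have hV'p : IsPGroup t V' := (hVt.map _).map _
  have hV'C : V' ≤ C := map_subtype_le _
  have htπ : t = q ∨ t = r := hH.1 t ht ((dvd_card_of_isPGroup hVt hV1).trans (card_subgroup_dvd_card V))
  have hHn : ∀ h : H, ((h : C) : G) ∈ normalizer (V' : Set G) := fun h => by
    refine mem_normalizer_iff.mpr fun y => ⟨?_, ?_⟩
    · rintro ⟨w, ⟨w', hw', rfl⟩, rfl⟩
      exact ⟨_, mem_map_of_mem _ (hVn.conj_mem w' hw' h), by simp⟩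
    · rintro ⟨w, ⟨w', hw', rfl⟩, he⟩
      refine ⟨_, mem_map_of_mem _ (hVn.conj_mem w' hw' h⁻¹), ?_⟩
      have h2 : (((h⁻¹ * w' * h⁻¹⁻¹ : H) : C) : G) =
          ((h : C) : G)⁻¹ * ((w' : C) : G) * ((h : C) : G) := by simp
      show (((h⁻¹ * w' * h⁻¹⁻¹ : H) : C) : G) = y
      rw [h2, show ((w' : C) : G) = _ from he]
      group
  -- an element commuting with `a` crosses over
  have key : ∀ (M' N' : Subgroup G) (q' r' : ℕ) [Fact q'.Prime] [Fact r'.Prime] (z₂ : G),
      IsCoatom N' → r' ∈ Cfsg.beta N' → Cfsg.PRankLE r' 1 L → z₂ ∈ N' → orderOf z₂ = r' → z₂ ∈ C →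
      t = r' → q' ∣ Nat.card H → ∃ z₁ ∈ N', orderOf z₁ = q' ∧ z₁ * a = a * z₁ := by
    intro M' N' q' r' _ _ z₂ hN' hrβ' hrL' hz₂N hz₂o hz₂C htr hq'H
    subst htr
    have hV'1 : V' ≠ ⊥ := fun h0 => hV1 ((map_eq_bot_iff_of_injective _ H.subtype_injective).mp
      ((map_eq_bot_iff_of_injective _ C.subtype_injective).mp h0))
    obtain ⟨v, hv, hvo⟩ := ScnUniqueness.exists_orderOf hV'p hV'1
    have hcyc : IsCyclic V' := isCyclic_sylow_of_rank_one hG hV'p (hV'C.trans hCL) hrL'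
    obtain ⟨c, hc, hcv⟩ := conj_of_rank_one hG (zpowers_le.mpr hz₂C) (zpowers_le.mpr (hV'C hv))
      (by rw [Nat.card_zpowers, hz₂o]) (by rw [Nat.card_zpowers, hvo]) hCL hrL'
    obtain ⟨x, hx⟩ := exists_prime_orderOf_dvd_card' q' hq'H
    have hxn : ((x : C) : G) ∈ normalizer (zpowers v : Set G) :=
      normalizer_le_of_cyclic hcyc (zpowers_le.mpr hv) (hHn x)
    rw [← hcv, Cfsg.Lib.Coprime.normalizer_conjMap] at hxn
    obtain ⟨y, hy, hye⟩ := hxn
    refine ⟨y, normalizer_line_le hG hN' hrβ' hz₂N hz₂o hy, ?_, ?_⟩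
    · have h1 := orderOf_injective (MulAut.conj c).toMonoidHom (MulAut.conj c).injective y
      rw [hye, orderOf_coe, orderOf_coe, hx] at h1
      exact h1.symm
    · refine mem_centralizer_singleton_iff.mp (?_ : y ∈ C)
      rw [show y = c⁻¹ * ((MulAut.conj c).toMonoidHom y) * c by simp [mul_assoc], hye]
      exact mul_mem (mul_mem (inv_mem hc) (x : C).2) hc
  rcases htπ with htq | htr
  · obtain ⟨z₁, hz₁, hz₁o, hz₁a⟩ := key N M r q z hM hqβ hqL hzM hzo hzC htq hrH
    exact common_final hG hN hM hL hσN hσ hpβN hS' hS hSc hPN hPM hrβ hrM' hrL haN haM hao.symm hτN.2.1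
      hτ.2.1 han hfix hCL hz₁ hz₁o hz₁a
  · obtain ⟨z₁, hz₁, hz₁o, hz₁a⟩ := key M N q r z' hN hrβ hrL hzN' hzo' hzC' htr hqH
    exact common_final hG hM hN hL hσ hσN hpβ hS hS' hSc hPM hPN hqβ hqN hqL haM haN hao.symm hτ.2.1
      hτN.2.1 han hfix hCL hz₁ hz₁o hz₁a

/-- The `σ`-sets of maximal subgroups: they cover, and agree only for conjugates. -/
theorem sigma_partition (hG : Cfsg.IsMinSimpleOddOrder G) :
    (∀ p : ℕ, p.Prime → p ∣ Nat.card G → ∃ M : Subgroup G, IsCoatom M ∧ p ∈ Cfsg.sigma M) ∧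
      ∀ M N : Subgroup G, IsCoatom M → IsCoatom N → (Cfsg.sigma M ∩ Cfsg.sigma N).Nonempty →
        ∃ g : G, N = M.map (MulAut.conj g).toMonoidHom := by
  refine ⟨fun p hp hd => ?_, fun M N hM hN ⟨p, hσ, hσN⟩ => ?_⟩
  · haveI := Fact.mk hp
    obtain ⟨P⟩ : Nonempty (Sylow p G) := inferInstance
    obtain ⟨M, hM, -, hσ⟩ := exists_over_normalizer hG P fun h0 => by
      have h1 := P.dvd_card_of_dvd_card hd
      rw [h0, card_bot] at h1
      exact hp.not_dvd_one h1
    exact ⟨M, hM, hσ⟩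
  haveI := Fact.mk hσ.1
  by_contra hno
  have hnc : ∀ g : G, N ≠ conjMap g M := fun g h => hno ⟨g, h⟩
  obtain ⟨P, hPM, hNP⟩ := exists_sylow_le hσ
  obtain ⟨Q, hQN, hNQ⟩ := exists_sylow_le hσN
  obtain ⟨g, hg⟩ := MulAction.exists_smul_eq G Q P
  set N' := conjMap g N with hN'
  have hN'c : IsCoatom N' := conjMap_coatom hN g
  have hP : (P : Subgroup G) = conjMap g (Q : Subgroup G) := by
    rw [← hg, Sylow.coe_subgroup_smul, Cfsg.Lib.Coprime.conj_smul_eq]
  have hNP' : normalizer ((P : Subgroup G) : Set G) ≤ N' := by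
    rw [hP, Cfsg.Lib.Coprime.normalizer_conjMap]; exact Cfsg.Lib.Coprime.conjMap_mono hNQ
  have hσN' : p ∈ Cfsg.sigma N' := by
    obtain ⟨R, hR⟩ := (isSylowOf_coe P ((le_normalizer).trans hNP') : IsSylowOf p (P : Subgroup G) N').exists_sylow
    refine ⟨hσ.1, ?_, R, by rw [hR]; exact hNP'⟩
    exact (P.dvd_card_of_dvd_card (hσ.2.1.trans (card_subgroup_dvd_card M))).trans
      (card_dvd_of_le (le_normalizer.trans hNP'))
  refine sigma_common_false hG hM hN'c (fun h' he => hnc (g⁻¹ * h') ?_) (fun h' he => hnc (g⁻¹ * h'⁻¹) ?_)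
    hσ hσN' P hNP hNP'
  · rw [← Cfsg.Lib.Coprime.conjMap_mul, ← he, hN', Cfsg.Lib.Coprime.conjMap_inv_conjMap]
  · rw [← Cfsg.Lib.Coprime.conjMap_mul, he, Cfsg.Lib.Coprime.conjMap_inv_conjMap, hN',
      Cfsg.Lib.Coprime.conjMap_inv_conjMap]

end Cfsg.Lib.OddLocal.RankTwoMax
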