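import Cfsg.Agent.OddLocal.SigmaOrderP
import Cfsg.Agent.Coprime.Hall

/-!
# Normalizers of `σ`-subgroups in other maximal subgroups
-/

set_option linter.unusedSectionVars false
set_option linter.unusedVariables false
set_option linter.style.haveILetI false

namespace Cfsg.Lib.OddLocal.RankTwoMax

open Subgroup Uniqueness Sigma
open Cfsg.Lib.Coprime (conjMap)
open scoped commutatorElement

universe u

variable {G : Type u} [Group G] [Finite G] {M L X S : Subgroup G} {q : ℕ} [hq : Fact q.Prime]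

theorem card_mul_relIndex {H K : Subgroup G} (h : H ≤ K) : Nat.card H * H.relIndex K = Nat.card K := by
  have h1 := relIndex_mul_relIndex (⊥ : Subgroup G) H K bot_le h
  rwa [relIndex_bot_left, relIndex_bot_left] at h1

/-- A subgroup of a cyclic group is the only one of its order. -/
theorem eq_of_cyclic {S H K : Subgroup G} (hS : IsCyclic S) (hH : H ≤ S) (hK : K ≤ S)
    (hc : Nat.card H = Nat.card K) : H = K := by
  haveI : IsCyclic ↥(H ⊔ K) := isCyclic_of_injective (inclusion (sup_le hH hK)) (inclusion_injective _)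
  obtain ⟨g, hg⟩ := IsCyclic.exists_ofOrder_eq_natCard (α := ↥(H ⊔ K))
  have hd : Nat.card ↥(H ⊔ K) ∣ Nat.card H := by
    rw [← hg]
    refine orderOf_dvd_of_pow_eq_one ?_
    have key : ∀ z ∈ H ⊔ K, z ^ Nat.card H = 1 := by
      intro z hz
      have hcomm : K ≤ centralizer (H : Set G) := fun k hk => mem_centralizer_iff.mpr fun a ha =>
        ThompsonTransitivity.mul_comm_of inferInstance (mem_sup_left ha : a ∈ H ⊔ K) (mem_sup_right hk)
      obtain ⟨a, ha, b, hb, rfl⟩ :=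
        (Cfsg.Lib.Coprime.mem_sup_of_le_normalizer (hcomm.trans (centralizer_le_normalizer _))).mp hz
      rw [(show Commute a b from mem_centralizer_iff.mp (hcomm hb) a ha).mul_pow]
      have h1 := pow_card_eq_one' (G := H) (x := ⟨a, ha⟩)
      have h2 := pow_card_eq_one' (G := K) (x := ⟨b, hb⟩)
      rw [← hc] at h2
      rw [show a ^ Nat.card H = 1 from congrArg Subtype.val h1,
        show b ^ Nat.card H = 1 from congrArg Subtype.val h2, one_mul]
    exact Subtype.ext (key g g.2)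
  have e1 : H = H ⊔ K := eq_of_le_of_card_ge le_sup_left (Nat.le_of_dvd Nat.card_pos hd)
  have e2 : K = H ⊔ K := eq_of_le_of_card_ge le_sup_right (hc ▸ Nat.le_of_dvd Nat.card_pos hd)
  exact e1.trans e2.symm

theorem normalizer_le_of_cyclic {S X : Subgroup G} (hS : IsCyclic S) (hX : X ≤ S) :
    normalizer (S : Set G) ≤ normalizer (X : Set G) := fun g hg =>
  Cfsg.Lib.Coprime.conjMap_eq_self_iff.mp (eq_of_cyclic hS
    ((Cfsg.Lib.Coprime.conjMap_mono hX).trans (Cfsg.Lib.Coprime.conjMap_eq_self hg).le) hX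
    (Cfsg.Lib.Coprime.card_conjMap _ _))

/-- `L` is not conjugate to `M`. -/
theorem not_conj_of_normalizer (hG : Cfsg.IsMinSimpleOddOrder G) (hM : IsCoatom M) (hσ : q ∈ Cfsg.sigma M)
    (hXq : IsPGroup q X) (hX1 : X ≠ ⊥) (hXM : X ≤ M) (hne : L ≠ M) (hNX : normalizer (X : Set G) ≤ L)
    (g : G) : L ≠ conjMap g M := by
  intro h
  have h1 : X ≤ conjMap g M := h ▸ le_normalizer.trans hNX
  obtain ⟨c, hc, hcM⟩ := conj_transitive hG hM hσ hXq hX1 h1 (b := 1)
    (by rw [Cfsg.Lib.Coprime.conjMap_one]; exact hXM)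
  rw [Cfsg.Lib.Coprime.conjMap_one, ← h] at hcM
  exact hne ((Cfsg.Lib.Coprime.conjMap_eq_self
    (le_normalizer (hNX (centralizer_le_normalizer _ hc)))).symm.trans hcM)

/-- Properties of a Sylow group of `M ∩ L`. -/
theorem sylow_inf (hG : Cfsg.IsMinSimpleOddOrder G) (hM : IsCoatom M) (hσ : q ∈ Cfsg.sigma M)
    (hNX : normalizer (X : Set G) ≤ L) (hS : IsSylowOf q S (M ⊓ L)) (hXS : X ≤ S) :
    normalizer (S : Set G) ≤ M ∧ IsSylowOf q S L ∧ (IsCyclic S → IsSylowOf q S M) := by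
  have hSM : S ≤ M := hS.1.trans inf_le_left
  have hcyc : IsCyclic S → IsSylowOf q S M := fun hc => by
    refine ⟨hSM, hS.2.1, fun W hW hWM hle => ?_⟩
    by_contra hne
    obtain ⟨g, ⟨hgW, hgN⟩, hgS⟩ :=
      SetLike.exists_of_lt (FittingUniqueness.lt_inf_normalizer hW (lt_of_le_of_ne hle (Ne.symm hne)))
    exact hgS ((hS.2.2 (S ⊔ zpowers g) (hW.to_le (sup_le hle (zpowers_le.mpr hgW)))
      (sup_le hS.1 (zpowers_le.mpr ⟨hWM hgW, hNX (normalizer_le_of_cyclic hc hXS hgN)⟩)) le_sup_left).le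
      (mem_sup_right (mem_zpowers g)))
  have hN : normalizer (S : Set G) ≤ M := by
    by_cases hc : IsCyclic S
    · exact normalizer_le hσ (hcyc hc)
    · exact normalizer_le_of_noncyclic hG hM hσ hS.2.1 hSM hc
  refine ⟨hN, ⟨hS.1.trans inf_le_right, hS.2.1, fun W hW hWL hle => ?_⟩, hcyc⟩
  by_contra hne
  obtain ⟨g, ⟨hgW, hgN⟩, hgS⟩ :=
    SetLike.exists_of_lt (FittingUniqueness.lt_inf_normalizer hW (lt_of_le_of_ne hle (Ne.symm hne)))
  exact hgS ((hS.2.2 (S ⊔ zpowers g) (hW.to_le (sup_le hle (zpowers_le.mpr hgW)))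
    (sup_le hS.1 (zpowers_le.mpr ⟨hN hgN, hWL hgW⟩)) le_sup_left).le (mem_sup_right (mem_zpowers g)))

/-- A prime of `σ(M)` outside `σ(L)`. -/
theorem tau_two_other (hG : Cfsg.IsMinSimpleOddOrder G) (hM : IsCoatom M) (hL : IsCoatom L)
    (hσ : q ∈ Cfsg.sigma M) (hσL : q ∉ Cfsg.sigma L) (hXq : IsPGroup q X) (hX1 : X ≠ ⊥) (hXM : X ≤ M)
    (hNX : normalizer (X : Set G) ≤ L) :
    q ∈ Cfsg.tau2 L ∧ Group.IsNilpotent (Cfsg.sigmaCore L) ∧
      ∃ E : Subgroup G, Cfsg.IsComplIn E (Cfsg.sigmaCore L) L ∧ E ≤ M := by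
  obtain ⟨S, hS, hXS⟩ := exists_sylowOf hXq (le_inf hXM (le_normalizer.trans hNX) : X ≤ M ⊓ L)
  obtain ⟨hN, hSL, hcyc⟩ := sylow_inf hG hM hσ hNX hS hXS
  have hqL : q ∣ Nat.card L :=
    (dvd_card_of_isPGroup hXq hX1).trans (card_dvd_of_le (le_normalizer.trans hNX))
  have hnc : ¬ IsCyclic S := fun hc =>
    sylow_normalizer_not_le hσL hqL hSL ((normalizer_le_of_cyclic hc hXS).trans hNX)
  have hτ : q ∈ Cfsg.tau2 L := ⟨hq.out, hσL, pRankLE_of_not_sigma hG hL hσL,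
    fun hr => hnc (isCyclic_sylow_of_rank_one hG hS.2.1 hSL.1 hr)⟩
  obtain ⟨E, hE⟩ := exists_complement hG hL
  obtain ⟨B, hBE, hB, hBc⟩ := exists_sq_complement hG hL hE hτ
  obtain ⟨T, hT⟩ := ((isPGroup_of_pow hB.2 : IsPGroup q B).comap_subtype (K := E)).exists_le_sylow
  obtain ⟨m, hm, hmS⟩ := card_eq_of_sylowOf (isSylowOf_complement hG hL hE hσL T) hSL
  obtain ⟨B₀, h⟩ := exists_exc hG hL hσL (hBE.trans hE.1) hB hBc
  refine ⟨hτ, h.nilpotent hG, conjMap m E, isComplIn_conj hE hm, ?_⟩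
  have hBS : conjMap m B ≤ S := by
    refine le_trans (Cfsg.Lib.Coprime.conjMap_mono ?_) hmS.le
    exact fun b hb => ⟨⟨b, hBE hb⟩, hT hb, rfl⟩
  have hBnc : ¬ IsCyclic ↥(conjMap m B) := not_isCyclic_of_card (Cfsg.Lib.OddP.isElementaryAbelian_map hB _).2
    (by rw [Cfsg.Lib.Coprime.card_conjMap, hBc])
  refine le_trans ?_ (normalizer_le_of_noncyclic hG hM hσ (hS.2.1.to_le hBS)
    (hBS.trans (hS.1.trans inf_le_left)) hBnc)
  rw [Cfsg.Lib.Coprime.normalizer_conjMap]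
  exact Cfsg.Lib.Coprime.conjMap_mono (h.le_normalizer hG hE hBE)

/-- A maximal subgroup with nilpotent core sharing a prime of `σ` is conjugate. -/
theorem conj_of_nilpotent_left (hG : Cfsg.IsMinSimpleOddOrder G) (hM : IsCoatom M) (hL : IsCoatom L)
    (hnL : Group.IsNilpotent (Cfsg.sigmaCore L)) (hσM : q ∈ Cfsg.sigma M) (hσL : q ∈ Cfsg.sigma L) :
    ∃ g : G, L = conjMap g M := by
  obtain ⟨R, hR, -, hRn, hRN⟩ := sylow_sigma_normal hG hL hnL hσL
  obtain ⟨P', hP'⟩ := hR.2.1.exists_le_sylow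
  have e := sylow_max hσL hR P'.2 hP'
  obtain ⟨P, hPM, hNP⟩ := exists_sylow_le hσM
  obtain ⟨g, hg⟩ := MulAction.exists_smul_eq G P P'
  refine ⟨g, ?_⟩
  have h1 : L ≤ conjMap g M := by
    rw [← hRN, ← e, ← hg, Sylow.coe_subgroup_smul, Cfsg.Lib.Coprime.conj_smul_eq,
      Cfsg.Lib.Coprime.normalizer_conjMap]
    exact Cfsg.Lib.Coprime.conjMap_mono hNP
  exact h1.lt_or_eq.elim (fun h2 => absurd (hL.2 _ h2) (conjMap_coatom hM g).1) id

/-- `M ∩ L` has `σ(M)`-prime index in `L`. -/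
theorem not_dvd_relIndex (hG : Cfsg.IsMinSimpleOddOrder G) (hM : IsCoatom M) (hL : IsCoatom L)
    (hσ : q ∈ Cfsg.sigma M) (hXq : IsPGroup q X) (hX1 : X ≠ ⊥) (hXM : X ≤ M) (hne : L ≠ M)
    (hNX : normalizer (X : Set G) ≤ L) {r : ℕ} [hr : Fact r.Prime] (hrσ : r ∈ Cfsg.sigma M) :
    ¬ r ∣ (M ⊓ L).relIndex L := by
  intro hd
  have hnc := not_conj_of_normalizer hG hM hσ hXq hX1 hXM hne hNX
  set W := M ⊓ L with hW
  by_cases hσL : q ∈ Cfsg.sigma L
  swap
  · obtain ⟨-, hnil, E, hE, hEM⟩ := tau_two_other hG hM hL hσ hσL hXq hX1 hXM hNX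
    have h1 : r ∣ E.relIndex L := hd.trans (relIndex_dvd_of_le_left L (le_inf hEM hE.1))
    have h2 : E.relIndex L = Nat.card (Cfsg.sigmaCore L) := by
      refine Nat.eq_of_mul_eq_mul_left (Nat.card_pos (α := E)) ?_
      rw [card_mul_relIndex hE.1, card_eq_mul hE, mul_comm]
    obtain ⟨g, hg⟩ := conj_of_nilpotent_left hG hM hL hnil hrσ (sigmaCore_isPi r hr.out (h2 ▸ h1))
    exact hnc g hg
  obtain ⟨S, hS, hXS⟩ := exists_sylowOf hXq (le_inf hXM (le_normalizer.trans hNX) : X ≤ M ⊓ L)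
  obtain ⟨hN, hSL, -⟩ := sylow_inf hG hM hσ hNX hS hXS
  obtain ⟨P, hP⟩ := hSL.2.1.exists_le_sylow
  have hPS := sylow_max hσL hSL P.2 hP
  have hPM : (P : Subgroup G) ≤ M := hPS ▸ hS.1.trans inf_le_left
  have hPL : (P : Subgroup G) ≤ L := hPS ▸ hSL.1
  have hr2 : Cfsg.PRankLE q 2 (P : Subgroup G) := by
    by_contra hr2
    have hα : q ∈ Cfsg.alpha M :=
      ⟨hq.out, fun h => hr2 (Cfsg.Lib.OddP.pRankLE_of_injective (inclusion hPM) (inclusion_injective _) h)⟩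
    obtain ⟨g, hg⟩ := conj_of_alpha hG hM hL hα hσL
    exact hnc g hg
  haveI := hG.2.2.2 L hL.1
  have hfac := (isSylowOf_coe P hPL).factor_rank_two (hG.1.of_dvd_nat (card_subgroup_dvd_card L)) hr2
  set D := Op q L with hD
  have hDL : D ≤ L := PiCoreOf.le _ L
  have hWn : W ≤ normalizer (D : Set G) := inf_le_right.trans (PiCoreOf.le_normalizer' _ L)
  have hsup : D ⊔ W = L := le_antisymm (sup_le hDL inf_le_right) (hfac.trans (sup_le_sup le_rfl
    (le_inf (inf_le_right.trans (hPS.symm ▸ hN)) inf_le_left)))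
  have hidx : W.relIndex L = (D ⊓ W).relIndex D := by
    have h1 := Cfsg.Lib.Coprime.card_sup_mul_card_inf hWn
    rw [hsup, ← card_mul_relIndex (inf_le_right : W ≤ L), ← card_mul_relIndex (inf_le_left : D ⊓ W ≤ D)] at h1
    refine Nat.eq_of_mul_eq_mul_left (Nat.mul_pos (Nat.card_pos (α := ↥(D ⊓ W))) (Nat.card_pos (α := W))) ?_
    calc Nat.card ↥(D ⊓ W) * Nat.card W * W.relIndex L
        = Nat.card W * W.relIndex L * Nat.card ↥(D ⊓ W) := by ring
      _ = _ := h1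
      _ = _ := by ring
  rw [hidx] at hd
  by_cases hrq : r = q
  · subst hrq
    have h1 : r ∣ Nat.card D :=
      hd.trans (Dvd.intro_left _ (card_mul_relIndex (inf_le_left : D ⊓ W ≤ D)))
    exact hr.out.coprime_iff_not_dvd.mp (coprime_Op L).symm h1
  obtain ⟨j, hj⟩ := IsPGroup.iff_card.mp P.2
  have hsolP : Group.IsSolvable ↥(P : Subgroup G) :=
    hG.2.2.2 _ (FittingUniqueness.ne_top_of_le_coatom hM hPM)
  obtain ⟨T, hT⟩ := Cfsg.Lib.Coprime.exists_invariant_sylow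
    (hPL.trans (PiCoreOf.le_normalizer' _ L) : (P : Subgroup G) ≤ normalizer (D : Set G))
    (show (Nat.card (P : Subgroup G)).Coprime (Nat.card D) from hj ▸ ((coprime_Op L).symm.pow_left j))
    (Or.inl hsolP) r
  set Q := (T : Subgroup D).map D.subtype with hQ
  have hQL : Q ≤ L := (map_subtype_le _).trans hDL
  have hβ : r ∉ Cfsg.beta L := by
    intro hb
    obtain ⟨g, hg⟩ := conj_of_alpha hG hL hM hb.1 hrσ
    exact hnc g⁻¹ (by rw [hg, Cfsg.Lib.Coprime.conjMap_inv_conjMap])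
  have hle : ⁅Q, (P : Subgroup G)⁆ ≤ Q := Cfsg.Lib.Coprime.commutator_le_of_le_normalizer hT
  have hc := centralizes_of_derived hG hL hβ (X := ⁅Q, (P : Subgroup G)⁆) (Y := (P : Subgroup G))
    (commutator_mono hQL hPL) (sylow_le_derived' hG hL hσL P.2 hPL) ((T.2.map D.subtype).to_le hle)
    (coprime_of_ne (Ne.symm hrq) P.2) (Cfsg.Lib.Coprime.le_normalizer_commutator_right _ _)
  have hcop : (Nat.card (P : Subgroup G)).Coprime (Nat.card Q) := by
    obtain ⟨i, hi⟩ := IsPGroup.iff_card.mp (T.2.map D.subtype)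
    rw [hi]
    exact (coprime_of_ne (Ne.symm hrq) P.2).pow_right i
  have hbot : ⁅Q, (P : Subgroup G)⁆ = ⊥ := by
    rw [← Cfsg.Lib.Coprime.commutator_commutator_eq hT hcop (Or.inl hsolP),
      commutator_eq_bot_iff_le_centralizer]
    exact le_centralizer_iff.mp hc
  have hQW : Q ≤ D ⊓ W := le_inf (map_subtype_le _) (le_inf
    (((commutator_eq_bot_iff_le_centralizer.mp hbot).trans (centralizer_le_normalizer _)).trans
      (hPS.symm ▸ hN)) hQL)
  refine T.not_dvd_index ?_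
  have h1 : (T : Subgroup D) ≤ (D ⊓ W).subgroupOf D := fun x hx =>
    mem_subgroupOf.mpr (hQW (mem_map_of_mem D.subtype hx))
  exact hd.trans (index_dvd_of_le h1)

/-- Corollary 12.15 (d): `σ(M)`-subgroups are conjugate into `M_σ`. -/
theorem exists_conj_le_sigmaCore (hG : Cfsg.IsMinSimpleOddOrder G) (hM : IsCoatom M) {Y : Subgroup G}
    (hY1 : Y ≠ ⊥) (hY : ∀ p : ℕ, p.Prime → p ∣ Nat.card Y → p ∈ Cfsg.sigma M) :
    ∃ g : G, conjMap g Y ≤ Cfsg.sigmaCore M := by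
  have hfin : ∀ Z : Subgroup G, Z ≤ M → (∀ p : ℕ, p.Prime → p ∣ Nat.card Z → p ∈ Cfsg.sigma M) →
      Z ≤ Cfsg.sigmaCore M := fun Z hZM hZ =>
    Cfsg.Lib.Coprime.le_of_forall_sylow fun r hr => by
      haveI := Fact.mk hr
      obtain ⟨T⟩ : Nonempty (Sylow r Z) := inferInstance
      refine ⟨T, ?_⟩
      by_cases h0 : (T : Subgroup Z).map Z.subtype = ⊥
      · rw [h0]; exact bot_le
      · exact le_sigmaCore_of_pgroup hG hM
          (hZ r hr ((dvd_card_of_isPGroup (T.2.map _) h0).trans (card_dvd_of_le (map_subtype_le _))))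
          (T.2.map _) ((map_subtype_le _).trans hZM)
  have hYt : Y ≠ ⊤ := by
    intro h0
    have h1 := (sigmaCore_hall_top hG hM).2
    have hlt : (Cfsg.sigmaCore M).index ≠ 1 := fun h2 =>
      hM.1 (top_le_iff.mp ((index_eq_one.mp h2).ge.trans (sigmaCore_le M)))
    obtain ⟨r, hr, hrd⟩ := Nat.exists_prime_and_dvd hlt
    exact h1 r hr (hY r hr (by rw [h0, card_top]; exact hrd.trans (index_dvd_card _))) hrd
  haveI : Group.IsSolvable Y := hG.2.2.2 Y hYt
  haveI : Nontrivial Y := (nontrivial_iff_ne_bot _).mpr hY1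
  obtain ⟨q, hq, hX⟩ : ∃ q : ℕ, q.Prime ∧ FittingParts.O q Y ≠ ⊥ := by
    by_contra hall
    push Not at hall
    have hF : Cfsg.fittingOf Y = ⊥ := by
      rw [FittingParts.fittingOf_eq]
      exact le_bot_iff.mp (iSup_le fun r => (hall r.1 r.2).le)
    have h1 := FittingParts.centralizer_fittingOf_le (X := Y)
    rw [hF] at h1
    refine hY1 (le_bot_iff.mp (fun y hy => h1 ⟨hy, mem_centralizer_iff.mpr fun b hb => ?_⟩))
    rw [mem_bot.mp hb, one_mul, mul_one]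
  haveI := Fact.mk hq
  set X₀ := FittingParts.O q Y with hX₀
  have hX₀Y : X₀ ≤ Y := PiCoreOf.le _ Y
  have hX₀q : IsPGroup q X₀ := FittingParts.isPGroup Y
  have hσ : q ∈ Cfsg.sigma M := hY q hq ((dvd_card_of_isPGroup hX₀q hX).trans (card_dvd_of_le hX₀Y))
  obtain ⟨P, hPM, -⟩ := exists_sylow_le hσ
  obtain ⟨P', hP'⟩ := hX₀q.exists_le_sylow
  obtain ⟨g, hg⟩ := MulAction.exists_smul_eq G P' P
  have hX1 : conjMap g X₀ ≠ ⊥ := fun h0 => hX ((map_eq_bot_iff_of_injective _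
    (show Function.Injective (MulAut.conj g).toMonoidHom from (MulAut.conj g).injective)).mp h0)
  have hXM : conjMap g X₀ ≤ M := by
    refine (Cfsg.Lib.Coprime.conjMap_mono hP').trans ?_
    rw [← Cfsg.Lib.Coprime.conj_smul_eq, ← Sylow.coe_subgroup_smul, hg]
    exact hPM
  have hYN : conjMap g Y ≤ normalizer (conjMap g X₀ : Set G) := by
    rw [Cfsg.Lib.Coprime.normalizer_conjMap]
    exact Cfsg.Lib.Coprime.conjMap_mono (PiCoreOf.le_normalizer' _ Y)
  have hY' : ∀ p : ℕ, p.Prime → p ∣ Nat.card ↥(conjMap g Y) → p ∈ Cfsg.sigma M := fun p hp hd =>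
    hY p hp (by rwa [Cfsg.Lib.Coprime.card_conjMap] at hd)
  obtain ⟨L, hL, hNL⟩ := exists_coatom_ge (MinSimpleTransitivity.normalizer_ne_top hG hX1
    (FittingUniqueness.ne_top_of_le_coatom hM hXM))
  by_cases hne : L = M
  · exact ⟨g, hfin _ ((hYN.trans hNL).trans hne.le) hY'⟩
  haveI := hG.2.2.2 L hL.1
  have hYL : conjMap g Y ≤ L := hYN.trans hNL
  set W := M ⊓ L with hW
  haveI : Group.IsSolvable W := hG.2.2.2 W (FittingUniqueness.ne_top_of_le_coatom hM inf_le_left)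
  obtain ⟨H, hH⟩ := Cfsg.Lib.Coprime.exists_piHall (G := W) (Cfsg.sigma M)
  set H' := (H.map W.subtype).subgroupOf L with hH'
  have hHW : H.map W.subtype ≤ W := map_subtype_le _
  have hHc : Nat.card H' = Nat.card H := by
    rw [hH', Nat.card_congr (subgroupOfEquivOfLe (hHW.trans inf_le_right)).toEquiv,
      card_map_of_injective W.subtype_injective]
  have hHall : Cfsg.IsPiHall (Cfsg.sigma M) H' := by
    refine ⟨fun p hp hd => hH.1 p hp (hHc ▸ hd), fun p hp hpσ hd => ?_⟩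
    haveI := Fact.mk hp
    have h1 : (H.map W.subtype).relIndex W * W.relIndex L = (H.map W.subtype).relIndex L :=
      relIndex_mul_relIndex _ _ _ hHW inf_le_right
    have h2 : (H.map W.subtype).relIndex W = H.index := by
      rw [relIndex, subgroupOf, comap_map_eq_self_of_injective W.subtype_injective]
    change p ∣ (H.map W.subtype).relIndex L at hd
    rw [← h1, h2] at hd
    rcases hp.dvd_mul.mp hd with h3 | h3
    · exact hH.2 p hp hpσ h3
    · exact not_dvd_relIndex hG hM hL hσ (hX₀q.map _) hX1 hXM hne hNL hpσ h3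
  obtain ⟨l, hl⟩ := Cfsg.Lib.Coprime.le_conj_piHall hHall (K := (conjMap g Y).subgroupOf L) fun p hp hd =>
    hY' p hp (by rwa [Nat.card_congr (subgroupOfEquivOfLe hYL).toEquiv] at hd)
  refine ⟨(l : G)⁻¹ * g, hfin _ ?_ fun p hp hd => hY p hp (by rwa [Cfsg.Lib.Coprime.card_conjMap] at hd)⟩
  rw [← Cfsg.Lib.Coprime.conjMap_mul]
  rintro _ ⟨y, hy, rfl⟩
  obtain ⟨h, hh, hhy⟩ := hl (mem_subgroupOf.mpr hy : (⟨y, hYL hy⟩ : L) ∈ (conjMap g Y).subgroupOf L)
  have h4 : (l : G) * h * (l : G)⁻¹ = y := congrArg Subtype.val hhy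
  show (l : G)⁻¹ * y * (l : G)⁻¹⁻¹ ∈ M
  rw [← h4, show (l : G)⁻¹ * ((l : G) * h * (l : G)⁻¹) * (l : G)⁻¹⁻¹ = h by group]
  exact (hHW (mem_subgroupOf.mp hh)).1

/-- Theorem 12.15 (a), (b), (c). -/
theorem normalizer_other_theorem (hG : Cfsg.IsMinSimpleOddOrder G) (hM : IsCoatom M) (hσ : q ∈ Cfsg.sigma M)
    (hXq : IsPGroup q X) (hX1 : X ≠ ⊥) (hXM : X ≤ M) (hne : L ≠ M) (hNX : normalizer (X : Set G) ≤ L)
    (T : Sylow q ↥(M ⊓ L)) (hXT : X ≤ (T : Subgroup ↥(M ⊓ L)).map (M ⊓ L).subtype) :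
    (∀ g : G, L ≠ conjMap g M) ∧
      normalizer (((T : Subgroup ↥(M ⊓ L)).map (M ⊓ L).subtype : Subgroup G) : Set G) ≤ M ∧
      ¬ q ∣ ((T : Subgroup ↥(M ⊓ L)).map (M ⊓ L).subtype).relIndex L := by
  obtain ⟨hN, hSL, -⟩ := sylow_inf hG hM hσ hNX (isSylowOf_sylow T) hXT
  refine ⟨fun g => not_conj_of_normalizer hG hM hσ hXq hX1 hXM hne hNX g, hN, ?_⟩
  obtain ⟨S', hS'⟩ := hSL.exists_sylow
  rw [← hS', relIndex, subgroupOf, comap_map_eq_self_of_injective L.subtype_injective]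
  exact S'.not_dvd_index

end Cfsg.Lib.OddLocal.RankTwoMax
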