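import Cfsg.Agent.OddLocal.FreeSubgroup
import Cfsg.Agent.OddLocal.FittingHall

/-!
# Centralizers of elements of `M_σ`
-/

set_option linter.unusedSectionVars false
set_option linter.unusedVariables false
set_option linter.style.haveILetI false

namespace Cfsg.Lib.OddLocal.RankTwoMax

open Subgroup Uniqueness Sigma
open Cfsg.Lib.Coprime (conjMap)
open scoped commutatorElement

universe u

variable {G : Type u} [Group G] [Finite G] {M N L : Subgroup G} {p : ℕ} [hp : Fact p.Prime] {x y : G}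

theorem sigma_conj_le (hM : IsCoatom M) (g : G) : Cfsg.sigma M ⊆ Cfsg.sigma (conjMap g M) := by
  intro q hq
  haveI := Fact.mk hq.1
  obtain ⟨P, hPM, hNP⟩ := exists_sylow_le hq
  have hgP : ((g • P : Sylow q G) : Subgroup G) = conjMap g (P : Subgroup G) := by
    rw [Sylow.coe_subgroup_smul, Cfsg.Lib.Coprime.conj_smul_eq]
  have h1 : ((g • P : Sylow q G) : Subgroup G) ≤ conjMap g M := hgP ▸ Cfsg.Lib.Coprime.conjMap_mono hPM
  obtain ⟨S, hS⟩ := (isSylowOf_coe (g • P) h1).exists_sylow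
  refine ⟨hq.1, by rw [Cfsg.Lib.Coprime.card_conjMap]; exact hq.2.1, S, ?_⟩
  rw [hS, hgP, Cfsg.Lib.Coprime.normalizer_conjMap]
  exact Cfsg.Lib.Coprime.conjMap_mono hNP

theorem sigma_conj (hM : IsCoatom M) (g : G) : Cfsg.sigma (conjMap g M) = Cfsg.sigma M := by
  refine Set.Subset.antisymm ?_ (sigma_conj_le hM g)
  have h := sigma_conj_le (conjMap_coatom hM g) g⁻¹
  rwa [Cfsg.Lib.Coprime.conjMap_inv_conjMap] at h

theorem sigmaCore_conj (hG : Cfsg.IsMinSimpleOddOrder G) (hM : IsCoatom M) (g : G) :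
    Cfsg.sigmaCore (conjMap g M) = conjMap g (Cfsg.sigmaCore M) := by
  refine (eq_sigmaCore ?_ ⟨Cfsg.Lib.Coprime.conjMap_mono (sigmaCore_le M), fun r hr hd => ?_,
    fun r hr hπ hd => ?_⟩).symm
  · rw [Cfsg.Lib.Coprime.normalizer_conjMap]
    exact Cfsg.Lib.Coprime.conjMap_mono (le_normalizer_sigmaCore M)
  · rw [sigma_conj hM]
    exact sigmaCore_isPi r hr (by rwa [Cfsg.Lib.Coprime.card_conjMap] at hd)
  · rw [sigma_conj hM] at hπ
    refine (sigmaCore_hall hG hM).2.2 r hr hπ ?_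
    rwa [show (conjMap g (Cfsg.sigmaCore M)).relIndex (conjMap g M) = (Cfsg.sigmaCore M).relIndex M from
      relIndex_map_map_of_injective _ _ (MulAut.conj g).injective] at hd

/-- A nilpotent `σ`-core is the nilpotent Hall core. -/
theorem sigmaCore_eq_fittingHall (hG : Cfsg.IsMinSimpleOddOrder G) (hN : IsCoatom N)
    (hnil : Group.IsNilpotent (Cfsg.sigmaCore N)) : Cfsg.sigmaCore N = Cfsg.fittingHallOf N := by
  refine le_antisymm ?_ ?_
  · haveI : ((Cfsg.sigmaCore N).subgroupOf N).Normal :=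
      (normal_subgroupOf_iff_le_normalizer (sigmaCore_le N)).mpr (le_normalizer_sigmaCore N)
    have hcop : (Nat.card ((Cfsg.sigmaCore N).subgroupOf N)).Coprime
        ((Cfsg.sigmaCore N).subgroupOf N).index := by
      rw [Nat.card_congr (subgroupOfEquivOfLe (sigmaCore_le N)).toEquiv]
      exact Nat.coprime_of_dvd fun r hr h1 h2 =>
        (sigmaCore_hall hG hN).2.2 r hr (sigmaCore_isPi r hr h1) h2
    have h1 : (Cfsg.sigmaCore N).subgroupOf N ≤ Cfsg.fittingHall N := le_sSup ⟨inferInstance,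
      (Group.isNilpotent_congr (subgroupOfEquivOfLe (sigmaCore_le N))).mpr hnil, hcop⟩
    intro z hz
    exact ⟨⟨z, sigmaCore_le N hz⟩, h1 hz, rfl⟩
  · show (Cfsg.fittingHall N).map N.subtype ≤ (Cfsg.piCore (Cfsg.sigma N) N).map N.subtype
    refine map_mono (le_sSup ⟨inferInstance, fun r hr hd => ?_⟩)
    haveI := Fact.mk hr
    haveI hFn : Group.IsNilpotent (Cfsg.fittingHall N) := CN.nilpotent_of_le
      Cfsg.Lib.FittingHall.fittingHall_le_fitting Cfsg.Lib.Components.isNilpotent_fitting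
    obtain ⟨S⟩ : Nonempty (Sylow r (Cfsg.fittingHall N)) := inferInstance
    haveI hSn : (S : Subgroup (Cfsg.fittingHall N)).Normal :=
      ((Group.isNilpotent_of_finite_tfae (G := Cfsg.fittingHall N)).out 0 3 rfl rfl).mp hFn r inferInstance S
    haveI hSc : (S : Subgroup (Cfsg.fittingHall N)).Characteristic := Sylow.characteristic_of_normal S hSn
    set T := (S : Subgroup (Cfsg.fittingHall N)).map (Cfsg.fittingHall N).subtype with hT
    haveI : T.Normal := ConjAct.normal_of_characteristic_of_normal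
    have hTi : ¬ r ∣ T.index := by
      rw [← relIndex_mul_index (map_subtype_le _ : T ≤ Cfsg.fittingHall N)]
      intro h
      rcases hr.dvd_mul.mp h with h | h
      · rw [relIndex, subgroupOf, comap_map_eq_self_of_injective (Cfsg.fittingHall N).subtype_injective] at h
        exact S.not_dvd_index h
      · exact hr.ne_one (Nat.eq_one_of_dvd_coprimes Cfsg.Lib.FittingHall.fittingHall_coprime hd h)
    set P : Sylow r N := (S.2.map _ : IsPGroup r T).toSylow hTi with hP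
    refine ⟨hr, hd.trans (card_subgroup_dvd_card _), P, ?_⟩
    have hT1 : T.map N.subtype ≠ ⊥ := by
      rw [ne_eq, map_eq_bot_iff_of_injective _ N.subtype_injective, map_eq_bot_iff_of_injective _
        (Cfsg.fittingHall N).subtype_injective]
      exact Sylow.ne_bot_of_dvd_card S hd
    refine (normalizer_eq hG hN hT1 (map_subtype_le _) ?_).le
    intro n hn
    refine le_normalizer_map N.subtype (mem_map_of_mem N.subtype (x := (⟨n, hn⟩ : N)) ?_)
    rw [normalizer_eq_top]; exact mem_top _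

theorem exists_pow_prime (hx1 : x ≠ 1) : ∃ q : ℕ, q.Prime ∧ q ∣ orderOf x :=
  Nat.exists_prime_and_dvd (mt orderOf_eq_one_iff.mp hx1)

theorem centralizer_le_pow (x : G) (n : ℕ) :
    centralizer ({x} : Set G) ≤ centralizer ({x ^ n} : Set G) := fun c hc =>
  mem_centralizer_singleton_iff.mpr
    ((show Commute c x from mem_centralizer_singleton_iff.mp hc).pow_right n).eq

/-- The data of an element of `M_σ` and a maximal subgroup over the centralizer of a power of it. -/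
theorem exists_support (hG : Cfsg.IsMinSimpleOddOrder G) (hM : IsCoatom M) (hx : x ∈ Cfsg.sigmaCore M)
    (hpx : p ∣ orderOf x) (hxM : ¬ centralizer ({x ^ (orderOf x / p)} : Set G) ≤ M) :
    ∃ N : Subgroup G, IsCoatom N ∧ centralizer ({x ^ (orderOf x / p)} : Set G) ≤ N ∧
      (∀ g : G, N ≠ conjMap g M) ∧ p ∈ Cfsg.tau2 N ∧ Group.IsNilpotent (Cfsg.sigmaCore N) ∧
      Cfsg.IsComplIn (M ⊓ N) (Cfsg.sigmaCore N) N := by
  set x₁ := x ^ (orderOf x / p) with hx₁
  have ho : orderOf x₁ = p := orderOf_pow_orderOf_div (orderOf_pos x).ne' hpx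
  have hX : Nat.card (zpowers x₁) = p := by rw [Nat.card_zpowers, ho]
  have hx₁σ : x₁ ∈ Cfsg.sigmaCore M := pow_mem hx _
  have hσ : p ∈ Cfsg.sigma M :=
    sigmaCore_isPi p hp.out ((dvd_of_eq hX.symm).trans (card_dvd_of_le (zpowers_le.mpr hx₁σ)))
  have hXM : zpowers x₁ ≤ M := zpowers_le.mpr (sigmaCore_le M hx₁σ)
  obtain ⟨N, hN, hNX⟩ := exists_coatom_ge (MinSimpleTransitivity.normalizer_ne_top hG (line_ne_bot hX)
    (FittingUniqueness.ne_top_of_le_coatom hM hXM))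
  have hCN : centralizer ({x₁} : Set G) ≤ N := by
    rw [← Cfsg.Lib.Coprime.centralizer_zpowers]; exact (centralizer_le_normalizer _).trans hNX
  have hne : N ≠ M := fun e => hxM (e ▸ hCN)
  have hnc := not_conj_of_normalizer hG hM hσ (isPGroup_of_card hX) (line_ne_bot hX) hXM hne hNX
  have hqN : p ∉ Cfsg.sigma N := fun h => hne (eq_of_sigma_centralizer hG hM hN hσ h (isPGroup_of_card hX)
    (line_ne_bot hX) hXM (le_normalizer.trans hNX) ((centralizer_le_normalizer _).trans hNX))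
  obtain ⟨hτ, hnil, E, hE, hEM⟩ := tau_two_other hG hM hN hσ hqN (isPGroup_of_card hX) (line_ne_bot hX) hXM hNX
  obtain ⟨A, hAE, hA, hAc⟩ := exists_sq_complement hG hN hE hτ
  obtain ⟨A₀, hexc⟩ := exists_exc hG hN hqN (hAE.trans hE.1) hA hAc
  have hinf := hexc.inf_other hG hM hne.symm (hAE.trans hEM)
  refine ⟨N, hN, hCN, hnc, hτ, hnil, inf_le_right, sigmaCore_le N, le_bot_iff.mp fun z hz => ?_, fun n hn => ?_⟩
  · exact hinf.le ⟨hz.2, hz.1.1⟩
  · obtain ⟨e, he, s, hs, rfl⟩ := hE.2.2.2 n hn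
    exact ⟨e, ⟨hEM he, hE.1 he⟩, s, hs, rfl⟩

/-- Factors of an element centralizing a point of the complement. -/
theorem compl_factor_centralizes {E H T : Subgroup G} (h : Cfsg.IsComplIn E H T)
    (hn : T ≤ normalizer (H : Set G)) (hxE : x ∈ E) {e s : G} (he : e ∈ E) (hs : s ∈ H)
    (hc : e * s * x = x * (e * s)) : s * x = x * s ∧ e * x = x * e := by
  have h1 : ⁅s, x⁆ = 1 := by
    refine mem_bot.mp (h.2.2.1.le ⟨?_, ?_⟩)
    · show _ ∈ E
      rw [show ⁅s, x⁆ = e⁻¹ * (e * s * x * (e * s)⁻¹) * e * x⁻¹ by rw [commutatorElement_def]; group,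
        hc, mul_inv_cancel_right]
      exact mul_mem (mul_mem (mul_mem (inv_mem he) hxE) he) (inv_mem hxE)
    · show _ ∈ H
      rw [commutatorElement_def, mul_assoc, mul_assoc, ← mul_assoc x]
      exact mul_mem hs ((mem_normalizer_iff.mp (hn (h.1 hxE)) _).mp (inv_mem hs))
  have h2 := commutatorElement_eq_one_iff_mul_comm.mp h1
  refine ⟨h2, mul_right_cancel (b := s) ?_⟩
  rw [mul_assoc x e s, ← hc, mul_assoc e x s, mul_assoc e s x, h2]

/-- A conjugate of `M` containing `x ∈ M_σ` is a conjugate by an element of `C(x)`. -/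
theorem exists_centralizer_conj (hG : Cfsg.IsMinSimpleOddOrder G) (hM : IsCoatom M)
    (hx : x ∈ Cfsg.sigmaCore M) (hx1 : x ≠ 1) {g : G} (hg : x ∈ conjMap g M) :
    ∃ c ∈ centralizer ({x} : Set G), conjMap c M = conjMap g M := by
  obtain ⟨q, hq, hqx⟩ := exists_pow_prime hx1
  haveI := Fact.mk hq
  set x₁ := x ^ (orderOf x / q) with hx₁
  have ho : orderOf x₁ = q := orderOf_pow_orderOf_div (orderOf_pos x).ne' hqx
  have hX : Nat.card (zpowers x₁) = q := by rw [Nat.card_zpowers, ho]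
  have hσ : q ∈ Cfsg.sigma M := sigmaCore_isPi q hq
    ((dvd_of_eq hX.symm).trans (card_dvd_of_le (zpowers_le.mpr (pow_mem hx _))))
  obtain ⟨c, hc, hcM⟩ := conj_transitive hG hM hσ (isPGroup_of_card hX) (line_ne_bot hX) (a := 1) (b := g)
    (by rw [Cfsg.Lib.Coprime.conjMap_one]; exact zpowers_le.mpr (pow_mem (sigmaCore_le M hx) _))
    (zpowers_le.mpr (pow_mem hg _))
  rw [Cfsg.Lib.Coprime.conjMap_one] at hcM
  rw [Cfsg.Lib.Coprime.centralizer_zpowers] at hc
  by_cases hle : centralizer ({x₁} : Set G) ≤ M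
  · exact ⟨1, one_mem _, by
      rw [Cfsg.Lib.Coprime.conjMap_one, ← hcM, Cfsg.Lib.Coprime.conjMap_eq_self (le_normalizer (hle hc))]⟩
  obtain ⟨N, hN, hCN, -, -, -, hcompl⟩ := exists_support (p := q) hG hM hx hqx hle
  have hxN : x ∈ N := hCN (centralizer_le_pow x _ (mem_centralizer_singleton_iff.mpr rfl))
  obtain ⟨e, he, s, hs, rfl⟩ := hcompl.2.2.2 c (hCN hc)
  set s' := e * s * e⁻¹ with hs'
  have hs'N : s' ∈ Cfsg.sigmaCore N := (mem_normalizer_iff.mp (le_normalizer_sigmaCore N he.2) s).mp hs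
  have hs'M : conjMap s' M = conjMap g M := by
    rw [← hcM, show e * s = s' * e by rw [hs']; group, ← Cfsg.Lib.Coprime.conjMap_mul s' e,
      Cfsg.Lib.Coprime.conjMap_eq_self (le_normalizer he.1)]
  refine ⟨s', mem_centralizer_singleton_iff.mpr ?_, hs'M⟩
  have h1 : s'⁻¹ * x * s' ∈ M := Cfsg.Lib.Coprime.mem_conjMap.mp (hs'M ▸ hg)
  have h2 : ⁅s'⁻¹, x⁆ = 1 := mem_bot.mp (hcompl.2.2.1.le ⟨⟨?_, ?_⟩, ?_⟩)
  · rw [commutatorElement_eq_one_iff_mul_comm] at h2
    calc s' * x = s' * (x * s'⁻¹) * s' := by group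
      _ = s' * (s'⁻¹ * x) * s' := by rw [h2]
      _ = x * s' := by group
  · show _ ∈ M
    rw [commutatorElement_def, inv_inv]
    exact mul_mem h1 (inv_mem (sigmaCore_le M hx))
  · show _ ∈ N
    rw [commutatorElement_def, inv_inv]
    exact mul_mem (mul_mem (mul_mem (inv_mem (sigmaCore_le N hs'N)) hxN) (sigmaCore_le N hs'N)) (inv_mem hxN)
  · show _ ∈ Cfsg.sigmaCore N
    rw [commutatorElement_def, inv_inv, mul_assoc, mul_assoc, ← mul_assoc x]
    exact mul_mem (inv_mem hs'N) ((mem_normalizer_iff.mp (le_normalizer_sigmaCore N hxN) _).mp hs'N)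

/-- The supporting maximal subgroup of an element of `M_σ`. -/
structure SupportPair (M N : Subgroup G) (x : G) : Prop where
  max : IsCoatom M
  maxN : IsCoatom N
  mem : x ∈ Cfsg.sigmaCore M
  ne_one : x ≠ 1
  not_le : ¬ centralizer ({x} : Set G) ≤ M
  le : centralizer ({x} : Set G) ≤ N
  not_conj : ∀ g : G, N ≠ conjMap g M
  unique : ∀ L : Subgroup G, IsCoatom L → centralizer ({x} : Set G) ≤ L → L = N
  tau : ∀ r : ℕ, r.Prime → r ∣ orderOf x → r ∈ Cfsg.tau2 N
  nilpotent : Group.IsNilpotent (Cfsg.sigmaCore N)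
  compl : Cfsg.IsComplIn (M ⊓ N) (Cfsg.sigmaCore N) N
  split : Cfsg.IsComplIn (M ⊓ centralizer ({x} : Set G)) (Cfsg.sigmaCore N ⊓ centralizer ({x} : Set G))
    (centralizer ({x} : Set G))
  mover : Cfsg.sigmaCore N ⊓ centralizer ({x} : Set G) ≠ ⊥

theorem exists_supportPair (hG : Cfsg.IsMinSimpleOddOrder G) (hM : IsCoatom M) (hx : x ∈ Cfsg.sigmaCore M)
    (hx1 : x ≠ 1) (hxM : ¬ centralizer ({x} : Set G) ≤ M) : ∃ N : Subgroup G, SupportPair M N x := by
  obtain ⟨q, hq, hqx⟩ := exists_pow_prime hx1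
  haveI := Fact.mk hq
  set x₁ := x ^ (orderOf x / q) with hx₁
  have ho : orderOf x₁ = q := orderOf_pow_orderOf_div (orderOf_pos x).ne' hqx
  have hCx : centralizer ({x} : Set G) ≤ centralizer ({x₁} : Set G) := centralizer_le_pow x _
  obtain ⟨N, hN, hCN, hnc, hτ, hnil, hcompl⟩ := exists_support (p := q) hG hM hx hqx fun h => hxM (hCx.trans h)
  have hxC : x ∈ centralizer ({x} : Set G) := mem_centralizer_singleton_iff.mpr rfl
  have hxN : x ∈ N := hCN (hCx hxC)
  have hxE : x ∈ M ⊓ N := ⟨sigmaCore_le M hx, hxN⟩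
  have hsplit : Cfsg.IsComplIn (M ⊓ centralizer ({x} : Set G))
      (Cfsg.sigmaCore N ⊓ centralizer ({x} : Set G)) (centralizer ({x} : Set G)) := by
    refine ⟨inf_le_right, inf_le_right, le_bot_iff.mp fun z hz => ?_, fun c hc => ?_⟩
    · exact hcompl.2.2.1.le ⟨⟨hz.1.1, hCN (hCx hz.1.2)⟩, hz.2.1⟩
    · obtain ⟨e, he, s, hs, rfl⟩ := hcompl.2.2.2 c (hCN (hCx hc))
      obtain ⟨h1, h2⟩ := compl_factor_centralizes hcompl (le_normalizer_sigmaCore N) hxE he hs
        (mem_centralizer_singleton_iff.mp hc)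
      exact ⟨e, ⟨he.1, mem_centralizer_singleton_iff.mpr h2⟩, s, ⟨hs, mem_centralizer_singleton_iff.mpr h1⟩,
        rfl⟩
  obtain ⟨z, hz, hz1⟩ : ∃ z ∈ Cfsg.sigmaCore N ⊓ centralizer ({x} : Set G), z ≠ (1 : G) := by
    by_contra hne
    push Not at hne
    refine hxM fun c hc => ?_
    obtain ⟨e, he, s, hs, rfl⟩ := hsplit.2.2.2 c hc
    rw [hne s hs, mul_one]
    exact he.1
  have hzx : z * x = x * z := mem_centralizer_singleton_iff.mp hz.2
  have hσ : ∀ r : ℕ, r.Prime → r ∣ orderOf x → r ∈ Cfsg.sigma M := fun r hr hd => sigmaCore_isPi r hr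
    (hd.trans (Nat.card_zpowers x ▸ card_dvd_of_le (zpowers_le.mpr hx)))
  have htau : ∀ r : ℕ, r.Prime → r ∣ orderOf x → r ∈ Cfsg.tau2 N := fun r hr hd => by
    haveI := Fact.mk hr
    have hrN : r ∉ Cfsg.sigma N := fun h => by
      obtain ⟨g, hg⟩ := (sigma_partition hG).2 M N hM hN ⟨r, hσ r hr hd, h⟩
      exact hnc g hg
    refine ⟨hr, hrN, pRankLE_of_not_sigma hG hN hrN, fun hr1 => ?_⟩
    set b := x ^ (orderOf x / r) with hb
    have hbo : orderOf b = r := orderOf_pow_orderOf_div (orderOf_pos x).ne' hd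
    have hbz : z * b = b * z := ((show Commute z x from hzx).pow_right _).eq
    have hκ : r ∈ Cfsg.kappa N := kappa_intro hG hN hrN hr1 (pow_mem hxN _) hbo hz.1 hz1 hbz
    have hκq : q ∈ Cfsg.kappa N := kappa_of_centralizes (p := r) (s := q) hG hN hκ
      (by rw [Nat.card_zpowers, hbo]) (zpowers_le.mpr (pow_mem hxN _)) ho (pow_mem hxN _) hτ.2.1 (by
        rw [Cfsg.Lib.Coprime.centralizer_zpowers]
        exact mem_centralizer_singleton_iff.mpr ((Commute.self_pow x _).pow_left _).eq)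
    exact hτ.2.2.2 (kappa_rank hG hN hκq)
  exact ⟨N, hM, hN, hx, hx1, hxM, hCx.trans hCN, hnc,
    (unique_centralizer_of_tau_two hG hN hxN hx1 htau hz.1 hz1 hzx.symm).2,
    htau, hnil, hcompl, hsplit, fun h0 => hz1 (mem_bot.mp (h0.le hz))⟩

theorem supportR_eq_bot (h : centralizer ({x} : Set G) ≤ M) : Cfsg.supportR M x = ⊥ :=
  dif_neg fun hh => hh.1 h

theorem SupportPair.supportR_eq (hG : Cfsg.IsMinSimpleOddOrder G) (h : SupportPair M N x) :
    Cfsg.supportR M x = Cfsg.sigmaCore N ⊓ centralizer ({x} : Set G) := by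
  have hu : ∃! L : Subgroup G, IsCoatom L ∧ centralizer ({x} : Set G) ≤ L :=
    ⟨N, ⟨h.maxN, h.le⟩, fun L hL => h.unique L hL.1 hL.2⟩
  unfold Cfsg.supportR
  rw [dif_pos ⟨h.not_le, hu⟩]
  have hc := Classical.choose_spec hu.exists
  rw [h.unique _ hc.1 hc.2, sigmaCore_eq_fittingHall hG h.maxN h.nilpotent]

/-- `R(x)` is a normal complement and acts regularly on the conjugates of `M` over `x`. -/
theorem supportR_regular (hG : Cfsg.IsMinSimpleOddOrder G) (hM : IsCoatom M) (hx : x ∈ Cfsg.sigmaCore M)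
    (hx1 : x ≠ 1) :
    Cfsg.supportR M x ≤ centralizer ({x} : Set G) ∧
      ∀ g : G, x ∈ conjMap g M → ∃! r : G, r ∈ Cfsg.supportR M x ∧ conjMap r M = conjMap g M := by
  by_cases hle : centralizer ({x} : Set G) ≤ M
  · rw [supportR_eq_bot hle]
    refine ⟨bot_le, fun g hg => ⟨1, ⟨one_mem _, ?_⟩, fun r hr => mem_bot.mp hr.1⟩⟩
    obtain ⟨c, hc, hcM⟩ := exists_centralizer_conj hG hM hx hx1 hg
    rw [Cfsg.Lib.Coprime.conjMap_one, ← hcM, Cfsg.Lib.Coprime.conjMap_eq_self (le_normalizer (hle hc))]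
  obtain ⟨N, h⟩ := exists_supportPair hG hM hx hx1 hle
  rw [h.supportR_eq hG]
  refine ⟨inf_le_right, fun g hg => ?_⟩
  obtain ⟨c, hc, hcM⟩ := exists_centralizer_conj hG hM hx hx1 hg
  obtain ⟨e, he, s, hs, rfl⟩ := h.split.2.2.2 c hc
  refine ⟨e * s * e⁻¹, ⟨⟨(mem_normalizer_iff.mp (le_normalizer_sigmaCore N (h.le he.2)) s).mp hs.1,
    Subgroup.mul_mem _ (Subgroup.mul_mem _ he.2 hs.2) (Subgroup.inv_mem _ he.2)⟩, ?_⟩, ?_⟩
  · rw [← hcM, ← Cfsg.Lib.Coprime.conjMap_mul (e * s) e⁻¹,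
      Cfsg.Lib.Coprime.conjMap_eq_self (le_normalizer (inv_mem he.1))]
  · rintro r ⟨hr, hrM⟩
    set r' := e * s * e⁻¹ with hr'
    have hr'σ : r' ∈ Cfsg.sigmaCore N := (mem_normalizer_iff.mp (le_normalizer_sigmaCore N (h.le he.2)) s).mp hs.1
    have h1 : r'⁻¹ * r ∈ M := eq_of_conj_fix hG hM (by
      rw [← Cfsg.Lib.Coprime.conjMap_mul, hrM, ← hcM, hr', Cfsg.Lib.Coprime.conjMap_mul,
        show (e * s * e⁻¹)⁻¹ * (e * s) = e by group, Cfsg.Lib.Coprime.conjMap_eq_self (le_normalizer he.1)])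
    have h2 : r'⁻¹ * r ∈ Cfsg.sigmaCore N := mul_mem (inv_mem hr'σ) hr.1
    have h3 : r'⁻¹ * r ∈ (M ⊓ N) ⊓ Cfsg.sigmaCore N := ⟨⟨h1, sigmaCore_le N h2⟩, h2⟩
    rw [h.compl.2.2.1, mem_bot, inv_mul_eq_one] at h3
    exact h3.symm

theorem supportR_normal (hG : Cfsg.IsMinSimpleOddOrder G) (hM : IsCoatom M) (hx : x ∈ Cfsg.sigmaCore M)
    (hx1 : x ≠ 1) :
    (Nat.card ↥(M ⊓ centralizer ({x} : Set G))).Coprime
        ((M ⊓ centralizer ({x} : Set G)).relIndex (centralizer ({x} : Set G))) ∧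
      centralizer ({x} : Set G) ≤ normalizer (Cfsg.supportR M x : Set G) ∧
      Cfsg.IsComplIn (M ⊓ centralizer ({x} : Set G)) (Cfsg.supportR M x) (centralizer ({x} : Set G)) := by
  by_cases hle : centralizer ({x} : Set G) ≤ M
  · rw [supportR_eq_bot hle, inf_eq_right.mpr hle, relIndex_self]
    refine ⟨Nat.coprime_one_right _, fun c hc => ?_, le_rfl, bot_le, inf_bot_eq _, fun c hc => ?_⟩
    · rw [normalizer_eq_top]; exact mem_top _
    · exact ⟨c, hc, 1, one_mem _, (mul_one c).symm⟩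
  obtain ⟨N, h⟩ := exists_supportPair hG hM hx hx1 hle
  rw [h.supportR_eq hG]
  refine ⟨?_, Cfsg.Lib.Coprime.le_normalizer_inf (h.le.trans (le_normalizer_sigmaCore N)) Subgroup.le_normalizer,
    h.split⟩
  have hE : Nat.card N = Nat.card ↥(M ⊓ N) * Nat.card (Cfsg.sigmaCore N) := compl_card h.compl
  have hC := compl_card h.split
  have hrel : (M ⊓ centralizer ({x} : Set G)).relIndex (centralizer ({x} : Set G)) =
      Nat.card ↥(Cfsg.sigmaCore N ⊓ centralizer ({x} : Set G)) := by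
    refine Nat.eq_of_mul_eq_mul_left (Nat.card_pos (α := ↥(M ⊓ centralizer ({x} : Set G)))) ?_
    rw [card_mul_relIndex inf_le_right, hC]
  rw [hrel]
  refine ((coprime_complement hG h.maxN h.compl).symm.coprime_dvd_left (card_dvd_of_le ?_)).coprime_dvd_right
    (card_dvd_of_le inf_le_left)
  exact le_inf inf_le_left (inf_le_right.trans h.le)

/-- The supporting maximal subgroup with its decompositions. -/
theorem SupportPair.decomp_mem (hG : Cfsg.IsMinSimpleOddOrder G) (h : SupportPair M N x)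
    {K' U' : Subgroup G} (hd : Cfsg.IsSigmaDecomposition N K' U') :
    U' ≠ ⊥ ∧ x ∈ Cfsg.sigmaA N U' ∧ x ∉ Cfsg.sigmaCore N := by
  obtain ⟨E, hs⟩ := decomp_split hG h.maxN hd
  have hxC : x ∈ centralizer ({x} : Set G) := mem_centralizer_singleton_iff.mpr rfl
  have hxN : x ∈ N := h.le hxC
  obtain ⟨q, hq, hqx⟩ := exists_pow_prime h.ne_one
  haveI := Fact.mk hq
  have hτ := h.tau q hq hqx
  have hπ : ∀ r : ℕ, r.Prime → r ∣ orderOf x →
      r ∈ {t : ℕ | t.Prime ∧ t ∉ Cfsg.kappa N ∧ t ∉ Cfsg.sigma N} := fun r hr hd' => by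
    haveI := Fact.mk hr
    exact ⟨hr, fun hκ => (h.tau r hr hd').2.2.2 (kappa_rank hG h.maxN hκ), (h.tau r hr hd').2.1⟩
  refine ⟨fun h0 => ?_, ⟨⟨hxN, ?_⟩, ?_⟩, fun hxσ => hτ.2.1 ?_⟩
  · refine hs.hallU.2.2 q hq (hπ q hq hqx) ?_
    rw [h0, relIndex_bot_left]
    exact hqx.trans (Nat.card_zpowers x ▸ card_dvd_of_le (zpowers_le.mpr hxN))
  · obtain ⟨z, hz, hz1⟩ : ∃ z ∈ Cfsg.sigmaCore N ⊓ centralizer ({x} : Set G), z ≠ (1 : G) := by
      by_contra hne
      push Not at hne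
      exact h.mover ((eq_bot_iff_forall _).mpr hne)
    exact ⟨z, hz.1, hz1, (mem_centralizer_singleton_iff.mp hz.2).symm⟩
  · set W := U' ⊔ Cfsg.sigmaCore N with hW
    have hWN : W ≤ N := sup_le hs.hallU.1 (sigmaCore_le N)
    haveI : (W.subgroupOf N).Normal := (normal_subgroupOf_iff_le_normalizer hWN).mpr hs.sup_normal
    have h1 : (⟨x, hxN⟩ : N) ∈ W.subgroupOf N := by
      refine (QuotientGroup.eq_one_iff _).mp ?_
      refine orderOf_eq_one_iff.mp (Nat.eq_one_of_dvd_coprimes (k := orderOf (QuotientGroup.mk' (W.subgroupOf N)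
        (⟨x, hxN⟩ : N))) (?_ : (orderOf x).Coprime (W.subgroupOf N).index) ?_ ?_)
      · refine Nat.coprime_of_dvd fun r hr h1 h2 => hs.hallU.2.2 r hr (hπ r hr h1) (h2.trans ?_)
        show W.relIndex N ∣ _
        rw [← relIndex_mul_relIndex U' W N le_sup_left hWN]
        exact dvd_mul_left _ _
      · exact (orderOf_map_dvd _ _).trans (by rw [Subgroup.orderOf_mk])
      · rw [Subgroup.index_eq_card]; exact orderOf_dvd_natCard _
    exact h1
  · exact sigmaCore_isPi q hq (hqx.trans (Nat.card_zpowers x ▸ card_dvd_of_le (zpowers_le.mpr hxσ)))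

theorem supportR_order (hG : Cfsg.IsMinSimpleOddOrder G) (hM : IsCoatom M) (hx : x ∈ Cfsg.sigmaCore M)
    (hx1 : x ≠ 1) {r : G} (hr : r ∈ Cfsg.supportR M x) :
    x * r = r * x ∧ (r = 1 ∨ ∃ N : Subgroup G, SupportPair M N x ∧ r ∈ Cfsg.sigmaCore N) := by
  refine ⟨(mem_centralizer_singleton_iff.mp ((supportR_regular hG hM hx hx1).1 hr)).symm, ?_⟩
  by_cases hle : centralizer ({x} : Set G) ≤ M
  · rw [supportR_eq_bot hle, mem_bot] at hr
    exact .inl hr
  · obtain ⟨N, h⟩ := exists_supportPair hG hM hx hx1 hle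
    rw [h.supportR_eq hG] at hr
    exact .inr ⟨N, h, hr.1⟩

theorem prime_of_mem_core (hx : x ∈ Cfsg.sigmaCore M) {q : ℕ} (hq : q.Prime) (hd : q ∣ orderOf x) :
    q ∈ Cfsg.sigma M :=
  sigmaCore_isPi q hq (hd.trans (Nat.card_zpowers x ▸ card_dvd_of_le (zpowers_le.mpr hx)))

/-- Separating two factorisations by coprime orders. -/
theorem eq_of_parts {a b c d : G} (hab : Commute a b) (hcd : Commute c d) (he : a * b = c * d)
    (hcop : ∀ q : ℕ, q.Prime → (q ∣ orderOf a ∨ q ∣ orderOf c) → ¬ (q ∣ orderOf b ∨ q ∣ orderOf d)) :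
    a = c ∧ b = d := by
  have h1 : (Nat.lcm (orderOf a) (orderOf c)).Coprime (Nat.lcm (orderOf b) (orderOf d)) :=
    Nat.coprime_of_dvd fun q hq h1 h2 => hcop q hq ((Nat.Prime.dvd_lcm hq).mp h1) ((Nat.Prime.dvd_lcm hq).mp h2)
  obtain ⟨n, hn1, hn2⟩ := Nat.chineseRemainder h1 1 0
  have key : ∀ u v : G, Commute u v → orderOf u ∣ Nat.lcm (orderOf a) (orderOf c) →
      orderOf v ∣ Nat.lcm (orderOf b) (orderOf d) → (u * v) ^ n = u := fun u v huv hu hv => by
    rw [huv.mul_pow, (pow_eq_pow_iff_modEq.mpr (hn1.of_dvd hu) : u ^ n = u ^ 1),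
      (pow_eq_pow_iff_modEq.mpr (hn2.of_dvd hv) : v ^ n = v ^ 0), pow_one, pow_zero, mul_one]
  have hac : a = c := by
    rw [← key a b hab (Nat.dvd_lcm_left _ _) (Nat.dvd_lcm_left _ _), he,
      key c d hcd (Nat.dvd_lcm_right _ _) (Nat.dvd_lcm_right _ _)]
  exact ⟨hac, mul_left_cancel (hac ▸ he)⟩

/-- The sets `x R(x)` are pairwise disjoint. -/
theorem supportR_disjoint (hG : Cfsg.IsMinSimpleOddOrder G) (hM : IsCoatom M) (hN : IsCoatom N)
    (hx : x ∈ Cfsg.sigmaCore M) (hy : y ∈ Cfsg.sigmaCore N) (hx1 : x ≠ 1) (hy1 : y ≠ 1) (hxy : x ≠ y) :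
    ∀ r ∈ Cfsg.supportR M x, ∀ s ∈ Cfsg.supportR N y, x * r ≠ y * s := by
  intro r hr s hs heq
  obtain ⟨hxr, hr'⟩ := supportR_order hG hM hx hx1 hr
  obtain ⟨hys, hs'⟩ := supportR_order hG hN hy hy1 hs
  have hx' : ∀ q : ℕ, q.Prime → q ∣ orderOf x → q ∈ Cfsg.sigma M := fun q hq hd => prime_of_mem_core hx hq hd
  have hy' : ∀ q : ℕ, q.Prime → q ∣ orderOf y → q ∈ Cfsg.sigma N := fun q hq hd => prime_of_mem_core hy hq hd
  have hrM : ∀ q : ℕ, q.Prime → q ∣ orderOf r → q ∉ Cfsg.sigma M := fun q hq hd hσ => by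
    rcases hr' with rfl | ⟨L, hL, hrL⟩
    · rw [orderOf_one] at hd; exact hq.not_dvd_one hd
    · obtain ⟨g, hg⟩ := (sigma_partition hG).2 M L hM hL.maxN ⟨q, hσ, prime_of_mem_core hrL hq hd⟩
      exact hL.not_conj g hg
  have hsN : ∀ q : ℕ, q.Prime → q ∣ orderOf s → q ∉ Cfsg.sigma N := fun q hq hd hσ => by
    rcases hs' with rfl | ⟨L, hL, hsL⟩
    · rw [orderOf_one] at hd; exact hq.not_dvd_one hd
    · obtain ⟨g, hg⟩ := (sigma_partition hG).2 N L hN hL.maxN ⟨q, hσ, prime_of_mem_core hsL hq hd⟩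
      exact hL.not_conj g hg
  by_cases hne : (Cfsg.sigma M ∩ Cfsg.sigma N).Nonempty
  · obtain ⟨g, hg⟩ := (sigma_partition hG).2 M N hM hN hne
    have he : Cfsg.sigma N = Cfsg.sigma M := hg ▸ sigma_conj hM g
    refine hxy (eq_of_parts hxr hys heq fun q hq h1 h2 => ?_).1
    have hqσ : q ∈ Cfsg.sigma M := h1.elim (hx' q hq) fun h => he ▸ hy' q hq h
    exact h2.elim (fun h => hrM q hq h hqσ) fun h => hsN q hq h (he ▸ hqσ)
  have hord : orderOf x * orderOf r = orderOf y * orderOf s := by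
    rw [← (show Commute x r from hxr).orderOf_mul_eq_mul_orderOf_of_coprime (Nat.coprime_of_dvd fun q hq h1 h2 =>
        hrM q hq h2 (hx' q hq h1)),
      ← (show Commute y s from hys).orderOf_mul_eq_mul_orderOf_of_coprime (Nat.coprime_of_dvd fun q hq h1 h2 =>
        hsN q hq h2 (hy' q hq h1)), heq]
  have hcop : (orderOf x).Coprime (orderOf y) := Nat.coprime_of_dvd fun q hq h1 h2 =>
    hne ⟨q, hx' q hq h1, hy' q hq h2⟩
  have hxs : orderOf x ∣ orderOf s := hcop.dvd_of_dvd_mul_left (hord ▸ dvd_mul_right _ _)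
  have hyr : orderOf y ∣ orderOf r := hcop.symm.dvd_of_dvd_mul_left (hord.symm ▸ dvd_mul_right _ _)
  obtain ⟨q, hq, hqx⟩ := exists_pow_prime hx1
  obtain ⟨t, ht, hty⟩ := exists_pow_prime hy1
  obtain ⟨L, hL, hrL⟩ : ∃ L, SupportPair M L x ∧ r ∈ Cfsg.sigmaCore L := hr'.resolve_left fun h => by
    rw [h, orderOf_one] at hyr
    exact ht.not_dvd_one (hty.trans hyr)
  obtain ⟨L', hL', hsL⟩ : ∃ L', SupportPair N L' y ∧ s ∈ Cfsg.sigmaCore L' := hs'.resolve_left fun h => by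
    rw [h, orderOf_one] at hxs
    exact hq.not_dvd_one (hqx.trans hxs)
  obtain ⟨g, hg⟩ := (sigma_partition hG).2 N L hN hL.maxN
    ⟨t, hy' t ht hty, prime_of_mem_core hrL ht (hty.trans hyr)⟩
  obtain ⟨g', hg'⟩ := (sigma_partition hG).2 M L' hM hL'.maxN
    ⟨q, hx' q hq hqx, prime_of_mem_core hsL hq (hqx.trans hxs)⟩
  have heL : Cfsg.sigma L = Cfsg.sigma N := hg ▸ sigma_conj hN g
  have heL' : Cfsg.sigma L' = Cfsg.sigma M := hg' ▸ sigma_conj hM g'
  obtain ⟨hxs', hry⟩ : x = s ∧ r = y := eq_of_parts hxr (show Commute s y from hys.symm)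
    (heq.trans hys) fun a ha h1 h2 => by
      have haM : a ∈ Cfsg.sigma M := h1.elim (hx' a ha) fun h => heL' ▸ prime_of_mem_core hsL ha h
      exact h2.elim (fun h => hrM a ha h haM) fun h => hne ⟨a, haM, hy' a ha h⟩
  subst hxs'
  subst hry
  -- `L'` is a conjugate of `M` over `x`, by an element of `R(x)`
  have hxL' : x ∈ conjMap g' M := by
    rw [show conjMap g' M = L' from hg'.symm]; exact sigmaCore_le L' hsL
  obtain ⟨c, ⟨hc, hcM⟩, -⟩ := (supportR_regular hG hM hx hx1).2 g' hxL'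
  have hcL : c ∈ Cfsg.sigmaCore L := by rw [hL.supportR_eq hG] at hc; exact hc.1
  have hyM : r ∈ conjMap c M := by
    rw [hcM, show conjMap g' M = L' from hg'.symm]
    exact hL'.le (mem_centralizer_singleton_iff.mpr rfl)
  have h1 := Cfsg.Lib.Coprime.mem_conjMap.mp hyM
  have h2 : c⁻¹ * r * c ∈ Cfsg.sigmaCore L := mul_mem (mul_mem (inv_mem hcL) hrL) hcL
  have h3 := hL.compl.2.2.1.le ⟨⟨h1, sigmaCore_le L h2⟩, h2⟩
  rw [mem_bot] at h3
  refine hy1 ?_
  calc r = c * (c⁻¹ * r * c) * c⁻¹ := by group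
    _ = 1 := by rw [h3]; group

end Cfsg.Lib.OddLocal.RankTwoMax
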