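import Cfsg.Agent.OddLocal.TauTwo

/-!
# Elementary subgroups at `τ₂` in complements of `M_σ`
-/

set_option linter.unusedSectionVars false
set_option linter.unusedVariables false
set_option linter.style.haveILetI false

namespace Cfsg.Lib.OddLocal.RankTwoMax

open Subgroup Uniqueness Sigma
open Cfsg.Lib.Coprime (conjMap)
open scoped commutatorElement

universe u

variable {G : Type u} [Group G] [Finite G] {M L A A₀ E : Subgroup G} {p : ℕ} [hp : Fact p.Prime]

/-- A complement containing `A` normalizes it. -/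
theorem Exc.le_normalizer (hG : Cfsg.IsMinSimpleOddOrder G) (h : Exc p M A A₀)
    (hE : Cfsg.IsComplIn E (Cfsg.sigmaCore M) M) (hAE : A ≤ E) : E ≤ normalizer (A : Set G) := by
  have hW : E ⊓ (Cfsg.sigmaCore M ⊔ A) = A := by
    refine le_antisymm (fun x hx => ?_) (le_inf hAE le_sup_right)
    obtain ⟨s, hs, a, ha, rfl⟩ := (Cfsg.Lib.Coprime.mem_sup_of_le_normalizer
      (h.le.trans (le_normalizer_sigmaCore M))).mp hx.2
    have h1 : s ∈ E ⊓ Cfsg.sigmaCore M := ⟨(mul_mem_cancel_right (hAE ha)).mp (show s * a ∈ E from hx.1), hs⟩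
    rw [hE.2.2.1, mem_bot] at h1
    rwa [h1, one_mul]
  rw [← hW]
  exact Cfsg.Lib.Coprime.le_normalizer_inf Subgroup.le_normalizer (hE.1.trans (h.normalizes_sup hG))

theorem Exc.order_p_le (hG : Cfsg.IsMinSimpleOddOrder G) (h : Exc p M A A₀)
    (hE : Cfsg.IsComplIn E (Cfsg.sigmaCore M) M) (hAE : A ≤ E) {X : Subgroup G} (hX : X ≤ E)
    (hXc : Nat.card X = p) : X ≤ A := by
  have hsq := h.maxSq hG
  have hp' : IsPGroup p (X ⊔ A : Subgroup G) :=
    (isPGroup_of_card hXc).to_sup_of_normal_right' hsq.isPGroup (hX.trans (h.le_normalizer hG hE hAE))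
  obtain ⟨S, hS, hle⟩ := exists_sylowOf hp' (sup_le (hX.trans hE.1) h.le)
  intro x hx
  refine (h.mem_iff hG hS (le_sup_right.trans hle) (hle (mem_sup_left hx))).mp ?_
  have h1 := pow_card_eq_one' (G := X) (x := ⟨x, hx⟩)
  rw [hXc] at h1
  exact congrArg Subtype.val h1

theorem Exc.inf_normalizer (hG : Cfsg.IsMinSimpleOddOrder G) (h : Exc p M A A₀)
    (hE : Cfsg.IsComplIn E (Cfsg.sigmaCore M) M) (hAE : A ≤ E) :
    M ⊓ normalizer (A : Set G) = E := by
  refine le_antisymm (fun x hx => ?_) (le_inf hE.1 (h.le_normalizer hG hE hAE))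
  obtain ⟨e, he, s, hs, rfl⟩ := hE.2.2.2 x hx.1
  have hsA : s ∈ normalizer (A : Set G) := by
    have := mul_mem (inv_mem (h.le_normalizer hG hE hAE he)) hx.2
    rwa [inv_mul_cancel_left] at this
  have hsC : s ∈ centralizer (A : Set G) := mem_centralizer_iff.mpr fun a ha => by
    have h1 : ⁅a, s⁆ ∈ A ⊓ Cfsg.sigmaCore M := ⟨by
        rw [commutatorElement_def, mul_assoc, mul_assoc]
        refine Subgroup.mul_mem _ ha ?_
        rw [← mul_assoc]
        exact (mem_normalizer_iff.mp hsA _).mp (inv_mem ha), by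
        rw [commutatorElement_def]
        exact Subgroup.mul_mem _ ((mem_normalizer_iff.mp (le_normalizer_sigmaCore M (h.le ha)) s).mp hs)
          (Subgroup.inv_mem _ hs)⟩
    rw [Cfsg.Lib.Coprime.inf_eq_bot_of_coprime h.coprime_sigmaCore, mem_bot] at h1
    exact commutatorElement_eq_one_iff_mul_comm.mp h1
  have h2 : s = 1 := mem_bot.mp ((h.inf_centralizer_eq_bot hG).le ⟨hs, hsC⟩)
  rwa [h2, mul_one]

/-- Corollary 12.6. -/
theorem tau_two_complement (hG : Cfsg.IsMinSimpleOddOrder G) (hM : IsCoatom M) (hσ : p ∉ Cfsg.sigma M)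
    (hE : Cfsg.IsComplIn E (Cfsg.sigmaCore M) M) (hAE : A ≤ E) (hA : Cfsg.IsElementaryAbelian p A)
    (hAc : Nat.card A = p ^ 2) :
    (E ≤ normalizer (A : Set G) ∧ ∀ X : Subgroup G, X ≤ E → Nat.card X = p → X ≤ A) ∧
      (centralizer (A : Set G) ≤ M ⊓ normalizer (A : Set G) ∧ M ⊓ normalizer (A : Set G) = E ∧
        ¬ normalizer (A : Set G) ≤ M) ∧
      ∀ X : Subgroup G, X ≤ A → Nat.card X = p → Cfsg.sigmaCore M ⊓ centralizer (X : Set G) ≠ ⊥ →
        (centralizer (X : Set G) ≤ M ∧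
          ∀ L : Subgroup G, IsCoatom L → centralizer (X : Set G) ≤ L → L = M) := by
  obtain ⟨A₀, h⟩ := exists_exc hG hM hσ (hAE.trans hE.1) hA hAc
  refine ⟨⟨h.le_normalizer hG hE hAE, fun X hX hXc => h.order_p_le hG hE hAE hX hXc⟩,
    ⟨le_inf h.centralizer_le (centralizer_le_normalizer _), h.inf_normalizer hG hE hAE, fun hle => ?_⟩, ?_⟩
  · obtain ⟨g, hg, hgM⟩ := h.exists_mem_normalizer hG
    exact hgM (hle hg)
  intro X hXA hXc hfix
  haveI : IsMulCommutative A := hA.1
  have hAC : A ≤ centralizer (X : Set G) := fun a ha => mem_centralizer_iff.mpr fun x hx =>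
    ThompsonTransitivity.mul_comm_of inferInstance (hXA hx) ha
  have huniq : ∀ L : Subgroup G, IsCoatom L → centralizer (X : Set G) ≤ L → L = M := fun L hL hle => by
    by_contra hne
    exact hfix (le_bot_iff.mp ((inf_le_inf_left _ hle).trans (h.inf_other hG hL hne (hAC.trans hle)).le))
  have hX1 : X ≠ ⊥ := fun h0 => hp.out.ne_one (by rw [← hXc, h0, Subgroup.card_bot])
  obtain ⟨L, hL, hle⟩ := exists_coatom_ge (MinSimpleTransitivity.normalizer_ne_top hG hX1
    (FittingUniqueness.ne_top_of_le_coatom hM (hXA.trans h.le)))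
  exact ⟨huniq L hL ((centralizer_le_normalizer _).trans hle) ▸ (centralizer_le_normalizer _).trans hle, huniq⟩

end Cfsg.Lib.OddLocal.RankTwoMax
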