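import Cfsg.Agent.OddLocal.KappaPartner

/-!
# Counting the elements attached to pairs with a common `Z`
-/

set_option linter.unusedSectionVars false
set_option linter.unusedVariables false
set_option linter.style.haveILetI false

namespace Cfsg.Lib.OddLocal.RankTwoMax

open Subgroup Uniqueness Sigma
open Cfsg.Lib.Coprime (conjMap)
open scoped commutatorElement

universe u

variable {G : Type u} [Group G] [Finite G] {M L K J U : Subgroup G}

local notation "fix(" M ", " K ")" => Cfsg.sigmaCore M ⊓ centralizer (SetLike.coe K)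

/-- The number of conjugates of a normalized TI-set. -/
theorem ncard_conj_image (H : Subgroup G) (T : Set G) (hn : ∀ h ∈ H, ∀ z ∈ T, h * z * h⁻¹ ∈ T)
    (hti : ∀ g : G, ∀ z ∈ T, g * z * g⁻¹ ∈ T → g ∈ H) :
    Set.ncard {a : G | ∃ g : G, ∃ z ∈ T, a = g * z * g⁻¹} = Set.ncard T * H.index := by
  rw [← Nat.card_coe_set_eq, ← Nat.card_coe_set_eq, Subgroup.index_eq_card, ← Nat.card_prod]
  refine (Nat.card_eq_of_bijective (fun qz : T × (G ⧸ H) =>
    (⟨qz.2.out * qz.1 * qz.2.out⁻¹, qz.2.out, qz.1, qz.1.2, rfl⟩ :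
      {a : G | ∃ g : G, ∃ z ∈ T, a = g * z * g⁻¹})) ⟨?_, ?_⟩).symm
  · rintro ⟨⟨z, hz⟩, a⟩ ⟨⟨w, hw⟩, b⟩ he
    have he' : a.out * z * a.out⁻¹ = b.out * w * b.out⁻¹ := congrArg Subtype.val he
    have h1 : b.out⁻¹ * a.out * z * (b.out⁻¹ * a.out)⁻¹ = w := by
      calc _ = b.out⁻¹ * (a.out * z * a.out⁻¹) * b.out := by group
        _ = w := by rw [he']; group
    have h2 := hti _ z hz (h1.symm ▸ hw)
    have hab : b = a := by
      rw [← QuotientGroup.out_eq' a, ← QuotientGroup.out_eq' b]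
      exact QuotientGroup.eq.mpr h2
    subst hab
    exact Prod.ext (Subtype.ext (mul_left_cancel (mul_right_cancel he'))) rfl
  · rintro ⟨_, g, z, hz, rfl⟩
    obtain ⟨m, hm⟩ := QuotientGroup.mk_out_eq_mul H g
    refine ⟨⟨⟨_, hn (m : G)⁻¹ (inv_mem m.2) z hz⟩, QuotientGroup.mk g⟩, Subtype.ext ?_⟩
    show (QuotientGroup.mk g : G ⧸ H).out * _ * _ = g * z * g⁻¹
    rw [hm]; group

theorem one_notMem_tilde (hG : Cfsg.IsMinSimpleOddOrder G) (hM : IsCoatom M) :
    (1 : G) ∉ Cfsg.tildeOf M ((Cfsg.sigmaCore M : Set G) \ {1}) := by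
  rintro ⟨a, ⟨ha, ha1⟩, r, hr, y, hy⟩
  have har : a * r = 1 := conj_eq_one_iff.mp hy.symm
  have ha1' : a ≠ 1 := ha1
  rcases (supportR_order hG hM ha ha1' hr).2 with rfl | ⟨N, hN, hrN⟩
  · exact ha1' (by simpa using har)
  · exact ha1' (mem_bot.mp ((sigmaCore_inf_eq_bot hG hM hN.maxN hN.not_conj).le
      (x := a) ⟨ha, by rw [eq_inv_of_mul_eq_one_left har]; exact Subgroup.inv_mem _ hrN⟩))

/-- The sets attached to maximal subgroups with no common `σ`-prime are disjoint. -/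
theorem tilde_disjoint (hG : Cfsg.IsMinSimpleOddOrder G) (hM : IsCoatom M) (hL : IsCoatom L)
    (hσ : ¬ (Cfsg.sigma M ∩ Cfsg.sigma L).Nonempty) :
    Disjoint (Cfsg.tildeOf M ((Cfsg.sigmaCore M : Set G) \ {1}))
      (Cfsg.tildeOf L ((Cfsg.sigmaCore L : Set G) \ {1})) := by
  refine Set.disjoint_left.mpr ?_
  rintro _ ⟨a, ⟨ha, ha1⟩, r, hr, y, rfl⟩ ⟨b, ⟨hb, hb1⟩, s, hs, y', he⟩
  have ha1' : a ≠ 1 := ha1
  set c := y'⁻¹ * y with hc
  have hr' : c * r * c⁻¹ ∈ Cfsg.supportR (conjMap c M) (c * a * c⁻¹) := by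
    rw [supportR_conj hG hM ha ha1' c]; exact ⟨r, hr, rfl⟩
  have hcore := mem_core_conj hG hM ha c
  refine supportR_disjoint hG (conjMap_coatom hM c) hL hcore hb (by rwa [Ne, conj_eq_one_iff]) hb1 ?_
    _ hr' _ hs ?_
  · intro e
    obtain ⟨q, hq, hd⟩ := exists_pow_prime (x := c * a * c⁻¹) (by rwa [Ne, conj_eq_one_iff])
    exact hσ ⟨q, sigma_conj hM c ▸ prime_of_mem_core hcore hq hd, prime_of_mem_core hb hq (e ▸ hd)⟩
  · calc c * a * c⁻¹ * (c * r * c⁻¹) = y'⁻¹ * (y * (a * r) * y⁻¹) * y' := by rw [hc]; group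
      _ = b * s := by rw [he]; group

/-- An element of `Z` outside `C_{M_σ}(K)` is in no conjugate of a set `x R(x)`. -/
theorem KappaPair.conj_notMem_tilde (hG : Cfsg.IsMinSimpleOddOrder G) (h : KappaPair M K) {z g : G}
    (hz : z ∈ K ⊔ fix(M, K)) (hzW : z ∉ fix(M, K)) :
    g * z * g⁻¹ ∉ Cfsg.tildeOf M ((Cfsg.sigmaCore M : Set G) \ {1}) := by
  have hM := h.max
  rintro ⟨a, ⟨ha, ha1⟩, r, hr, y, he⟩
  have ha1' : a ≠ 1 := ha1
  obtain ⟨k, hk, w, hw, rfl⟩ := h.exists_mul hz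
  set c := g⁻¹ * y with hc
  have hx := mem_core_conj hG hM ha c
  have hx1 : c * a * c⁻¹ ≠ 1 := by rwa [Ne, conj_eq_one_iff]
  have hr' : c * r * c⁻¹ ∈ Cfsg.supportR (conjMap c M) (c * a * c⁻¹) := by
    rw [supportR_conj hG hM ha ha1' c]; exact ⟨r, hr, rfl⟩
  obtain ⟨hxr, hro⟩ := supportR_order hG (conjMap_coatom hM c) hx hx1 hr'
  have heq : c * a * c⁻¹ * (c * r * c⁻¹) = w * k := by
    rw [← (h.commute hk hw).eq]
    calc c * a * c⁻¹ * (c * r * c⁻¹) = g⁻¹ * (y * (a * r) * y⁻¹) * g := by rw [hc]; group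
      _ = k * w := by rw [← he]; group
  obtain ⟨e1, e2⟩ := eq_of_parts (show Commute (c * a * c⁻¹) (c * r * c⁻¹) from hxr) (h.commute hk hw).symm heq
    fun t ht h1 h2 => by
      have hσt : t ∈ Cfsg.sigma M := h1.elim
        (fun hd => sigma_conj hM c ▸ prime_of_mem_core hx ht hd) (h.sigma_fix hw ht)
      rcases h2 with h2 | h2
      · rcases hro with h0 | ⟨N, hN, hrN⟩
        · rw [h0, orderOf_one] at h2; exact ht.not_dvd_one h2
        · obtain ⟨d, hd⟩ := (sigma_partition hG).2 (conjMap c M) N (conjMap_coatom hM c) hN.maxN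
            ⟨t, (sigma_conj hM c).symm ▸ hσt, prime_of_mem_core hrN ht h2⟩
          exact hN.not_conj d hd
      · exact h.not_sigma hk ht h2 hσt
  rw [e1, e2] at hr'
  have hw1 : w ≠ 1 := e1 ▸ hx1
  rw [(supportR_indep hG hM hw.1 hw1 (g := c) (e1 ▸ sigmaCore_le _ hx)).2] at hr'
  obtain ⟨X, hXK, hX⟩ := exists_line h.ne
  haveI := Fact.mk hX
  obtain ⟨⟨b, hbX⟩, hb⟩ := exists_prime_orderOf_dvd_card' (G := X) (Nat.card X) dvd_rfl
  rw [supportR_eq_bot (centralizer_le_of_kappa (p := Nat.card X) hG hM hw.1 hw1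
    (h.hall.2.1 _ hX (card_dvd_of_le hXK)) (h.hall.1 (hXK hbX)) (by rw [← hb, orderOf_mk])
    (h.commute (hXK hbX) hw).eq), mem_bot] at hr'
  exact hzW (by rw [hr', one_mul]; exact hw)

/-- The number of fixed points is at most a third of `|M_σ|`. -/
theorem KappaPair.three_mul_fix_le (hG : Cfsg.IsMinSimpleOddOrder G) (h : KappaPair M K) :
    3 * Nat.card ↥(fix(M, K)) ≤ Nat.card (Cfsg.sigmaCore M) := by
  obtain ⟨r, hr, hd⟩ := Nat.exists_prime_and_dvd (mt card_eq_one.mp (h.fix_ne hG))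
  haveI := Fact.mk hr
  obtain ⟨S⟩ : Nonempty (Sylow r ↥(Cfsg.sigmaCore M)) := inferInstance
  have hnot := (fixed_sylow hG h.max h.hall h.ne hd S).2.2
  rw [← card_mul_relIndex (inf_le_left : fix(M, K) ≤ Cfsg.sigmaCore M), mul_comm 3]
  refine Nat.mul_le_mul_left _ ?_
  set m := (fix(M, K)).relIndex (Cfsg.sigmaCore M) with hm
  have hm1 : m ≠ 1 := fun e => hnot ((map_subtype_le _).trans (relIndex_eq_one.mp e))
  have hodd : Odd m := hG.1.of_dvd_nat (((relIndex_dvd_card _ _).trans (card_subgroup_dvd_card _)))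
  obtain ⟨j, hj⟩ := hodd
  omega

/-- No family of at least two pairs with a common `Z` has all complements trivial. -/
theorem pairs_count {ι : Type*} [Fintype ι] (hG : Cfsg.IsMinSimpleOddOrder G) (Z : Subgroup G)
    (M J : ι → Subgroup G) (hp : ∀ i, KappaPair (M i) (J i)) (hZ : ∀ i, J i ⊔ fix(M i, J i) = Z)
    (hinj : Function.Injective M) (hn : 2 ≤ Fintype.card ι)
    (hU : ∀ i, Nat.card (M i) = Nat.card (Cfsg.sigmaCore (M i)) * Nat.card (J i))
    (hcov : ∀ z ∈ Z, z ≠ 1 → ∃ i, ∃ t : ℕ, t.Prime ∧ t ∣ orderOf z ∧ t ∈ Cfsg.sigma (M i)) : False := by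
  classical
  haveI : Fintype G := Fintype.ofFinite G
  set T : Set G := {z | z ∈ Z ∧ z ≠ 1 ∧ ∀ i, z ∉ fix(M i, J i)} with hT
  have hti : ∀ g : G, ∀ z ∈ T, g * z * g⁻¹ ∈ T → g ∈ Z := fun g z hz hgz => by
    obtain ⟨i, t, ht, htd, hσ⟩ := hcov z hz.1 hz.2.1
    rw [← hZ i]
    exact (hp i).conj_mem hG ((hZ i).ge hz.1) (fun hzJ => (hp i).not_sigma hzJ ht htd hσ) (hz.2.2 i)
      ((hZ i).ge hgz.1)
  have hnorm : ∀ h ∈ Z, ∀ z ∈ T, h * z * h⁻¹ ∈ T := fun h hh z hz => by
    refine ⟨mul_mem (mul_mem hh hz.1) (inv_mem hh), by rw [Ne, conj_eq_one_iff]; exact hz.2.1, fun i hi => ?_⟩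
    refine hz.2.2 i ((hp i).mem_fix ((hZ i).ge hz.1) fun t ht hd => (hp i).sigma_fix hi ht ?_)
    rwa [show orderOf (h * z * h⁻¹) = orderOf z from
      orderOf_injective (MulAut.conj h).toMonoidHom (MulEquiv.injective _) z]
  set C : Set G := {a | ∃ g : G, ∃ z ∈ T, a = g * z * g⁻¹} with hC
  have hCcard : C.ncard = T.ncard * Z.index := ncard_conj_image Z T hnorm hti
  set A : ι → Finset G := fun i =>
    (Cfsg.tildeOf (M i) ((Cfsg.sigmaCore (M i) : Set G) \ {1})).toFinset with hA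
  have hAd : ((Finset.univ : Finset ι) : Set ι).PairwiseDisjoint A := fun i _ j _ hij => by
    refine Set.disjoint_toFinset.mpr (tilde_disjoint hG (hp i).max (hp j).max fun hσ => hij (hinj ?_))
    exact ((hp i).eq_of_sigma hG (hp j) ((hZ j).trans (hZ i).symm) hσ).symm
  have hAC : Disjoint (Finset.univ.biUnion A) C.toFinset := by
    rw [Finset.disjoint_biUnion_left]
    intro i _
    refine Set.disjoint_toFinset.mpr (Set.disjoint_right.mpr ?_)
    rintro _ ⟨g, z, hz, rfl⟩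
    exact (hp i).conj_notMem_tilde hG ((hZ i).ge hz.1) (hz.2.2 i)
  have h1 : (1 : G) ∉ Finset.univ.biUnion A ∪ C.toFinset := by
    rw [Finset.mem_union, Finset.mem_biUnion, Set.mem_toFinset]
    rintro (⟨i, -, hi⟩ | ⟨g, z, hz, he⟩)
    · exact one_notMem_tilde hG (hp i).max (Set.mem_toFinset.mp hi)
    · exact hz.2.1 (conj_eq_one_iff.mp he.symm)
  have htot : ∑ i, (Nat.card (Cfsg.sigmaCore (M i)) - 1) * (M i).index + T.ncard * Z.index + 1 ≤ Nat.card G := by
    have h2 := Finset.card_le_univ (insert (1 : G) (Finset.univ.biUnion A ∪ C.toFinset))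
    rw [Finset.card_insert_of_notMem h1, Finset.card_union_of_disjoint hAC, Finset.card_biUnion hAd,
      ← Nat.card_eq_fintype_card, ← Set.ncard_eq_toFinset_card', hCcard] at h2
    refine le_trans (le_of_eq ?_) h2
    congr 2
    refine Finset.sum_congr rfl fun i _ => ?_
    rw [← tilde_card hG (hp i).max, hA, Set.ncard_eq_toFinset_card']
  have hcovZ : Nat.card Z + Fintype.card ι ≤ T.ncard + 1 + ∑ i, Nat.card ↥(fix(M i, J i)) := by
    have hsub : (Z : Set G).toFinset ⊆ insert (1 : G) (T.toFinset ∪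
        Finset.univ.biUnion fun i => ((SetLike.coe (fix(M i, J i))).toFinset.erase 1)) := fun z hz => by
      rw [Set.mem_toFinset] at hz
      by_cases hz1 : z = 1
      · exact Finset.mem_insert.mpr (Or.inl hz1)
      refine Finset.mem_insert_of_mem ?_
      rw [Finset.mem_union, Set.mem_toFinset, Finset.mem_biUnion]
      by_cases hex : ∃ i, z ∈ fix(M i, J i)
      · obtain ⟨i, hi⟩ := hex
        exact Or.inr ⟨i, Finset.mem_univ _, Finset.mem_erase.mpr ⟨hz1, Set.mem_toFinset.mpr hi⟩⟩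
      · exact Or.inl ⟨hz, hz1, fun i hi => hex ⟨i, hi⟩⟩
    have h2 := (Finset.card_le_card hsub).trans ((Finset.card_insert_le _ _).trans
      (Nat.add_le_add_right ((Finset.card_union_le _ _).trans (Nat.add_le_add_left Finset.card_biUnion_le _)) 1))
    rw [← Set.ncard_eq_toFinset_card', ← Set.ncard_eq_toFinset_card', ← Nat.card_coe_set_eq] at h2
    have h3 : ∀ i, ((SetLike.coe (fix(M i, J i))).toFinset.erase 1).card + 1 = Nat.card ↥(fix(M i, J i)) := fun i => by
      rw [Finset.card_erase_add_one (Set.mem_toFinset.mpr (one_mem (fix(M i, J i)))),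
        ← Set.ncard_eq_toFinset_card', ← Nat.card_coe_set_eq]
      rfl
    have h4 : ∑ i, Nat.card ↥(fix(M i, J i)) =
        ∑ i, ((SetLike.coe (fix(M i, J i))).toFinset.erase 1).card + Fintype.card ι := by
      rw [← Finset.sum_congr rfl fun i _ => h3 i, Finset.sum_add_distrib]
      simp
    have h5 : Nat.card ↥(Z : Set G) = Nat.card Z := rfl
    omega
  set g := Nat.card G
  set w := Nat.card Z
  have hg : 0 < g := Nat.card_pos
  have hIw : ∀ i, 3 * ((M i).index * w) ≤ g ∧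
      (Nat.card (Cfsg.sigmaCore (M i)) - 1) * (M i).index * w + (M i).index * w = g * Nat.card ↥(fix(M i, J i)) := by
    intro i
    have hw : w = Nat.card (J i) * Nat.card ↥(fix(M i, J i)) := by rw [← (hp i).card_eq, hZ i]
    have hgi : Nat.card (Cfsg.sigmaCore (M i)) * Nat.card (J i) * (M i).index = g := by
      rw [← hU i]; exact card_mul_index _
    have h3 := (hp i).three_mul_fix_le hG
    have hc : 0 < Nat.card ↥(fix(M i, J i)) := Nat.card_pos
    have ha : 1 ≤ Nat.card (Cfsg.sigmaCore (M i)) := Nat.card_pos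
    obtain ⟨a, hae⟩ := Nat.exists_eq_add_of_le ha
    refine ⟨?_, ?_⟩
    · rw [← hgi, hw]
      calc 3 * ((M i).index * (Nat.card (J i) * Nat.card ↥(fix(M i, J i))))
          = 3 * Nat.card ↥(fix(M i, J i)) * (Nat.card (J i) * (M i).index) := by ring
        _ ≤ Nat.card (Cfsg.sigmaCore (M i)) * (Nat.card (J i) * (M i).index) := Nat.mul_le_mul_right _ h3
        _ = _ := by ring
    · rw [← hgi, hw, hae, Nat.add_sub_cancel_left]
      ring
  have hsum1 : 3 * ∑ i, (M i).index * w ≤ Fintype.card ι * g := by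
    rw [Finset.mul_sum]
    exact (Finset.sum_le_card_nsmul _ _ g fun i _ => (hIw i).1).trans (le_of_eq (by simp))
  have hsum2 : (∑ i, (Nat.card (Cfsg.sigmaCore (M i)) - 1) * (M i).index) * w + ∑ i, (M i).index * w =
      g * ∑ i, Nat.card ↥(fix(M i, J i)) := by
    rw [Finset.sum_mul, ← Finset.sum_add_distrib, Finset.mul_sum]
    exact Finset.sum_congr rfl fun i _ => (hIw i).2
  have hZi : Z.index * w = g := by rw [mul_comm]; exact card_mul_index _
  have hmain := Nat.mul_le_mul_right w htot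
  rw [add_mul, add_mul, mul_assoc T.ncard, hZi, one_mul] at hmain
  have hw0 : 0 < w := Nat.card_pos
  nlinarith

end Cfsg.Lib.OddLocal.RankTwoMax
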