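import Cfsg.Agent.OddLocal.SigmaPrimeAbelian

/-!
# The part of the Fitting subgroup of order prime to `σ`
-/

set_option linter.unusedSectionVars false
set_option linter.unusedVariables false
set_option linter.style.haveILetI false

namespace Cfsg.Lib.OddLocal.RankTwoMax

open Subgroup Uniqueness Sigma
open Cfsg.Lib.Coprime (conjMap)
open scoped commutatorElement

universe u

variable {G : Type u} [Group G] [Finite G] {M : Subgroup G}

/-- A `q`-core outside `σ(M)` is cyclic and `q ∈ τ₂(M)`. -/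
theorem core_outside_sigma (hG : Cfsg.IsMinSimpleOddOrder G) (hM : IsCoatom M) {q : ℕ} [hq : Fact q.Prime]
    (hσ : q ∉ Cfsg.sigma M) (h1 : FittingParts.O q M ≠ ⊥) :
    IsCyclic ↥(FittingParts.O q M) ∧ q ∈ Cfsg.tau2 M := by
  set T := FittingParts.O q M with hT
  have hTq : IsPGroup q T := FittingParts.isPGroup M
  have hTM : T ≤ M := PiCoreOf.le _ M
  have hTn : M ≤ normalizer (T : Set G) := PiCoreOf.le_normalizer' _ M
  obtain ⟨X, hXM, hXc, hXn⟩ := exists_normal_line hG hM hσ hTq h1 hTM hTn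
  have hτ : q ∈ Cfsg.tau2 M := ⟨hq.out, hσ, pRankLE_of_not_sigma hG hM hσ,
    (exists_sq_ge hG hM hσ hXc (normalizer_eq hG hM (line_ne_bot hXc) hXM hXn).le).1⟩
  refine ⟨by_contra fun hnc => ?_, hτ⟩
  obtain ⟨B, hBT, hB, hBc⟩ := exists_sq_le hG hM hσ hTq hTM hnc
  obtain ⟨B₀, h⟩ := exists_exc hG hM hσ (hBT.trans hTM) hB hBc
  obtain ⟨S, hS, hBS⟩ := exists_sylowOf (h.maxSq hG).isPGroup h.le
  have hTS := le_of_normal_pgroup hS hTq hTM hTn
  have hn : M ≤ normalizer (B : Set G) := fun x hx =>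
    Cfsg.Lib.Coprime.conjMap_eq_self_iff.mp (Cfsg.Lib.Coprime.eq_of_le_of_card_eq (by
      rintro _ ⟨y, hy, rfl⟩
      refine (h.mem_iff hG hS hBS (hTS ((mem_normalizer_iff.mp (hTn hx) y).mp (hBT hy)))).mp ?_
      show (x * y * x⁻¹) ^ q = 1
      rw [conj_pow, hB.2 y hy, mul_one, mul_inv_cancel]) (Cfsg.Lib.Coprime.card_conjMap _ _))
  obtain ⟨g, hg, hgM⟩ := h.exists_mem_normalizer hG
  exact hgM ((normalizer_eq hG hM (h.maxSq hG).ne_bot h.le hn).le hg)

theorem le_O_of_le_fitting {q : ℕ} [Fact q.Prime] {U : Subgroup G} (hU : IsPGroup q U)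
    (hUF : U ≤ Cfsg.fittingOf M) : U ≤ FittingParts.O q M := by
  set F := Cfsg.fittingOf M with hF
  haveI : Group.IsNilpotent F := by
    haveI := Cfsg.Lib.Components.isNilpotent_fitting (G := M)
    exact Group.nilpotent_of_mulEquiv
      ((Cfsg.fittingSubgroup M).equivMapOfInjective M.subtype M.subtype_injective)
  obtain ⟨T, hT⟩ := (hU.comap_subtype (K := F)).exists_le_sylow
  haveI hTn : (T : Subgroup F).Normal :=
    ((Group.isNilpotent_of_finite_tfae (G := F)).out 0 3 rfl rfl).mp inferInstance q inferInstance T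
  haveI := T.characteristic_of_normal hTn
  have h1 : (T : Subgroup F).map F.subtype ≤ FittingParts.O q M := FittingParts.le_of_isPGroup
    ((map_subtype_le _).trans (FittingParts.fittingOf_le M))
    ((FittingParts.le_normalizer_fittingOf M).trans
      (Cfsg.Lib.OddP.le_normalizer_map_of_char (T : Subgroup F))) (T.2.map _)
  exact fun u hu => h1 ⟨⟨u, hUF hu⟩, hT hu, rfl⟩

/-- Theorem: the structure of the Fitting subgroup. -/
theorem fitting_sigma_prime (hG : Cfsg.IsMinSimpleOddOrder G) (hM : IsCoatom M) :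
    IsCyclic ↥(Cfsg.piCoreOf {q | q.Prime ∧ q ∉ Cfsg.sigma M} (Cfsg.fittingOf M)) ∧
      (∀ p : ℕ, p.Prime →
        p ∣ Nat.card ↥(Cfsg.piCoreOf {q | q.Prime ∧ q ∉ Cfsg.sigma M} (Cfsg.fittingOf M)) → p ∈ Cfsg.tau2 M) ∧
      Cfsg.fittingOf M = Cfsg.fittingOf (Cfsg.sigmaCore M) ⊔
        Cfsg.piCoreOf {q | q.Prime ∧ q ∉ Cfsg.sigma M} (Cfsg.fittingOf M) := by
  set F := Cfsg.fittingOf M with hF
  set π : Set ℕ := {q | q.Prime ∧ q ∉ Cfsg.sigma M} with hπ
  set Y := Cfsg.piCoreOf π F with hY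
  have hYF : Y ≤ F := PiCoreOf.le _ _
  have hY' : ∀ (r : ℕ) [Fact r.Prime] (U : Subgroup G), IsPGroup r U → U ≤ Y → U ≠ ⊥ →
      IsCyclic U ∧ r ∈ Cfsg.tau2 M := by
    intro r _ U hU hUY hU1
    have hσ : r ∉ Cfsg.sigma M := (PiCoreOf.isPi π F r Fact.out
      ((dvd_card_of_isPGroup hU hU1).trans (card_dvd_of_le hUY))).2
    have hle := le_O_of_le_fitting hU (hUY.trans hYF)
    obtain ⟨hc, hτ⟩ := core_outside_sigma hG hM hσ (fun h0 => hU1 (le_bot_iff.mp (h0 ▸ hle)))
    haveI := hc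
    exact ⟨isCyclic_of_injective (inclusion hle) (inclusion_injective hle), hτ⟩
  haveI : Group.IsNilpotent F := by
    haveI := Cfsg.Lib.Components.isNilpotent_fitting (G := M)
    exact Group.nilpotent_of_mulEquiv
      ((Cfsg.fittingSubgroup M).equivMapOfInjective M.subtype M.subtype_injective)
  haveI : Group.IsNilpotent Y := Group.nilpotent_of_mulEquiv (subgroupOfEquivOfLe hYF)
  have hsyl : ∀ (r : ℕ) [Fact r.Prime] (T : Sylow r Y), r ∣ Nat.card Y →
      (T : Subgroup Y).map Y.subtype ≠ ⊥ := fun r _ T hd h0 => T.ne_bot_of_dvd_card hd (by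
    rwa [map_eq_bot_iff_of_injective _ Y.subtype_injective] at h0)
  refine ⟨?_, fun p hp hd => ?_, ?_⟩
  · haveI : IsZGroup Y := by
      refine (isZGroup_iff Y).mpr fun r hr T => ?_
      haveI := Fact.mk hr
      by_cases h0 : (T : Subgroup Y).map Y.subtype = ⊥
      · rw [(map_eq_bot_iff_of_injective _ Y.subtype_injective).mp h0]
        infer_instance
      · haveI := (hY' r _ (T.2.map _) (map_subtype_le _) h0).1
        exact isCyclic_of_injective
          ((T : Subgroup Y).equivMapOfInjective _ Y.subtype_injective).toMonoidHom (MulEquiv.injective _)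
    infer_instance
  · haveI := Fact.mk hp
    obtain ⟨T⟩ : Nonempty (Sylow p Y) := inferInstance
    exact (hY' p _ (T.2.map _) (map_subtype_le _) (hsyl p T hd)).2
  refine le_antisymm ?_ (sup_le ?_ hYF)
  · rw [hF, FittingParts.fittingOf_eq]
    refine iSup_le fun r => ?_
    haveI := Fact.mk r.2
    by_cases hσ : r.1 ∈ Cfsg.sigma M
    · refine le_trans ?_ le_sup_left
      have h1 := le_sigmaCore_of_pgroup hG hM hσ (FittingParts.isPGroup (q := r.1) M) (PiCoreOf.le _ M)
      exact (FittingParts.le_of_isPGroup h1 ((sigmaCore_le M).trans (PiCoreOf.le_normalizer' _ M))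
        (FittingParts.isPGroup M)).trans (FittingParts.le_fittingOf _)
    · refine le_trans ?_ le_sup_right
      refine PiCoreOf.le_piCoreOf (FittingParts.le_fittingOf M)
        ((FittingParts.fittingOf_le M).trans (PiCoreOf.le_normalizer' _ M)) fun s hs hsd => ?_
      obtain ⟨k, hk⟩ := IsPGroup.iff_card.mp (FittingParts.isPGroup (q := r.1) M)
      rw [hk] at hsd
      rw [(Nat.prime_dvd_prime_iff_eq hs r.2).mp (hs.dvd_of_dvd_pow hsd)]
      exact ⟨r.2, hσ⟩
  · rw [FittingParts.fittingOf_eq]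
    refine iSup_le fun r => ?_
    haveI := Fact.mk r.2
    exact (FittingParts.le_of_isPGroup ((PiCoreOf.le _ _).trans (sigmaCore_le M))
      ((le_normalizer_sigmaCore M).trans (PiCoreOf.normalizer_le _ _))
      (FittingParts.isPGroup _)).trans (FittingParts.le_fittingOf M)

end Cfsg.Lib.OddLocal.RankTwoMax
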