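import Cfsg.Agent.OddLocal.KappaDualBasics
import Cfsg.Agent.OddLocal.FittingSigma

/-!
# Pairs with a nontrivial complement `U`
-/

set_option linter.unusedSectionVars false
set_option linter.unusedVariables false
set_option linter.style.haveILetI false

namespace Cfsg.Lib.OddLocal.RankTwoMax

open Subgroup Uniqueness Sigma
open Cfsg.Lib.Coprime (conjMap)
open scoped commutatorElement

universe u

variable {G : Type u} [Group G] [Finite G] {M N K E U A : Subgroup G} {x g : G} {s : ℕ} [hs : Fact s.Prime]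

theorem KappaSplit.nilpotent (hG : Cfsg.IsMinSimpleOddOrder G) (hM : IsCoatom M) (h : KappaSplit M K E U)
    (hU : U ≠ ⊥) : Group.IsNilpotent (Cfsg.sigmaCore M) := by
  obtain ⟨t, ht, hd⟩ := Nat.exists_prime_and_dvd (mt card_eq_one.mp hU)
  haveI := Fact.mk ht
  exact sigmaCore_nilpotent_of_prime hG hM (hd.trans (card_dvd_of_le h.hallU.1)) (h.hallU.2.1 t ht hd).2.2
    (h.hallU.2.1 t ht hd).2.1

theorem KappaSplit.sigmaCore_le_fitting (hG : Cfsg.IsMinSimpleOddOrder G) (hM : IsCoatom M)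
    (h : KappaSplit M K E U) (hU : U ≠ ⊥) : Cfsg.sigmaCore M ≤ Cfsg.fittingOf M :=
  (sigmaCore_eq_fittingHall hG hM (h.nilpotent hG hM hU)).le.trans
    (Cfsg.Lib.FittingHall.fittingHallOf_le_fittingOf M)

/-- No prime of `σ(M)` has a maximal elementary abelian subgroup of order `s²`. -/
theorem KappaSplit.no_maxSq (hG : Cfsg.IsMinSimpleOddOrder G) (hM : IsCoatom M) (h : KappaSplit M K E U)
    (hK : Cfsg.IsPiHallOf (Cfsg.kappa M) K M) (hK1 : K ≠ ⊥) (hU : U ≠ ⊥) (hσ : s ∈ Cfsg.sigma M)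
    (hA : MaxSq s A) : False := by
  have hAp : IsPGroup s A := hA.isPGroup
  obtain ⟨g, hg⟩ := exists_conj_le_sigmaCore hG hM hA.ne_bot
    (fun t ht hd => eq_of_dvd_pgroup hAp ht hd ▸ hσ)
  have hgA : conjMap g A ≤ FittingParts.O s M := le_O_of_le_fitting (hAp.map _)
    (hg.trans (h.sigmaCore_le_fitting hG hM hU))
  have hO : FittingParts.O s M ≠ ⊥ := fun h0 => hA.ne_bot
    ((map_eq_bot_iff_of_injective _ (MulAut.conj g).injective).mp (le_bot_iff.mp (hgA.trans h0.le)))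
  set W := FittingParts.Z s M with hW
  have hWc : ∀ a ∈ W, ∀ b ∈ W, a * b = b * a := fun a ha b hb => mem_centralizer_iff.mp hb.2 a ha.1
  let V : Subgroup G :=
    { carrier := {z | z ∈ W ∧ z ^ s = 1}
      one_mem' := ⟨one_mem _, one_pow _⟩
      mul_mem' := fun {a b} ha hb => ⟨mul_mem ha.1 hb.1,
        by rw [(show Commute a b from hWc a ha.1 b hb.1).mul_pow, ha.2, hb.2, one_mul]⟩
      inv_mem' := fun {a} ha => ⟨inv_mem ha.1, by rw [inv_pow, ha.2, inv_one]⟩ }
  have hWn : M ≤ normalizer (W : Set G) := FittingParts.le_normalizer_Z s M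
  have hVn : M ≤ normalizer (V : Set G) := fun m hm => Subgroup.mem_normalizer_iff.mpr fun z => by
    constructor
    · rintro ⟨hz, hzs⟩
      exact ⟨(mem_normalizer_iff.mp (hWn hm) z).mp hz, by rw [conj_pow, hzs, mul_one, mul_inv_cancel]⟩
    · rintro ⟨hz, hzs⟩
      refine ⟨(mem_normalizer_iff.mp (hWn hm) z).mpr hz, ?_⟩
      rwa [conj_pow, conj_eq_one_iff] at hzs
  -- `V` is at most `s²`
  have hVA : conjMap g⁻¹ V ≤ A := by
    rintro _ ⟨v, hv, rfl⟩
    refine hA.mem_of_commute (mem_centralizer_iff.mpr fun a ha => ?_) ?_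
    · have h1 : g * a * g⁻¹ * v = v * (g * a * g⁻¹) := mem_centralizer_iff.mp hv.1.2 _ (hgA ⟨a, ha, rfl⟩)
      show a * (g⁻¹ * v * g⁻¹⁻¹) = g⁻¹ * v * g⁻¹⁻¹ * a
      calc a * (g⁻¹ * v * g⁻¹⁻¹) = g⁻¹ * (g * a * g⁻¹ * v) * g := by group
        _ = g⁻¹ * (v * (g * a * g⁻¹)) * g := by rw [h1]
        _ = _ := by group
    · show (g⁻¹ * v * g⁻¹⁻¹) ^ s = 1
      rw [conj_pow, hv.2, mul_one, mul_inv_cancel]
  have hVd : Nat.card V ∣ s ^ 2 := by
    rw [← hA.card, ← Cfsg.Lib.Coprime.card_conjMap g⁻¹ V]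
    exact card_dvd_of_le hVA
  have hV1 : V ≠ ⊥ := fun h0 => by
    obtain ⟨z, hz, hzo⟩ := ScnUniqueness.exists_orderOf
      ((FittingParts.isPGroup M).to_le (inf_le_left : W ≤ FittingParts.O s M)) (FittingParts.Z_ne_bot hO)
    have h1 : z ∈ V := ⟨hz, by rw [← hzo]; exact pow_orderOf_eq_one z⟩
    rw [h0, mem_bot] at h1
    exact hs.out.ne_one (by rw [← hzo, h1, orderOf_one])
  have hVσ : V ≤ Cfsg.sigmaCore M := fun v hv => le_sigmaCore_of_pgroup hG hM hσ (FittingParts.isPGroup M)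
    (PiCoreOf.le _ _) hv.1.1
  -- the dimension of `V` is a multiple of `|K|`
  have hp := h.prime_card hG hM hK hK1 hU
  have hfU : V ⊓ centralizer (U : Set G) = ⊥ :=
    le_bot_iff.mp ((inf_le_inf_right _ hVσ).trans (h.fixed_U hG hM hU).le)
  have hfUK : V ⊓ centralizer ((U ⊔ K : Subgroup G) : Set G) = ⊥ :=
    le_bot_iff.mp ((inf_le_inf_left _ (centralizer_le (SetLike.coe_subset_coe.mpr le_sup_left))).trans hfU.le)
  have h1 := Cfsg.Lib.FixedDim.frobenius_fixed_solvable U K h.disjoint (h.memK.trans h.normal)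
    (fun e he he1 u hu hc => mem_bot.mp ((h.free e he he1).le
      ⟨hu, mem_centralizer_singleton_iff.mpr hc.symm⟩)) (Nat.card V) V le_rfl
    ((sup_le h.hallU.1 hK.1).trans hVn)
    (hG.2.2.2 V (FittingUniqueness.ne_top_of_le_coatom hM (hVσ.trans (sigmaCore_le M))))
    (coprime_card_of_disjoint fun t ht h1 h2 => by
      rw [h.prod] at h2
      exact not_sigma_of_dvd hG hM h.compl ht h2 (sigmaCore_isPi t ht (h1.trans (card_dvd_of_le hVσ))))
  rw [hfUK, hfU, card_bot, one_pow, one_mul, mul_one] at h1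
  have hsV := (Nat.dvd_prime_pow hs.out).mp hVd
  obtain ⟨i, hi, hic⟩ := hsV
  have hc : Nat.card ↥(V ⊓ centralizer (K : Set G)) ∣ s ^ 2 := (card_dvd_of_le inf_le_left).trans hVd
  obtain ⟨j, hj, hjc⟩ := (Nat.dvd_prime_pow hs.out).mp hc
  rw [hic, hjc, ← pow_mul] at h1
  have hij := Nat.pow_right_injective hs.out.two_le h1
  have hi0 : i ≠ 0 := fun e => hV1 (card_eq_one.mp (by rw [hic, e, pow_zero]))
  have hodd : Odd (Nat.card K) := hG.1.of_dvd_nat (card_subgroup_dvd_card _)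
  have h2 := hp.two_le
  have hj0 : j ≠ 0 := fun e => hi0 (by rw [hij, e, zero_mul])
  have h3 : Nat.card K ≤ j * Nat.card K := Nat.le_mul_of_pos_left _ (Nat.pos_of_ne_zero hj0)
  have h4 : Nat.card K = 2 := by omega
  rw [h4] at hodd
  exact absurd hodd (by decide)

/-- With `U ≠ 1` the centralizer of an element of `M_σ` is in `M`. -/
theorem KappaSplit.centralizer_le (hG : Cfsg.IsMinSimpleOddOrder G) (hM : IsCoatom M) (h : KappaSplit M K E U)
    (hK : Cfsg.IsPiHallOf (Cfsg.kappa M) K M) (hK1 : K ≠ ⊥) (hU : U ≠ ⊥) (hx : x ∈ Cfsg.sigmaCore M)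
    (hx1 : x ≠ 1) : Subgroup.centralizer ({x} : Set G) ≤ M := by
  by_contra hle
  obtain ⟨N, hN⟩ := exists_supportPair hG hM hx hx1 hle
  obtain ⟨q, hq, hqx⟩ := exists_pow_prime hx1
  haveI := Fact.mk hq
  have hqτ := hN.tau q hq hqx
  obtain ⟨A, hAE, hA, hAc⟩ := exists_sq_complement hG hN.maxN hN.compl hqτ
  exact h.no_maxSq hG hM hK hK1 hU (prime_of_mem_core hx hq hqx)
    (MaxSq.of_not_sigma hG hN.maxN hqτ.2.1 (hAE.trans hN.compl.1) hA hAc)

/-- With `U ≠ 1` the Fitting subgroup is a TI-subset. -/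
theorem KappaSplit.fitting_ti (hG : Cfsg.IsMinSimpleOddOrder G) (hM : IsCoatom M) (h : KappaSplit M K E U)
    (hK : Cfsg.IsPiHallOf (Cfsg.kappa M) K M) (hK1 : K ≠ ⊥) (hU : U ≠ ⊥) :
    Cfsg.IsTISubset (Cfsg.fittingOf M : Set G) := by
  intro g hg x hx hgx
  by_contra hx1
  refine hg (?_ : g ∈ normalizer (Cfsg.fittingOf M : Set G))
  refine FittingParts.le_normalizer_fittingOf M ?_
  have hσF := h.sigmaCore_le_fitting hG hM hU
  obtain ⟨q, hq, hqx⟩ := exists_pow_prime hx1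
  haveI := Fact.mk hq
  set y := x ^ (orderOf x / q) with hy
  have hyo : orderOf y = q := orderOf_pow_orderOf_div (orderOf_pos x).ne' hqx
  have hy1 : y ≠ 1 := fun e => hq.ne_one (by rw [← hyo, e, orderOf_one])
  have hyF : y ∈ Cfsg.fittingOf M := pow_mem hx _
  have hgy : g * y * g⁻¹ ∈ Cfsg.fittingOf M := by rw [hy, ← conj_pow]; exact pow_mem hgx _
  have hgyo : orderOf (g * y * g⁻¹) = q :=
    (orderOf_injective (MulAut.conj g).toMonoidHom (MulEquiv.injective _) y).trans hyo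
  have hle := (FittingParts.fittingOf_le M : Cfsg.fittingOf M ≤ M)
  have key : ∀ w : G, w ∈ Cfsg.fittingOf M → orderOf w = q →
      Subgroup.centralizer ({w} : Set G) ≤ M ∧ (q ∉ Cfsg.sigma M →
        ∀ L : Subgroup G, IsCoatom L → Subgroup.centralizer ({w} : Set G) ≤ L → L = M) := by
    intro w hw hwo
    have hw1 : w ≠ 1 := fun e => hq.ne_one (by rw [← hwo, e, orderOf_one])
    have hwp : IsPGroup q (zpowers w) := isPGroup_of_card (p := q) (by rw [Nat.card_zpowers, hwo])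
    by_cases hσ : q ∈ Cfsg.sigma M
    · exact ⟨h.centralizer_le hG hM hK hK1 hU
        (le_sigmaCore_of_pgroup hG hM hσ hwp (zpowers_le.mpr (hle hw)) (mem_zpowers w)) hw1,
        fun hh => absurd hσ hh⟩
    · have hwO := le_O_of_le_fitting hwp (zpowers_le.mpr hw) (mem_zpowers w)
      obtain ⟨-, hτ⟩ := core_outside_sigma hG hM hσ (fun h0 => hw1 (mem_bot.mp (h0.le hwO)))
      obtain ⟨z, hz, hz1⟩ := (Subgroup.bot_or_exists_ne_one _).resolve_left (sigmaCore_ne_bot hG hM)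
      have hcop : (Nat.card ↥(zpowers w)).Coprime (Nat.card ↥(zpowers z)) :=
        coprime_card_of_disjoint fun t ht h1 h2 => hσ (eq_of_dvd_pgroup hwp ht h1 ▸
          prime_of_mem_core hz ht (by rwa [Nat.card_zpowers] at h2))
      haveI : Group.IsNilpotent (Cfsg.fittingOf M) := by
        haveI := Cfsg.Lib.Components.isNilpotent_fitting (G := M)
        exact Group.nilpotent_of_mulEquiv
          ((Cfsg.fittingSubgroup M).equivMapOfInjective M.subtype M.subtype_injective)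
      have hwz : w * z = z * w := congrArg Subtype.val (Cfsg.Lib.FittingHall.commute_coprime
        (x := (⟨w, hw⟩ : ↥(Cfsg.fittingOf M))) (y := ⟨z, hσF hz⟩)
        (by rw [orderOf_mk, orderOf_mk]; rwa [Nat.card_zpowers, Nat.card_zpowers] at hcop)).eq
      obtain ⟨h1, h2⟩ := unique_centralizer_of_tau_two hG hM (hle hw) hw1
        (fun r hr hd => (Nat.prime_dvd_prime_iff_eq hr hq).mp (hwo ▸ hd) ▸ hτ) hz hz1 hwz
      exact ⟨h1, fun _ => h2⟩
  obtain ⟨hCy, huy⟩ := key y hyF hyo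
  obtain ⟨hCg, hug⟩ := key _ hgy hgyo
  by_cases hσ : q ∈ Cfsg.sigma M
  · have hyσ : ∀ w : G, w ∈ Cfsg.fittingOf M → orderOf w = q → w ∈ Cfsg.sigmaCore M := fun w hw hwo =>
      le_sigmaCore_of_pgroup hG hM hσ (isPGroup_of_card (p := q) (by rw [Nat.card_zpowers, hwo]))
        (zpowers_le.mpr (hle hw)) (mem_zpowers w)
    obtain ⟨c, hc, hcM⟩ := exists_centralizer_conj hG hM (hyσ _ hgy hgyo)
      (by rwa [Ne, conj_eq_one_iff]) (g := g) ⟨y, hle hyF, rfl⟩
    exact eq_of_conj_fix hG hM (hcM ▸ Cfsg.Lib.Coprime.conjMap_eq_self (le_normalizer (hCg hc)))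
  · exact eq_of_conj_fix hG hM (hug hσ _ (conjMap_coatom hM g)
      (centralizer_singleton_conj g y ▸ Cfsg.Lib.Coprime.conjMap_mono hCy))

end Cfsg.Lib.OddLocal.RankTwoMax
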