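import Cfsg.Agent.OddLocal.SigmaNonNilpotentTheorem
import Cfsg.Agent.OddLocal.KappaTypeTwo

/-!
# The derived subgroup and the fixed points of `K`
-/

set_option linter.unusedSectionVars false
set_option linter.unusedVariables false
set_option linter.style.haveILetI false

namespace Cfsg.Lib.OddLocal.RankTwoMax

open Subgroup Uniqueness Sigma
open Cfsg.Lib.Coprime (conjMap)
open scoped commutatorElement

universe u

variable {G : Type u} [Group G] [Finite G] {M K E U : Subgroup G}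

local notation "fix(" M ", " K ")" => Cfsg.sigmaCore M ⊓ centralizer (SetLike.coe K)

/-- The normalizer of a cyclic subgroup acts on it through an abelian group. -/
theorem commutator_le_centralizer_of_cyclic {S T : Subgroup G} (hS : IsCyclic S)
    (hT : T ≤ normalizer (S : Set G)) : ⁅T, T⁆ ≤ centralizer (S : Set G) := by
  rw [commutator_le]
  intro a ha b hb
  set φ := S.normalizerMonoidHom
  haveI := hS
  have hc : φ ⟨a, hT ha⟩ * φ ⟨b, hT hb⟩ = φ ⟨b, hT hb⟩ * φ ⟨a, hT ha⟩ := by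
    obtain ⟨m, hm⟩ := MonoidHom.map_cyclic (φ ⟨a, hT ha⟩).toMonoidHom
    obtain ⟨n, hn⟩ := MonoidHom.map_cyclic (φ ⟨b, hT hb⟩).toMonoidHom
    ext z
    simp only [MulEquiv.coe_toMonoidHom] at hm hn
    simp only [MulAut.mul_apply, hm, hn, ← zpow_mul, mul_comm m n]
  have h1 : φ ⁅(⟨a, hT ha⟩ : normalizer (S : Set G)), ⟨b, hT hb⟩⁆ = 1 := by
    rw [map_commutatorElement, commutatorElement_eq_one_iff_mul_comm]
    exact hc
  have h2 : (⁅(⟨a, hT ha⟩ : normalizer (S : Set G)), ⟨b, hT hb⟩⁆) ∈ S.normalizerMonoidHom.ker := h1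
  rw [normalizerMonoidHom_ker] at h2
  exact h2

/-- `M' = U M_σ` when `K ≠ 1`. -/
theorem KappaSplit.derived_eq (hG : Cfsg.IsMinSimpleOddOrder G) (hM : IsCoatom M) (h : KappaSplit M K E U)
    (hK : Cfsg.IsPiHallOf (Cfsg.kappa M) K M) (hKc : IsMulCommutative K) (hK1 : K ≠ ⊥) :
    ⁅M, M⁆ = U ⊔ Cfsg.sigmaCore M := by
  refine le_antisymm (h.derived_part hG hM hK hKc).2.2.2 (sup_le ?_ (sigmaCore_le_derived hG hM))
  have hKU : K ≤ normalizer (U : Set G) := h.memK.trans h.normal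
  have hcop : (Nat.card K).Coprime (Nat.card U) := coprime_card_of_disjoint fun r hr h1 h2 =>
    (h.hallU.2.1 r hr h2).2.1 (hK.2.1 r hr h1)
  have hsol : Group.IsSolvable U := hG.2.2.2 _ (FittingUniqueness.ne_top_of_le_coatom hM h.hallU.1)
  obtain ⟨k, hk, hk1⟩ := (Subgroup.bot_or_exists_ne_one K).resolve_left hK1
  have hfree : U ⊓ centralizer (K : Set G) = ⊥ := le_bot_iff.mp
    ((inf_le_inf_left _ (Subgroup.centralizer_le (Set.singleton_subset_iff.mpr hk))).trans (h.free k hk hk1).le)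
  have := Cfsg.Lib.Coprime.commutator_sup_centralizer hKU hcop (Or.inr hsol)
  rw [hfree, sup_bot_eq] at this
  rw [← this]
  exact commutator_mono h.hallU.1 h.K_le_M

/-- `K* ≤ M''`. -/
theorem KappaSplit.fix_le_second (hG : Cfsg.IsMinSimpleOddOrder G) (hM : IsCoatom M) (h : KappaSplit M K E U)
    (hK : Cfsg.IsPiHallOf (Cfsg.kappa M) K M) (hKc : IsMulCommutative K) (hK1 : K ≠ ⊥) :
    fix(M, K) ≤ ⁅⁅M, M⁆, ⁅M, M⁆⁆ := fun x hx => by
  have hD := h.derived_eq hG hM hK hKc hK1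
  have hxD : x ∈ ⁅M, M⁆ := sigmaCore_le_derived hG hM hx.1
  have hDM : ⁅M, M⁆ ≤ M := commutator_le.mpr fun a ha b hb => by
    rw [commutatorElement_def]
    exact mul_mem (mul_mem (mul_mem ha hb) (inv_mem ha)) (inv_mem hb)
  have hn : M ≤ normalizer ((⁅M, M⁆ : Subgroup G) : Set G) := hD ▸ h.sup_normal
  refine fixed_mem_derived hDM hn hxD hxD (fun m hm => ?_) ?_
  · obtain ⟨e, he, s, hs, rfl⟩ := h.compl.2.2.2 m hm
    rw [← h.prod, Cfsg.Lib.Coprime.mem_sup_of_le_normalizer (h.memK.trans h.normal)] at he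
    obtain ⟨u, hu, k, hk, rfl⟩ := he
    have hkx : k * x = x * k := mem_centralizer_iff.mp hx.2 k hk
    have hkM : k ∈ M := h.K_le_M hk
    set d := u * (k * s * k⁻¹) with hd
    have hdD : d ∈ ⁅M, M⁆ := hD ▸ mul_mem (mem_sup_left hu)
      (mem_sup_right ((mem_normalizer_iff.mp (le_normalizer_sigmaCore M hkM) s).mp hs))
    refine ⟨k⁻¹ * d * k, (mem_normalizer_iff''.mp (hn hkM) d).mp hdD, ?_⟩
    have h1 : k * x * k⁻¹ = x := by rw [hkx, mul_inv_cancel_right]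
    calc (u * k * s)⁻¹ * x * (u * k * s) = k⁻¹ * d⁻¹ * x * d * k := by rw [hd]; group
      _ = k⁻¹ * d⁻¹ * (k * x * k⁻¹) * d * k := by rw [h1]
      _ = _ := by group
  · refine Nat.coprime_of_dvd fun r hr h1 h2 => ?_
    rw [hD] at h2
    exact ((h.derived_part hG hM hK hKc).1 r hr h2).2.2.1 (prime_of_mem_core hx.1 hr h1)

theorem derived_theorem (hG : Cfsg.IsMinSimpleOddOrder G) (hM : IsCoatom M)
    (hKU : Cfsg.IsSigmaDecomposition M K U) (hK1 : K ≠ ⊥) :
    ⁅M, M⁆ = U ⊔ Cfsg.sigmaCore M ∧ fix(M, K) ≤ ⁅⁅M, M⁆, ⁅M, M⁆⁆ := by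
  obtain ⟨E, h⟩ := decomp_split hG hM hKU
  have hKc : IsMulCommutative K := by
    haveI := hKU.cyclic
    exact IsCyclic.isMulCommutative
  exact ⟨h.derived_eq hG hM hKU.hall hKc hK1, h.fix_le_second hG hM hKU.hall hKc hK1⟩

/-- `K*` lies in `M_F`. -/
theorem fix_le_fittingHall (hG : Cfsg.IsMinSimpleOddOrder G) (hM : IsCoatom M)
    (hKU : Cfsg.IsSigmaDecomposition M K U) : fix(M, K) ≤ Cfsg.fittingHallOf M := by
  by_cases hne : Cfsg.fittingHallOf M = Cfsg.sigmaCore M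
  · rw [hne]; exact inf_le_left
  obtain ⟨-, n⟩ := nonNil_of_ne hG hM hKU hne
  exact (n.fix_le_syl hG).trans (n.syl_le_fittingHall hG)

theorem fix_theorem (hG : Cfsg.IsMinSimpleOddOrder G) (hM : IsCoatom M)
    (hKU : Cfsg.IsSigmaDecomposition M K U) (hK1 : K ≠ ⊥) :
    IsCyclic ↥(fix(M, K)) ∧ fix(M, K) ≠ ⊥ ∧ fix(M, K) ≤ Cfsg.fittingHallOf M ∧
      ¬ IsCyclic (Cfsg.fittingHallOf M) := by
  have hp : KappaPair M K := ⟨hM, hKU.hall, hK1⟩
  obtain ⟨L, d⟩ := hp.exists_dual hG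
  refine ⟨d.pair'.cyclic hG, hp.fix_ne hG, fix_le_fittingHall hG hM hKU, fun hcyc => ?_⟩
  obtain ⟨E, h⟩ := decomp_split hG hM hKU
  by_cases hne : Cfsg.fittingHallOf M = Cfsg.sigmaCore M
  · rw [hne] at hcyc
    have hc : ⁅M, M⁆ ≤ centralizer (Cfsg.sigmaCore M : Set G) :=
      commutator_le_centralizer_of_cyclic hcyc (le_normalizer_sigmaCore M)
    obtain ⟨hD, h2⟩ := derived_theorem hG hM hKU hK1
    by_cases hU : U = ⊥
    · refine hp.fix_ne hG (le_bot_iff.mp (h2.trans ?_))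
      rw [hD, hU, bot_sup_eq]
      refine (commutator_eq_bot_iff_le_centralizer.mpr ?_).le
      exact le_sup_right.trans (hD.ge.trans hc)
    · refine sigmaCore_ne_bot hG hM (le_bot_iff.mp ((le_inf le_rfl ?_).trans (h.fixed_U hG hM hU).le))
      exact le_centralizer_iff.mp (le_sup_left.trans (hD.ge.trans hc))
  · obtain ⟨-, n⟩ := nonNil_of_ne hG hM hKU hne
    haveI := Fact.mk n.prime_fix
    obtain ⟨B, hBM, hB, hBc⟩ := exists_elementary (p := Nat.card ↥(fix(M, K))) (n.q_beta hG).1.2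
    have hBp : IsPGroup (Nat.card ↥(fix(M, K))) B := isPGroup_of_pow hB.2
    have hBF : B ≤ Cfsg.fittingHallOf M := (n.le_syl hG hBp
      (le_sigmaCore_of_pgroup hG hM n.sigma_q hBp hBM)).trans (n.syl_le_fittingHall hG)
    haveI := hcyc
    haveI : IsCyclic B := isCyclic_of_injective (inclusion hBF) (inclusion_injective _)
    obtain ⟨b, hb⟩ := IsCyclic.exists_ofOrder_eq_natCard (α := B)
    have h1 : orderOf b ≤ Nat.card ↥(fix(M, K)) := by
      rw [← Subgroup.orderOf_coe]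
      exact Nat.le_of_dvd n.prime_fix.pos (orderOf_dvd_of_pow_eq_one (hB.2 b b.2))
    rw [hb] at h1
    exact absurd (hBc.trans h1) (not_le.mpr (lt_self_pow₀ n.prime_fix.one_lt (by norm_num)))

end Cfsg.Lib.OddLocal.RankTwoMax
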