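import Cfsg.Agent.OddLocal.SupportFrob
import Cfsg.Agent.OddLocal.KappaDerived

/-!
# Centralizers of Hall subgroups of the `σ`-core
-/

set_option linter.unusedSectionVars false
set_option linter.unusedVariables false
set_option linter.style.haveILetI false

namespace Cfsg.Lib.OddLocal.RankTwoMax

open Subgroup Uniqueness Sigma
open Cfsg.Lib.Coprime (conjMap)
open scoped commutatorElement

universe u

variable {G : Type u} [Group G] [Finite G] {M H K E U X : Subgroup G}

local notation "fix(" M ", " K ")" => Cfsg.sigmaCore M ⊓ centralizer (SetLike.coe K)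

theorem fittingHallOf_le_sigmaCore (hG : Cfsg.IsMinSimpleOddOrder G) (hM : IsCoatom M) :
    Cfsg.fittingHallOf M ≤ Cfsg.sigmaCore M := by
  show (Cfsg.fittingHall M).map M.subtype ≤ (Cfsg.piCore (Cfsg.sigma M) M).map M.subtype
  refine map_mono (le_sSup ⟨inferInstance, fun r hr hd => ?_⟩)
  haveI := Fact.mk hr
  haveI hFn : Group.IsNilpotent (Cfsg.fittingHall M) := CN.nilpotent_of_le
    Cfsg.Lib.FittingHall.fittingHall_le_fitting Cfsg.Lib.Components.isNilpotent_fitting
  obtain ⟨S⟩ : Nonempty (Sylow r (Cfsg.fittingHall M)) := inferInstance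
  haveI hSn : (S : Subgroup (Cfsg.fittingHall M)).Normal :=
    ((Group.isNilpotent_of_finite_tfae (G := Cfsg.fittingHall M)).out 0 3 rfl rfl).mp hFn r inferInstance S
  haveI hSc : (S : Subgroup (Cfsg.fittingHall M)).Characteristic := Sylow.characteristic_of_normal S hSn
  set T := (S : Subgroup (Cfsg.fittingHall M)).map (Cfsg.fittingHall M).subtype with hT
  haveI : T.Normal := ConjAct.normal_of_characteristic_of_normal
  have hTi : ¬ r ∣ T.index := by
    rw [← relIndex_mul_index (map_subtype_le _ : T ≤ Cfsg.fittingHall M)]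
    intro h
    rcases hr.dvd_mul.mp h with h | h
    · rw [relIndex, subgroupOf, comap_map_eq_self_of_injective (Cfsg.fittingHall M).subtype_injective] at h
      exact S.not_dvd_index h
    · exact hr.ne_one (Nat.eq_one_of_dvd_coprimes Cfsg.Lib.FittingHall.fittingHall_coprime hd h)
  set P : Sylow r M := (S.2.map _ : IsPGroup r T).toSylow hTi with hP
  refine ⟨hr, hd.trans (card_subgroup_dvd_card _), P, ?_⟩
  have hT1 : T.map M.subtype ≠ ⊥ := by
    rw [ne_eq, map_eq_bot_iff_of_injective _ M.subtype_injective, map_eq_bot_iff_of_injective _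
      (Cfsg.fittingHall M).subtype_injective]
    exact Sylow.ne_bot_of_dvd_card S hd
  refine (normalizer_eq hG hM hT1 (map_subtype_le _) ?_).le
  intro m hm
  refine le_normalizer_map M.subtype (mem_map_of_mem M.subtype (x := (⟨m, hm⟩ : M)) ?_)
  rw [normalizer_eq_top]; exact mem_top _

/-- A decomposition whose `K` contains a given `κ`-subgroup of a given complement. -/
theorem exists_decomp_ge (hG : Cfsg.IsMinSimpleOddOrder G) (hM : IsCoatom M)
    (hE : Cfsg.IsComplIn E (Cfsg.sigmaCore M) M) {Y : Subgroup G} (hY : Y ≤ E)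
    (hYκ : ∀ r : ℕ, r.Prime → r ∣ Nat.card Y → r ∈ Cfsg.kappa M) :
    ∃ K U : Subgroup G, Y ≤ K ∧ Cfsg.IsPiHallOf (Cfsg.kappa M) K M ∧ KappaSplit M K E U ∧
      Cfsg.IsSigmaDecomposition M K U := by
  haveI : Group.IsSolvable E := hG.2.2.2 E (FittingUniqueness.ne_top_of_le_coatom hM hE.1)
  obtain ⟨H, hH, hYH⟩ := Cfsg.Lib.Coprime.exists_piHall_ge (G := E) (π := Cfsg.kappa M) (K := Y.subgroupOf E)
    fun r hr hd => hYκ r hr (hd.trans (dvd_of_eq (Nat.card_congr (subgroupOfEquivOfLe hY).toEquiv)))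
  set K := H.map E.subtype with hKdef
  have hKE : K ≤ E := map_subtype_le _
  have hEN : E.relIndex M = Nat.card (Cfsg.sigmaCore M) :=
    Nat.eq_of_mul_eq_mul_left (Nat.card_pos (α := E)) ((card_mul_relIndex hE.1).trans (compl_card hE))
  have hK : Cfsg.IsPiHallOf (Cfsg.kappa M) K M := by
    refine ⟨hKE.trans hE.1, fun r hr hd => hH.1 r hr
      (hd.trans (dvd_of_eq (card_map_of_injective E.subtype_injective))), fun r hr hrκ hd => ?_⟩
    rw [← relIndex_mul_relIndex K E M hKE hE.1, hEN] at hd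
    rcases hr.dvd_mul.mp hd with h | h
    · have h2 : K.relIndex E = H.index := by
        rw [hKdef, ← relIndex_top_right H, ← relIndex_map_map_of_injective H ⊤ E.subtype_injective,
          ← MonoidHom.range_eq_map, range_subtype]
      exact hH.2 r hr hrκ (h2 ▸ h)
    · exact hrκ.2.2.1 (sigmaCore_isPi r hr h)
  obtain ⟨U, hU⟩ := exists_kappaSplit_of hG hM hK hE hKE
  exact ⟨K, U, fun y hy => ⟨⟨y, hY hy⟩, hYH hy, rfl⟩, hK, hU,
    hU.decomposition hK (kappa_hall_cyclic hG hM hK)⟩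

/-- A Hall subgroup of the `σ`-core contains Sylow subgroups of it. -/
theorem exists_sylow_in_hall (hH : H ≤ Cfsg.sigmaCore M) {q : ℕ} [hq : Fact q.Prime]
    (hHall : (Nat.card H).Coprime (H.relIndex (Cfsg.sigmaCore M))) (hd : q ∣ Nat.card H) :
    ∃ S : Sylow q ↥(Cfsg.sigmaCore M), (S : Subgroup ↥(Cfsg.sigmaCore M)).map (Cfsg.sigmaCore M).subtype ≤ H := by
  obtain ⟨S₀⟩ : Nonempty (Sylow q ↥(H.subgroupOf (Cfsg.sigmaCore M))) := inferInstance
  set T := (S₀ : Subgroup ↥(H.subgroupOf (Cfsg.sigmaCore M))).map (H.subgroupOf (Cfsg.sigmaCore M)).subtype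
  have hTi : ¬ q ∣ T.index := by
    rw [← relIndex_mul_index (map_subtype_le _ : T ≤ H.subgroupOf (Cfsg.sigmaCore M))]
    intro h
    rcases hq.out.dvd_mul.mp h with h | h
    · have h2 : T.relIndex (H.subgroupOf (Cfsg.sigmaCore M)) = (S₀ : Subgroup ↥(H.subgroupOf (Cfsg.sigmaCore M))).index := by
        conv_lhs => arg 2; rw [← range_subtype (H.subgroupOf (Cfsg.sigmaCore M)), MonoidHom.range_eq_map]
        rw [relIndex_map_map_of_injective _ _ (H.subgroupOf (Cfsg.sigmaCore M)).subtype_injective, relIndex_top_right]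
      exact S₀.not_dvd_index (h2 ▸ h)
    · exact hq.out.ne_one (Nat.eq_one_of_dvd_coprimes hHall hd h)
  refine ⟨(S₀.2.map _ : IsPGroup q T).toSylow hTi, ?_⟩
  rintro _ ⟨y, ⟨z, -, rfl⟩, rfl⟩
  exact z.2

/-- The centralizer of a Hall subgroup of the `σ`-core. -/
theorem hall_centralizer (hG : Cfsg.IsMinSimpleOddOrder G) (hM : IsCoatom M) (hH : H ≤ Cfsg.sigmaCore M)
    (hH1 : H ≠ ⊥) (hHall : (Nat.card H).Coprime (H.relIndex (Cfsg.sigmaCore M))) :
    ∃ X : Subgroup G, IsCyclic X ∧ (∀ p : ℕ, p.Prime → p ∣ Nat.card X → p ∈ Cfsg.tau2 M) ∧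
      M ⊓ centralizer (H : Set G) = (Cfsg.sigmaCore M ⊓ centralizer (H : Set G)) ⊔ X := by
  set C := M ⊓ centralizer (H : Set G) with hC
  have hCM : C ≤ M := inf_le_left
  haveI : Group.IsSolvable C := hG.2.2.2 C (FittingUniqueness.ne_top_of_le_coatom hM hCM)
  obtain ⟨X₀, hX₀⟩ := Cfsg.Lib.Coprime.exists_piHall (G := C) {r | r ∉ Cfsg.sigma M}
  set X := X₀.map C.subtype with hX
  have hXC : X ≤ C := map_subtype_le _
  have hXσ : ∀ r : ℕ, r.Prime → r ∣ Nat.card X → r ∉ Cfsg.sigma M := fun r hr hd =>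
    hX₀.1 r hr (hd.trans (dvd_of_eq (card_map_of_injective C.subtype_injective)))
  have hXH : X ≤ centralizer (H : Set G) := hXC.trans inf_le_right
  obtain ⟨E, hE, hXE⟩ := exists_complement_ge hG hM (hXC.trans hCM) hXσ
  obtain ⟨h₀, hh₀, hh₀1⟩ := (Subgroup.bot_or_exists_ne_one H).resolve_left hH1
  have hXhat : ∀ x ∈ X, x ∈ Cfsg.sigmaHat M := fun x hx =>
    ⟨hCM (hXC hx), h₀, hH hh₀, hh₀1, (mem_centralizer_iff.mp (hXH hx) h₀ hh₀).symm⟩
  have hXκ : ∀ r : ℕ, r.Prime → r ∣ Nat.card X → r ∉ Cfsg.kappa M := fun r hr hd hκ => by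
    haveI := Fact.mk hr
    obtain ⟨k, hk⟩ := exists_prime_orderOf_dvd_card' (G := X) r hd
    have hko : orderOf (k : G) = r := by rw [Subgroup.orderOf_coe, hk]
    obtain ⟨K, U, hYK, hK, h, -⟩ := exists_decomp_ge hG hM hE (Y := zpowers (k : G)) (zpowers_le.mpr (hXE k.2))
      fun t ht htd => by
        rw [Nat.card_zpowers, hko] at htd
        exact (Nat.prime_dvd_prime_iff_eq ht hr).mp htd ▸ hκ
    have hk1 : (k : G) ≠ 1 := fun e => hr.ne_one (by rw [← hko, e, orderOf_one])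
    have hK1 : K ≠ ⊥ := fun e => hk1 (mem_bot.mp (e ▸ hYK (mem_zpowers _)))
    have hHfix : H ≤ fix(M, K) := by
      rw [← kappa_group_fixed hG hM hK.1 hK.2.1 (hYK (mem_zpowers _)) hk1]
      exact le_inf hH fun y hy => mem_centralizer_singleton_iff.mpr (mem_centralizer_iff.mp (hXH k.2) y hy)
    obtain ⟨q, hq, hqd⟩ := Nat.exists_prime_and_dvd (mt card_eq_one.mp hH1)
    haveI := Fact.mk hq
    obtain ⟨S, hS⟩ := exists_sylow_in_hall hH hHall hqd
    exact (fixed_sylow hG hM hK hK1 (hqd.trans (card_dvd_of_le hHfix)) S).2.2 (hS.trans hHfix)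
  obtain ⟨K, U, -, hK, h, hd⟩ := exists_decomp_ge hG hM hE (Y := ⊥) bot_le
    fun r hr hr' => absurd (Subgroup.card_bot (G := G) ▸ hr') hr.not_dvd_one
  have hXU : X ≤ U := fun x hx => by
    refine mem_of_coprime_relIndex h.normal (hXE hx) fun r hr h1 h2 => ?_
    have hUK : U.relIndex E ∣ Nat.card K := by
      refine dvd_of_eq (Nat.eq_of_mul_eq_mul_left (Nat.card_pos (α := U)) ?_)
      rw [card_mul_relIndex h.memU, ← h.prod, Cfsg.Lib.Coprime.card_sup_of_inf_eq_bot (h.memK.trans h.normal) h.disjoint]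
    exact hXκ r hr (h1.trans ((Nat.card_zpowers x).symm ▸ card_dvd_of_le (zpowers_le.mpr hx)))
      (hK.2.1 r hr (h2.trans hUK))
  have hXc : IsMulCommutative X := by
    haveI := (decomp_hat hG hM hd).1
    have hle : X ≤ Subgroup.closure ((U : Set G) ∩ Cfsg.sigmaHat M) := fun x hx =>
      subset_closure ⟨hXU hx, hXhat x hx⟩
    exact ⟨⟨fun a b => Subtype.ext (ThompsonTransitivity.mul_comm_of this (hle a.2) (hle b.2))⟩⟩
  letI : CommGroup X := { (inferInstance : Group X) with mul_comm := hXc.is_comm.comm }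
  haveI : Group.IsNilpotent X := CommGroup.isNilpotent (G := X)
  refine ⟨X, isCyclic_of_sylows hG (le_refl X) fun r hr hrd => ?_, fun r hr hrd => ?_, ?_⟩
  · haveI := Fact.mk hr
    by_contra h1
    obtain ⟨A, hAX, hA, hAc⟩ := exists_elementary h1
    have hAM : A ≤ M := hAX.trans (hXC.trans hCM)
    obtain ⟨S, hS⟩ := ((isPGroup_of_pow hA.2 : IsPGroup r A).comap_subtype (K := M)).exists_le_sylow
    obtain ⟨hcard, hbot, -⟩ := omega_of_not_kappa hG hM (hrd.trans (card_dvd_of_le (hXC.trans hCM)))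
      (by rintro (h2 | h2); exacts [hXσ r hr hrd h2, hXκ r hr hrd h2]) S
    set Ω := Subgroup.closure {x : G | x ∈ (S : Subgroup M).map M.subtype ∧ x ^ r = 1} with hΩ
    have hAΩ : A ≤ Ω := fun a ha => subset_closure ⟨⟨⟨a, hAM ha⟩, hS ha, rfl⟩, hA.2 a ha⟩
    have hΩA : Ω = A := (Cfsg.Lib.Coprime.eq_of_le_of_card_eq hAΩ
      (le_antisymm (Nat.le_of_dvd Nat.card_pos (card_dvd_of_le hAΩ)) (hcard.trans hAc))).symm
    rw [hΩA] at hbot
    exact hh₀1 (mem_bot.mp (hbot.le ⟨hH hh₀, mem_centralizer_iff.mpr fun a ha =>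
      (mem_centralizer_iff.mp (hXH (hAX ha)) h₀ hh₀).symm⟩))
  · haveI := Fact.mk hr
    obtain ⟨k, hk⟩ := exists_prime_orderOf_dvd_card' (G := X) r hrd
    exact (prime_of_hat (p := r) hG hM (hXhat k k.2) (by rw [Subgroup.orderOf_coe, hk]) (hXσ r hr hrd)).resolve_right
      (hXκ r hr hrd)
  · refine le_antisymm (relIndex_eq_one.mp ?_) (sup_le (inf_le_inf_right _ (sigmaCore_le M)) hXC)
    by_contra h1
    obtain ⟨r, hr, hrd⟩ := Nat.exists_prime_and_dvd h1
    haveI := Fact.mk hr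
    by_cases hσ : r ∈ Cfsg.sigma M
    · obtain ⟨T⟩ : Nonempty (Sylow r C) := inferInstance
      have hT : (T : Subgroup C).map C.subtype ≤ Cfsg.sigmaCore M ⊓ centralizer (H : Set G) :=
        le_inf (le_sigmaCore_of_pgroup hG hM hσ (T.2.map _) ((map_subtype_le _).trans hCM))
          ((map_subtype_le _).trans inf_le_right)
      have h2 := hrd.trans (relIndex_dvd_of_le_left C (hT.trans le_sup_left))
      rw [relIndex, subgroupOf, comap_map_eq_self_of_injective C.subtype_injective] at h2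
      exact T.not_dvd_index h2
    · have h2 := hrd.trans (relIndex_dvd_of_le_left C (le_sup_right (a := Cfsg.sigmaCore M ⊓ centralizer (H : Set G)) (b := X)))
      rw [hX, relIndex, subgroupOf, comap_map_eq_self_of_injective C.subtype_injective] at h2
      exact hX₀.2 r hr hσ h2

end Cfsg.Lib.OddLocal.RankTwoMax
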