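import Cfsg.Agent.OddLocal.KappaCounting

/-!
# The dual of a pair `(M, K)`
-/

set_option linter.unusedSectionVars false
set_option linter.unusedVariables false
set_option linter.style.haveILetI false

namespace Cfsg.Lib.OddLocal.RankTwoMax

open Subgroup Uniqueness Sigma
open Cfsg.Lib.Coprime (conjMap)
open scoped commutatorElement

universe u

variable {G : Type u} [Group G] [Finite G] {M L K J U : Subgroup G} {z : G}

local notation "fix(" M ", " K ")" => Cfsg.sigmaCore M ⊓ centralizer (SetLike.coe K)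

/-- Either every prime of `M` outside `σ(M)` is in `κ(M)`, or `K` has prime order and `M_σ` is nilpotent. -/
theorem KappaPair.trivial_or (hG : Cfsg.IsMinSimpleOddOrder G) (h : KappaPair M K) :
    Nat.card M = Nat.card (Cfsg.sigmaCore M) * Nat.card K ∨
      ((Nat.card K).Prime ∧ Group.IsNilpotent (Cfsg.sigmaCore M)) := by
  obtain ⟨E, U, hEU⟩ := exists_kappaSplit hG h.max h.hall
  by_cases hU : U = ⊥
  · refine Or.inl ?_
    rw [card_eq_mul hEU.compl]
    have hEK : E = K := by rw [← hEU.prod, hU, bot_sup_eq]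
    rw [hEK]
  obtain ⟨t, ht, hd⟩ := Nat.exists_prime_and_dvd (mt card_eq_one.mp hU)
  haveI := Fact.mk ht
  exact Or.inr ⟨hEU.prime_card hG h.max h.hall h.ne hU,
    sigmaCore_nilpotent_of_prime hG h.max (hd.trans (card_dvd_of_le hEU.hallU.1)) (hEU.hallU.2.1 t ht hd).2.2
      (hEU.hallU.2.1 t ht hd).2.1⟩

/-- Some pair with the same `Z` has `M_σ K` smaller than `M`. -/
theorem KappaPair.count_members (hG : Cfsg.IsMinSimpleOddOrder G) (h : KappaPair M K)
    (hall : ∀ L J : Subgroup G, KappaPair L J → J ⊔ fix(L, J) = K ⊔ fix(M, K) →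
      Nat.card L = Nat.card (Cfsg.sigmaCore L) * Nat.card J) : False := by
  classical
  let ι := {L : Subgroup G // ∃ J : Subgroup G, KappaPair L J ∧ J ⊔ fix(L, J) = K ⊔ fix(M, K)}
  haveI : Fintype ι := Fintype.ofFinite ι
  choose J hJ hZ using fun i : ι => i.2
  refine pairs_count hG (K ⊔ fix(M, K)) (fun i : ι => i.1) J hJ hZ Subtype.coe_injective ?_
    (fun i => hall _ _ (hJ i) (hZ i)) fun z hz hz1 => ?_
  · obtain ⟨X, hXK, hX⟩ := exists_line h.ne
    obtain ⟨L, J', hp, hZ', -, hne, -⟩ := h.exists_member hG hX hXK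
    exact Fintype.one_lt_card_iff.mpr ⟨⟨M, K, h, rfl⟩, ⟨L, J', hp, hZ'⟩, fun e => hne (congrArg Subtype.val e).symm⟩
  obtain ⟨t, ht, hd⟩ := exists_pow_prime hz1
  by_cases hσ : t ∈ Cfsg.sigma M
  · exact ⟨⟨M, K, h, rfl⟩, t, ht, hd, hσ⟩
  haveI := Fact.mk ht
  set a := z ^ (orderOf z / t) with ha
  have hao : orderOf a = t := orderOf_pow_orderOf_div (orderOf_pos z).ne' hd
  have haK : a ∈ K := h.mem_hall (pow_mem hz _) fun s hs hsd =>
    (Nat.prime_dvd_prime_iff_eq hs ht).mp (hao ▸ hsd) ▸ hσ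
  obtain ⟨L, J', hp, hZ', hXJ, -, -⟩ := h.exists_member hG (X := zpowers a)
    (by rw [Nat.card_zpowers, hao]; exact ht) (zpowers_le.mpr haK)
  exact ⟨⟨L, J', hp, hZ'⟩, t, ht, hd, prime_of_mem_core (hXJ (mem_zpowers a)).1 ht (dvd_of_eq hao.symm)⟩

/-- `L` is the dual maximal subgroup of the pair `(M, K)`. -/
structure KappaDual (M K L : Subgroup G) : Prop where
  pair : KappaPair M K
  pair' : KappaPair L (Cfsg.sigmaCore M ⊓ centralizer (SetLike.coe K))
  eq : K = Cfsg.sigmaCore L ⊓ centralizer (SetLike.coe (Cfsg.sigmaCore M ⊓ centralizer (SetLike.coe K)))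

/-- Every pair has a dual. -/
theorem KappaPair.exists_dual (hG : Cfsg.IsMinSimpleOddOrder G) (h : KappaPair M K) :
    ∃ L : Subgroup G, KappaDual M K L := by
  by_contra hno
  push Not at hno
  refine h.count_members hG fun L J hp hZ => (hp.trivial_or hG).resolve_right ?_
  rintro ⟨hJ, -⟩
  by_cases hLM : L = M
  · subst hLM
    have hK : (Nat.card K).Prime := by
      have hJK : J = K := le_antisymm
        (fun x hx => h.mem_hall (hZ.le (mem_sup_left hx)) fun t ht hd => hp.not_sigma hx ht hd)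
        (fun x hx => hp.mem_hall (hZ.ge (mem_sup_left hx)) fun t ht hd => h.not_sigma hx ht hd)
      exact hJK ▸ hJ
    obtain ⟨N, J', hp', hZ', hKJ, hne, -⟩ := h.exists_member hG hK le_rfl
    have hW : fix(N, J') = K := le_antisymm (hp'.fix_le hG h hZ'.symm hne.symm) hKJ
    have hJW : J' = fix(L, K) := by
      refine (Cfsg.Lib.Coprime.eq_of_le_of_card_eq (h.fix_le hG hp' hZ' hne) ?_).symm
      have h1 := hp'.card_eq
      rw [hZ', h.card_eq] at h1
      have h2 : Nat.card ↥(fix(N, J')) = Nat.card K := congrArg (fun H : Subgroup G => Nat.card H) hW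
      rw [h2, mul_comm] at h1
      exact Nat.eq_of_mul_eq_mul_right Nat.card_pos h1
    exact hno N ⟨h, hJW ▸ hp', (hJW ▸ hW).symm⟩
  · obtain ⟨hJe, hKe⟩ := h.dual_of_prime hG hp hZ hLM hJ
    exact hno L ⟨h, hJe ▸ hp, hJe ▸ hKe⟩

variable (hG : Cfsg.IsMinSimpleOddOrder G)

theorem KappaDual.fix_eq (d : KappaDual M K L) :
    Cfsg.sigmaCore L ⊓ centralizer (SetLike.coe (fix(M, K))) = K := d.eq.symm

theorem KappaDual.Z_eq (d : KappaDual M K L) :
    fix(M, K) ⊔ (Cfsg.sigmaCore L ⊓ centralizer (SetLike.coe (fix(M, K)))) = K ⊔ fix(M, K) := by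
  rw [d.fix_eq, sup_comm]

theorem KappaDual.ne (d : KappaDual M K L) : L ≠ M := fun e => by
  subst e
  obtain ⟨X, hX, hXp⟩ := exists_line d.pair.ne
  obtain ⟨x, hx, hx1⟩ : ∃ x ∈ X, x ≠ (1 : G) := by
    by_contra hne
    push Not at hne
    exact hXp.ne_one (card_eq_one.mpr ((eq_bot_iff_forall X).mpr hne))
  obtain ⟨t, ht, hd⟩ := exists_pow_prime hx1
  exact d.pair.not_sigma (hX hx) ht hd (prime_of_mem_core (d.eq.le (hX hx)).1 ht hd)

theorem KappaDual.symm (d : KappaDual M K L) : KappaDual L (fix(M, K)) M := by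
  refine ⟨d.pair', ?_, ?_⟩
  · rw [d.fix_eq]; exact d.pair
  · rw [d.fix_eq]

theorem KappaDual.unique (d : KappaDual M K L) {L' : Subgroup G} (d' : KappaDual M K L')
    (hG : Cfsg.IsMinSimpleOddOrder G) : L' = L := by
  obtain ⟨t, ht, hd⟩ := Nat.exists_prime_and_dvd (mt card_eq_one.mp d.pair.ne)
  haveI := Fact.mk ht
  obtain ⟨a, ha⟩ := exists_prime_orderOf_dvd_card' t hd
  have hao : orderOf (a : G) = t := by rw [orderOf_coe, ha]
  exact d.pair'.eq_of_sigma hG d'.pair' (d'.Z_eq.trans d.Z_eq.symm)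
    ⟨t, prime_of_mem_core (d.eq.le a.2).1 ht (dvd_of_eq hao.symm),
      prime_of_mem_core (d'.eq.le a.2).1 ht (dvd_of_eq hao.symm)⟩

/-- A pair and its dual do not both have trivial complements. -/
theorem KappaDual.count (hG : Cfsg.IsMinSimpleOddOrder G) (d : KappaDual M K L) :
    ¬ (Nat.card M = Nat.card (Cfsg.sigmaCore M) * Nat.card K ∧
      Nat.card L = Nat.card (Cfsg.sigmaCore L) * Nat.card ↥(fix(M, K))) := by
  rintro ⟨hM, hL⟩
  refine d.pair.count_members hG fun N J hp hZ => ?_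
  have hJeq : ∀ {N' J' : Subgroup G}, KappaPair N' J' → J' ⊔ fix(N', J') = K ⊔ fix(M, K) → N' = N → J = J' :=
    fun hp' hZ' e => by
      subst e
      exact le_antisymm (fun x hx => hp'.mem_hall (hZ'.ge (hZ.le (mem_sup_left hx))) fun t ht hd => hp.not_sigma hx ht hd)
        (fun x hx => hp.mem_hall (hZ.ge (hZ'.le (mem_sup_left hx))) fun t ht hd => hp'.not_sigma hx ht hd)
  by_cases hNM : N = M
  · rw [hJeq d.pair rfl hNM.symm, hNM]; exact hM
  obtain ⟨X, hXW, hX⟩ := exists_line (hp.fix_ne hG)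
  obtain ⟨t, ht, hd⟩ := Nat.exists_prime_and_dvd hX.ne_one
  haveI := Fact.mk ht
  obtain ⟨a, ha⟩ := exists_prime_orderOf_dvd_card' t hd
  have hao : orderOf (a : G) = t := by rw [orderOf_coe, ha]
  have haK : (a : G) ∈ K := hp.fix_le hG d.pair hZ.symm (Ne.symm hNM) (hXW a.2)
  have hNL : N = L := d.pair'.eq_of_sigma hG hp (hZ.trans d.Z_eq.symm)
    ⟨t, prime_of_mem_core (d.eq.le haK).1 ht (dvd_of_eq hao.symm),
      prime_of_mem_core (hXW a.2).1 ht (dvd_of_eq hao.symm)⟩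
  rw [hJeq d.pair' d.Z_eq hNL.symm, hNL]; exact hL

/-- `K` has prime order or the fixed points have prime order. -/
theorem KappaDual.prime_or (hG : Cfsg.IsMinSimpleOddOrder G) (d : KappaDual M K L) :
    ((Nat.card K).Prime ∧ Group.IsNilpotent (Cfsg.sigmaCore M)) ∨
      ((Nat.card ↥(fix(M, K))).Prime ∧ Group.IsNilpotent (Cfsg.sigmaCore L)) := by
  rcases d.pair.trivial_or hG with h | h
  · exact Or.inr ((d.pair'.trivial_or hG).resolve_left fun h' => d.count hG ⟨h, h'⟩)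
  · exact Or.inl h

/-- A Hall `κ(M)`-subgroup is cyclic. -/
theorem kappa_hall_cyclic (hG : Cfsg.IsMinSimpleOddOrder G) (hM : IsCoatom M)
    (hK : Cfsg.IsPiHallOf (Cfsg.kappa M) K M) : IsCyclic K := by
  by_cases hK1 : K = ⊥
  · rw [hK1]; infer_instance
  obtain ⟨L, d⟩ := (KappaPair.mk hM hK hK1).exists_dual hG
  rcases d.prime_or hG with ⟨hp, -⟩ | ⟨-, hnil⟩
  · haveI := Fact.mk hp
    exact isCyclic_of_prime_card (p := Nat.card K) rfl
  · haveI := hnil
    have hKL : K ≤ Cfsg.sigmaCore L := d.eq.le.trans inf_le_left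
    haveI : Group.IsNilpotent K := Group.nilpotent_of_mulEquiv (subgroupOfEquivOfLe hKL)
    haveI : IsZGroup K := ⟨fun r hr S => by
      haveI := Fact.mk hr
      by_cases hS : (S : Subgroup K) = ⊥
      · rw [hS]; infer_instance
      obtain ⟨y, hy, hyo⟩ := ScnUniqueness.exists_orderOf S.2 hS
      have hrK : r ∣ Nat.card K := hyo ▸ orderOf_dvd_natCard y
      haveI := isCyclic_sylow_of_rank_one hG (S.2.map K.subtype) ((map_subtype_le _).trans hK.1)
        (kappa_rank hG hM (hK.2.1 r hr hrK))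
      exact isCyclic_of_injective (Subgroup.equivMapOfInjective _ _ K.subtype_injective).toMonoidHom
        (MulEquiv.injective _)⟩
    infer_instance

theorem exists_kappa_hall (hG : Cfsg.IsMinSimpleOddOrder G) (hM : IsCoatom M) :
    ∃ K : Subgroup G, Cfsg.IsPiHallOf (Cfsg.kappa M) K M := by
  haveI : Group.IsSolvable M := hG.2.2.2 M (FittingUniqueness.ne_top_of_le_coatom hM le_rfl)
  obtain ⟨K₀, hK₀⟩ := Cfsg.Lib.Coprime.exists_piHall (G := M) (Cfsg.kappa M)
  refine ⟨K₀.map M.subtype, map_subtype_le _, fun t ht hd => hK₀.1 t ht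
    (by rwa [card_map_of_injective M.subtype_injective] at hd), fun t ht htκ => ?_⟩
  rw [relIndex, subgroupOf, comap_map_eq_self_of_injective M.subtype_injective]
  exact hK₀.2 t ht htκ

end Cfsg.Lib.OddLocal.RankTwoMax

namespace Cfsg.Lib.OddLocal.RankTwoMax

open Subgroup Uniqueness Sigma

universe u

variable {G : Type u} [Group G] [Finite G] {M L K U : Subgroup G}

theorem dual_of_data (hG : Cfsg.IsMinSimpleOddOrder G) (hM : IsCoatom M)
    (hd : Cfsg.IsSigmaDecomposition M K U) (hK1 : K ≠ ⊥) (hL : IsCoatom L)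
    (heq : K = Cfsg.sigmaCore L ⊓ centralizer ((Cfsg.sigmaCore M ⊓ centralizer (K : Set G)) : Set G))
    (hall : Cfsg.IsPiHallOf (Cfsg.kappa L) (Cfsg.sigmaCore M ⊓ centralizer (K : Set G)) L) :
    KappaDual M K L :=
  ⟨⟨hM, hd.hall, hK1⟩, ⟨hL, hall, kappa_group_fixed_ne hG hM hd.hall.1 hd.hall.2.1⟩, heq⟩

theorem kappa_partner (hG : Cfsg.IsMinSimpleOddOrder G) (hM : IsCoatom M)
    (hd : Cfsg.IsSigmaDecomposition M K U) (hK1 : K ≠ ⊥) :
    ∃! L : Subgroup G, IsCoatom L ∧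
      K = Cfsg.sigmaCore L ⊓ centralizer ((Cfsg.sigmaCore M ⊓ centralizer (K : Set G)) : Set G) ∧
      Cfsg.IsPiHallOf (Cfsg.kappa L) (Cfsg.sigmaCore M ⊓ centralizer (K : Set G)) L := by
  obtain ⟨L, d⟩ := (KappaPair.mk hM hd.hall hK1).exists_dual hG
  exact ⟨L, ⟨d.pair'.max, d.eq, d.pair'.hall⟩, fun L' hL' =>
    d.unique (dual_of_data hG hM hd hK1 hL'.1 hL'.2.1 hL'.2.2) hG⟩

theorem fix_prime_of_trivial (hG : Cfsg.IsMinSimpleOddOrder G) (hM : IsCoatom M)
    (hd : Cfsg.IsSigmaDecomposition M K U) (hK1 : K ≠ ⊥) (hU : U = ⊥) :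
    (Nat.card ↥(Cfsg.sigmaCore M ⊓ centralizer (K : Set G))).Prime := by
  obtain ⟨L, d⟩ := (KappaPair.mk hM hd.hall hK1).exists_dual hG
  obtain ⟨E, hE⟩ := decomp_split hG hM hd
  have hEK : E = K := by rw [← hE.prod, hU, bot_sup_eq]
  refine ((d.pair'.trivial_or hG).resolve_left fun h' => d.count hG ⟨?_, h'⟩).1
  rw [card_eq_mul hE.compl, hEK]

end Cfsg.Lib.OddLocal.RankTwoMax
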