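import Cfsg.Agent.OddLocal.AlphaCore

/-!
# Centralizers in `M_α`
-/

set_option linter.unusedSectionVars false
set_option linter.unusedVariables false
set_option linter.style.haveILetI false

namespace Cfsg.Lib.OddLocal.Sigma

open Subgroup Uniqueness
open Cfsg.Lib.Coprime (conjMap)

universe u

variable {G : Type u} [Group G] [Finite G] {M : Subgroup G}

theorem dvd_of_not_pRankLE {p k : ℕ} [hp : Fact p.Prime] {X : Subgroup G} (h : ¬ Cfsg.PRankLE p k X) :
    p ∣ Nat.card X := by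
  obtain ⟨E, hEX, hE, hEc⟩ := exists_elementary h
  obtain ⟨i, hi⟩ := IsPGroup.iff_card.mp (isPGroup_of_pow hE.2 : IsPGroup p E)
  refine dvd_trans ?_ (card_dvd_of_le hEX)
  rw [hi]
  refine dvd_pow_self p ?_
  rintro rfl
  rw [hi, pow_zero] at hEc
  exact absurd hEc (not_le.mpr (Nat.one_lt_pow k.succ_ne_zero hp.out.one_lt))

/-- Sylow groups of `M_α` have rank three. -/
theorem not_pRankLE_sylow_alphaCore (hG : Cfsg.IsMinSimpleOddOrder G) (hM : IsCoatom M) {p : ℕ}
    [hp : Fact p.Prime] (hα : p ∈ Cfsg.alpha M) (P : Sylow p (Cfsg.alphaCore M)) :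
    ¬ Cfsg.PRankLE p 2 ((P : Subgroup (Cfsg.alphaCore M)).map (Cfsg.alphaCore M).subtype) := by
  obtain ⟨E, hEM, hE, hEc⟩ := exists_elementary hα.2
  obtain ⟨S, hS⟩ := ((isPGroup_of_pow hE.2).comap_subtype (K := M)).exists_le_sylow
  have hEN : E ≤ (Cfsg.alphaCore M) := fun x hx =>
    ⟨⟨x, hEM hx⟩, sylow_le_alphaCore hG hM hα S (hS hx), rfl⟩
  obtain ⟨T, hT⟩ := ((isPGroup_of_pow hE.2).comap_subtype (K := (Cfsg.alphaCore M))).exists_le_sylow
  obtain ⟨c, hc⟩ := MulAction.exists_smul_eq (Cfsg.alphaCore M) P T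
  have hET : E ≤ (T : Subgroup (Cfsg.alphaCore M)).map (Cfsg.alphaCore M).subtype := fun x hx => ⟨⟨x, hEN hx⟩, hT hx, rfl⟩
  rw [← hc, Cfsg.Lib.Coprime.map_subtype_smul] at hET
  intro hr
  refine not_pRankLE_of hE hET hEc (Cfsg.Lib.OddP.pRankLE_of_injective
    (((P : Subgroup (Cfsg.alphaCore M)).map (Cfsg.alphaCore M).subtype).equivMapOfInjective _
      (MulAut.conj (c : G)).injective).symm.toMonoidHom (MulEquiv.injective _) hr)

/-- Lemma 10.3. -/
theorem unique_centralizer (hG : Cfsg.IsMinSimpleOddOrder G) (hM : IsCoatom M) {X : Subgroup G}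
    (hXM : X ≤ M) (hXα : ∀ p : ℕ, p.Prime → p ∣ Nat.card X → p ∉ Cfsg.alpha M)
    (hr : ¬ Cfsg.RankLE 1 ↥(Cfsg.alphaCore M ⊓ centralizer (X : Set G))) :
    Cfsg.InUniqueMaximal (M ⊓ centralizer (X : Set G)) := by
  simp only [Cfsg.RankLE, not_forall] at hr
  obtain ⟨p, hp, hp1⟩ := hr
  haveI := Fact.mk hp
  set N := Cfsg.alphaCore M with hN
  obtain ⟨E, hEC, hE, hEc⟩ := exists_elementary hp1
  have hNα := (alphaCore_hall hG hM).2.1
  have hα : p ∈ Cfsg.alpha M :=
    hNα p hp ((dvd_of_not_pRankLE hp1).trans (card_dvd_of_le inf_le_left))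
  have hXN : X ≤ normalizer (N : Set G) := hXM.trans (PiCoreOf.le_normalizer' _ M)
  have hcop : (Nat.card X).Coprime (Nat.card N) :=
    Nat.coprime_of_dvd fun q hq hqX hqN => hXα q hq hqX (hNα q hq hqN)
  haveI := hG.2.2.2 M hM.1
  obtain ⟨P, hEP, hXP⟩ := Cfsg.Lib.Coprime.exists_invariant_sylow_ge hXN hcop
    (Or.inr (Cfsg.Lib.Coprime.isSolvable_of_le (alphaCore_le M) inferInstance)) p (hEC.trans inf_le_left)
    (isPGroup_of_pow hE.2)
    ((le_centralizer_iff.mp (hEC.trans inf_le_right)).trans (centralizer_le_normalizer _))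
  set R := (P : Subgroup N).map N.subtype with hR
  have hRp : IsPGroup p R := P.2.map _
  have hcopR : (Nat.card X).Coprime p :=
    ((Nat.Prime.coprime_iff_not_dvd hp).mpr fun h => hXα p hp h hα).symm
  have hE1 : E ≠ ⊥ := fun h0 => by
    rw [h0, Subgroup.card_bot] at hEc
    exact absurd hEc (not_le.mpr (Nat.one_lt_pow (by norm_num) hp.one_lt))
  obtain ⟨B, E', hBR, hBX, hE'R, hB, hBc, hE', hE'c, hBE⟩ := ScnUniqueness.exists_fixed_sq_group
    (ne_two hG (isPGroup_of_pow hE.2) hE1) hRp (not_pRankLE_sylow_alphaCore hG hM hα P) hXP hcopR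
    (fun hcyc => not_isCyclic_of_card hE.2 hEc
      (haveI := hcyc
       isCyclic_of_injective (inclusion (le_inf hEP (hEC.trans inf_le_right)))
        (inclusion_injective (le_inf hEP (hEC.trans inf_le_right)))))
  exact unique_of_le (unique_of_centralizes hG (ScnUniqueness.unique_of_abelian hG hE' hE'c) hBE le_rfl hB hBc)
    (le_inf (hBR.trans ((map_subtype_le _).trans (alphaCore_le M))) hBX)
    (FittingUniqueness.ne_top_of_le_coatom hM inf_le_left)

end Cfsg.Lib.OddLocal.Sigma
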