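import Cfsg.Agent.OddLocal.SigmaFusion

/-!
# The core `M_α`
-/

set_option linter.unusedSectionVars false
set_option linter.unusedVariables false
set_option linter.style.haveILetI false

namespace Cfsg.Lib.OddLocal.Sigma

open Subgroup Uniqueness
open Cfsg.Lib.Coprime (conjMap)
open scoped commutatorElement

universe u

variable {G : Type u} [Group G] [Finite G] {M : Subgroup G}

theorem dvd_card_of_alpha {p : ℕ} (hp : p ∈ Cfsg.alpha M) : p ∣ Nat.card M := by
  haveI := Fact.mk hp.1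
  obtain ⟨E, hEM, hE, hEc⟩ := exists_elementary hp.2
  obtain ⟨i, hi⟩ := IsPGroup.iff_card.mp (isPGroup_of_pow hE.2 : IsPGroup p E)
  refine dvd_trans ?_ (card_dvd_of_le hEM)
  rw [hi]
  refine dvd_pow_self p ?_
  rintro rfl
  rw [hi, pow_zero] at hEc
  exact absurd hEc (not_le.mpr (Nat.one_lt_pow (by norm_num) hp.1.one_lt))

theorem alpha_subset_sigma (hG : Cfsg.IsMinSimpleOddOrder G) (hM : IsCoatom M) :
    Cfsg.alpha M ⊆ Cfsg.sigma M := by
  intro p hp
  haveI := Fact.mk hp.1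
  obtain ⟨E, hEM, hE, hEc⟩ := exists_elementary hp.2
  obtain ⟨S, hS⟩ := ((isPGroup_of_pow hE.2).comap_subtype (K := M)).exists_le_sylow
  have hES : E ≤ (S : Subgroup M).map M.subtype := fun x hx =>
    ⟨⟨x, hEM hx⟩, hS hx, rfl⟩
  refine ⟨hp.1, dvd_card_of_alpha hp, S, le_of_unique (ScnUniqueness.unique_of_abelian hG hE hEc) hM hEM ?_
    (hES.trans le_normalizer)⟩
  refine MinSimpleTransitivity.normalizer_ne_top hG (fun h0 => ?_)
    (FittingUniqueness.ne_top_of_le_coatom hM (map_subtype_le _))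
  exact ne_bot_of_unique hG (ScnUniqueness.unique_of_abelian hG hE hEc) (le_bot_iff.mp (h0 ▸ hES))

/-- Sylow groups for primes in `σ(M)` are in `M'`. -/
theorem sylow_le_derived (hG : Cfsg.IsMinSimpleOddOrder G) (hM : IsCoatom M) {p : ℕ} [hp : Fact p.Prime]
    (hσ : p ∈ Cfsg.sigma M) {R : Subgroup G} (hR : IsSylowOf p R M) : R ≤ ⁅M, M⁆ := by
  obtain ⟨P, hP⟩ := hR.2.1.exists_le_sylow
  have hPR := sylow_max hσ hR P.2 hP
  haveI := hG.2.1
  have hcomm : _root_.commutator G = ⊤ := by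
    rcases IsSimpleGroup.eq_bot_or_eq_top_of_normal (_root_.commutator G) inferInstance with h0 | h0
    · refine absurd ⟨⟨fun a b => ?_⟩⟩ hG.2.2.1
      have h1 : ⁅a, b⁆ ∈ _root_.commutator G := commutator_mem_commutator (mem_top a) (mem_top b)
      rw [h0, mem_bot] at h1
      exact commutatorElement_eq_one_iff_mul_comm.mp h1
    · exact h0
  have hfoc := commutator_inf_eq_focalSubgroup (G := G) (p := p) (P := P)
  rw [hcomm, top_inf_eq] at hfoc
  rw [← hPR]
  refine hfoc.le.trans ?_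
  rw [focalSubgroup_def, closure_le]
  rintro g ⟨hg, x, hx, u, rfl⟩
  have hux : u * x⁻¹ * u⁻¹ ∈ (P : Subgroup G) := by
    have h1 := mul_mem (inv_mem hx) hg
    rwa [show x⁻¹ * ⁅x, u⁆ = u * x⁻¹ * u⁻¹ by rw [commutatorElement_def]; group] at h1
  show ⁅x, u⁆ ∈ ⁅M, M⁆
  by_cases hx1 : x = 1
  · simp [hx1]
  have hPM : (P : Subgroup G) ≤ M := hPR.le.trans hR.1
  obtain ⟨m, hm, c, hc, rfl⟩ := factor_conj hG hM hσ (X := zpowers x⁻¹)
    (P.2.to_le (zpowers_le.mpr (inv_mem hx)))
    (by simpa using hx1) (zpowers_le.mpr (hPM (inv_mem hx))) (g := u) (by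
      show (zpowers x⁻¹).map (MulAut.conj u).toMonoidHom ≤ M
      rw [MonoidHom.map_zpowers]
      exact zpowers_le.mpr (hPM hux))
  have hcx : c * x⁻¹ * c⁻¹ = x⁻¹ := by
    rw [← mem_centralizer_iff.mp hc x⁻¹ (mem_zpowers _), mul_inv_cancel_right]
  rw [show ⁅x, m * c⁆ = ⁅x, m⁆ by
    rw [commutatorElement_def, commutatorElement_def,
      show x * (m * c) * x⁻¹ * (m * c)⁻¹ = x * m * (c * x⁻¹ * c⁻¹) * m⁻¹ by group, hcx]]
  exact commutator_mem_commutator (hPM hx) hm

variable (M) in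
/-- `O_α` inside `M`. -/
abbrev alphaIn : Subgroup M := Cfsg.piCore (Cfsg.alpha M) M

theorem alphaIn_isPi : ∀ p : ℕ, p.Prime → p ∣ Nat.card (alphaIn M) → p ∈ Cfsg.alpha M :=
  Cfsg.Lib.Elementary.piCore_isPi _

theorem pRankLE_quotient {p : ℕ} [hp : Fact p.Prime] (h : p ∉ Cfsg.alpha M) :
    Cfsg.PRankLE p 2 (M ⧸ alphaIn M) := by
  intro B hBc hBp
  obtain ⟨S⟩ : Nonempty (Sylow p M) := inferInstance
  set π := QuotientGroup.mk' (alphaIn M)
  have hπ : Function.Surjective π := QuotientGroup.mk'_surjective _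
  have hBp' : IsPGroup p B := isPGroup_of_pow hBp
  obtain ⟨T, hT⟩ := hBp'.exists_le_sylow
  obtain ⟨g, hg⟩ := MulAction.exists_smul_eq (M ⧸ alphaIn M) (S.mapSurjective hπ) T
  obtain ⟨x, rfl⟩ := hπ g
  have hT' : (T : Subgroup (M ⧸ alphaIn M)) = ((x • S : Sylow p M) : Subgroup M).map π := by
    rw [← hg]
    simp only [Sylow.coe_subgroup_smul, Cfsg.Lib.Coprime.conj_smul_eq]
    rw [Cfsg.Lib.Coprime.map_conjMap]
    rfl
  rw [hT'] at hT
  set S' : Subgroup M := ((x • S : Sylow p M) : Subgroup M)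
  set C := B.comap π ⊓ S' with hC
  have hCB : C.map π = B := by
    refine le_antisymm ((map_mono inf_le_left).trans (map_comap_le _ _)) fun b hb => ?_
    obtain ⟨s, hs, rfl⟩ := hT hb
    exact ⟨s, ⟨hb, hs⟩, rfl⟩
  have hinj : Set.InjOn π C := by
    intro a ha b hb hab
    have h1 : a⁻¹ * b ∈ alphaIn M := QuotientGroup.eq.mp hab
    have h2 : a⁻¹ * b ∈ S' := mul_mem (inv_mem ha.2) hb.2
    have h3 : (Nat.card (alphaIn M)).Coprime (Nat.card S') := by
      obtain ⟨i, hi⟩ := IsPGroup.iff_card.mp ((x • S : Sylow p M).2)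
      rw [show Nat.card S' = p ^ i from hi]
      exact ((hp.out.coprime_iff_not_dvd.mpr fun hd => h (alphaIn_isPi p hp.out hd)).symm).pow_right i
    exact inv_mul_eq_one.mp (Cfsg.Lib.Coprime.eq_one_of_coprime h3 h1 h2)
  have hcard : Nat.card B = Nat.card C := by
    rw [← hCB]
    have h1 : (↑(C.map π) : Set (M ⧸ alphaIn M)) = π '' (C : Set M) := Subgroup.coe_map π C
    calc Nat.card (C.map π) = Nat.card ↥(π '' (C : Set M)) := Nat.card_congr (Equiv.setCongr h1)
      _ = Nat.card C := Nat.card_image_of_injOn hinj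
  have hM : Cfsg.PRankLE p 2 M := by
    by_contra h'
    exact h ⟨hp.out, h'⟩
  rw [hcard]
  refine hM C ⟨⟨fun a b => Subtype.ext (hinj (mul_mem a.2 b.2) (mul_mem b.2 a.2) ?_)⟩⟩
    fun a ha => hinj (pow_mem ha p) (one_mem _) ?_
  · simp only [map_mul, Subgroup.coe_mul]
    exact ThompsonTransitivity.mul_comm_of hBc (hCB.le (mem_map_of_mem π a.2))
      (hCB.le (mem_map_of_mem π b.2))
  · rw [map_pow, map_one]
    exact hBp _ (hCB.le (mem_map_of_mem π ha))

theorem derived_nilpotent (hG : Cfsg.IsMinSimpleOddOrder G) (hM : IsCoatom M) :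
    Group.IsNilpotent ((commutator M).map (QuotientGroup.mk' (alphaIn M))) := by
  haveI := hG.2.2.2 M hM.1
  set π := QuotientGroup.mk' (alphaIn M)
  have hπ : Function.Surjective π := QuotientGroup.mk'_surjective _
  have hodd : Odd (Nat.card (M ⧸ alphaIn M)) :=
    (hG.1.of_dvd_nat (card_subgroup_dvd_card M)).of_dvd_nat (card_quotient_dvd_card _)
  have hr : Cfsg.RankLE 2 (Cfsg.fittingSubgroup (M ⧸ alphaIn M)) := by
    intro q hq
    haveI := Fact.mk hq
    by_cases hqa : q ∈ Cfsg.alpha M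
    swap
    · exact Cfsg.Lib.OddP.pRankLE_of_injective (Cfsg.fittingSubgroup _).subtype (subtype_injective _)
        (pRankLE_quotient hqa)
    -- the `q`-core of the quotient is trivial
    intro B hBc hBp
    set B' := B.map (Cfsg.fittingSubgroup (M ⧸ alphaIn M)).subtype with hB'
    have hO : Cfsg.pCore q (M ⧸ alphaIn M) = ⊥ := by
      have h1 : (Cfsg.pCore q (M ⧸ alphaIn M)).comap π ≤ alphaIn M := by
        refine Cfsg.Lib.Elementary.le_piCore fun r hr hrd => ?_
        rw [Cfsg.Lib.Coprime.card_comap_mk'] at hrd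
        rcases hr.dvd_mul.mp hrd with h | h
        · exact alphaIn_isPi r hr h
        · obtain ⟨i, hi⟩ := IsPGroup.iff_card.mp (Cfsg.Lib.Components.isPGroup_pCore (G := M ⧸ alphaIn M) q)
          rw [hi] at h
          exact (Nat.prime_dvd_prime_iff_eq hr hq).mp (hr.dvd_of_dvd_pow h) ▸ hqa
      refine (eq_bot_iff_forall _).mpr fun y hy => ?_
      obtain ⟨z, rfl⟩ := hπ y
      exact (QuotientGroup.eq_one_iff z).mpr (h1 hy)
    have hF : Cfsg.pCore q (Cfsg.fittingSubgroup (M ⧸ alphaIn M)) = ⊥ := by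
      refine (map_eq_bot_iff_of_injective _ (subtype_injective (Cfsg.fittingSubgroup (M ⧸ alphaIn M)))).mp ?_
      refine le_bot_iff.mp (le_trans (Cfsg.Lib.Components.le_pCore ?_) hO.le)
      exact (Cfsg.Lib.Components.isPGroup_pCore q).map _
    haveI : Group.IsNilpotent (Cfsg.fittingSubgroup (M ⧸ alphaIn M)) :=
      Cfsg.Lib.Components.isNilpotent_fitting
    obtain ⟨T, hT⟩ := (isPGroup_of_pow hBp : IsPGroup q B).exists_le_sylow
    have hTn : (T : Subgroup (Cfsg.fittingSubgroup (M ⧸ alphaIn M))).Normal :=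
      ((Group.isNilpotent_of_finite_tfae (G := Cfsg.fittingSubgroup (M ⧸ alphaIn M))).out 0 3 rfl rfl).mp
        inferInstance q inferInstance T
    have hle : B ≤ ⊥ := (hT.trans (Cfsg.Lib.Components.le_pCore T.2)).trans hF.le
    rw [le_bot_iff.mp hle, Subgroup.card_bot]
    exact Nat.one_le_pow _ _ hq.pos
  haveI : Group.IsSolvable (M ⧸ alphaIn M) := Group.isSolvable_of_surjective hπ
  obtain ⟨hnil, -⟩ := Cfsg.Agent.S1451.result hodd (Or.inr hr)
  rwa [_root_.commutator_def, Subgroup.map_commutator, Subgroup.map_top_of_surjective _ hπ, ← _root_.commutator_def]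

/-- For `p ∈ α(M)` the Sylow groups are in `M_α`. -/
theorem sylow_le_alphaCore (hG : Cfsg.IsMinSimpleOddOrder G) (hM : IsCoatom M) {p : ℕ} [hp : Fact p.Prime]
    (hα : p ∈ Cfsg.alpha M) (S : Sylow p M) : (S : Subgroup M) ≤ alphaIn M := by
  set π := QuotientGroup.mk' (alphaIn M)
  set D := (commutator M).map π with hD
  haveI : Group.IsNilpotent D := derived_nilpotent hG hM
  haveI : D.Normal := Normal.map inferInstance _ (QuotientGroup.mk'_surjective _)
  have hSd : (S : Subgroup M) ≤ commutator M := by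
    intro x hx
    have h1 := sylow_le_derived hG hM (alpha_subset_sigma hG hM hα) (isSylowOf_sylow S)
      (mem_map_of_mem _ hx)
    rw [← map_subtype_commutator M] at h1
    obtain ⟨y, hy, hyx⟩ := h1
    rwa [← Subtype.ext hyx]
  obtain ⟨T, hT⟩ := ((S.2.map π).comap_subtype (K := D)).exists_le_sylow
  haveI hTn : (T : Subgroup D).Normal :=
    ((Group.isNilpotent_of_finite_tfae (G := D)).out 0 3 rfl rfl).mp inferInstance p inferInstance T
  haveI := T.characteristic_of_normal hTn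
  haveI : ((T : Subgroup D).map D.subtype).Normal := by
    rw [← normalizer_eq_top_iff, eq_top_iff]
    exact (normalizer_eq_top (H := D)).ge.trans (Cfsg.Lib.OddP.le_normalizer_map_of_char _)
  refine le_trans (fun x hx => ?_)
    (Cfsg.Lib.Elementary.le_piCore (N := ((T : Subgroup D).map D.subtype).comap π) fun r hr hrd => ?_)
  · exact mem_comap.mpr ⟨⟨π x, mem_map_of_mem π (hSd hx)⟩, hT (mem_map_of_mem π hx), rfl⟩
  · rw [Cfsg.Lib.Coprime.card_comap_mk'] at hrd
    rcases hr.dvd_mul.mp hrd with h | h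
    · exact alphaIn_isPi r hr h
    · obtain ⟨i, hi⟩ := IsPGroup.iff_card.mp (T.2.map D.subtype)
      rw [hi] at h
      exact (Nat.prime_dvd_prime_iff_eq hr hp.out).mp (hr.dvd_of_dvd_pow h) ▸ hα

theorem alphaCore_le (M : Subgroup G) : Cfsg.alphaCore M ≤ M := map_subtype_le _

theorem alphaCore_hall (hG : Cfsg.IsMinSimpleOddOrder G) (hM : IsCoatom M) :
    Cfsg.IsPiHallOf (Cfsg.alpha M) (Cfsg.alphaCore M) M := by
  refine ⟨alphaCore_le M, fun p hp hd => alphaIn_isPi p hp
    (by rwa [Cfsg.alphaCore, card_map_of_injective M.subtype_injective] at hd), fun p hp hα hd => ?_⟩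
  haveI := Fact.mk hp
  obtain ⟨S⟩ : Nonempty (Sylow p M) := inferInstance
  refine S.not_dvd_index (dvd_trans ?_ (index_dvd_of_le (sylow_le_alphaCore hG hM hα S)))
  have : (Cfsg.alphaCore M).subgroupOf M = alphaIn M :=
    comap_map_eq_self_of_injective M.subtype_injective _
  rwa [relIndex, this] at hd

theorem alphaCore_hall_top (hG : Cfsg.IsMinSimpleOddOrder G) (hM : IsCoatom M) :
    Cfsg.IsPiHall (Cfsg.alpha M) (Cfsg.alphaCore M) := by
  refine ⟨(alphaCore_hall hG hM).2.1, fun p hp hα hd => ?_⟩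
  haveI := Fact.mk hp
  obtain ⟨P, hPM, -⟩ := exists_sylow_le (alpha_subset_sigma hG hM hα)
  obtain ⟨S, hS⟩ := (isSylowOf_coe P hPM).exists_sylow
  refine P.not_dvd_index (hd.trans (index_dvd_of_le ?_))
  rw [← hS]
  exact map_mono (sylow_le_alphaCore hG hM hα S)

theorem alphaCore_le_sigmaCore (hG : Cfsg.IsMinSimpleOddOrder G) (hM : IsCoatom M) :
    Cfsg.alphaCore M ≤ Cfsg.sigmaCore M :=
  map_mono (Cfsg.Lib.Elementary.le_piCore fun p hp hd => alpha_subset_sigma hG hM (alphaIn_isPi p hp hd))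

theorem rankLE_quotient (hG : Cfsg.IsMinSimpleOddOrder G) (hM : IsCoatom M) :
    Cfsg.RankLE 2 (M ⧸ alphaIn M) := by
  intro q hq
  haveI := Fact.mk hq
  by_cases hα : q ∈ Cfsg.alpha M
  · intro B _ hBp
    obtain ⟨i, hi⟩ := IsPGroup.iff_card.mp (isPGroup_of_pow hBp : IsPGroup q B)
    rcases i with _ | i
    · rw [hi, pow_zero]; exact Nat.one_le_pow _ _ hq.pos
    exfalso
    obtain ⟨S⟩ : Nonempty (Sylow q M) := inferInstance
    refine S.not_dvd_index (dvd_trans ?_ (index_dvd_of_le (sylow_le_alphaCore hG hM hα S)))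
    rw [index_eq_card]
    exact (hi ▸ dvd_pow_self q i.succ_ne_zero : q ∣ Nat.card B).trans (card_subgroup_dvd_card B)
  · exact pRankLE_quotient hα

end Cfsg.Lib.OddLocal.Sigma
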