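import Cfsg.Agent.OddLocal.AlphaCentralizer

/-!
# An element whose centralizer in `M_α` is a `Z`-group
-/

set_option linter.unusedSectionVars false
set_option linter.unusedVariables false
set_option linter.style.haveILetI false

namespace Cfsg.Lib.OddLocal.Sigma

open Subgroup Uniqueness
open Cfsg.Lib.Coprime (conjMap)

universe u

variable {G : Type u} [Group G] [Finite G] {M : Subgroup G}

theorem isZGroup_of_rankLE (hG : Cfsg.IsMinSimpleOddOrder G) {X : Subgroup G} (h : Cfsg.RankLE 1 X) :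
    IsZGroup X := by
  refine (isZGroup_iff X).mpr fun q hq T => ?_
  haveI := Fact.mk hq
  by_contra hnc
  set R := (T : Subgroup X).map X.subtype with hR
  have hnc' : ¬ IsCyclic R := fun hcyc => hnc
    (haveI := hcyc; isCyclic_of_injective ((T : Subgroup X).equivMapOfInjective _ X.subtype_injective).toMonoidHom
      (MulEquiv.injective _))
  have hR1 : R ≠ ⊥ := fun h0 => hnc' (by rw [h0]; infer_instance)
  obtain ⟨F, hFR, -, hF, hFc⟩ := exists_normal_sq (ne_two hG (T.2.map _) hR1) (T.2.map _) hnc'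
  exact not_pRankLE_of (k := 1) hF (hFR.trans (map_subtype_le _)) hFc.ge (h q hq)

theorem exists_not_unique (hG : Cfsg.IsMinSimpleOddOrder G) (hM : IsCoatom M) {p : ℕ} [hp : Fact p.Prime]
    (hpM : p ∣ Nat.card M) (hσ : p ∉ Cfsg.sigma M) (P : Sylow p M) :
    ∃ x : G, x ∈ ((center ↥(P : Subgroup M)).map (P : Subgroup M).subtype).map M.subtype ∧ orderOf x = p ∧
      IsZGroup ↥(Cfsg.alphaCore M ⊓ centralizer ({x} : Set G)) ∧
      ¬ (centralizer ({x} : Set G) ≤ M ∧
        ∀ L : Subgroup G, IsCoatom L → centralizer ({x} : Set G) ≤ L → L = M) := by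
  set R := (P : Subgroup M).map M.subtype with hR
  set Z := ((center ↥(P : Subgroup M)).map (P : Subgroup M).subtype).map M.subtype with hZ
  have hM1 : M ≠ ⊥ := fun h0 => by
    rw [h0, Subgroup.card_bot] at hpM
    exact hp.out.not_dvd_one hpM
  have hnot : ¬ normalizer (R : Set G) ≤ M := fun h => hσ ⟨hp.out, hpM, P, h⟩
  obtain ⟨g, hg, hgM⟩ : ∃ g ∈ normalizer (R : Set G), g ∉ M := by
    by_contra hall
    push Not at hall
    exact hnot hall
  have hZR : Z = R ⊓ centralizer (R : Set G) := by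
    refine le_antisymm ?_ ?_
    · rintro _ ⟨_, ⟨z, hz, rfl⟩, rfl⟩
      refine ⟨mem_map_of_mem _ z.2, mem_centralizer_iff.mpr ?_⟩
      rintro _ ⟨w, hw, rfl⟩
      exact congrArg Subtype.val (congrArg Subtype.val (mem_center_iff.mp hz ⟨w, hw⟩) :)
    · rintro _ ⟨⟨z, hz, rfl⟩, hc⟩
      refine ⟨z, ⟨⟨z, hz⟩, mem_center_iff.mpr fun w => Subtype.ext (Subtype.ext ?_), rfl⟩, rfl⟩
      exact mem_centralizer_iff.mp hc _ ⟨(w : M), w.2, rfl⟩
  have hgZ : ∀ z ∈ Z, g * z * g⁻¹ ∈ Z := by
    intro z hz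
    rw [hZR] at hz ⊢
    refine ⟨(mem_normalizer_iff.mp hg z).mp hz.1, ?_⟩
    exact (mem_normalizer_iff.mp (FittingParts.normalizer_centralizer_le R hg) z).mp hz.2
  haveI : Nontrivial ↥(P : Subgroup M) := by
    rw [nontrivial_iff_ne_bot]
    intro h0
    refine P.not_dvd_index ?_
    rw [h0, index_bot]
    exact hpM
  obtain ⟨z, hz, hzo⟩ : ∃ z ∈ Z, orderOf z = p := ScnUniqueness.exists_orderOf ((P.2.map M.subtype).to_le
    (hZR.le.trans inf_le_left)) (by
      haveI := P.2.center_nontrivial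
      intro h0
      rw [hZ, map_eq_bot_iff_of_injective _ M.subtype_injective,
        map_eq_bot_iff_of_injective _ (P : Subgroup M).subtype_injective] at h0
      exact (nontrivial_iff_ne_bot _).mp inferInstance h0)
  obtain ⟨x, hx, hxo, hxU⟩ : ∃ x ∈ Z, orderOf x = p ∧ ¬ (centralizer ({x} : Set G) ≤ M ∧
      ∀ L : Subgroup G, IsCoatom L → centralizer ({x} : Set G) ≤ L → L = M) := by
    by_contra hall
    push Not at hall
    have h1 := hall z hz hzo
    have h2 := hall (g * z * g⁻¹) (hgZ z hz) (by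
      rw [show g * z * g⁻¹ = MulAut.conj g z from rfl, MulEquiv.orderOf_eq, hzo])
    have hc : centralizer ({g * z * g⁻¹} : Set G) = conjMap g (centralizer ({z} : Set G)) := by
      ext y
      rw [Cfsg.Lib.Coprime.mem_conjMap, mem_centralizer_singleton_iff, mem_centralizer_singleton_iff]
      constructor <;> intro h
      · calc g⁻¹ * y * g * z = g⁻¹ * (y * (g * z * g⁻¹)) * g := by group
          _ = g⁻¹ * ((g * z * g⁻¹) * y) * g := by rw [h]
          _ = _ := by group
      · calc y * (g * z * g⁻¹) = g * (g⁻¹ * y * g * z) * g⁻¹ := by group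
          _ = g * (z * (g⁻¹ * y * g)) * g⁻¹ := by rw [h]
          _ = _ := by group
    have h3 := h2.2 (conjMap g M) (conjMap_coatom hM g) (hc.le.trans (Cfsg.Lib.Coprime.conjMap_mono h1.1))
    exact hgM ((FittingUniqueness.normalizer_le_coatom hG hM hM1 hM.1 le_normalizer).le
      (Cfsg.Lib.Coprime.conjMap_eq_self_iff.mp h3))
  refine ⟨x, hx, hxo, isZGroup_of_rankLE hG ?_, hxU⟩
  by_contra hr
  have hxM : x ∈ M := ((hZR.le hx).1 |> fun h => map_subtype_le _ h)
  rw [← Cfsg.Lib.Coprime.centralizer_zpowers] at hr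
  have hU := unique_centralizer hG hM (zpowers_le.mpr hxM) (fun q hq hqd hα => by
    rw [Nat.card_zpowers, hxo] at hqd
    exact hσ ((Nat.prime_dvd_prime_iff_eq hq hp.out).mp hqd ▸ alpha_subset_sigma hG hM hα)) hr
  rw [Cfsg.Lib.Coprime.centralizer_zpowers] at hU
  have hx1 : x ≠ 1 := fun h => hp.out.ne_one (by rw [← hxo, h, orderOf_one])
  refine hxU ⟨le_of_unique hU hM inf_le_left (MinSimpleTransitivity.centralizer_singleton_ne_top hG hx1)
    inf_le_right, fun L hL hCL => ((fun ⟨_, _, hu⟩ => (hu L ⟨hL, inf_le_right.trans hCL⟩).trans (hu M ⟨hM, inf_le_left⟩).symm) hU)⟩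

end Cfsg.Lib.OddLocal.Sigma
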