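import Mathlib

/-!
# The field configuration at the end of the odd order proof (Appendix C)

`π : F → G` embeds the additive group, `U` acts through the roots of unity of order
`n = (p^q - 1)/(p - 1)`, an abelian `p'`-subgroup `Q` is normalised by `S = π 1` and the
conjugate `t` of `S` by `y ∈ Q` normalises `U`. Then `p ≤ q`.
-/

namespace Cfsg.Lib.OddLocal.AppendixC

open Polynomial

set_option linter.unusedSectionVars false

section FieldFacts

variable {p q : ℕ} [hp : Fact p.Prime] [hq : Fact q.Prime] {F : Type*} [Field F] [Fintype F] [CharP F p]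

theorem n_mul : (p ^ q - 1) / (p - 1) * (p - 1) = p ^ q - 1 :=
  Nat.div_mul_cancel (Nat.sub_one_dvd_pow_sub_one p q)

theorem n_cop_p : Nat.Coprime p ((p ^ q - 1) / (p - 1)) := by
  rw [hp.out.coprime_iff_not_dvd]
  intro h
  have h1 : p ∣ p ^ q - 1 := (n_mul (p := p) (q := q)) ▸ h.mul_right _
  have h2 : p ∣ p ^ q := dvd_pow_self p hq.out.ne_zero
  have h3 : 1 ≤ p ^ q := Nat.one_le_pow _ _ hp.out.pos
  have := Nat.dvd_sub h2 h1
  rw [Nat.sub_sub_self h3] at this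
  exact hp.out.not_dvd_one this

theorem scalar_pow (i : ℤ) : (i : F) ^ p = i := by
  exact (frobenius_def (R := F) (p := p) (i : F)).symm.trans (map_intCast (frobenius F p) i)

theorem scalar_of_pow {x : F} (hx : x ^ p = x) : ∃ i : ℤ, (i : F) = x := by
  classical
  set s : Finset F := (Finset.range p).image (fun k : ℕ => (k : F)) with hs
  have hcard : s.card = p := by
    rw [hs, Finset.card_image_of_injOn, Finset.card_range]
    intro a ha b hb hab
    have h := (CharP.natCast_eq_natCast F p).mp hab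
    exact h.eq_of_lt_of_lt (Finset.mem_range.mp ha) (Finset.mem_range.mp hb)
  set f : F[X] := X ^ p - X with hf
  have hne : f ≠ 0 := FiniteField.X_pow_card_sub_X_ne_zero F hp.out.one_lt
  have hdeg : f.natDegree = p := FiniteField.X_pow_card_sub_X_natDegree_eq F hp.out.one_lt
  have hroot : ∀ y : F, y ^ p = y → y ∈ f.roots.toFinset := fun y hy => by
    rw [Multiset.mem_toFinset, mem_roots hne]
    simp [hf, IsRoot, hy]
  have hsub : s ⊆ f.roots.toFinset := by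
    intro y hy
    obtain ⟨k, -, rfl⟩ := Finset.mem_image.mp hy
    exact hroot _ (by simpa using scalar_pow (F := F) (p := p) (k : ℤ))
  have hle : f.roots.toFinset.card ≤ s.card := by
    rw [hcard]; exact (Multiset.toFinset_card_le _).trans ((card_roots' f).trans hdeg.le)
  have := hroot x hx
  rw [← Finset.eq_of_subset_of_card_le hsub hle] at this
  obtain ⟨k, -, hk⟩ := Finset.mem_image.mp this
  exact ⟨k, by simpa using hk⟩

theorem eq_one_of_pow (hF : Fintype.card F = p ^ q) (hA : Nat.Coprime ((p ^ q - 1) / (p - 1)) (p - 1)) {x : F} (h1 : x ^ p = x) (h2 : x ^ ((p ^ q - 1) / (p - 1)) = 1) : x = 1 := by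
  have hx0 : x ≠ 0 := fun h => by
    have hn : (p ^ q - 1) / (p - 1) ≠ 0 := fun h' => by
      have h5 := n_mul (p := p) (q := q)
      rw [h', zero_mul] at h5
      have := Nat.one_lt_pow hq.out.ne_zero hp.out.one_lt
      omega
    rw [h, zero_pow hn] at h2
    exact zero_ne_one h2
  have h3 : x ^ (p - 1) = 1 := by
    apply mul_left_cancel₀ hx0
    rw [← pow_succ', Nat.sub_add_cancel hp.out.one_le, h1, mul_one]
  simpa [hA] using pow_gcd_eq_one.mpr ⟨h2, h3⟩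

theorem exists_not_scalar (hF : Fintype.card F = p ^ q) : ∃ x : F, x ^ p ≠ x := by
  by_contra h
  push Not at h
  classical
  set f : F[X] := X ^ p - X with hf
  have hne : f ≠ 0 := FiniteField.X_pow_card_sub_X_ne_zero F hp.out.one_lt
  have hsub : (Finset.univ : Finset F) ⊆ f.roots.toFinset := fun y _ => by
    rw [Multiset.mem_toFinset, mem_roots hne]
    simp [hf, IsRoot, h y]
  have := (Finset.card_le_card hsub).trans ((Multiset.toFinset_card_le _).trans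
    ((card_roots' f).trans (FiniteField.X_pow_card_sub_X_natDegree_eq F hp.out.one_lt).le))
  rw [Finset.card_univ, hF] at this
  have h2 : p ^ 1 < p ^ q := Nat.pow_lt_pow_right hp.out.one_lt hq.out.one_lt
  rw [pow_one] at h2
  omega

end FieldFacts

structure Config (p q : ℕ) (F : Type*) [Field F] (G : Type*) [Group G] where
  π : Multiplicative F →* G
  π_inj : Function.Injective π
  U : Subgroup G
  ψ : G → F
  ψ_mul : ∀ u ∈ U, ∀ v ∈ U, ψ (u * v) = ψ u * ψ v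
  ψ_inj : Set.InjOn ψ (U : Set G)
  ψ_pow : ∀ u ∈ U, ψ u ^ ((p ^ q - 1) / (p - 1)) = 1
  ψ_surj : ∀ x : F, x ^ ((p ^ q - 1) / (p - 1)) = 1 → ∃ u ∈ U, ψ u = x
  act : ∀ u ∈ U, ∀ a : F, u * π (Multiplicative.ofAdd a) * u⁻¹ = π (Multiplicative.ofAdd (ψ u * a))
  Q : Subgroup G
  Q_comm : IsMulCommutative Q
  Q_cop : (Nat.card Q).Coprime p
  y : G
  y_mem : y ∈ Q
  S_norm : π (Multiplicative.ofAdd (1 : F)) ∈ Subgroup.normalizer (Q : Set G)
  t_norm : y * π (Multiplicative.ofAdd (1 : F)) * y⁻¹ ∈ Subgroup.normalizer (U : Set G)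

variable {p q : ℕ} {F : Type*} [Field F] {G : Type*} [Group G]

namespace Config

variable (c : Config p q F G)

/-- The image of a field element. -/
def P (a : F) : G := c.π (Multiplicative.ofAdd a)

def S : G := c.P 1

def t : G := c.y * c.S * c.y⁻¹

def X (m : ℤ) (a : F) : G := c.t ^ m * c.P a * c.t ^ (-m)

def tw (m : ℤ) (u : G) : F := c.ψ (c.t ^ (-m) * u * c.t ^ m)

theorem P_add (a b : F) : c.P (a + b) = c.P a * c.P b := by
  unfold P; rw [ofAdd_add, map_mul]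

theorem P_zero : c.P 0 = 1 := by
  unfold P; rw [ofAdd_zero, map_one]

theorem P_neg (a : F) : c.P (-a) = (c.P a)⁻¹ := by
  unfold P; rw [ofAdd_neg, map_inv]

theorem P_inj {a b : F} (h : c.P a = c.P b) : a = b :=
  Multiplicative.ofAdd.injective (c.π_inj h)

theorem P_int (i : ℤ) : c.P (i : F) = c.S ^ i := by
  unfold S P
  rw [← map_zpow, ← ofAdd_zsmul, zsmul_one]

theorem X_add (m : ℤ) (a b : F) : c.X m (a + b) = c.X m a * c.X m b := by
  simp only [X, P_add]; group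

theorem X_zero (m : ℤ) : c.X m 0 = 1 := by
  simp [X, P_zero]

theorem X_neg (m : ℤ) (a : F) : c.X m (-a) = (c.X m a)⁻¹ := by
  simp only [X, P_neg]; group

theorem S_zpow_norm (i : ℤ) {x : G} (hx : x ∈ c.Q) : c.S ^ i * x * c.S ^ (-i) ∈ c.Q := by
  have h : c.S ^ i ∈ Subgroup.normalizer (c.Q : Set G) := Subgroup.zpow_mem _ c.S_norm i
  have := (Subgroup.mem_normalizer_iff.mp h x).mp hx
  rwa [zpow_neg]

theorem t_zpow_U (i : ℤ) {u : G} (hu : u ∈ c.U) : c.t ^ i * u * c.t ^ (-i) ∈ c.U := by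
  have h : c.t ^ i ∈ Subgroup.normalizer (c.U : Set G) := Subgroup.zpow_mem _ c.t_norm i
  have := (Subgroup.mem_normalizer_iff.mp h u).mp hu
  rwa [zpow_neg]

theorem t_zpow_U' (i : ℤ) {u : G} (hu : u ∈ c.U) : c.t ^ (-i) * u * c.t ^ i ∈ c.U := by
  simpa using c.t_zpow_U (-i) hu

theorem t_zpow_eq (i : ℤ) : c.t ^ i = c.y * c.S ^ i * c.y⁻¹ := by
  unfold t; exact conj_zpow

theorem q_mem (i : ℤ) : c.t ^ i * c.S ^ (-i) ∈ c.Q := by
  have h : c.t ^ i * c.S ^ (-i) = c.y * (c.S ^ i * c.y⁻¹ * c.S ^ (-i)) := by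
    rw [t_zpow_eq]; group
  rw [h]
  exact mul_mem c.y_mem (c.S_zpow_norm i (inv_mem c.y_mem))

theorem d_mem (i : ℤ) : c.t ^ (-i) * c.S ^ i ∈ c.Q := by
  simpa using c.q_mem (-i)

theorem d'_mem (i : ℤ) : c.S ^ i * c.t ^ (-i) ∈ c.Q := by
  have := inv_mem (c.q_mem i)
  have e : (c.t ^ i * c.S ^ (-i))⁻¹ = c.S ^ i * c.t ^ (-i) := by group
  rwa [e] at this

theorem comm_Q {a b : G} (ha : a ∈ c.Q) (hb : b ∈ c.Q) : a * b = b * a := by
  have := c.Q_comm.is_comm.comm ⟨a, ha⟩ ⟨b, hb⟩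
  exact congrArg Subtype.val this

theorem t_zpow_Q (i : ℤ) {x : G} (hx : x ∈ c.Q) : c.t ^ i * x * c.t ^ (-i) ∈ c.Q := by
  rw [t_zpow_eq, t_zpow_eq]
  have h1 : c.S ^ i * (c.y⁻¹ * x * c.y) * c.S ^ (-i) ∈ c.Q :=
    c.S_zpow_norm i (mul_mem (mul_mem (inv_mem c.y_mem) hx) c.y_mem)
  have := mul_mem (mul_mem c.y_mem h1) (inv_mem c.y_mem)
  convert this using 1; group

/-- The basic identity. -/
theorem X_int (a i j : ℤ) :
    c.X a (i : F) * c.X (a - i - j) (j : F) = c.X (a - j) ((i + j : ℤ) : F) := by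
  have h := c.comm_Q (c.d'_mem i) (c.d_mem j)
  simp only [X, P_int]
  calc c.t ^ a * c.S ^ i * c.t ^ (-a) * (c.t ^ (a - i - j) * c.S ^ j * c.t ^ (-(a - i - j)))
      = c.t ^ a * ((c.S ^ i * c.t ^ (-i)) * (c.t ^ (-j) * c.S ^ j)) * c.t ^ (i + j - a) := by group
    _ = c.t ^ a * ((c.t ^ (-j) * c.S ^ j) * (c.S ^ i * c.t ^ (-i))) * c.t ^ (i + j - a) := by rw [h]
    _ = _ := by group

theorem tw_mem (m : ℤ) {u : G} (hu : u ∈ c.U) : c.t ^ (-m) * u * c.t ^ m ∈ c.U := c.t_zpow_U' m hu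

theorem tw_zero (u : G) : c.tw 0 u = c.ψ u := by simp [tw]

theorem X_conj (m : ℤ) (a : F) {u : G} (hu : u ∈ c.U) :
    u * c.X m a * u⁻¹ = c.X m (c.tw m u * a) := by
  have h := c.act _ (c.tw_mem m hu) a
  simp only [X, tw, P]
  rw [← h]; group

theorem X_int_conj (a i j : ℤ) {u : G} (hu : u ∈ c.U) :
    c.X a (c.tw a u * i) * c.X (a - i - j) (c.tw (a - i - j) u * j)
      = c.X (a - j) (c.tw (a - j) u * ((i + j : ℤ) : F)) := by
  rw [← c.X_conj _ _ hu, ← c.X_conj _ _ hu, ← c.X_conj _ _ hu, ← c.X_int a i j]; group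

theorem ψ_one : c.ψ 1 = 1 := by
  have h := c.ψ_mul 1 (one_mem _) 1 (one_mem _)
  rw [mul_one] at h
  rcases eq_or_ne (c.ψ 1) 0 with h0 | h0
  · have := c.ψ_pow 1 (one_mem _)
    rw [h0] at this
    rcases Nat.eq_zero_or_pos ((p ^ q - 1) / (p - 1)) with hn | hn
    · exfalso
      obtain ⟨u, hu, h1⟩ := c.ψ_surj 0 (by rw [hn, pow_zero])
      obtain ⟨v, hv, h2⟩ := c.ψ_surj 1 (by rw [hn, pow_zero])
      have := c.ψ_mul v hv 1 (one_mem _)
      rw [mul_one, h2, h0, mul_zero] at this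
      exact one_ne_zero this
    · rw [zero_pow hn.ne'] at this
      exact absurd this zero_ne_one
  · exact (mul_eq_left₀ h0).mp h.symm

theorem ψ_pow_nat {u : G} (hu : u ∈ c.U) (k : ℕ) : c.ψ (u ^ k) = c.ψ u ^ k := by
  induction k with
  | zero => simp [ψ_one]
  | succ k ih => rw [pow_succ, c.ψ_mul _ (pow_mem hu k) _ hu, ih, pow_succ]

theorem tw_pow (m : ℤ) {u : G} (hu : u ∈ c.U) (k : ℕ) : c.tw m (u ^ k) = c.tw m u ^ k := by
  unfold tw
  rw [← c.ψ_pow_nat (c.tw_mem m hu)]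
  congr 1
  have e : c.t ^ m = (c.t ^ (-m))⁻¹ := by group
  rw [e]; exact (conj_pow (a := c.t ^ (-m)) (b := u) (i := k)).symm

/-- The derived relation. -/
theorem derived (κ : ℤ) {u v : G} (hu : u ∈ c.U) (hv : v ∈ c.U) (hsum : c.ψ u + c.ψ v = 2) :
    c.X (1 - κ) (c.tw (1 - κ) u + c.tw (1 - κ) v * (2 * κ - 1))
      = c.X 1 ((2 * κ - 1) - c.tw 1 u * (κ - 1))
        * c.X (1 - 2 * κ) (1 - c.tw (1 - 2 * κ) v * (1 - κ)) := by
  have e1 := c.X_int_conj 1 (κ - 1) 1 hu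
  have e2 := c.X_int_conj (1 - κ) (2 * κ - 1) (1 - κ) hv
  have e3 := c.X_int 1 (2 * κ - 1) 1
  rw [show (1 : ℤ) - (κ - 1) - 1 = 1 - κ by ring, show (1 : ℤ) - 1 = 0 by ring] at e1
  rw [show (1 - κ) - (2 * κ - 1) - (1 - κ) = 1 - 2 * κ by ring,
    show (1 - κ) - (1 - κ) = (0 : ℤ) by ring] at e2
  rw [show (1 : ℤ) - (2 * κ - 1) - 1 = 1 - 2 * κ by ring, show (1 : ℤ) - 1 = 0 by ring] at e3
  push_cast at e1 e2 e3
  rw [c.tw_zero] at e1 e2
  have hsum' : c.ψ u * ((κ : F) - 1 + 1) + c.ψ v * (2 * (κ : F) - 1 + (1 - κ)) = 2 * (κ : F) - 1 + 1 := by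
    linear_combination (κ : F) * hsum
  have e4 : c.X 1 (c.tw 1 u * ((κ : F) - 1)) * c.X (1 - κ) (c.tw (1 - κ) u * 1)
      * (c.X (1 - κ) (c.tw (1 - κ) v * (2 * (κ : F) - 1)) * c.X (1 - 2 * κ) (c.tw (1 - 2 * κ) v * (1 - κ)))
      = c.X 1 (2 * (κ : F) - 1) * c.X (1 - 2 * κ) 1 := by
    rw [e1, e2, e3, ← c.X_add, hsum']
  rw [mul_assoc, ← mul_assoc (c.X (1 - κ) _), ← c.X_add, mul_one] at e4
  have e5 : c.X (1 - κ) (c.tw (1 - κ) u + c.tw (1 - κ) v * (2 * (κ : F) - 1))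
      = (c.X 1 (c.tw 1 u * ((κ : F) - 1)))⁻¹ * (c.X 1 (2 * (κ : F) - 1) * c.X (1 - 2 * κ) 1)
        * (c.X (1 - 2 * κ) (c.tw (1 - 2 * κ) v * (1 - κ)))⁻¹ := by
    rw [← e4]; group
  rw [e5, ← c.X_neg, ← c.X_neg, ← mul_assoc, mul_assoc, ← c.X_add, ← c.X_add]
  congr 2 <;> ring

/-- `x` lies in the Frobenius group `P U`. -/
def InH (x : G) : Prop := ∃ a : F, ∃ u ∈ c.U, x = c.P a * u

theorem inH_P (a : F) : c.InH (c.P a) := ⟨a, 1, one_mem _, by rw [mul_one]⟩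

theorem inH_U {u : G} (hu : u ∈ c.U) : c.InH u := ⟨0, u, hu, by rw [P_zero, one_mul]⟩

theorem U_P {u : G} (hu : u ∈ c.U) (a : F) : u * c.P a = c.P (c.ψ u * a) * u := by
  unfold P; rw [← c.act u hu a]; group

theorem inH_mul {x y : G} (hx : c.InH x) (hy : c.InH y) : c.InH (x * y) := by
  obtain ⟨a, u, hu, rfl⟩ := hx
  obtain ⟨b, v, hv, rfl⟩ := hy
  refine ⟨a + c.ψ u * b, u * v, mul_mem hu hv, ?_⟩
  rw [P_add, mul_assoc (c.P a), ← mul_assoc u, c.U_P hu]; group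

theorem conj_P_U (a : F) {u : G} (hu : u ∈ c.U) :
    c.P a * u * (c.P a)⁻¹ = c.P (a * (1 - c.ψ u)) * u := by
  rw [← P_neg, mul_assoc, c.U_P hu, ← mul_assoc, ← P_add]
  congr 2; ring

section Main

variable [Fintype F] [hp : Fact p.Prime] [hq : Fact q.Prime] [CharP F p] [Finite G]
  (c : Config p q F G) (hF : Fintype.card F = p ^ q)
  (hA : Nat.Coprime ((p ^ q - 1) / (p - 1)) (p - 1)) (hp2 : p ≠ 2)

include hF hA hp2

omit [Finite G] hp2 in
theorem decomp {x : F} (hx : x ≠ 0) : ∃ (i : ℤ) (u : G), u ∈ c.U ∧ x = (i : F) * c.ψ u := by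
  set n := (p ^ q - 1) / (p - 1) with hn
  have hcard : x ^ (n * (p - 1)) = 1 := by
    rw [hn, n_mul (p := p) (q := q), ← hF]; exact FiniteField.pow_card_sub_one_eq_one x hx
  have hb := Nat.gcd_eq_gcd_ab n (p - 1)
  rw [hA] at hb
  set a1 := (x ^ n) ^ (Nat.gcdA n (p - 1)) with ha1
  set a2 := (x ^ (p - 1)) ^ (Nat.gcdB n (p - 1)) with ha2
  have hmul : a1 * a2 = x := by
    rw [ha1, ha2, ← zpow_natCast x n, ← zpow_natCast x (p - 1), ← zpow_mul, ← zpow_mul, ← zpow_add₀ hx,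
      ← hb]
    simp
  have h1 : a1 ^ p = a1 := by
    have hw : (x ^ n) ^ p = x ^ n := by
      rw [← pow_mul, ← Nat.sub_add_cancel hp.out.one_le, mul_add, mul_one, pow_add, hcard, one_mul]
    rw [ha1, ← zpow_natCast _ p, ← zpow_mul, mul_comm, zpow_mul, zpow_natCast, hw]
  have h2 : a2 ^ n = 1 := by
    rw [ha2, ← zpow_natCast _ n, ← zpow_mul, mul_comm, zpow_mul, zpow_natCast, ← pow_mul, mul_comm,
      hcard, one_zpow]
  obtain ⟨i, hi⟩ := scalar_of_pow (F := F) h1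
  obtain ⟨u, hu, hu'⟩ := c.ψ_surj a2 h2
  exact ⟨i, u, hu, by rw [hi, hu', hmul]⟩

omit [Finite G] hp2 in
theorem exists_ψ_ne_one : ∃ u ∈ c.U, c.ψ u ≠ 1 := by
  by_contra h
  push Not at h
  obtain ⟨x, hx⟩ := exists_not_scalar (F := F) (p := p) (q := q) hF
  have hx0 : x ≠ 0 := fun h0 => hx (by rw [h0, zero_pow hp.out.ne_zero])
  obtain ⟨i, u, hu, rfl⟩ := c.decomp hF hA hx0
  exact hx (by rw [h u hu, mul_one, scalar_pow])

omit [Finite G] hF hA hp2 in
theorem S_pow_p : c.S ^ (p : ℤ) = 1 := by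
  rw [← c.P_int]; simp [P_zero]

omit [Finite G] hF hA hp2 in
theorem t_pow_p : c.t ^ (p : ℤ) = 1 := by
  rw [t_zpow_eq, c.S_pow_p]; group

omit [Finite G] hF hA hp2 [CharP F p] [Fintype F] hq in
theorem bezout {i : ℤ} (hi : ¬ (p : ℤ) ∣ i) : ∃ a b : ℤ, a * i + b * (p : ℤ) = 1 :=
  ((Nat.prime_iff_prime_int.mp hp.out).coprime_iff_not_dvd.mpr hi).symm

omit [Finite G] hF hA hp2 in
theorem t_zpow_bezout {i : ℤ} (hi : ¬ (p : ℤ) ∣ i) : ∃ a : ℤ, c.t = (c.t ^ i) ^ a := by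
  obtain ⟨a, b, hab⟩ := bezout (p := p) hi
  refine ⟨a, ?_⟩
  calc c.t = c.t ^ (a * i + b * (p : ℤ)) := by rw [hab, zpow_one]
    _ = _ := by rw [zpow_add, mul_comm b, zpow_mul c.t (p : ℤ), c.t_pow_p, one_zpow, mul_one, mul_comm, zpow_mul]

omit [Finite G] hF hA hp2 [Fintype F] [CharP F p] hp hq in
theorem P_mem_U {a : F} (h : c.P a ∈ c.U) : a = 0 := by
  have h1 : c.ψ (c.P a) = 1 := by
    have := c.act _ h 1
    rw [mul_one] at this
    apply c.P_inj
    show c.π (Multiplicative.ofAdd (c.ψ (c.P a))) = c.P 1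
    rw [← this]
    show c.P a * c.P 1 * (c.P a)⁻¹ = c.P 1
    rw [← c.P_add, ← c.P_neg, ← c.P_add]
    congr 1; ring
  have h2 : c.P a = 1 := c.ψ_inj h (one_mem _) (h1.trans c.ψ_one.symm)
  exact c.P_inj (h2.trans c.P_zero.symm)

omit [Finite G] hF hA hp2 [Fintype F] [CharP F p] hp hq in
theorem PU_pow (a : F) {u : G} (hu : u ∈ c.U) (k : ℕ) : ∃ b : F, (c.P a * u) ^ k = c.P b * u ^ k := by
  induction k with
  | zero => exact ⟨0, by simp [P_zero]⟩
  | succ k ih =>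
    obtain ⟨b, hb⟩ := ih
    refine ⟨b + c.ψ (u ^ k) * a, ?_⟩
    rw [pow_succ, hb, P_add, mul_assoc (c.P b), ← mul_assoc (u ^ k), c.U_P (pow_mem hu k), pow_succ]
    group

omit [Finite G] hp2 in
theorem mem_P_of_pow {x : G} (hx : c.InH x) (hxp : x ^ p = 1) : ∃ a : F, x = c.P a := by
  obtain ⟨a, u, hu, rfl⟩ := hx
  obtain ⟨b, hb⟩ := c.PU_pow a hu p
  rw [hxp] at hb
  have hup : u ^ p = (c.P b)⁻¹ := eq_inv_of_mul_eq_one_right hb.symm
  rw [← c.P_neg] at hup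
  have hb0 := c.P_mem_U (hup ▸ pow_mem hu p)
  rw [hb0, P_zero] at hup
  have h1 : c.ψ u ^ p = 1 := by rw [← c.ψ_pow_nat hu, hup, ψ_one]
  have h2 := pow_gcd_eq_one.mpr ⟨h1, c.ψ_pow u hu⟩
  rw [n_cop_p (p := p) (q := q), pow_one] at h2
  have : u = 1 := c.ψ_inj hu (one_mem _) (h2.trans c.ψ_one.symm)
  exact ⟨a, by rw [this, mul_one]⟩

/-- A nontrivial power of `t` does not normalise `P`. -/
theorem t_not_normalize (hpq : q < p) (h : ∀ a : F, ∃ b : F, c.t * c.P a * c.t⁻¹ = c.P b) : False := by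
  classical
  choose g hg using h
  have g_add : ∀ a b, g (a + b) = g a + g b := fun a b => by
    apply c.P_inj
    rw [← hg, c.P_add (g a), ← hg, ← hg, c.P_add]; group
  have g_inj : Function.Injective g := fun a b hab => by
    apply c.P_inj
    have h1 := hg a
    rw [hab, ← hg b] at h1
    exact mul_left_cancel (mul_right_cancel h1)
  have g_iter : ∀ (k : ℕ) a, c.t ^ k * c.P a * (c.t ^ k)⁻¹ = c.P (g^[k] a) := by
    intro k
    induction k with
    | zero => intro a; simp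
    | succ k ih => intro a; rw [Function.iterate_succ', Function.comp, ← hg, ← ih a, pow_succ']; group
  have htp : c.t ^ p = 1 := by have := c.t_pow_p; rwa [zpow_natCast] at this
  have gp : ∀ a, g^[p] a = a := fun a => c.P_inj (by rw [← g_iter, htp]; simp)
  let gH : F →+ F := AddMonoidHom.mk' g g_add
  have g_int : ∀ (i : ℤ) a, g ((i : F) * a) = (i : F) * g a := fun i a => by
    rw [← zsmul_eq_mul, ← zsmul_eq_mul]; exact map_zsmul gH i a
  have g_ψ : ∀ u ∈ c.U, ∀ a, g (c.ψ u * a) = c.ψ (c.t * u * c.t⁻¹) * g a := fun u hu a => by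
    have htu : c.t * u * c.t⁻¹ ∈ c.U := by simpa using c.t_zpow_U 1 hu
    apply c.P_inj
    rw [← hg]
    conv_rhs => rw [show c.P (c.ψ (c.t * u * c.t⁻¹) * g a) = (c.t * u * c.t⁻¹) * c.P (g a) * (c.t * u * c.t⁻¹)⁻¹
      from (c.act _ htu _).symm, ← hg]
    rw [show c.P (c.ψ u * a) = u * c.P a * u⁻¹ from (c.act _ hu _).symm]
    group
  set g1 := g 1 with hg1
  have g0 : g 0 = 0 := map_zero gH
  have g1ne : g1 ≠ 0 := fun h0 => one_ne_zero (g_inj (h0.trans g0.symm))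
  have g_mul : ∀ a b, g (a * b) * g1 = g a * g b := by
    intro a b
    rcases eq_or_ne a 0 with rfl | ha
    · simp [g0]
    obtain ⟨i, u, hu, rfl⟩ := c.decomp hF hA ha
    have e : g ((i : F) * c.ψ u) = (i : F) * (c.ψ (c.t * u * c.t⁻¹) * g1) := by
      conv_lhs => rw [← mul_one (c.ψ u)]
      rw [g_int, g_ψ u hu]
    rw [mul_assoc, g_int, g_ψ u hu, e]; ring
  let hh : F →+* F :=
    { toFun := fun x => g x / g1
      map_one' := div_self g1ne
      map_mul' := fun a b => by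
        have := g_mul a b
        field_simp
        linear_combination this
      map_zero' := by simp [g0]
      map_add' := fun a b => by rw [g_add, add_div] }
  have hh_g : ∀ x, g x = hh x * g1 := fun x => (div_mul_cancel₀ _ g1ne).symm
  have hh_iter : ∀ (k : ℕ) x, g^[k] x = hh^[k] x * g^[k] 1 := by
    intro k
    induction k with
    | zero => intro x; simp
    | succ k ih =>
      intro x
      rw [Function.iterate_succ', Function.comp, ih, Function.iterate_succ' (f := hh), Function.comp,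
        Function.comp]
      have := g_mul (hh^[k] x) (g^[k] 1)
      apply mul_right_cancel₀ g1ne
      rw [this, hh_g (hh^[k] x)]; ring
  have hhp : ∀ x, hh^[p] x = x := fun x => by
    have := hh_iter p x
    rw [gp, gp, mul_one] at this
    exact this.symm
  letI := ZMod.algebra F p
  have hbij : Function.Bijective hh := Finite.injective_iff_bijective.mp hh.injective
  let σ : F ≃ₐ[ZMod p] F := AlgEquiv.ofRingEquiv (f := RingEquiv.ofBijective hh hbij)
    (fun r => RingHom.congr_fun (RingHom.ext_zmod (hh.comp (algebraMap (ZMod p) F)) (algebraMap (ZMod p) F)) r)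
  have σ_iter : ∀ (k : ℕ) x, (σ ^ k) x = hh^[k] x := by
    intro k
    induction k with
    | zero => intro x; rfl
    | succ k ih =>
      intro x
      rw [pow_succ', AlgEquiv.mul_apply, ih, Function.iterate_succ', Function.comp]; rfl
  have hσp : σ ^ p = 1 := AlgEquiv.ext fun x => by rw [σ_iter, hhp]; rfl
  have hcardσ : Nat.card (F ≃ₐ[ZMod p] F) = q := by
    rw [IsGalois.card_aut_eq_finrank]
    apply Nat.pow_right_injective hp.out.two_le
    show p ^ _ = p ^ q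
    rw [← hF, Module.card_eq_pow_finrank (K := ZMod p) (V := F), ZMod.card]
  have hqp : q ≠ p := hpq.ne
  have hσ : σ = 1 := by
    have h1 : orderOf σ ∣ p := orderOf_dvd_of_pow_eq_one hσp
    have h2 : orderOf σ ∣ q := hcardσ ▸ orderOf_dvd_natCard σ
    have h3 : orderOf σ ∣ Nat.gcd p q := Nat.dvd_gcd h1 h2
    rw [(Nat.coprime_primes hp.out hq.out).mpr hqp.symm] at h3
    exact orderOf_eq_one_iff.mp (Nat.dvd_one.mp h3)
  have hid : ∀ x, hh x = x := fun x => by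
    have := AlgEquiv.congr_fun hσ x; exact this
  have gc : ∀ (k : ℕ), g^[k] (1 : F) = g1 ^ k := by
    intro k
    induction k with
    | zero => simp
    | succ k ih => rw [Function.iterate_succ', Function.comp, ih, hh_g, hid, pow_succ]
  have hg11 : g1 = 1 := by
    have h1 : g1 ^ p = 1 := by rw [← gc, gp]
    apply frobenius_inj F p
    simp [frobenius_def, h1]
  have tP : ∀ a, c.t * c.P a * c.t⁻¹ = c.P a := fun a => by
    rw [hg, hh_g, hid, hg11, mul_one]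
  have tU : ∀ u ∈ c.U, c.t * u * c.t⁻¹ = u := fun u hu => by
    have htu : c.t * u * c.t⁻¹ ∈ c.U := by simpa using c.t_zpow_U 1 hu
    apply c.ψ_inj htu hu
    have := g_ψ u hu 1
    rw [hh_g, hid, mul_one, hg11, mul_one, ← hg1, hg11, mul_one] at this
    exact this.symm
  -- `z = t S⁻¹ ∈ Q` acts on `P U` as `S⁻¹`
  obtain ⟨u, hu, hu1⟩ := c.exists_ψ_ne_one hF hA
  have hz : ∀ k : ℕ, (c.t * c.S⁻¹) ^ k * u * ((c.t * c.S⁻¹) ^ k)⁻¹
      = c.P (-(k : F) * (1 - c.ψ u)) * u := by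
    intro k
    induction k with
    | zero => simp [P_zero]
    | succ k ih =>
      calc (c.t * c.S⁻¹) ^ (k + 1) * u * ((c.t * c.S⁻¹) ^ (k + 1))⁻¹
          = c.t * (c.S⁻¹ * ((c.t * c.S⁻¹) ^ k * u * ((c.t * c.S⁻¹) ^ k)⁻¹) * c.S) * c.t⁻¹ := by
            rw [pow_succ']; generalize (c.t * c.S⁻¹) ^ k = w; group
        _ = c.t * (c.P (-(k : F) * (1 - c.ψ u)) * (c.P (-1) * u * (c.P (-1))⁻¹)) * c.t⁻¹ := by
            rw [ih, c.P_neg 1]
            show c.t * ((c.P 1)⁻¹ * _ * c.P 1) * c.t⁻¹ = _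
            rw [← c.P_neg 1, ← mul_assoc (c.P (-1)) (c.P _), ← c.P_add, add_comm, c.P_add]
            simp only [c.P_neg]; group
        _ = c.t * c.P (-((k + 1 : ℕ) : F) * (1 - c.ψ u)) * c.t⁻¹ * (c.t * u * c.t⁻¹) := by
            rw [c.conj_P_U _ hu, ← mul_assoc (c.P _) (c.P _), ← c.P_add]
            push_cast; ring_nf; group
        _ = _ := by rw [tP, tU u hu]
  have hN := hz (Nat.card c.Q)
  have hzQ : c.t * c.S⁻¹ ∈ c.Q := by simpa using c.q_mem 1
  have hz1 : (c.t * c.S⁻¹) ^ Nat.card c.Q = 1 := by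
    have := pow_card_eq_one' (x := (⟨_, hzQ⟩ : c.Q))
    exact congrArg Subtype.val this
  rw [hz1, one_mul, inv_one, mul_one] at hN
  have h0 := c.P_inj ((right_eq_mul.mp hN).trans c.P_zero.symm)
  rcases mul_eq_zero.mp h0 with h | h
  · rw [neg_eq_zero, CharP.cast_eq_zero_iff F p] at h
    exact hp.out.not_dvd_one (c.Q_cop ▸ Nat.dvd_gcd h dvd_rfl)
  · exact hu1 (sub_eq_zero.mp h).symm

/-- `P U` meets its conjugate by a nontrivial power of `t` only in `U`. -/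
theorem inter (hpq : q < p) {i : ℤ} (hi : ¬ (p : ℤ) ∣ i) {a : F}
    (h : c.InH (c.t ^ i * c.P a * c.t ^ (-i))) : a = 0 := by
  by_contra ha
  have key : ∀ x : F, c.InH (c.t ^ i * c.P x * c.t ^ (-i)) := by
    intro x
    rcases eq_or_ne x 0 with rfl | hx
    · simpa [P_zero] using c.inH_U (one_mem _)
    obtain ⟨k, u, hu, hku⟩ := c.decomp hF hA (div_ne_zero hx ha)
    have hn : ∀ k : ℕ, c.InH ((c.t ^ i * c.P a * c.t ^ (-i)) ^ k) := by
      intro k
      induction k with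
      | zero => simpa using c.inH_U (one_mem _)
      | succ k ih => rw [pow_succ]; exact c.inH_mul ih h
    have hk : ∃ k' : ℕ, (k' : F) = (k : F) := ⟨(k % (p : ℤ)).toNat, by
      have h1 : (0 : ℤ) ≤ k % (p : ℤ) := Int.emod_nonneg _ (by exact_mod_cast hp.out.ne_zero)
      rw [← Int.cast_natCast (R := F) ((k % (p : ℤ)).toNat), Int.toNat_of_nonneg h1]
      conv_rhs => rw [← Int.emod_add_mul_ediv k (p : ℤ)]
      push_cast; simp⟩
    obtain ⟨k', hk'⟩ := hk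
    have e : c.t ^ i * c.P x * c.t ^ (-i) = (c.t ^ i * u * c.t ^ (-i)) *
        (c.t ^ i * c.P a * c.t ^ (-i)) ^ k' * (c.t ^ i * u⁻¹ * c.t ^ (-i)) := by
      have e1 : x = c.ψ u * ((k' : F) * a) := by
        rw [hk']; field_simp at hku; linear_combination hku
      have e2 : (c.t ^ i * c.P a * c.t ^ (-i)) ^ k' = c.t ^ i * c.P ((k' : F) * a) * c.t ^ (-i) := by
        rw [show c.t ^ (-i) = (c.t ^ i)⁻¹ by group, conj_pow]
        congr 2
        unfold P
        rw [← map_pow, ← ofAdd_nsmul, nsmul_eq_mul]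
      rw [e2, e1, show c.P (c.ψ u * ((k' : F) * a)) = u * c.P ((k' : F) * a) * u⁻¹ from
        (c.act u hu _).symm]
      group
    rw [e]
    exact c.inH_mul (c.inH_mul (c.inH_U (c.t_zpow_U i hu)) (hn k'))
      (c.inH_U (c.t_zpow_U i (inv_mem hu)))
  have keyP : ∀ x : F, ∃ b : F, c.t ^ i * c.P x * c.t ^ (-i) = c.P b := fun x => by
    refine c.mem_P_of_pow hF hA (key x) ?_
    rw [show c.t ^ (-i) = (c.t ^ i)⁻¹ by group, conj_pow,
      show c.P x ^ p = 1 by unfold P; rw [← map_pow, ← ofAdd_nsmul]; simp]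
    group
  have keyN : ∀ (k : ℕ) (x : F), ∃ b : F, (c.t ^ i) ^ k * c.P x * ((c.t ^ i) ^ k)⁻¹ = c.P b := by
    intro k
    induction k with
    | zero => exact fun x => ⟨x, by simp⟩
    | succ k ih =>
      intro x
      obtain ⟨b, hb⟩ := ih x
      obtain ⟨b', hb'⟩ := keyP b
      refine ⟨b', ?_⟩
      rw [← hb', ← hb, pow_succ']; generalize (c.t ^ i) ^ k = w; group
  apply c.t_not_normalize hF hA hp2 hpq
  intro x
  obtain ⟨m, hm⟩ := c.t_zpow_bezout hi
  have hfin : IsOfFinOrder (c.t ^ i) := isOfFinOrder_of_finite _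
  obtain ⟨k, hk⟩ := hfin.mem_powers_iff_mem_zpowers.mpr (show c.t ∈ Subgroup.zpowers (c.t ^ i) from ⟨m, hm.symm⟩)
  have hk' : (c.t ^ i) ^ k = c.t := hk
  have := keyN k x
  rwa [hk'] at this

/-- Two equal elements of distinct conjugates of `P` are trivial. -/
theorem X_eq (hpq : q < p) {m m' : ℤ} (hm : ¬ (p : ℤ) ∣ m - m') {a b : F} (h : c.X m a = c.X m' b) :
    a = 0 ∧ b = 0 := by
  have e : c.t ^ (m - m') * c.P a * c.t ^ (-(m - m')) = c.P b := by
    have h' := congrArg (fun z => c.t ^ (-m') * z * c.t ^ m') h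
    simp only [Config.X] at h'
    calc _ = c.t ^ (-m') * (c.t ^ m * c.P a * c.t ^ (-m)) * c.t ^ m' := by group
      _ = _ := h'
      _ = c.P b := by group
  have ha := c.inter hF hA hp2 hpq hm (e ▸ c.inH_P b)
  refine ⟨ha, c.P_inj ?_⟩
  rw [← e, ha, P_zero]; group

/-- A relation between three powers of `S` forces equal exponents. -/
theorem scalar_relation (hpq : q < p) {κ l γ β : ℤ} (hκ : ¬ (p : ℤ) ∣ κ) (hl : ¬ (p : ℤ) ∣ l)
    (h : c.X (1 - κ) (β : F) = c.X 1 (l : F) * c.X (1 - 2 * κ) (γ : F)) : (l : F) = κ := by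
  simp only [Config.X, P_int] at h
  have h1 : c.t ^ (-κ) * c.S ^ β * c.t ^ (-κ) = c.S ^ l * c.t ^ (-2 * κ) * c.S ^ γ := by
    have h' := congrArg (fun z => c.t ^ (-1 : ℤ) * z * c.t ^ (1 - 2 * κ)) h
    beta_reduce at h'
    calc _ = c.t ^ (-1 : ℤ) * (c.t ^ (1 - κ) * c.S ^ β * c.t ^ (-(1 - κ))) * c.t ^ (1 - 2 * κ) := by group
      _ = _ := h'
      _ = _ := by group
  -- exponents modulo `Q`
  have hR : ∀ {x y : G} {i j : ℤ}, x * c.S ^ (-i) ∈ c.Q → y * c.S ^ (-j) ∈ c.Q →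
      (x * y) * c.S ^ (-(i + j)) ∈ c.Q := by
    intro x y i j hx hy
    have := mul_mem hx (c.S_zpow_norm i hy)
    convert this using 1; group
  have hS : ∀ i : ℤ, c.S ^ i * c.S ^ (-i) ∈ c.Q := fun i => by
    rw [← zpow_add, add_neg_cancel, zpow_zero]; exact one_mem _
  have hL := hR (hR (c.q_mem (-κ)) (hS β)) (c.q_mem (-κ))
  have hRt := hR (hR (hS l) (c.q_mem (-2 * κ))) (hS γ)
  rw [h1] at hL
  have hd : c.S ^ (β - l - γ) ∈ c.Q := by
    have := mul_mem (inv_mem hL) hRt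
    convert this using 1; group
  have hd0 : ((β - l - γ : ℤ) : F) = 0 := by
    apply c.P_inj
    rw [P_zero, P_int]
    have h2 : orderOf (c.S ^ (β - l - γ)) ∣ p := by
      apply orderOf_dvd_of_pow_eq_one
      rw [← zpow_natCast, ← zpow_mul, mul_comm, zpow_mul, c.S_pow_p, one_zpow]
    have h3 : orderOf (c.S ^ (β - l - γ)) ∣ Nat.card c.Q := Subgroup.orderOf_dvd_natCard _ hd
    have h4 := Nat.dvd_gcd h3 h2
    rw [c.Q_cop] at h4
    exact orderOf_eq_one_iff.mp (Nat.dvd_one.mp h4)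
  have hSβ : c.S ^ β = c.S ^ l * c.S ^ γ := by
    rw [← zpow_add, ← c.P_int, ← c.P_int]
    congr 1
    push_cast at hd0 ⊢
    linear_combination hd0
  -- the abelian group `Q` with the action of `t`
  letI : CommGroup c.Q := { (inferInstance : Group c.Q) with mul_comm := fun a b => Subtype.ext (c.comm_Q a.2 b.2) }
  let σ : ℤ → c.Q → c.Q := fun i x => ⟨c.t ^ i * x.1 * c.t ^ (-i), c.t_zpow_Q i x.2⟩
  let D : ℤ → c.Q := fun i => ⟨c.t ^ (-i) * c.S ^ i, c.d_mem i⟩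
  have σ_mul : ∀ i x y, σ i (x * y) = σ i x * σ i y := fun i x y => Subtype.ext (by
    show c.t ^ i * (x.1 * y.1) * c.t ^ (-i) = (c.t ^ i * x.1 * c.t ^ (-i)) * (c.t ^ i * y.1 * c.t ^ (-i))
    group)
  have σ_inv : ∀ i x, σ i x⁻¹ = (σ i x)⁻¹ := fun i x => Subtype.ext (by
    show c.t ^ i * x.1⁻¹ * c.t ^ (-i) = (c.t ^ i * x.1 * c.t ^ (-i))⁻¹
    group)
  have σ_σ : ∀ i j x, σ i (σ j x) = σ (i + j) x := fun i j x => Subtype.ext (by
    show c.t ^ i * (c.t ^ j * x.1 * c.t ^ (-j)) * c.t ^ (-i) = c.t ^ (i + j) * x.1 * c.t ^ (-(i + j))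
    group)
  have eqn : σ l (D l) * σ (l + γ - 2 * κ) (D γ) = σ (l - κ) (D l) * σ (l + γ - κ) (D γ) := Subtype.ext (by
    show (c.t ^ l * (c.t ^ (-l) * c.S ^ l) * c.t ^ (-l)) *
        (c.t ^ (l + γ - 2 * κ) * (c.t ^ (-γ) * c.S ^ γ) * c.t ^ (-(l + γ - 2 * κ))) =
      (c.t ^ (l - κ) * (c.t ^ (-l) * c.S ^ l) * c.t ^ (-(l - κ))) *
        (c.t ^ (l + γ - κ) * (c.t ^ (-γ) * c.S ^ γ) * c.t ^ (-(l + γ - κ)))
    calc _ = c.S ^ l * c.t ^ (-2 * κ) * c.S ^ γ * c.t ^ (2 * κ - l - γ) := by group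
      _ = c.t ^ (-κ) * c.S ^ β * c.t ^ (-κ) * c.t ^ (2 * κ - l - γ) := by rw [h1]
      _ = _ := by rw [hSβ]; group)
  set x : c.Q := σ (l - κ) (D l) * (σ (l + γ - 2 * κ) (D γ))⁻¹ with hx
  have hfix : σ κ x = x := by
    rw [hx, σ_mul, σ_inv, σ_σ, σ_σ, show κ + (l - κ) = l by ring,
      show κ + (l + γ - 2 * κ) = l + γ - κ by ring]
    rw [mul_inv_eq_iff_eq_mul, mul_right_comm, eq_mul_inv_iff_mul_eq]
    exact eqn
  have hfix1 : ∀ k : ℕ, σ k x = x := by
    obtain ⟨m, hm⟩ := c.t_zpow_bezout hκ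
    have h2 : Commute (c.t ^ κ) x.1 := by
      have h' := congrArg (fun z : c.Q => z.1 * c.t ^ κ) hfix
      simp only [σ] at h'
      show c.t ^ κ * x.1 = x.1 * c.t ^ κ
      rw [← h']; group
    have h3 : Commute c.t x.1 := by rw [hm]; exact h2.zpow_left m
    intro k
    apply Subtype.ext
    show c.t ^ (k : ℤ) * x.1 * c.t ^ (-(k : ℤ)) = x.1
    rw [(h3.zpow_left k).eq]; group
  let Nm : c.Q → c.Q := fun z => ∏ k ∈ Finset.range p, σ k z
  have Nm_mul : ∀ a b, Nm (a * b) = Nm a * Nm b := fun a b => by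
    show ∏ k ∈ Finset.range p, σ k (a * b) = _
    rw [← Finset.prod_mul_distrib]; exact Finset.prod_congr rfl fun k _ => σ_mul _ _ _
  have Nm_inv : ∀ a, Nm a⁻¹ = (Nm a)⁻¹ := fun a => by
    show ∏ k ∈ Finset.range p, σ k a⁻¹ = _
    rw [← Finset.prod_inv_distrib]; exact Finset.prod_congr rfl fun k _ => σ_inv _ _
  have σp : ∀ z, σ (p : ℤ) z = σ (0 : ℕ) z := fun z => Subtype.ext (by
    show c.t ^ (p : ℤ) * z.1 * c.t ^ (-(p : ℤ)) = c.t ^ ((0 : ℕ) : ℤ) * z.1 * c.t ^ (-((0 : ℕ) : ℤ))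
    rw [zpow_neg, c.t_pow_p]; simp)
  have Nm_one : ∀ z, Nm (σ 1 z) = Nm z := fun z => by
    have e1 := Finset.prod_range_succ' (fun k : ℕ => σ k z) p
    rw [Finset.prod_range_succ] at e1
    simp only [σp] at e1
    have e2 : Nm (σ 1 z) = ∏ k ∈ Finset.range p, σ ((k + 1 : ℕ) : ℤ) z :=
      Finset.prod_congr rfl fun k _ => by rw [σ_σ]; norm_cast
    rw [e2]
    exact (mul_right_cancel e1).symm
  have Nm_σ : ∀ (i : ℤ) z, Nm (σ i z) = Nm z := by
    intro i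
    induction i using Int.induction_on with
    | zero => intro z; congr 1; exact Subtype.ext (by simp [σ])
    | succ i ih => intro z; rw [show (i : ℤ) + 1 = 1 + i by ring, ← σ_σ, Nm_one, ih]
    | pred i ih =>
      intro z
      rw [← Nm_one (σ (-(i : ℤ) - 1) z), σ_σ, show (1 : ℤ) + (-(i : ℤ) - 1) = -(i : ℤ) by ring, ih]
  have ND : ∀ i, Nm (D i) = 1 := fun i => by
    have e : D i = σ (-i) (⟨c.y, c.y_mem⟩ : c.Q)⁻¹ * (⟨c.y, c.y_mem⟩ : c.Q) := Subtype.ext (by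
      show c.t ^ (-i) * c.S ^ i = c.t ^ (-i) * c.y⁻¹ * c.t ^ (-(-i)) * c.y
      rw [neg_neg, c.t_zpow_eq i]; group)
    rw [e, Nm_mul, Nm_σ, Nm_inv, inv_mul_cancel]
  have hxN : Nm x = 1 := by rw [hx, Nm_mul, Nm_inv, Nm_σ, Nm_σ, ND, ND]; simp
  have hxp : x ^ p = 1 := by
    have : Nm x = x ^ p := by
      show ∏ k ∈ Finset.range p, σ k x = x ^ p
      rw [Finset.prod_congr rfl fun k _ => hfix1 k]; simp
    rw [← this, hxN]
  have hx1 : x = 1 := by
    have h2 := Nat.dvd_gcd (orderOf_dvd_natCard x) (orderOf_dvd_of_pow_eq_one hxp)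
    rw [c.Q_cop] at h2
    exact orderOf_eq_one_iff.mp (Nat.dvd_one.mp h2)
  have hS' : c.S ^ l = c.t ^ (l - κ) * c.S ^ γ * c.t ^ (κ - γ) := by
    rw [hx] at hx1
    have h2 := congrArg Subtype.val (mul_inv_eq_one.mp hx1)
    simp only [σ, D] at h2
    calc c.S ^ l = c.t ^ κ * (c.t ^ (l - κ) * (c.t ^ (-l) * c.S ^ l) * c.t ^ (-(l - κ))) * c.t ^ (l - κ) := by group
      _ = _ := by rw [h2]; group
  by_contra hne
  have hi : ¬ (p : ℤ) ∣ l - κ := fun hd' => hne (by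
    have := (CharP.intCast_eq_zero_iff F p _).mpr hd'
    push_cast at this
    exact sub_eq_zero.mp this)
  obtain ⟨u, hu, hu1⟩ := c.exists_ψ_ne_one hF hA
  set u' := c.t ^ (κ - γ) * u * c.t ^ (-(κ - γ)) with hu'
  have hu'U : u' ∈ c.U := c.t_zpow_U _ hu
  have e3 : c.P ((l : F) * (1 - c.ψ u)) * u
      = c.t ^ (l - κ) * c.P ((γ : F) * (1 - c.ψ u')) * c.t ^ (-(l - κ)) * (c.t ^ (l - κ) * u' * c.t ^ (-(l - κ))) := by
    have e4 : c.S ^ l * u * c.S ^ (-l) = c.t ^ (l - κ) * (c.S ^ γ * u' * c.S ^ (-γ)) * c.t ^ (-(l - κ)) := by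
      rw [hu', zpow_neg c.S l, hS']; group
    rw [zpow_neg, ← c.P_int, c.conj_P_U _ hu, zpow_neg, ← c.P_int γ, c.conj_P_U _ hu'U] at e4
    rw [e4]; group
  have hU2 : c.t ^ (l - κ) * u' * c.t ^ (-(l - κ)) ∈ c.U := c.t_zpow_U _ hu'U
  have h5 := c.inter hF hA hp2 hpq hi (a := (γ : F) * (1 - c.ψ u')) (by
    have : c.t ^ (l - κ) * c.P ((γ : F) * (1 - c.ψ u')) * c.t ^ (-(l - κ))
        = c.P ((l : F) * (1 - c.ψ u)) * u * (c.t ^ (l - κ) * u' * c.t ^ (-(l - κ)))⁻¹ := by rw [e3]; group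
    rw [this]
    exact c.inH_mul (c.inH_mul (c.inH_P _) (c.inH_U hu)) (c.inH_U (inv_mem hU2)))
  rw [h5, P_zero] at e3
  have h6 : c.P ((l : F) * (1 - c.ψ u)) ∈ c.U := by
    have : c.P ((l : F) * (1 - c.ψ u)) = (c.t ^ (l - κ) * u' * c.t ^ (-(l - κ))) * u⁻¹ := by
      calc c.P ((l : F) * (1 - c.ψ u)) = c.P ((l : F) * (1 - c.ψ u)) * u * u⁻¹ := by group
        _ = _ := by rw [e3]; group
    rw [this]; exact mul_mem hU2 (inv_mem hu)
  rcases mul_eq_zero.mp (c.P_mem_U h6) with h7 | h7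
  · exact hl ((CharP.intCast_eq_zero_iff F p l).mp h7)
  · exact hu1 (sub_eq_zero.mp h7).symm

/-- The norm of `κ + (1-κ)(b)`. -/
theorem norm_eq (hpq : q < p) {ua va : G} (hu : ua ∈ c.U) (hv : va ∈ c.U) (hsum : c.ψ ua + c.ψ va = 2)
    (κ : ℤ) (hκ : ¬ (p : ℤ) ∣ κ) :
    ((2 * (κ : F) - 1) - c.tw 1 ua * ((κ : F) - 1)) ^ ((p ^ q - 1) / (p - 1))
      = (κ : F) ^ ((p ^ q - 1) / (p - 1)) := by
  set m := (1 : ℤ) - κ with hm
  set J := (1 : ℤ) - 2 * κ with hJ
  set b := c.tw 1 ua with hb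
  set A := (2 * (κ : F) - 1) - b * ((κ : F) - 1) with hA'
  set B := c.tw m ua + c.tw m va * (2 * (κ : F) - 1) with hB
  set C := 1 - c.tw J va * (1 - (κ : F)) with hC
  have E : c.X m B = c.X 1 A * c.X J C := c.derived κ hu hv hsum
  have hκ0 : (κ : F) ≠ 0 := fun h => hκ ((CharP.intCast_eq_zero_iff F p κ).mp h)
  have hbU : c.t ^ (-1 : ℤ) * ua * c.t ^ (1 : ℤ) ∈ c.U := c.t_zpow_U' 1 hu
  have hA0 : A ≠ 0 := by
    intro h0
    have hb1 : b * ((κ : F) - 1) = 2 * (κ : F) - 1 := by rw [hA'] at h0; linear_combination -h0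
    by_cases h1 : (κ : F) - 1 = 0
    · rw [h1, mul_zero] at hb1
      apply one_ne_zero (α := F)
      linear_combination -hb1 - 2 * h1
    have hbp : b ^ p = b := by
      rw [show b = ((2 * κ - 1 : ℤ) : F) / ((κ - 1 : ℤ) : F) by push_cast; rw [← hb1]; field_simp,
        div_pow, scalar_pow, scalar_pow]
    have := eq_one_of_pow hF hA hbp (c.ψ_pow _ hbU)
    rw [this, one_mul] at hb1
    exact hκ0 (by linear_combination -hb1)
  obtain ⟨l, r, hr, hl⟩ := c.decomp hF hA hA0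
  have hl' : ¬ (p : ℤ) ∣ l := fun h => hA0 (by rw [hl, (CharP.intCast_eq_zero_iff F p l).mpr h, zero_mul])
  set w := c.t * r⁻¹ * c.t⁻¹ with hw
  have hwU : w ∈ c.U := by simpa [hw] using c.t_zpow_U 1 (inv_mem hr)
  have hw1 : c.tw 1 w * c.ψ r = 1 := by
    have : c.t ^ (-1 : ℤ) * w * c.t ^ (1 : ℤ) = r⁻¹ := by rw [hw]; group
    unfold tw
    rw [this, ← c.ψ_mul _ (inv_mem hr) _ hr, inv_mul_cancel, ψ_one]
  have conjE : ∀ {z : G} {A₀ B₀ C₀ : F}, z ∈ c.U → c.X m B₀ = c.X 1 A₀ * c.X J C₀ →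
      c.X m (c.tw m z * B₀) = c.X 1 (c.tw 1 z * A₀) * c.X J (c.tw J z * C₀) := by
    intro z A₀ B₀ C₀ hz h
    rw [← c.X_conj _ _ hz, ← c.X_conj _ _ hz, ← c.X_conj _ _ hz, h]; group
  have E1 := conjE hwU E
  rw [hl, show c.tw 1 w * ((l : F) * c.ψ r) = (l : F) * (c.tw 1 w * c.ψ r) by ring, hw1, mul_one] at E1
  have hsum' : c.ψ (ua ^ p) + c.ψ (va ^ p) = 2 := by
    rw [c.ψ_pow_nat hu, c.ψ_pow_nat hv, ← add_pow_char (p := p), hsum]
    simpa using scalar_pow (F := F) (p := p) 2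
  have E2 := conjE (pow_mem hwU p) (c.derived κ (pow_mem hu p) (pow_mem hv p) hsum')
  simp only [c.tw_pow _ hwU, c.tw_pow _ hu, c.tw_pow _ hv] at E2
  have pA : c.tw 1 w ^ p * ((2 * (κ : F) - 1) - b ^ p * ((κ : F) - 1)) = (c.tw 1 w * A) ^ p := by
    rw [hA', mul_pow, sub_pow_char, mul_pow, sub_pow_char (R := F) (κ : F), one_pow, scalar_pow,
      show (2 * (κ : F) - 1) ^ p = 2 * (κ : F) - 1 by simpa using scalar_pow (F := F) (p := p) (2 * κ - 1)]
  have pB : c.tw m w ^ p * (c.tw m ua ^ p + c.tw m va ^ p * (2 * (κ : F) - 1)) = (c.tw m w * B) ^ p := by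
    rw [hB, mul_pow, add_pow_char, mul_pow,
      show (2 * (κ : F) - 1) ^ p = 2 * (κ : F) - 1 by simpa using scalar_pow (F := F) (p := p) (2 * κ - 1)]
  have pC : c.tw J w ^ p * (1 - c.tw J va ^ p * (1 - (κ : F))) = (c.tw J w * C) ^ p := by
    rw [hC, mul_pow, sub_pow_char, one_pow, mul_pow,
      show (1 - (κ : F)) ^ p = 1 - κ by simpa using scalar_pow (F := F) (p := p) (1 - κ)]
  rw [pA, pB, pC, hl, show c.tw 1 w * ((l : F) * c.ψ r) = (l : F) * (c.tw 1 w * c.ψ r) by ring, hw1, mul_one,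
    scalar_pow] at E2
  set B' := c.tw m w * B
  set C' := c.tw J w * C
  have hdiff : c.X m (B' ^ p - B') = c.X J (C' ^ p - C') := by
    calc c.X m (B' ^ p - B') = (c.X m B')⁻¹ * c.X m (B' ^ p) := by
          rw [← c.X_neg, ← c.X_add]; congr 1; ring
      _ = (c.X J C')⁻¹ * c.X J (C' ^ p) := by rw [E1, E2]; group
      _ = _ := by rw [← c.X_neg, ← c.X_add]; congr 1; ring
  obtain ⟨hB0, hC0⟩ := c.X_eq hF hA hp2 hpq (by rw [hm, hJ, show (1 : ℤ) - κ - (1 - 2 * κ) = κ by ring]; exact hκ) hdiff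
  obtain ⟨β, hβ⟩ := scalar_of_pow (F := F) (sub_eq_zero.mp hB0)
  obtain ⟨γ, hγ⟩ := scalar_of_pow (F := F) (sub_eq_zero.mp hC0)
  rw [← hβ, ← hγ] at E1
  have := c.scalar_relation hF hA hp2 hpq hκ hl' E1
  rw [hl, this, mul_pow, c.ψ_pow r hr, mul_one]

set_option maxHeartbeats 1000000 in
/-- The conclusion of the configuration. -/
theorem eq_one (hpq : q + 1 < p) {ua va : G} (hu : ua ∈ c.U) (hv : va ∈ c.U)
    (hsum : c.ψ ua + c.ψ va = 2) : c.ψ ua = 1 := by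
  set d := c.tw 1 ua - 1 with hd
  have hsumpow : ∀ x : F, x ^ ((p ^ q - 1) / (p - 1)) = ∏ i ∈ Finset.range q, x ^ p ^ i := fun x => by
    rw [Finset.prod_pow_eq_pow_sum]
    congr 1
    exact (Nat.geomSum_eq hp.out.two_le q).symm
  have key : ∀ κ : ℤ, ¬ (p : ℤ) ∣ κ →
      ∏ i ∈ Finset.range q, ((κ : F) + (1 - (κ : F)) * d ^ p ^ i) = (κ : F) ^ q := by
    intro κ hκ
    have h := c.norm_eq hF hA hp2 (by omega) hu hv hsum κ hκ
    have hpi : ∀ (i : ℕ) (j : ℤ), (j : F) ^ p ^ i = j := by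
      intro i j
      induction i with
      | zero => simp
      | succ i ih => rw [pow_succ, pow_mul, ih, scalar_pow]
    rw [hsumpow, hsumpow, Finset.prod_congr rfl fun i _ => hpi i κ, Finset.prod_const, Finset.card_range] at h
    rw [← h]
    refine Finset.prod_congr rfl fun i _ => ?_
    rw [show (2 * (κ : F) - 1) - c.tw 1 ua * ((κ : F) - 1) = ((κ : ℤ) : F) + ((1 - κ : ℤ) : F) * d by
      rw [hd]; push_cast; ring, add_pow_char_pow, mul_pow, hpi, hpi]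
    push_cast; ring
  classical
  set f : Polynomial F := ∏ i ∈ Finset.range q, (Polynomial.X + (1 - Polynomial.X) * Polynomial.C (d ^ p ^ i)) - Polynomial.X ^ q with hf
  have hdeg : f.natDegree ≤ q := by
    refine (natDegree_sub_le _ _).trans (max_le ?_ (natDegree_X_pow_le q))
    refine (natDegree_prod_le _ _).trans ?_
    calc _ ≤ ∑ i ∈ Finset.range q, 1 := Finset.sum_le_sum fun i _ => by
            refine (natDegree_add_le _ _).trans (max_le natDegree_X_le ?_)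
            refine natDegree_mul_le.trans ?_
            rw [natDegree_C, add_zero]
            exact (natDegree_sub_le _ _).trans (by simp)
      _ = q := by simp
  have hf0 : f = 0 := by
    apply eq_zero_of_natDegree_lt_card_of_eval_eq_zero' f ((Finset.Icc 1 (p - 1)).image fun k : ℕ => (k : F))
    · intro x hx
      obtain ⟨k, hk, rfl⟩ := Finset.mem_image.mp hx
      rw [Finset.mem_Icc] at hk
      have := key k (by
        rw [Int.natCast_dvd_natCast]; exact Nat.not_dvd_of_pos_of_lt (by omega) (by omega))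
      push_cast at this
      simp [hf, eval_prod, this]
    · rw [Finset.card_image_of_injOn]
      · simp; omega
      · intro a ha b hb hab
        rw [Finset.coe_Icc, Set.mem_Icc] at ha hb
        exact ((CharP.natCast_eq_natCast F p).mp hab).eq_of_lt_of_lt (by omega) (by omega)
  have h0 := congrArg (eval 0) hf0
  simp [hf, eval_prod, zero_pow hq.out.ne_zero, Finset.prod_eq_zero_iff] at h0
  obtain ⟨i, -, hi⟩ := h0
  have hd0 : d = 0 := hi.1
  have h1 : c.t ^ (-1 : ℤ) * ua * c.t ^ (1 : ℤ) = 1 :=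
    c.ψ_inj (c.t_zpow_U' 1 hu) (one_mem _) ((sub_eq_zero.mp hd0).trans c.ψ_one.symm)
  have h2 : ua = 1 := by
    calc ua = c.t * (c.t ^ (-1 : ℤ) * ua * c.t ^ (1 : ℤ)) * c.t⁻¹ := by group
      _ = 1 := by rw [h1]; group
  rw [h2, ψ_one]

end Main

end Config

end Cfsg.Lib.OddLocal.AppendixC
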