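import Cfsg.Agent.OddLocal.BenderUnique

/-!
# Bender's uniqueness theorems
-/

set_option linter.unusedSectionVars false
set_option linter.style.haveILetI false

namespace Cfsg.Lib.OddLocal.BenderUnique

open Subgroup
open FittingParts (O Z)
open scoped commutatorElement

universe u

variable {G : Type u} [Group G] [Finite G] {H A L : Subgroup G}

theorem coprime_orderOf_conj {x g : G} {n : ℕ} (h : (orderOf x).Coprime n) :
    (orderOf (g * x * g⁻¹)).Coprime n := by
  rwa [show g * x * g⁻¹ = MulAut.conj g x from rfl, MulEquiv.orderOf_eq]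

/-- The elements of order prime to `r` centralizing the other parts of `L` centralize the `r`-part of
`H`. -/
theorem commute_of_parts [Group.IsSolvable L]
    (hcomm : ∀ s t : ℕ, s.Prime → t.Prime → s ≠ t → O s H ≤ centralizer (O t L : Set G))
    {q r : ℕ} [hq : Fact q.Prime] [hr : Fact r.Prime] (hqr : r ≠ q) (hHL : O r H ≤ L) {x : G}
    (hxL : x ∈ L) (hx : ∀ s : ℕ, s.Prime → s ≠ q → x ∈ centralizer (O s L : Set G))
    (hxr : (orderOf x).Coprime r) : x ∈ centralizer (O r H : Set G) := by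
  refine mem_centralizer_iff.mpr fun z hz => ?_
  have hzL := hHL hz
  have hn := PiCoreOf.le_normalizer' (X := L)
  set c := x * z * x⁻¹ * z⁻¹ with hc
  -- `c` centralizes every part
  have hcL : c ∈ L := mul_mem (mul_mem (mul_mem hxL hzL) (inv_mem hxL)) (inv_mem hzL)
  have hcs : ∀ s : ℕ, s.Prime → c ∈ centralizer (O s L : Set G) := by
    intro s hs
    have hN : L ≤ normalizer (centralizer (O s L : Set G) : Set G) :=
      (hn _).trans (FittingParts.normalizer_centralizer_le _)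
    rcases eq_or_ne s r with rfl | hsr
    · have hxC := hx s hs hqr
      rw [hc, mul_assoc, mul_assoc]
      refine mul_mem hxC ?_
      rw [← mul_assoc]
      exact (mem_normalizer_iff.mp (hN hzL) _).mp (inv_mem hxC)
    · have hzC := hcomm r s hr.out hs hsr.symm hz
      exact mul_mem ((mem_normalizer_iff.mp (hN hxL) z).mp hzC) (inv_mem hzC)
  have hcF : c ∈ Cfsg.fittingOf L := FittingParts.centralizer_fittingOf_le
    ⟨hcL, FittingParts.le_centralizer_fittingOf (A := zpowers c)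
      (fun s hs => zpowers_le.mpr (hcs s hs)) (mem_zpowers c)⟩
  obtain ⟨a, b, ha, -, hab, hb, hbW⟩ := FittingParts.split (r := r) hcF
  have hWa : (⨆ s : {s : ℕ // s.Prime ∧ s ≠ r}, O s.1 L) ≤ centralizer (O r L : Set G) :=
    iSup_le fun s => by haveI := Fact.mk s.2.1; exact FittingParts.commute s.2.2
  have hWz : (⨆ s : {s : ℕ // s.Prime ∧ s ≠ r}, O s.1 L) ≤ centralizer ({z} : Set G) :=
    iSup_le fun s => fun w hw => mem_centralizer_singleton_iff.mpr
      (mem_centralizer_iff.mp (hcomm r s.1 hr.out s.2.1 s.2.2.symm hz) w hw)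
  have hcomm' : Commute (a * z) b :=
    (show Commute a b from mem_centralizer_iff.mp (hWa hbW) a ha).mul_left
      (mem_centralizer_singleton_iff.mp (hWz hbW)).symm
  have hS : IsPGroup r (O r L ⊔ O r H : Subgroup G) :=
    (FittingParts.isPGroup L).to_sup_of_normal_left' (FittingParts.isPGroup H)
      (hHL.trans (hn _))
  obtain ⟨i, hi⟩ := hS ⟨a * z, mul_mem_sup ha hz⟩
  have hi' : (a * z) ^ r ^ i = 1 := congrArg Subtype.val hi
  obtain ⟨j, hj⟩ := FittingParts.isPGroup (q := r) H ⟨z, hz⟩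
  have hj' : (c * z) ^ r ^ j = 1 := by
    rw [show c * z = MulAut.conj x z by simp [hc, mul_assoc], ← map_pow,
      show z ^ r ^ j = 1 from congrArg Subtype.val hj, map_one]
  have hb1 : b = 1 := by
    have hcz : c * z = a * z * b := by
      rw [← hab, mul_assoc a z b, ← mem_centralizer_singleton_iff.mp (hWz hbW), mul_assoc]
    have h1 : (c * z) ^ r ^ (i + j) = 1 := by
      rw [pow_add, mul_comm, pow_mul, hj', one_pow]
    have h2 : (a * z) ^ r ^ (i + j) = 1 := by rw [pow_add, pow_mul, hi', one_pow]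
    rw [hcz, hcomm'.mul_pow, h2, one_mul] at h1
    exact orderOf_eq_one_iff.mp (Nat.dvd_one.mp
      ((hb.pow_right (i + j)) ▸ Nat.dvd_gcd dvd_rfl (orderOf_dvd_of_pow_eq_one h1)))
  have hcr : c ∈ O r L := by rwa [← hab, hb1, mul_one]
  have hxc : Commute x c := (mem_centralizer_iff.mp (hx r hr.out hqr) c hcr).symm
  have hcn : c ^ orderOf x = 1 := by
    have hk : ∀ k : ℕ, x ^ k * z * (x ^ k)⁻¹ = c ^ k * z := by
      intro k
      induction k with
      | zero => simp
      | succ k ih =>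
        rw [pow_succ', mul_inv_rev, show x * x ^ k * z * ((x ^ k)⁻¹ * x⁻¹) = x * (x ^ k * z * (x ^ k)⁻¹) * x⁻¹
          by group, ih, show x * (c ^ k * z) * x⁻¹ = x * c ^ k * x⁻¹ * (x * z * x⁻¹) by group,
          (hxc.pow_right k).eq, mul_inv_cancel_right, pow_succ, mul_assoc (c ^ k),
          show c * z = x * z * x⁻¹ by simp [hc]]
    have h1 := hk (orderOf x)
    rw [pow_orderOf_eq_one, one_mul, inv_one, mul_one] at h1
    exact mul_eq_right.mp h1.symm
  obtain ⟨k, hk⟩ := FittingParts.isPGroup (q := r) L ⟨c, hcr⟩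
  have hc1 : c = 1 := orderOf_eq_one_iff.mp (Nat.dvd_one.mp ((hxr.pow_right k) ▸
    Nat.dvd_gcd (orderOf_dvd_of_pow_eq_one hcn) (orderOf_dvd_of_pow_eq_one (congrArg Subtype.val hk))))
  rw [hc] at hc1
  exact (mul_inv_eq_iff_eq_mul.mp (mul_inv_eq_one.mp hc1)).symm

/-- With mutually centralizing parts the cores agree. -/
theorem part_le_part [Group.IsSolvable L]
    (hcomm : ∀ s t : ℕ, s.Prime → t.Prime → s ≠ t → O s H ≤ centralizer (O t L : Set G))
    (hHL : ∀ s : ℕ, s.Prime → O s H ≤ L)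
    (hne : ∀ s : ℕ, ∃ t : ℕ, t.Prime ∧ t ≠ s ∧ O t H ≠ ⊥)
    (hC : ∀ t : ℕ, t.Prime → O t H ≠ ⊥ → centralizer (O t H : Set G) ≤ H)
    {q : ℕ} [hq : Fact q.Prime] : O q H ≤ O q L := by
  obtain ⟨r, hr, hrq, hOr⟩ := hne q
  haveI := Fact.mk hr
  set S : Set G := {x | x ∈ L ∧ (∀ s : ℕ, s.Prime → s ≠ q → x ∈ centralizer (O s L : Set G)) ∧
    (orderOf x).Coprime r} with hS
  set K := closure S with hK
  have hKH : K ≤ H := (closure_le _).mpr fun x hx =>
    hC r hr hOr (commute_of_parts hcomm hrq (hHL r hr) hx.1 hx.2.1 hx.2.2)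
  have hKL : K ≤ L := (closure_le _).mpr fun x hx => hx.1
  have hLK : L ≤ normalizer (K : Set G) := by
    intro g hg
    refine Cfsg.Lib.Coprime.conjMap_eq_self_iff.mp (Cfsg.Lib.Coprime.eq_of_le_of_card_eq ?_
      (Cfsg.Lib.Coprime.card_conjMap _ _))
    rw [hK, Cfsg.Lib.Coprime.conjMap, MonoidHom.map_closure, closure_le]
    rintro _ ⟨x, hx, rfl⟩
    refine subset_closure ⟨?_, fun s hs hsq => ?_, coprime_orderOf_conj hx.2.2⟩
    · show g * x * g⁻¹ ∈ L
      exact mul_mem (mul_mem hg hx.1) (inv_mem hg)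
    · exact (mem_normalizer_iff.mp (((PiCoreOf.le_normalizer' _ L).trans
        (FittingParts.normalizer_centralizer_le _)) hg) x).mp (hx.2.1 s hs hsq)
  have hqK : O q H ≤ K := fun x hx => subset_closure ⟨hHL q hq.out hx,
    fun s hs hsq => hcomm q s hq.out hs hsq.symm hx, by
      have := FittingParts.coprime_prime (q := q) hr hrq.symm ((FittingParts.isPGroup H).to_le
        (zpowers_le.mpr hx))
      rwa [Nat.card_zpowers] at this⟩
  refine (FittingParts.le_of_isPGroup hqK (hKH.trans (PiCoreOf.le_normalizer' _ H))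
    (FittingParts.isPGroup H)).trans ?_
  exact FittingParts.le_of_isPGroup ((PiCoreOf.le _ K).trans hKL)
    (hLK.trans (PiCoreOf.normalizer_le _ K)) (FittingParts.isPGroup K)

/-- Bender's uniqueness theorem: `L` is the only maximal subgroup containing `A`. -/
theorem eq_of_le (h : Setting H A) (hAL : A ≤ L) [Group.IsSolvable H] [Group.IsSolvable L]
    (hL : ∀ r : ℕ, r.Prime → O r L ≠ ⊥ → normalizer (Z r L : Set G) ≤ L)
    (hcore : Cfsg.piCoreOf (Cfsg.primesNotDvd (Nat.card (Cfsg.fittingOf H))) L = ⊥) :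
    L ≤ H ∧ H ≤ L := by
  set π := Cfsg.primesNotDvd (Nat.card (Cfsg.fittingOf H)) with hπ
  -- parts of `L` only for primes of the Fitting subgroup of `H`
  have hLbot : ∀ q : ℕ, q.Prime → O q H = ⊥ → O q L = ⊥ := by
    intro q hq hOq
    haveI := Fact.mk hq
    refine eq_bot_iff.mpr (le_trans (PiCoreOf.le_piCoreOf (PiCoreOf.le _ L) (PiCoreOf.le_normalizer' _ L)
      fun t ht htd => ?_) hcore.le)
    have := PiCoreOf.isPi {q} L t ht htd
    rw [Set.mem_singleton_iff] at this
    exact this ▸ ⟨hq, fun hd => (FittingParts.dvd_fittingOf_iff H).mp hd hOq⟩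
  have hN : ∀ q : ℕ, (Cfsg.piCoreOf {q} L).subgroupOf L = Cfsg.piCore {q} L := fun q => by
    rw [Cfsg.piCoreOf, ← comap_subtype, comap_map_eq_self_of_injective L.subtype_injective]
  -- centres of the parts of `H` centralize the parts of `L`
  have hZ : ∀ q r : ℕ, q.Prime → r.Prime → r ≠ q → Z r H ≤ centralizer (O q L : Set G) := by
    intro q r hq hr hrq
    haveI := Fact.mk hq
    haveI := Fact.mk hr
    rcases eq_or_ne (O q H) ⊥ with hOq | hOq
    · rw [hLbot q hq hOq]
      intro y _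
      refine mem_centralizer_iff.mpr fun b hb => ?_
      rw [SetLike.mem_coe, mem_bot] at hb
      rw [hb, one_mul, mul_one]
    have hker : (Nat.card (Cfsg.fittingOf H)).Coprime (Nat.card (MonoidHom.id L).ker) := by
      rw [show (MonoidHom.id L).ker = ⊥ from (MonoidHom.ker_eq_bot_iff _).mpr Function.injective_id,
        Subgroup.card_bot]
      exact Nat.coprime_one_right _
    have h1 := Z_map_le_centralizer h hAL (MonoidHom.id L) Function.surjective_id hker hrq hOq
    rw [Subgroup.map_id, ← FittingParts.piCore_singleton, ← hN q] at h1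
    intro z hz
    refine mem_centralizer_iff.mpr fun y hy => ?_
    exact congrArg Subtype.val (mem_centralizer_iff.mp
      (h1 (show (⟨z, hAL (h.Z_le hr hz)⟩ : L) ∈ _ from hz)) ⟨y, PiCoreOf.le _ L hy⟩ hy)
  have hne : ∀ r : ℕ, r.Prime → O r H ≠ ⊥ → O r L ≠ ⊥ := by
    intro r hr hOr hb
    haveI := Fact.mk hr
    have h1 : Z r H ≤ Cfsg.fittingOf L :=
      (le_inf ((h.Z_le hr).trans hAL) (FittingParts.le_centralizer_fittingOf fun q hq => by
        rcases eq_or_ne r q with rfl | hrq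
        · rw [hb]
          intro y _
          refine mem_centralizer_iff.mpr fun b hb => ?_
          rw [SetLike.mem_coe, mem_bot] at hb
          rw [hb, one_mul, mul_one]
        · exact hZ q r hq hr hrq)).trans FittingParts.centralizer_fittingOf_le
    obtain ⟨k, hk⟩ := IsPGroup.iff_card.mp ((FittingParts.isPGroup H).to_le
      (inf_le_left : Z r H ≤ O r H))
    refine (FittingParts.dvd_fittingOf_iff L).mp ((?_ : r ∣ Nat.card (Z r H)).trans (card_dvd_of_le h1)) hb
    rw [hk]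
    refine dvd_pow_self r ?_
    rintro rfl
    exact FittingParts.Z_ne_bot hOr (eq_bot_of_card_eq _ (by rw [hk, pow_zero]))
  have hLne : ∀ q : ℕ, ∃ r : ℕ, r.Prime ∧ r ≠ q ∧ O r L ≠ ⊥ := fun q => by
    obtain ⟨r, hr, hrq, hOr⟩ := h.exists_ne q
    exact ⟨r, hr, hrq, hne r hr hOr⟩
  have hCL : ∀ r : ℕ, r.Prime → O r L ≠ ⊥ → centralizer (Z r L : Set G) ≤ L := fun r hr hO =>
    (centralizer_le_normalizer _).trans (hL r hr hO)
  have hLH : ∀ q : ℕ, q.Prime → O q L ≤ H := by
    intro q hq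
    obtain ⟨r, hr, hrq, hOr⟩ := h.exists_ne q
    exact (le_centralizer_iff.mp (hZ q r hq hr hrq)).trans (h.centralizer_le hr hOr)
  have hcomm : ∀ s t : ℕ, s.Prime → t.Prime → s ≠ t → O s L ≤ centralizer (O t H : Set G) := by
    intro s t hs ht hst
    haveI := Fact.mk hs
    haveI := Fact.mk ht
    rcases eq_or_ne (O t H) ⊥ with hOt | hOt
    · rw [hOt]
      intro y _
      refine mem_centralizer_iff.mpr fun b hb => ?_
      rw [SetLike.mem_coe, mem_bot] at hb
      rw [hb, one_mul, mul_one]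
    refine Cfsg.Lib.Coprime.pq_lemma (p := t) (P := O t L) (FittingParts.isPGroup L)
      (FittingParts.coprime_prime ht hst (FittingParts.isPGroup L)) (FittingParts.isPGroup H)
      (FittingParts.commute hst.symm) ((hLH t ht).trans (PiCoreOf.le_normalizer' _ H))
      ((hLH s hs).trans (PiCoreOf.le_normalizer' _ H)) ?_
    intro x hx
    obtain ⟨hxO, hxC⟩ := mem_inf.mp hx
    have hxL : x ∈ L := hCL t ht (hne t ht hOt) (centralizer_le inf_le_left hxC)
    refine mem_centralizer_iff.mpr fun y hy => ?_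
    have h1 : y * x * y⁻¹ * x⁻¹ ∈ O t H :=
      mul_mem ((mem_normalizer_iff.mp (PiCoreOf.le_normalizer' _ H (hLH s hs hy)) x).mp hxO)
        (inv_mem hxO)
    have h2 : y * x * y⁻¹ * x⁻¹ ∈ O s L := by
      rw [mul_assoc, mul_assoc]
      refine mul_mem hy ?_
      rw [← mul_assoc]
      exact (mem_normalizer_iff.mp (PiCoreOf.le_normalizer' _ L hxL) _).mp (inv_mem hy)
    exact mul_inv_eq_iff_eq_mul.mp (mul_inv_eq_one.mp (Cfsg.Lib.Coprime.eq_one_of_coprime
      (FittingParts.coprime hst.symm (FittingParts.isPGroup H) (FittingParts.isPGroup L)) h1 h2))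
  have hcomm' : ∀ s t : ℕ, s.Prime → t.Prime → s ≠ t → O s H ≤ centralizer (O t L : Set G) :=
    fun s t hs ht hst => le_centralizer_iff.mp (hcomm t s ht hs hst.symm)
  have hHL : ∀ q : ℕ, q.Prime → O q H ≤ L := by
    intro q hq
    obtain ⟨r, hr, hrq, hOr⟩ := hLne q
    exact ((hcomm' q r hq hr hrq.symm).trans (centralizer_le inf_le_left)).trans (hCL r hr hOr)
  have heq : ∀ q : ℕ, q.Prime → O q H = O q L := fun q hq => by
    haveI := Fact.mk hq
    exact le_antisymm
      (part_le_part hcomm' hHL h.exists_ne fun t ht hO =>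
        (centralizer_le inf_le_left).trans (h.centralizer_le ht hO))
      (part_le_part hcomm hLH hLne fun t ht hO => (centralizer_le inf_le_left).trans (hCL t ht hO))
  obtain ⟨r, hr, -, hOr⟩ := h.exists_ne 0
  have hZeq : Z r H = Z r L := by simp only [Z, heq r hr]
  exact ⟨(FittingParts.le_normalizer_Z r L).trans (hZeq ▸ h.normalizer_le r hr hOr),
    (FittingParts.le_normalizer_Z r H).trans (hZeq.symm ▸ hL r hr (hne r hr hOr))⟩

theorem isSolvable_sup {R B : Subgroup G} (hn : B ≤ normalizer (R : Set G)) (hR : Group.IsSolvable R)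
    (hB : Group.IsSolvable B) : Group.IsSolvable ↥(R ⊔ B) := by
  haveI : (R.subgroupOf (R ⊔ B)).Normal :=
    normal_subgroupOf_of_le_normalizer (sup_le le_normalizer hn)
  haveI := hB
  haveI := hR
  refine Group.isSolvable_of_ker_le_range (R.subgroupOf (R ⊔ B)).subtype
    (QuotientGroup.mk' (R.subgroupOf (R ⊔ B))) (by simp) (hG' := ?_) (hG'' := ?_)
  · exact Group.isSolvable_of_isSolvable_injective
      (f := (subgroupOfEquivOfLe (le_sup_left : R ≤ R ⊔ B)).toMonoidHom) (MulEquiv.injective _)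
  · refine Group.isSolvable_of_surjective
      (f := (QuotientGroup.mk' (R.subgroupOf (R ⊔ B))).comp (inclusion (le_sup_right : B ≤ R ⊔ B))) ?_
    intro x
    obtain ⟨g, rfl⟩ := QuotientGroup.mk'_surjective _ x
    obtain ⟨a, ha, b, hb, hab⟩ := (Cfsg.Lib.Coprime.mem_sup_of_le_normalizer hn).mp g.2
    refine ⟨⟨b, hb⟩, ?_⟩
    show QuotientGroup.mk' _ _ = QuotientGroup.mk' _ g
    rw [show g = ⟨a, mem_sup_left ha⟩ * inclusion le_sup_right ⟨b, hb⟩ from Subtype.ext hab.symm, map_mul,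
      show QuotientGroup.mk' (R.subgroupOf (R ⊔ B)) ⟨a, mem_sup_left ha⟩ = 1 from
        (QuotientGroup.eq_one_iff _).mpr ha, one_mul]

/-- A solvable normal subgroup of the centralizer of the Fitting subgroup of `H` lies in it. -/
theorem solvable_inf_le {R : Subgroup G} [Group.IsSolvable R]
    (hR : H ⊓ centralizer (Cfsg.fittingOf H : Set G) ≤ normalizer (R : Set G)) :
    R ⊓ (H ⊓ centralizer (Cfsg.fittingOf H : Set G)) ≤ Cfsg.fittingOf H := by
  set C := H ⊓ centralizer (Cfsg.fittingOf H : Set G) with hC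
  set D := R ⊓ C with hD
  have hDH : D ≤ H := inf_le_right.trans inf_le_left
  haveI : Group.IsSolvable D := Cfsg.Lib.Coprime.isSolvable_of_le inf_le_left inferInstance
  have hHC : H ≤ normalizer (C : Set G) := Cfsg.Lib.Coprime.le_normalizer_inf le_normalizer
    ((FittingParts.le_normalizer_fittingOf H).trans (FittingParts.normalizer_centralizer_le _))
  have hCD : C ≤ normalizer (D : Set G) := Cfsg.Lib.Coprime.le_normalizer_inf hR le_normalizer
  have step : ∀ {U V : Subgroup G}, U ≤ V → V ≤ H → V ≤ normalizer (U : Set G) →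
      (V.subgroupOf H).IsSubnormal → (U.subgroupOf H).IsSubnormal := by
    intro U V hUV hVH hn hs
    refine .step _ _ (fun x hx => hUV hx) hs ?_
    refine normal_subgroupOf_of_le_normalizer fun v hv => mem_normalizer_iff.mpr fun y => ?_
    simp only [mem_subgroupOf, Subgroup.coe_mul, Subgroup.coe_inv]
    exact mem_normalizer_iff.mp (hn hv) y
  have htop : (H.subgroupOf H).IsSubnormal := by rw [subgroupOf_self]; exact .top
  have h1 : ((Cfsg.fittingOf D).subgroupOf H).IsSubnormal :=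
    step (FittingParts.fittingOf_le D) hDH (FittingParts.le_normalizer_fittingOf D)
      (step inf_le_right inf_le_left hCD (step inf_le_left le_rfl hHC htop))
  have hnil : Group.IsNilpotent ((Cfsg.fittingOf D).subgroupOf H) := by
    haveI : Group.IsNilpotent (Cfsg.fittingOf D) :=
      Cfsg.Lib.Components.isNilpotent_map Cfsg.Lib.Components.isNilpotent_fitting _
    exact Group.nilpotent_of_mulEquiv
      (subgroupOfEquivOfLe ((FittingParts.fittingOf_le D).trans hDH)).symm
  have h2 : Cfsg.fittingOf D ≤ Cfsg.fittingOf H := fun x hx =>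
    ⟨⟨x, hDH (FittingParts.fittingOf_le D hx)⟩,
      Cfsg.Lib.Components.le_fitting_of_subnormal h1 hnil hx, rfl⟩
  intro d hd
  refine h2 (FittingParts.centralizer_fittingOf_le ⟨hd, ?_⟩)
  exact centralizer_le h2 hd.2.2

/-- Bender's theorem on invariant Sylow subgroups of the core. -/
theorem unique_max (h : Setting H A) (hCA : Cfsg.fittingOf H ⊓ centralizer (A : Set G) ≤ A)
    {R : Subgroup G} (hR : Group.IsSolvable R) (hAR : A ≤ normalizer (R : Set G))
    (hCR : H ⊓ centralizer (Cfsg.fittingOf H : Set G) ≤ normalizer (R : Set G))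
    {q : ℕ} [hq : Fact q.Prime] (hqF : ¬ q ∣ Nat.card (Cfsg.fittingOf H)) :
    (∃! Q : Subgroup G, Q ∈ Cfsg.maxInvSubgroups R A {q}) ∧
      ∀ Q : Subgroup G, Q ∈ Cfsg.maxInvSubgroups R A {q} →
        Q ≤ Cfsg.piCoreOf (Cfsg.primesNotDvd (Nat.card (Cfsg.fittingOf H))) R ∧
        ¬ q ∣ Q.relIndex (Cfsg.piCoreOf (Cfsg.primesNotDvd (Nat.card (Cfsg.fittingOf H))) R) := by
  set π := Cfsg.primesNotDvd (Nat.card (Cfsg.fittingOf H)) with hπ
  set C := Cfsg.piCoreOf π R with hC
  have hfix : ∀ Y : Subgroup G, Y ≤ R → (Nat.card (Cfsg.fittingOf H)).Coprime (Nat.card Y) →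
      A ≤ normalizer (Y : Set G) → ∀ r : ℕ, r.Prime → O r H ≠ ⊥ →
      Y ⊓ centralizer (Z r H : Set G) = ⊥ := by
    intro Y hYR hcop hAY r hr hO
    set Y' := Y ⊓ H
    have hc' : (Nat.card (Cfsg.fittingOf H)).Coprime (Nat.card Y') :=
      hcop.coprime_dvd_right (card_dvd_of_le inf_le_left)
    have h1 : Y' ≤ centralizer (Cfsg.fittingOf H : Set G) := le_centralizer_fitting h hCA inf_le_right hc'
      (Cfsg.Lib.Coprime.le_normalizer_inf hAY (h.le.trans le_normalizer))
    have h2 : Y' ≤ R ⊓ (H ⊓ centralizer (Cfsg.fittingOf H : Set G)) :=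
      le_inf (inf_le_left.trans hYR) (le_inf inf_le_right h1)
    refine (eq_bot_iff_forall _).mpr fun y hy => ?_
    have hy' : y ∈ Y' := ⟨hy.1, h.centralizer_le hr hO hy.2⟩
    exact Cfsg.Lib.Coprime.eq_one_of_coprime hc' (solvable_inf_le hCR (h2 hy')) hy'
  have hsolA : Group.IsSolvable A := Cfsg.Lib.Coprime.isSolvable_of_le h.le_fitting
    (Cfsg.Lib.Coprime.isSolvable_map Cfsg.Lib.Components.isSolvable_fitting _)
  haveI : Group.IsSolvable ↥(R ⊔ A) := isSolvable_sup hAR hR hsolA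
  have hq' : ∀ Y : Subgroup G, IsPGroup q Y → (Nat.card (Cfsg.fittingOf H)).Coprime (Nat.card Y) :=
    fun Y hY => by
      obtain ⟨k, hk⟩ := IsPGroup.iff_card.mp hY
      rw [hk]
      exact (hq.out.coprime_iff_not_dvd.mpr hqF).symm.pow_right k
  have hinC : ∀ Y : Subgroup G, Y ≤ R → IsPGroup q Y → A ≤ normalizer (Y : Set G) → Y ≤ C := by
    intro Y hYR hYp hAY
    have h1 := le_core (L := R ⊔ A) h le_sup_right (hYR.trans le_sup_left) (hq' Y hYp) hAY
      (fun r hr hO => hfix Y hYR (hq' Y hYp) hAY r hr hO)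
    refine le_trans (le_inf h1 hYR) (PiCoreOf.le_piCoreOf inf_le_right
      (Cfsg.Lib.Coprime.le_normalizer_inf (le_sup_left.trans (PiCoreOf.le_normalizer' _ _))
        le_normalizer) fun t ht htd => ?_)
    exact PiCoreOf.isPi _ _ t ht (htd.trans (card_dvd_of_le inf_le_left))
  have hAC : A ≤ normalizer (C : Set G) := hAR.trans (PiCoreOf.normalizer_le _ _)
  have hcop : (Nat.card A).Coprime (Nat.card C) :=
    (PiCoreOf.coprime_card _ _).coprime_dvd_left (card_dvd_of_le h.le_fitting)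
  have hsylow : ∀ Q : Subgroup G, Q ∈ Cfsg.maxInvSubgroups R A {q} →
      ∃ T : Sylow q C, (T : Subgroup C).map C.subtype = Q ∧ A ≤ normalizer (Q : Set G) := by
    intro Q hQ
    have hp := Transitivity.isPGroup_of_primes hQ.1.2.1
    obtain ⟨T, hQT, hAT⟩ := Cfsg.Lib.Coprime.exists_invariant_sylow_ge hAC hcop (Or.inl hsolA) q
      (hinC Q hQ.1.1 hp hQ.1.2.2) hp hQ.1.2.2
    refine ⟨T, hQ.2 _ ⟨(map_subtype_le _).trans (PiCoreOf.le _ R), ?_, hAT⟩ hQT, hQ.1.2.2⟩
    exact (Transitivity.mem_inv_iff.mpr ⟨T.2.map _, hAT⟩).2.1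
  have huniq : ∀ Q₁ Q₂ : Subgroup G, Q₁ ∈ Cfsg.maxInvSubgroups R A {q} →
      Q₂ ∈ Cfsg.maxInvSubgroups R A {q} → Q₁ = Q₂ := by
    intro Q₁ Q₂ h₁ h₂
    obtain ⟨T₁, e₁, hn₁⟩ := hsylow Q₁ h₁
    obtain ⟨T₂, e₂, hn₂⟩ := hsylow Q₂ h₂
    obtain ⟨c, hc, hcT⟩ := Cfsg.Lib.Coprime.invariant_sylow_conj hAC hcop (Or.inl hsolA) q T₁ T₂
      (e₁.symm ▸ hn₁) (e₂.symm ▸ hn₂)
    obtain ⟨r, hr, -, hO⟩ := h.exists_ne 0
    have h1 : (c : G) ∈ C ⊓ centralizer (Z r H : Set G) := ⟨c.2, centralizer_le (h.Z_le hr) hc⟩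
    rw [hfix C (PiCoreOf.le _ R) (PiCoreOf.coprime_card _ _) hAC r hr hO, mem_bot] at h1
    rw [← e₁, ← e₂, ← hcT, show c = 1 from Subtype.ext h1, one_smul]
  obtain ⟨Q, -, hQ⟩ := Finite.exists_le_maximal (p := fun Y => Y ∈ Cfsg.invSubgroups R A {q}) (a := ⊥)
    ⟨bot_le, fun p hp hpd => absurd (Subgroup.card_bot (G := G) ▸ hpd) hp.not_dvd_one,
      fun a _ => by rw [normalizer_eq_top]; exact mem_top a⟩
  refine ⟨⟨Q, ⟨hQ.prop, fun Y hY hQY => le_antisymm (hQ.le_of_ge hY hQY) hQY⟩,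
    fun Q' hQ' => huniq _ _ hQ' ⟨hQ.prop, fun Y hY hQY => le_antisymm (hQ.le_of_ge hY hQY) hQY⟩⟩,
    fun Q' hQ' => ?_⟩
  obtain ⟨T, e, -⟩ := hsylow Q' hQ'
  subst e
  refine ⟨map_subtype_le _, ?_⟩
  rw [relIndex, ← comap_subtype, comap_map_eq_self_of_injective C.subtype_injective]
  exact T.not_dvd_index

end Cfsg.Lib.OddLocal.BenderUnique
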