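import Cfsg.Agent.OddLocal.BenderMax
import Cfsg.Agent.OddLocal.MinSimpleTransitivity

/-!
# Bender's setting for maximal subgroups
-/

set_option linter.unusedSectionVars false
set_option linter.style.haveILetI false

namespace Cfsg.Lib.OddLocal.BenderUnique

open Subgroup
open FittingParts (O Z)

universe u

variable {G : Type u} [Group G] [Finite G] {H A L : Subgroup G}

theorem normalizer_Z_le_of_coatom (hG : Cfsg.IsMinSimpleOddOrder G) (hL : IsCoatom L) (r : ℕ)
    (hr : r.Prime) (hO : O r L ≠ ⊥) : normalizer (Z r L : Set G) ≤ L := by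
  haveI := Fact.mk hr
  have h1 := FittingParts.le_normalizer_Z r L
  rcases h1.lt_or_eq with h2 | h2
  · refine absurd (hL.2 _ h2) (MinSimpleTransitivity.normalizer_ne_top hG (FittingParts.Z_ne_bot hO) ?_)
    exact fun h => hL.1 (top_le_iff.mp (h.symm.le.trans (inf_le_left.trans (PiCoreOf.le _ L))))
  · exact h2.ge

theorem setting_of_coatom (hG : Cfsg.IsMinSimpleOddOrder G) (hH : IsCoatom H)
    (h2 : 2 ≤ (Nat.card (Cfsg.fittingOf H)).primeFactors.card) (hA : A ≤ Cfsg.fittingOf H)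
    (hZA : Cfsg.fittingOf H ⊓ centralizer (Cfsg.fittingOf H : Set G) ≤ A) : Setting H A :=
  ⟨normalizer_Z_le_of_coatom hG hH, exists_ne_of_card h2, hA, hZA⟩

theorem eq_of_coatom (hG : Cfsg.IsMinSimpleOddOrder G) (hH : IsCoatom H) (h : Setting H A)
    (hL : IsCoatom L) (hAL : A ≤ L)
    (hcore : Cfsg.piCoreOf (Cfsg.primesNotDvd (Nat.card (Cfsg.fittingOf H))) L = ⊥) : L = H := by
  haveI := hG.2.2.2 H hH.1
  haveI := hG.2.2.2 L hL.1
  obtain ⟨h1, h2⟩ := eq_of_le h hAL (normalizer_Z_le_of_coatom hG hL) hcore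
  exact le_antisymm h1 h2

theorem setting_of_local (hH : Cfsg.IsLocalSubgroup H)
    (hmax : ∀ L : Subgroup G, Cfsg.IsLocalSubgroup L → H ≤ L → L = H)
    (h2 : 2 ≤ (Nat.card (Cfsg.fittingOf H)).primeFactors.card) (hA : A ≤ Cfsg.fittingOf H)
    (hCA : Cfsg.fittingOf H ⊓ centralizer (A : Set G) ≤ A) : Setting H A := by
  refine ⟨fun r hr hO => ?_, exists_ne_of_card h2, hA,
    (inf_le_inf_left _ (centralizer_le hA)).trans hCA⟩
  haveI := Fact.mk hr
  exact (hmax _ ⟨r, Z r H, hr, (FittingParts.isPGroup H).to_le inf_le_left, FittingParts.Z_ne_bot hO,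
    rfl⟩ (FittingParts.le_normalizer_Z r H)).le

end Cfsg.Lib.OddLocal.BenderUnique
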