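import Cfsg.Agent.OddLocal.FittingParts

/-!
# Bender's method for the Fitting subgroup of a maximal local subgroup
-/

set_option linter.unusedSectionVars false
set_option linter.style.haveILetI false

namespace Cfsg.Lib.OddLocal.BenderUnique

open Subgroup
open FittingParts (O Z)
open scoped commutatorElement

universe u

variable {G : Type u} [Group G] [Finite G] {H A L : Subgroup G}

/-- The centres of the parts of the Fitting subgroup determine `H`, and there are two of them. -/
structure Setting (H A : Subgroup G) : Prop where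
  normalizer_le : ∀ r : ℕ, r.Prime → O r H ≠ ⊥ → normalizer (Z r H : Set G) ≤ H
  exists_ne : ∀ q : ℕ, ∃ r : ℕ, r.Prime ∧ r ≠ q ∧ O r H ≠ ⊥
  le_fitting : A ≤ Cfsg.fittingOf H
  center_le : Cfsg.fittingOf H ⊓ centralizer (Cfsg.fittingOf H : Set G) ≤ A

theorem exists_ne_of_card (h : 2 ≤ (Nat.card (Cfsg.fittingOf H)).primeFactors.card) (q : ℕ) :
    ∃ r : ℕ, r.Prime ∧ r ≠ q ∧ O r H ≠ ⊥ := by
  obtain ⟨r, hr, hne⟩ := Finset.exists_mem_ne (s := (Nat.card (Cfsg.fittingOf H)).primeFactors) h q
  obtain ⟨hrp, hrd, -⟩ := Nat.mem_primeFactors.mp hr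
  haveI := Fact.mk hrp
  exact ⟨r, hrp, hne, (FittingParts.dvd_fittingOf_iff H).mp hrd⟩

theorem Setting.Z_le (h : Setting H A) {r : ℕ} (hr : r.Prime) : Z r H ≤ A := by
  haveI := Fact.mk hr
  exact (le_inf ((inf_le_left : Z r H ≤ O r H).trans (FittingParts.le_fittingOf H))
    (FittingParts.Z_le_centralizer_fittingOf H)).trans h.center_le

theorem Setting.le (h : Setting H A) : A ≤ H := h.le_fitting.trans (FittingParts.fittingOf_le H)

theorem Setting.centralizer_le (h : Setting H A) {r : ℕ} (hr : r.Prime) (hO : O r H ≠ ⊥) :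
    centralizer (Z r H : Set G) ≤ H :=
  (centralizer_le_normalizer _).trans (h.normalizer_le r hr hO)

/-- Coprimality with the Fitting subgroup in terms of primes. -/
theorem coprime_part {Y : Subgroup G} {r : ℕ} [Fact r.Prime]
    (hY : (Nat.card (Cfsg.fittingOf H)).Coprime (Nat.card Y)) {B : Subgroup G} (hB : B ≤ O r H) :
    (Nat.card B).Coprime (Nat.card Y) :=
  hY.coprime_dvd_left (card_dvd_of_le (hB.trans (FittingParts.le_fittingOf H)))

theorem dvd_pCore_of_dvd_fitting {K : Type u} [Group K] [Finite K] {t : ℕ} [Fact t.Prime]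
    (hd : t ∣ Nat.card (Cfsg.fittingSubgroup K)) : Cfsg.pCore t K ≠ ⊥ := by
  intro hb
  haveI := Cfsg.Lib.Components.isNilpotent_fitting (G := K)
  obtain ⟨P⟩ : Nonempty (Sylow t (Cfsg.fittingSubgroup K)) := inferInstance
  haveI : (P : Subgroup (Cfsg.fittingSubgroup K)).Characteristic :=
    Sylow.characteristic_of_normal P inferInstance
  have h1 : (P : Subgroup (Cfsg.fittingSubgroup K)).map (Cfsg.fittingSubgroup K).subtype ≤
      Cfsg.pCore t K := Cfsg.Lib.Components.le_pCore (P.2.map _)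
  rw [hb, le_bot_iff, map_eq_bot_iff_of_injective _ (subtype_injective _)] at h1
  exact P.ne_bot_of_dvd_card hd h1

/-- The centre of another part centralizes each core of a coprime quotient. -/
theorem Z_map_le_centralizer (h : Setting H A) (hAL : A ≤ L) {Q : Type u} [Group Q] [Finite Q]
    (f : L →* Q) (hf : Function.Surjective f)
    (hker : (Nat.card (Cfsg.fittingOf H)).Coprime (Nat.card f.ker)) {q r : ℕ} [hq : Fact q.Prime]
    [hr : Fact r.Prime] (hqr : r ≠ q) (hOq : O q H ≠ ⊥) :
    ((Z r H).subgroupOf L).map f ≤ centralizer (Cfsg.pCore q Q : Set Q) := by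
  set R := Cfsg.pCore q Q with hR
  set M := ((A ⊓ O q H).subgroupOf L) with hM
  set Zr := (Z r H).subgroupOf L with hZr
  have hMp : IsPGroup q M := ((FittingParts.isPGroup H).to_le inf_le_right).comap_subtype
  have hZp : IsPGroup r Zr := ((FittingParts.isPGroup H).to_le inf_le_left).comap_subtype
  refine Cfsg.Lib.Coprime.pq_lemma (p := q) (P := M.map f) (hMp.map f)
    (FittingParts.coprime_prime hq.out hqr (hZp.map f)) (Cfsg.Lib.Components.isPGroup_pCore q) ?_
    le_normalizer_of_normal le_normalizer_of_normal ?_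
  · rintro _ ⟨m, hm, rfl⟩
    refine mem_centralizer_iff.mpr ?_
    rintro _ ⟨z, hz, rfl⟩
    have hc := mem_centralizer_iff.mp (FittingParts.commute (X := H) hqr.symm hm.2) (z : G) hz.1
    rw [← map_mul, ← map_mul, show z * m = m * z from Subtype.ext hc]
  · intro x hx
    obtain ⟨hxR, hxM⟩ := mem_inf.mp hx
    obtain ⟨g, rfl⟩ := hf x
    have hMA : M ≤ A.subgroupOf L := fun m hm => hm.1
    have hcop : (Nat.card M).Coprime (Nat.card f.ker) := by
      refine hker.coprime_dvd_left ?_
      rw [Nat.card_congr (subgroupOfEquivOfLe (inf_le_left.trans hAL : A ⊓ O q H ≤ L)).toEquiv]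
      exact card_dvd_of_le (inf_le_left.trans h.le_fitting)
    obtain ⟨n, hn, hgn⟩ := Cfsg.Lib.Coprime.exists_fixed_of_commutator_mem (A := M) (N := f.ker)
      le_normalizer_of_normal hcop (Or.inl (have := hMp.isNilpotent; inferInstance)) (k := g)
      (le_normalizer_of_normal (K := ⊤) (mem_top g)) fun a ha => by
        rw [MonoidHom.mem_ker]
        have h1 := mem_centralizer_iff.mp hxM (f a) (mem_map_of_mem f ha)
        simp only [map_mul, map_inv]
        rw [h1, mul_inv_cancel_right, mul_inv_cancel]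
    set g' := g * n with hg'
    have hfg : f g' = f g := by rw [map_mul, MonoidHom.mem_ker.mp hn, mul_one]
    have hgH : (g' : G) ∈ H := by
      refine h.centralizer_le hq.out hOq (mem_centralizer_iff.mpr fun z hz => ?_)
      exact congrArg Subtype.val (mem_centralizer_iff.mp hgn ⟨z, hAL (h.Z_le hq.out hz)⟩
        ⟨h.Z_le hq.out hz, hz.1⟩)
    refine mem_centralizer_iff.mpr ?_
    rintro _ ⟨z, hz, rfl⟩
    have h2 : g' * z * g'⁻¹ * z⁻¹ ∈ Zr := by
      show ((g' * z * g'⁻¹ * z⁻¹ : L) : G) ∈ Z r H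
      exact mul_mem ((mem_normalizer_iff.mp (FittingParts.le_normalizer_Z r H hgH) (z : G)).mp hz)
        (inv_mem hz)
    have h3 : f g * f z * (f g)⁻¹ * (f z)⁻¹ ∈ R := by
      rw [mul_assoc, mul_assoc]
      refine mul_mem hxR ?_
      rw [← mul_assoc]
      exact (inferInstance : R.Normal).conj_mem _ (inv_mem hxR) _
    have h4 : f g * f z * (f g)⁻¹ * (f z)⁻¹ ∈ Zr.map f :=
      ⟨_, h2, by simp only [map_mul, map_inv, hfg]⟩
    have h5 := Cfsg.Lib.Coprime.eq_one_of_coprime
      (FittingParts.coprime hqr (hZp.map f) (Cfsg.Lib.Components.isPGroup_pCore q)) h4 h3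
    exact (mul_inv_eq_iff_eq_mul.mp (mul_inv_eq_one.mp h5)).symm

/-- Invariant subgroups of order prime to the Fitting subgroup lie in the core, when they meet the
centralizers of the centres trivially. -/
theorem le_core (h : Setting H A) (hAL : A ≤ L) [Group.IsSolvable L] {Y : Subgroup G} (hYL : Y ≤ L)
    (hcop : (Nat.card (Cfsg.fittingOf H)).Coprime (Nat.card Y)) (hAY : A ≤ normalizer (Y : Set G))
    (hfix : ∀ r : ℕ, r.Prime → O r H ≠ ⊥ → Y ⊓ centralizer (Z r H : Set G) = ⊥) :
    Y ≤ Cfsg.piCoreOf (Cfsg.primesNotDvd (Nat.card (Cfsg.fittingOf H))) L := by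
  set π := Cfsg.primesNotDvd (Nat.card (Cfsg.fittingOf H)) with hπ
  set N := Cfsg.piCore π L with hN
  set f := QuotientGroup.mk' N with hf
  have hfs : Function.Surjective f := QuotientGroup.mk'_surjective N
  have hker : f.ker = N := QuotientGroup.ker_mk' N
  have hNπ := Cfsg.Lib.Elementary.piCore_isPi (G := L) π
  have hkcop : (Nat.card (Cfsg.fittingOf H)).Coprime (Nat.card f.ker) := by
    rw [hker]; exact PiCoreOf.coprime_of_isPiNat hNπ
  have hsolQ : Group.IsSolvable (L ⧸ N) := Group.isSolvable_of_surjective hfs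
  set Y' := Y.subgroupOf L with hY'
  -- the quotient has no core of order prime to the Fitting subgroup
  have hpcore : ∀ q : ℕ, q.Prime → O q H = ⊥ → Cfsg.pCore q (L ⧸ N) = ⊥ := by
    intro q hq hOq
    haveI := Fact.mk hq
    have hqπ : q ∈ π := ⟨hq, fun hd => (FittingParts.dvd_fittingOf_iff H).mp hd hOq⟩
    have hle : (Cfsg.pCore q (L ⧸ N)).comap f ≤ N := by
      refine Cfsg.Lib.Elementary.le_piCore fun t ht htd => ?_
      have hc : Nat.card ((Cfsg.pCore q (L ⧸ N)).comap f) = Nat.card N * Nat.card (Cfsg.pCore q (L ⧸ N)) := by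
        rw [hf, Cfsg.Lib.Coprime.card_comap_mk']
      rw [hc] at htd
      rcases ht.dvd_mul.mp htd with h1 | h1
      · exact hNπ t ht h1
      · obtain ⟨k, hk⟩ := IsPGroup.iff_card.mp (Cfsg.Lib.Components.isPGroup_pCore (G := L ⧸ N) q)
        rw [hk] at h1
        exact (Nat.prime_dvd_prime_iff_eq ht hq).mp (ht.dvd_of_dvd_pow h1) ▸ hqπ
    refine (eq_bot_iff_forall _).mpr fun x hx => ?_
    obtain ⟨g, rfl⟩ := hfs x
    exact (QuotientGroup.eq_one_iff g).mpr (hle hx)
  -- each core is centralized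
  have hcent : ∀ q : ℕ, q.Prime → Y'.map f ≤ centralizer (Cfsg.pCore q (L ⧸ N) : Set (L ⧸ N)) := by
    intro q hq
    haveI := Fact.mk hq
    by_cases hOq : O q H = ⊥
    · rw [hpcore q hq hOq]
      intro y _
      refine mem_centralizer_iff.mpr fun b hb => ?_
      rw [SetLike.mem_coe, mem_bot] at hb
      rw [hb, one_mul, mul_one]
    obtain ⟨r, hr, hrq, hOr⟩ := h.exists_ne q
    haveI := Fact.mk hr
    set Zr := (Z r H).subgroupOf L with hZr
    have hZL : Z r H ≤ L := (h.Z_le hr).trans hAL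
    have hbot : Y' ⊓ centralizer (Zr : Set L) = ⊥ := by
      refine (eq_bot_iff_forall _).mpr fun y hy => Subtype.ext ?_
      have : (y : G) ∈ Y ⊓ centralizer (Z r H : Set G) := ⟨hy.1, mem_centralizer_iff.mpr fun z hz =>
        congrArg Subtype.val (mem_centralizer_iff.mp hy.2 ⟨z, hZL hz⟩ hz)⟩
      rwa [hfix r hr hOr, mem_bot] at this
    have heq : ⁅Y', Zr⁆ = Y' := by
      have h1 := Cfsg.Lib.Coprime.commutator_sup_centralizer (A := Zr) (K := Y')
        (fun z hz => mem_normalizer_iff.mpr fun y => by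
          simp only [hY', mem_subgroupOf, Subgroup.coe_mul, Subgroup.coe_inv]
          exact mem_normalizer_iff.mp (hAY (h.Z_le hr hz)) y)
        (by
          rw [Nat.card_congr (subgroupOfEquivOfLe hZL).toEquiv,
            Nat.card_congr (subgroupOfEquivOfLe hYL).toEquiv]
          exact coprime_part hcop inf_le_left)
        (Or.inr inferInstance)
      rwa [hbot, sup_bot_eq] at h1
    rw [← heq, map_commutator]
    exact (commutator_mono le_rfl (Z_map_le_centralizer h hAL f hfs hkcop hrq hOq)).trans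
      (commutator_le_right _ _)
  have hF : Y'.map f ≤ Cfsg.fittingSubgroup (L ⧸ N) := by
    refine le_trans ?_ Cfsg.Lib.Coprime.centralizer_fitting_le
    rw [le_centralizer_iff, Cfsg.Lib.Components.fitting_eq_iSup_pCore]
    exact iSup_le fun q => le_centralizer_iff.mp (hcent q.1 q.2)
  have hbot : Y'.map f = ⊥ := by
    by_contra hne
    obtain ⟨t, ht, htd⟩ := Nat.exists_prime_and_dvd fun h1 => hne (eq_bot_of_card_eq _ h1)
    haveI := Fact.mk ht
    have hOt : O t H ≠ ⊥ := fun h1 =>
      dvd_pCore_of_dvd_fitting (htd.trans (card_dvd_of_le hF)) (hpcore t ht h1)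
    have h1 : t ∣ Nat.card Y := by
      refine htd.trans ((card_map_dvd _ _).trans ?_)
      rw [Nat.card_congr (subgroupOfEquivOfLe hYL).toEquiv]
    exact ht.not_dvd_one (hcop ▸ Nat.dvd_gcd ((FittingParts.dvd_fittingOf_iff H).mpr hOt) h1)
  intro y hy
  refine ⟨⟨y, hYL hy⟩, ?_, rfl⟩
  show (⟨y, hYL hy⟩ : L) ∈ N
  rw [← hker, MonoidHom.mem_ker]
  have h1 := mem_map_of_mem f (show (⟨y, hYL hy⟩ : L) ∈ Y' from hy)
  rwa [hbot, mem_bot] at h1

/-- An invariant subgroup of `H` of order prime to the Fitting subgroup centralizes it. -/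
theorem le_centralizer_fitting (h : Setting H A)
    (hCA : Cfsg.fittingOf H ⊓ centralizer (A : Set G) ≤ A) {Y : Subgroup G} (hYH : Y ≤ H)
    (hcop : (Nat.card (Cfsg.fittingOf H)).Coprime (Nat.card Y)) (hAY : A ≤ normalizer (Y : Set G)) :
    Y ≤ centralizer (Cfsg.fittingOf H : Set G) := by
  have hYA : Y ≤ centralizer (A : Set G) := fun y hy => mem_centralizer_iff.mpr fun a ha => by
    have h1 : a * y * a⁻¹ * y⁻¹ ∈ Y := mul_mem ((mem_normalizer_iff.mp (hAY ha) y).mp hy) (inv_mem hy)
    have h2 : a * y * a⁻¹ * y⁻¹ ∈ Cfsg.fittingOf H := by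
      rw [mul_assoc, mul_assoc]
      refine mul_mem (h.le_fitting ha) ?_
      rw [← mul_assoc]
      exact (mem_normalizer_iff.mp (FittingParts.le_normalizer_fittingOf H (hYH hy)) _).mp
        (inv_mem (h.le_fitting ha))
    exact mul_inv_eq_iff_eq_mul.mp (mul_inv_eq_one.mp (Cfsg.Lib.Coprime.eq_one_of_coprime hcop h2 h1))
  refine FittingParts.le_centralizer_fittingOf fun s hs => ?_
  haveI := Fact.mk hs
  rcases eq_or_ne (O s H) ⊥ with hO | hO
  · rw [hO]
    intro y _
    refine mem_centralizer_iff.mpr fun b hb => ?_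
    rw [SetLike.mem_coe, mem_bot] at hb
    rw [hb, one_mul, mul_one]
  have hs' : (Nat.card Y).Coprime s :=
    (hcop.coprime_dvd_left ((FittingParts.dvd_fittingOf_iff H).mpr hO)).symm
  refine Cfsg.Lib.Coprime.pq_lemma (p := s) (P := A ⊓ O s H)
    ((FittingParts.isPGroup H).to_le inf_le_right) hs' (FittingParts.isPGroup H)
    (inf_le_left.trans (le_centralizer_iff.mp hYA)) (inf_le_right.trans le_normalizer)
    (hYH.trans (PiCoreOf.le_normalizer' _ H)) ?_
  intro x hx
  obtain ⟨hxO, hxC⟩ := mem_inf.mp hx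
  have hxA : x ∈ A := by
    refine hCA ⟨FittingParts.le_fittingOf H hxO, mem_centralizer_iff.mpr fun a ha => ?_⟩
    obtain ⟨u, v, hu, hua, huv, -, hv⟩ := FittingParts.split (r := s) (h.le_fitting ha)
    have h1 : Commute u x := mem_centralizer_iff.mp hxC u ⟨zpowers_le.mpr ha hua, hu⟩
    have hle : (⨆ t : {t : ℕ // t.Prime ∧ t ≠ s}, O t.1 H) ≤ centralizer (O s H : Set G) :=
      iSup_le fun t => by haveI := Fact.mk t.2.1; exact FittingParts.commute t.2.2
    have h2 : Commute v x := (mem_centralizer_iff.mp (hle hv) x hxO).symm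
    rw [← huv]
    exact h1.mul_left h2
  exact le_centralizer_iff.mp hYA hxA

/-- Inside solvable `H` such subgroups are trivial. -/
theorem inv_eq_bot (h : Setting H A) [Group.IsSolvable H]
    (hCA : Cfsg.fittingOf H ⊓ centralizer (A : Set G) ≤ A) {Y : Subgroup G} (hYH : Y ≤ H)
    (hcop : (Nat.card (Cfsg.fittingOf H)).Coprime (Nat.card Y)) (hAY : A ≤ normalizer (Y : Set G)) :
    Y = ⊥ :=
  (eq_bot_iff_forall _).mpr fun y hy => Cfsg.Lib.Coprime.eq_one_of_coprime hcop
    (FittingParts.centralizer_fittingOf_le ⟨hYH hy, le_centralizer_fitting h hCA hYH hcop hAY hy⟩) hy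

end Cfsg.Lib.OddLocal.BenderUnique
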