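import Cfsg.Agent.OddLocal.CNThreeStep
import Cfsg.Agent.Frobenius.Kernel
import Cfsg.Agent.SolvStruct.NilpotentHall

/-!
# Minimal simple CN-groups of odd order
-/

set_option linter.unusedSectionVars false
set_option linter.style.haveILetI false

namespace Cfsg.Lib.CN

open Subgroup
open scoped commutatorElement Pointwise

universe u

variable {G : Type u} [Group G] [Finite G]

/-- A maximal nilpotent subgroup. -/
def MaxNil (H : Subgroup G) : Prop :=
  Group.IsNilpotent H ∧ ∀ L : Subgroup G, Group.IsNilpotent L → H ≤ L → L = H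

theorem MaxNil.map_conj {H : Subgroup G} (h : MaxNil H) (g : G) :
    MaxNil (H.map (MulAut.conj g).toMonoidHom) := by
  haveI := h.1
  refine ⟨Group.nilpotent_of_mulEquiv (H.equivMapOfInjective _ (MulAut.conj g).injective), fun L hL hle => ?_⟩
  have h1 : H ≤ L.map (MulAut.conj g⁻¹).toMonoidHom := fun a ha =>
    ⟨g * a * g⁻¹, hle ⟨a, ha, rfl⟩, by simp [mul_assoc]⟩
  haveI := hL
  have h2 := h.2 _ (Group.nilpotent_of_mulEquiv (L.equivMapOfInjective _ (MulAut.conj g⁻¹).injective)) h1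
  refine le_antisymm (fun a ha => ?_) hle
  exact ⟨g⁻¹ * a * g, h2.le ⟨a, ha, by simp⟩, by simp [mul_assoc]⟩

theorem exists_maxNil_ge {A : Subgroup G} (hA : Group.IsNilpotent A) : ∃ L, A ≤ L ∧ MaxNil L :=
  let ⟨L, hAL, hL, hmax⟩ := exists_maximal_nilpotent hA
  ⟨L, hAL, hL, hmax⟩

/-- A normal subgroup meets the kernel of a fixed-point-free decomposition. -/
theorem normal_inf_kernel_ne_bot {K E F : Subgroup G} [K.Normal] [F.Normal] (hK : Group.IsNilpotent K)
    (hKb : K ≠ ⊥) (hc : K.IsComplement' E) (hfix : ∀ e ∈ E, e ≠ 1 → K ⊓ centralizer ({e} : Set G) = ⊥)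
    (hF : F ≠ ⊥) : F ⊓ K ≠ ⊥ := by
  intro hFK
  haveI := hK
  haveI : Nontrivial K := (nontrivial_iff_ne_bot K).mpr hKb
  obtain ⟨v, hv, hv1⟩ := (bot_or_exists_ne_one _).resolve_left (Group.IsNilpotent.center_ne_bot K)
  obtain ⟨f, hf, hf1⟩ := (bot_or_exists_ne_one F).resolve_left hF
  obtain ⟨⟨⟨k, hk⟩, ⟨e, he⟩⟩, hke⟩ := hc.surjective f
  have hke' : k * e = f := hke
  have hfv : f * (v : G) = v * f :=
    (Subgroup.commute_of_normal_of_disjoint F K inferInstance inferInstance (disjoint_iff.mpr hFK) f v hf v.2).eq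
  have hkv : Commute k (v : G) := congrArg Subtype.val (mem_center_iff.mp hv ⟨k, hk⟩)
  have hev : Commute e (v : G) := by
    rw [show e = k⁻¹ * f by rw [← hke', inv_mul_cancel_left]]
    exact hkv.inv_left.mul_left hfv
  have he1 : e = 1 := by
    by_contra he1
    have hmem : (v : G) ∈ K ⊓ centralizer ({e} : Set G) := ⟨v.2, mem_centralizer_singleton_iff.mpr hev.symm.eq⟩
    rw [hfix e he he1, mem_bot] at hmem
    exact hv1 (Subtype.ext hmem)
  have hmem : f ∈ F ⊓ K := ⟨hf, by rw [← hke', he1, mul_one]; exact hk⟩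
  rw [hFK, mem_bot] at hmem
  exact hf1 hmem

variable (hG : Cfsg.IsMinSimpleOddOrder G) (hCN : Cfsg.IsCNGroup G)

include hG in
theorem ne_bot_of_maxNil {H : Subgroup G} (hH : MaxNil H) : H ≠ ⊥ := by
  intro e
  haveI := hG.2.1
  obtain ⟨x, hx⟩ := exists_ne (1 : G)
  haveI : Group.IsNilpotent (zpowers x) := by
    letI := IsCyclic.commGroup (α := zpowers x)
    infer_instance
  exact hx (zpowers_eq_bot.mp (((hH.2 _ inferInstance (e ▸ bot_le) : zpowers x = H)).trans e))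

include hG in
theorem ne_top_of_nilpotent {H : Subgroup G} (hH : Group.IsNilpotent H) : H ≠ ⊤ := by
  intro e
  subst e
  haveI := hH
  exact not_nilpotent hG (Group.nilpotent_of_mulEquiv Subgroup.topEquiv)

include hG hCN in
theorem exists_frobenius {M : Subgroup G} (hM : M ≠ ⊤) (hnn : ¬ Group.IsNilpotent M) :
    Cfsg.fittingHall M ≠ ⊥ ∧ Cfsg.fittingHall M ≠ ⊤ ∧ Group.IsNilpotent (Cfsg.fittingHall M) ∧
      (∃ E : Subgroup M, Subgroup.IsComplement' (Cfsg.fittingHall M) E ∧ Cfsg.IsFrobeniusComplement E ∧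
        ∀ e ∈ E, e ≠ 1 → Cfsg.fittingHall M ⊓ Subgroup.centralizer ({e} : Set M) = ⊥) ∧
      Group.IsNilpotent (M ⧸ Cfsg.fittingHall M) := by
  haveI : Group.IsSolvable M := hG.2.2.2 M hM
  by_cases hno : ∀ (r : ℕ) [Fact r.Prime] (R : Sylow r M), (R : Subgroup M) ≠ ⊥ → ¬ (R : Subgroup M).Normal
  · obtain ⟨r, -, h3⟩ := threeStep_of_no_normal_sylow (isCN_subgroup hCN M) hnn hno
    exact absurd h3 (not_threeStep hG hCN M r)
  · push Not at hno
    obtain ⟨r, hr, R, hR1, hRn⟩ := hno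
    haveI := hr
    obtain ⟨h1, h2, h3, h4⟩ := structure_of_normal_sylow (isCN_subgroup hCN M) hnn R hR1 hRn
    exact ⟨h1, h2, nilpotent_of_le Cfsg.Lib.FittingHall.fittingHall_le_fitting
      (Cfsg.Lib.Components.isNilpotent_fitting (G := M)), h3, h4⟩

include hG hCN in
theorem pClosed_local {p : ℕ} [Fact p.Prime] {D : Subgroup G} (hD : D ≠ ⊥) (hDp : IsPGroup p D) :
    PClosed p (normalizer (D : Set G)) := by
  set M := normalizer (D : Set G) with hMdef
  have hM : M ≠ ⊤ := normalizer_ne_top hG hD hDp.isNilpotent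
  by_cases hnn : Group.IsNilpotent M
  · haveI := hnn
    exact pClosed_of_normal_sylow _ (sylow_normal_of_nilpotent (default : Sylow p M))
  obtain ⟨hKb, -, hKnil, ⟨E, hE, -, hfix⟩, -⟩ := exists_frobenius hG hCN hM hnn
  set K := Cfsg.fittingHall M
  haveI : (D.subgroupOf M).Normal := (normal_subgroupOf_iff_le_normalizer le_normalizer).mpr le_rfl
  have hDM : D.subgroupOf M ≠ ⊥ := fun e => hD (by
    have := subgroupOf_map_subtype D M
    rw [e, Subgroup.map_bot, inf_of_le_left le_normalizer] at this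
    exact this.symm)
  have hne := normal_inf_kernel_ne_bot hKnil hKb hE hfix hDM
  obtain ⟨x, ⟨hxD, hxK⟩, hx1⟩ := (bot_or_exists_ne_one _).resolve_left hne
  have hpK : p ∣ Nat.card K := by
    have hpg : IsPGroup p (zpowers x) :=
      (hDp.comap_subtype (K := M)).to_le (zpowers_le.mpr hxD)
    exact (hpg.card_eq_or_dvd.resolve_left (fun e => hx1 (zpowers_eq_bot.mp (card_eq_one.mp e)))).trans
      (card_dvd_of_le (zpowers_le.mpr hxK))
  have hKcop := Cfsg.Lib.FittingHall.fittingHall_coprime (M := M)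
  haveI := hKnil
  obtain ⟨S⟩ := (inferInstance : Nonempty (Sylow p K))
  haveI := sylow_normal_of_nilpotent S
  refine ⟨((S : Subgroup K).map K.subtype).map M.subtype, (S.2.map _).map _, fun R hR hRp x hx => ?_⟩
  set R' := R.subgroupOf M
  have hR'p : IsPGroup p R' := hRp.comap_subtype
  have hRK : R' ≤ K := fun y hy => by
    rw [← QuotientGroup.eq_one_iff, ← orderOf_eq_one_iff]
    obtain ⟨i, hi⟩ := IsPGroup.iff_orderOf.mp hR'p ⟨y, hy⟩
    rw [Subgroup.orderOf_mk] at hi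
    have h1 : orderOf (QuotientGroup.mk' K y) ∣ p ^ i := hi ▸ orderOf_map_dvd (QuotientGroup.mk' K) y
    have h2 : orderOf (QuotientGroup.mk' K y) ∣ K.index := by rw [index_eq_card]; exact orderOf_dvd_natCard _
    exact Nat.eq_one_of_dvd_coprimes ((hKcop.coprime_dvd_left hpK).pow_left i) h1 h2
  obtain ⟨S', hS'⟩ := (hR'p.comap_subtype (K := K)).exists_le_sylow
  haveI := Sylow.unique_of_normal S ‹_›
  rw [Subsingleton.elim S' S] at hS'
  have hxR' : (⟨x, hR hx⟩ : M) ∈ R' := hx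
  exact ⟨⟨x, hR hx⟩, ⟨⟨⟨x, hR hx⟩, hRK hxR'⟩, hS' hxR', rfl⟩, rfl⟩

include hG hCN in
theorem sylow_eq_of_inter {p : ℕ} [Fact p.Prime] (R₁ R₂ : Sylow p G)
    (h : (R₁ : Subgroup G) ⊓ R₂ ≠ ⊥) : (R₁ : Subgroup G) = R₂ := by
  suffices key : ∀ n : ℕ, ∀ R₁ R₂ : Sylow p G, (R₁ : Subgroup G) ⊓ R₂ ≠ ⊥ →
      Nat.card G - Nat.card ↥((R₁ : Subgroup G) ⊓ R₂) = n → (R₁ : Subgroup G) = R₂ from key _ R₁ R₂ h rfl
  intro n
  induction n using Nat.strong_induction_on with
  | _ n ih =>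
  intro R₁ R₂ hne hn
  by_contra hR
  set D := (R₁ : Subgroup G) ⊓ R₂
  have hcard : Nat.card (R₁ : Subgroup G) = Nat.card (R₂ : Subgroup G) :=
    R₁.card_eq_multiplicity.trans R₂.card_eq_multiplicity.symm
  have hlt₁ : D < R₁ := lt_of_le_of_ne inf_le_left fun e =>
    hR (eq_of_le_of_card_ge (e.ge.trans inf_le_right) hcard.ge)
  have hlt₂ : D < R₂ := lt_of_le_of_ne inf_le_right fun e =>
    hR (eq_of_le_of_card_ge (e.ge.trans inf_le_left) hcard.le).symm
  have hg₁ := Cfsg.Lib.Fusion.lt_inf_normalizer R₁.2 hlt₁ le_rfl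
  have hg₂ := Cfsg.Lib.Fusion.lt_inf_normalizer R₂.2 hlt₂ le_rfl
  obtain ⟨T, hT, hTmax⟩ := pClosed_local hG hCN hne (R₁.2.to_le inf_le_left)
  obtain ⟨R₃, hR₃⟩ := hT.exists_le_sylow
  have step : ∀ R : Sylow p G, D < (R : Subgroup G) ⊓ normalizer (D : Set G) → (R : Subgroup G) = R₃ := by
    intro R hgrow
    have hle : (R : Subgroup G) ⊓ normalizer (D : Set G) ≤ (R : Subgroup G) ⊓ R₃ :=
      le_inf inf_le_left ((hTmax _ inf_le_right (R.2.to_le inf_le_left)).trans hR₃)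
    have hlt := lt_of_lt_of_le hgrow hle
    refine ih _ ?_ R R₃ (ne_bot_of_gt hlt) rfl
    have h1 : Nat.card D < Nat.card ↥((R : Subgroup G) ⊓ R₃) := by
      rcases (Nat.le_of_dvd Nat.card_pos (card_dvd_of_le hlt.le)).eq_or_lt with h | h
      · exact absurd (eq_of_le_of_card_ge hlt.le h.ge) hlt.ne
      · exact h
    have h2 : Nat.card ↥((R : Subgroup G) ⊓ R₃) ≤ Nat.card G := card_le_card_group _
    omega
  exact hR ((step R₁ hg₁).trans (step R₂ hg₂).symm)

include hG hCN in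
theorem maxNil_TI {H : Subgroup G} (hH : MaxNil H) (g : G) (hg : H.map (MulAut.conj g).toMonoidHom ≠ H) :
    H ⊓ H.map (MulAut.conj g).toMonoidHom = ⊥ := by
  by_cases hpp : IsPrimePow (Nat.card H)
  · obtain ⟨p, k, hp, hk, hpk⟩ := (isPrimePow_nat_iff _).mp hpp
    haveI := Fact.mk hp
    obtain ⟨S, hS⟩ := (IsPGroup.of_card hpk.symm : IsPGroup p H).exists_le_sylow
    have heq := eq_sylow_of_isPGroup hH.2 (IsPGroup.of_card hpk.symm) hS
    by_contra hne
    rw [← heq, ← Cfsg.Lib.Transfer.sylow_smul_coe] at hne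
    apply hg
    rw [← heq, ← Cfsg.Lib.Transfer.sylow_smul_coe]
    exact (sylow_eq_of_inter hG hCN S (g • S) hne).symm
  · exact isTI_of_not_primePow hCN hH.1 hH.2 hpp g hg

include hG hCN in
theorem maxNil_centralizer_le {H : Subgroup G} (hH : MaxNil H) {x : G} (hx : x ∈ H) (hx1 : x ≠ 1) :
    centralizer ({x} : Set G) ≤ H :=
  centralizer_le_of_TI hCN hH.1 hH.2 (maxNil_TI hG hCN hH) hx hx1

include hG hCN in
theorem maxNil_eq_of_common {A B : Subgroup G} (hA : MaxNil A) (hB : MaxNil B) {x : G} (hxA : x ∈ A)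
    (hxB : x ∈ B) (hx1 : x ≠ 1) : A = B := by
  haveI : Nontrivial A := ⟨⟨⟨x, hxA⟩, 1, fun e => hx1 (congrArg Subtype.val e)⟩⟩
  obtain ⟨q, hq, hqA⟩ := Nat.exists_prime_and_dvd (Finite.one_lt_card (α := A)).ne'
  haveI := Fact.mk hq
  obtain ⟨z, hzA, hzo, hzc⟩ := exists_central_prime hA.1 hqA
  have hz1 : z ≠ 1 := fun e => hq.one_lt.ne (by rw [← hzo, e, orderOf_one])
  have hzB : z ∈ B := maxNil_centralizer_le hG hCN hB hxB hx1
    (mem_centralizer_singleton_iff.mpr (hzc x hxA).symm)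
  have hle : A ≤ B := fun a ha => maxNil_centralizer_le hG hCN hB hzB hz1
    (mem_centralizer_singleton_iff.mpr (hzc a ha))
  exact (hA.2 B hB.1 hle).symm

include hG hCN in
theorem maxNil_normalizer_ne {H : Subgroup G} (hH : MaxNil H) : normalizer (H : Set G) ≠ H := by
  intro hN
  haveI := hG.2.1
  have hHt := ne_top_of_nilpotent hG hH.1
  have hHb := ne_bot_of_maxNil hG hH
  have hF : Cfsg.IsFrobeniusComplement H := by
    refine ⟨hHb, hHt, fun g hg => ?_⟩
    refine maxNil_TI hG hCN hH g fun he => hg ?_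
    rw [← hN]
    exact Cfsg.Lib.Transfer.map_conj_eq_self_iff.mp he
  obtain ⟨N, -, hNn, hNc⟩ := Cfsg.Lib.Frobenius.exists_kernel hF
  rcases hNn.eq_bot_or_eq_top with h | h
  · refine hHt ?_
    have := hNc.sup_eq_top
    rwa [h, bot_sup_eq] at this
  · refine hHb ?_
    have := hNc.disjoint.eq_bot
    rwa [h, top_inf_eq] at this

include hG in
theorem coatom_facts {M : Subgroup G} (hM : IsCoatom M) :
    M ≠ ⊥ ∧ ∀ A : Subgroup G, A ≤ M → A ≠ ⊥ → A ≠ ⊤ → M ≤ normalizer (A : Set G) →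
      normalizer (A : Set G) = M := by
  haveI := hG.2.1
  refine ⟨fun e => ?_, fun A _ hA hA' hle => ?_⟩
  · subst e
    refine hG.2.2.1 ⟨⟨fun a b => ?_⟩⟩
    by_cases ha : a = 1
    · simp [ha]
    · have h1 : zpowers a = ⊤ := hM.2 _ (bot_lt_iff_ne_bot.mpr (by rwa [Ne, zpowers_eq_bot]))
      obtain ⟨i, rfl⟩ := (h1 ▸ mem_top b : b ∈ zpowers a)
      exact ((Commute.refl a).zpow_right i).eq
  · rcases hle.lt_or_eq with h | h
    · exfalso
      rcases (normalizer_eq_top_iff.mp (hM.2 _ h)).eq_bot_or_eq_top with h1 | h1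
      · exact hA h1
      · exact hA' h1
    · exact h.symm

include hG hCN in
theorem coatom_not_nilpotent {M : Subgroup G} (hM : IsCoatom M) : ¬ Group.IsNilpotent M := by
  intro hn
  obtain ⟨L, hML, hL⟩ := exists_maxNil_ge hn
  have hLM : L = M := by
    rcases hML.lt_or_eq with h | h
    · exact absurd (hM.2 _ h) (ne_top_of_nilpotent hG hL.1)
    · exact h.symm
  subst hLM
  exact maxNil_normalizer_ne hG hCN hL
    ((coatom_facts hG hM).2 L le_rfl (coatom_facts hG hM).1 hM.1 le_normalizer)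

include hG hCN in
theorem coatom_kernel {M : Subgroup G} (hM : IsCoatom M) :
    MaxNil (Cfsg.fittingHallOf M) ∧ normalizer (Cfsg.fittingHallOf M : Set G) = M ∧
      ∃ E : Subgroup G, Cfsg.IsComplIn (Cfsg.fittingHallOf M) E M ∧ E ≠ ⊥ ∧
        ∀ e ∈ E, e ≠ 1 → Cfsg.fittingHallOf M ⊓ Subgroup.centralizer ({e} : Set G) = ⊥ := by
  obtain ⟨hKb, hKt, hKnil, ⟨E₀, hE, -, hfix⟩, -⟩ :=
    exists_frobenius hG hCN hM.1 (coatom_not_nilpotent hG hCN hM)
  set K := Cfsg.fittingHallOf M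
  have hKM : K ≤ M := Cfsg.Lib.FittingHall.fittingHallOf_le M
  haveI hKn : Group.IsNilpotent K := by
    haveI := hKnil
    exact Group.nilpotent_of_mulEquiv ((Cfsg.fittingHall M).equivMapOfInjective _ M.subtype_injective)
  have hKb' : K ≠ ⊥ := fun e => hKb ((map_eq_bot_iff_of_injective _ M.subtype_injective).mp e)
  have hKt' : K ≠ ⊤ := ne_top_of_nilpotent hG hKn
  have hN : normalizer (K : Set G) = M :=
    (coatom_facts hG hM).2 K hKM hKb' hKt' (Cfsg.Lib.FittingHall.le_normalizer_fittingHallOf M)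
  set E := E₀.map M.subtype
  have hEM : E ≤ M := map_subtype_le _
  have hdec : ∀ m ∈ M, ∃ a ∈ K, ∃ b ∈ E, m = a * b := by
    intro m hm
    obtain ⟨⟨a, b⟩, hab⟩ := hE.surjective ⟨m, hm⟩
    exact ⟨_, ⟨a, a.2, rfl⟩, _, ⟨b, b.2, rfl⟩, (congrArg Subtype.val hab).symm⟩
  have hfix' : ∀ e ∈ E, e ≠ 1 → K ⊓ centralizer ({e} : Set G) = ⊥ := by
    rintro _ ⟨e, he, rfl⟩ he1
    rw [eq_bot_iff]
    rintro _ ⟨⟨x, hx, rfl⟩, hc⟩
    have hmem : x ∈ Cfsg.fittingHall M ⊓ centralizer ({e} : Set M) :=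
      ⟨hx, mem_centralizer_singleton_iff.mpr (Subtype.ext (mem_centralizer_singleton_iff.mp hc))⟩
    rw [hfix e he (fun h => he1 (by rw [h]; rfl)), mem_bot] at hmem
    rw [mem_bot, hmem]
    rfl
  have hdis : K ⊓ E = ⊥ := by
    rw [show K = (Cfsg.fittingHall M).map M.subtype from rfl, ← Subgroup.map_inf _ _ _ M.subtype_injective,
      hE.disjoint.eq_bot, Subgroup.map_bot]
  have hEb : E ≠ ⊥ := fun e => hKt (by
    rw [map_eq_bot_iff_of_injective _ M.subtype_injective] at e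
    have := hE.sup_eq_top
    rwa [e, sup_bot_eq] at this)
  refine ⟨⟨hKn, fun L hL hKL => ?_⟩, hN, E, ⟨hKM, hEM, hdis, hdec⟩, hEb, hfix'⟩
  by_contra hne
  haveI := hL
  have hlt : K.subgroupOf L < ⊤ := lt_top_iff_ne_top.mpr fun e => hne (le_antisymm (subgroupOf_eq_top.mp e) hKL)
  have hgrow := Group.normalizerCondition_of_isNilpotent (G := L) (K.subgroupOf L) hlt
  obtain ⟨w, hw, hwK⟩ := SetLike.exists_of_lt hgrow
  have hwM : (w : G) ∈ M := by
    rw [← hN, mem_normalizer_iff]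
    intro y
    constructor
    · intro hy
      exact mem_subgroupOf.mp ((mem_normalizer_iff.mp hw ⟨y, hKL hy⟩).mp (mem_subgroupOf.mpr hy))
    · intro hy
      have hyL : y ∈ L := by
        have := L.mul_mem (L.mul_mem (L.inv_mem w.2) (hKL hy)) w.2
        simpa [mul_assoc] using this
      exact mem_subgroupOf.mp ((mem_normalizer_iff.mp hw ⟨y, hyL⟩).mpr (mem_subgroupOf.mpr hy))
  obtain ⟨a, ha, b, hb, hab⟩ := hdec _ hwM
  have hb1 : b ≠ 1 := fun e => hwK (mem_subgroupOf.mpr (by rw [hab, e, mul_one]; exact ha))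
  have hbL : b ∈ L := by
    have := L.mul_mem (L.inv_mem (hKL ha)) w.2
    rwa [hab, inv_mul_cancel_left] at this
  obtain ⟨x, hx, hx1⟩ := (bot_or_exists_ne_one K).resolve_left hKb'
  obtain ⟨x', hx', rfl⟩ := hx
  obtain ⟨b', hb', rfl⟩ := hb
  have hcop : (orderOf (x' : G)).Coprime (orderOf (b' : G)) := by
    rw [Subgroup.orderOf_coe, Subgroup.orderOf_coe]
    refine ((Cfsg.Lib.FittingHall.fittingHall_coprime (M := M)).coprime_dvd_left
      (orderOf_dvd_natCard _ hx')).coprime_dvd_right ?_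
    rw [hE.symm.index_eq_card]
    exact orderOf_dvd_natCard _ hb'
  have hc := commute_of_mem hL (hKL ⟨x', hx', rfl⟩) hbL hcop
  have hmem : (x' : G) ∈ K ⊓ centralizer ({(b' : G)} : Set G) :=
    ⟨⟨x', hx', rfl⟩, mem_centralizer_singleton_iff.mpr hc.eq⟩
  have h5 : K ⊓ centralizer ({(b' : G)} : Set G) = ⊥ := hfix' _ ⟨b', hb', rfl⟩ hb1
  rw [h5, mem_bot] at hmem
  exact hx1 hmem

include hG hCN in
theorem eq_kernel_of_normalizer_le {H M : Subgroup G} (hH : MaxNil H) (hM : IsCoatom M)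
    (hle : normalizer (H : Set G) ≤ M) : H = Cfsg.fittingHallOf M := by
  obtain ⟨hK, hNK, -⟩ := coatom_kernel hG hCN hM
  set K := Cfsg.fittingHallOf M
  by_contra hne
  have hdis : H ⊓ K = ⊥ := by
    by_contra hb
    obtain ⟨x, ⟨hxH, hxK⟩, hx1⟩ := (bot_or_exists_ne_one _).resolve_left hb
    exact hne (maxNil_eq_of_common hG hCN hH hK hxH hxK hx1)
  obtain ⟨h, hh, hh1⟩ := (bot_or_exists_ne_one H).resolve_left (ne_bot_of_maxNil hG hH)
  set NH := normalizer (H : Set G)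
  have hNK' : ∀ k ∈ NH, k ∈ K → k = 1 := by
    intro k hk hkK
    have h1 : k * h * k⁻¹ * h⁻¹ ∈ H ⊓ K := by
      refine ⟨H.mul_mem ((mem_normalizer_iff.mp hk h).mp hh) (H.inv_mem hh), ?_⟩
      have h2 : h * k⁻¹ * h⁻¹ ∈ K :=
        (mem_normalizer_iff.mp (hNK.ge (hle (le_normalizer hh))) _).mp (K.inv_mem hkK)
      simpa [mul_assoc] using mul_mem hkK h2
    rw [hdis, mem_bot, mul_inv_eq_one, mul_inv_eq_iff_eq_mul] at h1
    have hkH : k ∈ H := maxNil_centralizer_le hG hCN hH hh hh1 (mem_centralizer_singleton_iff.mpr h1)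
    have : k ∈ H ⊓ K := ⟨hkH, hkK⟩
    rwa [hdis, mem_bot] at this
  obtain ⟨-, -, -, -, hquot⟩ := exists_frobenius hG hCN hM.1 (coatom_not_nilpotent hG hCN hM)
  haveI := hquot
  set f : NH →* M ⧸ Cfsg.fittingHall M :=
    (QuotientGroup.mk' (Cfsg.fittingHall M)).comp (Subgroup.inclusion hle)
  have hf : Function.Injective f := by
    rw [injective_iff_map_eq_one]
    intro x hx
    exact Subtype.ext (hNK' x x.2 ⟨⟨x, hle x.2⟩, (QuotientGroup.eq_one_iff _).mp hx, rfl⟩)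
  have hnil : Group.IsNilpotent NH := by
    haveI : Group.IsNilpotent f.range := inferInstance
    exact Group.nilpotent_of_mulEquiv (MonoidHom.ofInjective hf).symm
  exact maxNil_normalizer_ne hG hCN hH (hH.2 _ hnil le_normalizer)

include hG hCN in
theorem normalizer_maxNil {H : Subgroup G} (hH : MaxNil H) :
    IsCoatom (normalizer (H : Set G)) ∧ H = Cfsg.fittingHallOf (normalizer (H : Set G)) := by
  have hne : normalizer (H : Set G) ≠ ⊤ := normalizer_ne_top hG (ne_bot_of_maxNil hG hH) hH.1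
  obtain ⟨M, hM, hle⟩ := (IsCoatomic.eq_top_or_exists_le_coatom (normalizer (H : Set G))).resolve_left hne
  have hHM := eq_kernel_of_normalizer_le hG hCN hH hM hle
  have heq : normalizer (H : Set G) = M := by
    rw [hHM]; exact (coatom_kernel hG hCN hM).2.1
  exact ⟨heq ▸ hM, heq ▸ hHM⟩

include hG hCN in
theorem maxNil_conj_or_coprime {H₁ H₂ : Subgroup G} (h₁ : MaxNil H₁) (h₂ : MaxNil H₂) :
    (∃ g : G, H₂ = H₁.map (MulAut.conj g).toMonoidHom) ∨ (Nat.card H₁).Coprime (Nat.card H₂) := by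
  by_cases hcop : (Nat.card H₁).Coprime (Nat.card H₂)
  · exact Or.inr hcop
  obtain ⟨p, hp, hp1, hp2⟩ := Nat.Prime.not_coprime_iff_dvd.mp hcop
  haveI := Fact.mk hp
  obtain ⟨⟨x, hx⟩, hxo⟩ := exists_prime_orderOf_dvd_card' (G := H₁) p hp1
  rw [Subgroup.orderOf_mk] at hxo
  obtain ⟨S₁, hS₁⟩ := (IsPGroup.of_card (p := p) (n := 1) (by rw [Nat.card_zpowers, hxo, pow_one]) :
    IsPGroup p (zpowers x)).exists_le_sylow
  obtain ⟨S₂, hS₂⟩ := Cfsg.Lib.SolvStruct.exists_sylow_le_hall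
    (isHall_maximal_nilpotent hCN h₂.1 h₂.2) hp2
  obtain ⟨g, hg⟩ := MulAction.exists_smul_eq G S₁ S₂
  have hgx : g * x * g⁻¹ ∈ H₂ := hS₂ (by
    rw [← hg, Cfsg.Lib.Transfer.sylow_smul_coe]
    exact ⟨x, hS₁ (mem_zpowers x), rfl⟩)
  refine Or.inl ⟨g, maxNil_eq_of_common hG hCN h₂ (h₁.map_conj g) hgx ⟨x, hx, rfl⟩ fun e => ?_⟩
  have h3 : x = 1 := by simpa using e
  exact hp.one_lt.ne (by rw [← hxo, h3, orderOf_one])

end Cfsg.Lib.CN
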