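import Cfsg.Agent.OddLocal.SupportCount

/-!
# Elements outside `σ(M)` centralizing an element of `M_σ`
-/

set_option linter.unusedSectionVars false
set_option linter.unusedVariables false
set_option linter.style.haveILetI false

namespace Cfsg.Lib.OddLocal.RankTwoMax

open Subgroup Uniqueness Sigma
open Cfsg.Lib.Coprime (conjMap)
open scoped commutatorElement

universe u

variable {G : Type u} [Group G] [Finite G] {M N : Subgroup G} {p : ℕ} [hp : Fact p.Prime] {x b : G}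

/-- An element of a prime of `κ(M)` centralizing `x ∈ M_σ#` forces `C(x) ≤ M`. -/
theorem centralizer_le_of_kappa (hG : Cfsg.IsMinSimpleOddOrder G) (hM : IsCoatom M)
    (hx : x ∈ Cfsg.sigmaCore M) (hx1 : x ≠ 1) (hκ : p ∈ Cfsg.kappa M) (hbM : b ∈ M) (hbo : orderOf b = p)
    (hbx : b * x = x * b) : centralizer ({x} : Set G) ≤ M := by
  by_contra hle
  obtain ⟨N, h⟩ := exists_supportPair hG hM hx hx1 hle
  obtain ⟨q, hq, hqx⟩ := exists_pow_prime hx1
  haveI := Fact.mk hq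
  set x₁ := x ^ (orderOf x / q) with hx₁
  have hx₁o : orderOf x₁ = q := orderOf_pow_orderOf_div (orderOf_pos x).ne' hqx
  have hbN : b ∈ N := h.le (mem_centralizer_singleton_iff.mpr hbx)
  have hB : Nat.card (zpowers b) = p := by rw [Nat.card_zpowers, hbo]
  have hxN : x ∈ N := h.le (mem_centralizer_singleton_iff.mpr rfl)
  have hbx₁ : x₁ * b = b * x₁ := ((show Commute x b from hbx.symm).pow_left _).eq
  have hqσ : q ∈ Cfsg.sigma M := prime_of_mem_core hx hq hqx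
  have hpq : p ≠ q := fun e => hκ.2.2.1 (e ▸ hqσ)
  have hpN : p ∉ Cfsg.sigma N := fun hh => by
    have h1 : b ∈ Cfsg.sigmaCore N := le_sigmaCore_of_pgroup hG h.maxN hh (isPGroup_of_card hB)
      (zpowers_le.mpr hbN) (mem_zpowers b)
    have h2 : b ∈ (M ⊓ N) ⊓ Cfsg.sigmaCore N := ⟨⟨hbM, hbN⟩, h1⟩
    rw [h.compl.2.2.1, mem_bot] at h2
    exact hp.out.ne_one (by rw [← hbo, h2, orderOf_one])
  obtain ⟨S⟩ : Nonempty (Sylow p ↥(M ⊓ N)) := inferInstance
  have hS := isSylowOf_complement hG h.maxN h.compl hpN S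
  have hpNr : Cfsg.PRankLE p 1 N := pRankLE_one_of_sylow_cyclic hS
    (isCyclic_sylow_of_rank_one hG hS.2.1 ((map_subtype_le _).trans inf_le_left) (kappa_rank hG hM hκ))
  -- `b` has no fixed point in `N_σ`
  have hqτ := h.tau q hq hqx
  have hfixN : Cfsg.sigmaCore N ⊓ centralizer ({b} : Set G) = ⊥ := le_bot_iff.mp fun z hz => by
    rw [mem_bot]
    by_contra hz1
    have hκN := kappa_intro hG h.maxN hpN hpNr hbN hbo hz.1 hz1 (mem_centralizer_singleton_iff.mp hz.2)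
    exact hqτ.2.2.2 (kappa_rank hG h.maxN (kappa_of_centralizes (p := p) (s := q) hG h.maxN hκN hB
      (zpowers_le.mpr hbN) hx₁o (pow_mem hxN _) hqτ.2.1 (by
        rw [Cfsg.Lib.Coprime.centralizer_zpowers]; exact mem_centralizer_singleton_iff.mpr hbx₁)))
  obtain ⟨A, hAE, hA, hAc⟩ := exists_sq_complement hG h.maxN h.compl hqτ
  obtain ⟨A₀, hexc⟩ := exists_exc hG h.maxN hqτ.2.1 (hAE.trans h.compl.1) hA hAc
  have hAp : IsPGroup q A := (hexc.maxSq hG).isPGroup
  have hx₁A : x₁ ∈ A := hexc.order_p_le hG h.compl hAE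
    (zpowers_le.mpr (⟨pow_mem (sigmaCore_le M hx) _, pow_mem hxN _⟩ : x₁ ∈ M ⊓ N))
    (by rw [Nat.card_zpowers, hx₁o]) (mem_zpowers _)
  have hbA : zpowers b ≤ normalizer (A : Set G) :=
    (zpowers_le.mpr (show b ∈ M ⊓ N from ⟨hbM, hbN⟩)).trans (hexc.le_normalizer hG h.compl hAE)
  haveI : IsMulCommutative A := hA.1
  obtain ⟨hd, hs⟩ := Cfsg.Lib.Coprime.abelian_coprime_decomp hbA
    (by rw [hB, hAc]; exact ((Nat.coprime_primes hp.out hq).mpr hpq).pow_right 2)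
  set V := ⁅A, zpowers b⁆ with hV
  set W := A ⊓ centralizer (zpowers b : Set G) with hW
  have hVA : V ≤ A := Cfsg.Lib.Coprime.commutator_le_of_le_normalizer hbA
  have hVn : zpowers b ≤ normalizer (V : Set G) := Cfsg.Lib.Coprime.le_normalizer_commutator_right _ A
  have hVb : V ⊓ centralizer ({b} : Set G) = ⊥ := by
    rw [← Cfsg.Lib.Coprime.centralizer_zpowers]
    refine le_bot_iff.mp fun v hv => hd.le ?_
    exact ⟨⟨hVA hv.1, hv.2⟩, hv.1⟩
  have hx₁W : x₁ ∈ W := ⟨hx₁A, by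
    rw [Cfsg.Lib.Coprime.centralizer_zpowers]; exact mem_centralizer_singleton_iff.mpr hbx₁⟩
  by_cases hWA : W = A
  · -- `b` centralizes `A ≤ M_σ`, against rank one over `N(⟨b⟩)`
    obtain ⟨L, hL, hNL, hnc, hpL⟩ := exists_over_line hG hM hκ hB (zpowers_le.mpr hbM)
    have hov : OverLine p M L (zpowers b) := ⟨hM, hL, hκ, hB, zpowers_le.mpr hbM, hNL, hnc, hpL⟩
    have hAL : A ≤ L := (hWA.ge.trans inf_le_right).trans hov.cent
    exact not_pRankLE_of hA le_rfl (k := 1) hAc.ge (Cfsg.Lib.OddP.pRankLE_of_injective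
      (inclusion hAL) (inclusion_injective _)
      (hov.rank_one (q := q) hG (pow_mem hx _) hx₁o (hAL hx₁A)).2.2)
  have hfix := le_centralizer_of_fpf (p := p) hbo
    (hG.2.2.2 _ (FittingUniqueness.ne_top_of_le_coatom h.maxN (sigmaCore_le N))) hVn
    ((hVA.trans hexc.le).trans (le_normalizer_sigmaCore N))
    (zpowers_le.mpr (le_normalizer_sigmaCore N hbN)) (coprime_of_ne hpq.symm (hAp.to_le hVA))
    (hp.out.coprime_iff_not_dvd.mpr fun hd => hpN (sigmaCore_isPi p hp.out hd)).symm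
    ((hexc.coprime_sigmaCore).symm.coprime_dvd_right (card_dvd_of_le hVA)) hVb hfixN
  -- `A = W V` fixes `C_{N_σ}(x)`
  have hWc : W = zpowers x₁ := by
    refine (Cfsg.Lib.Coprime.eq_of_le_of_card_eq (zpowers_le.mpr hx₁W) ?_).symm
    obtain ⟨i, hi, hic⟩ := (Nat.dvd_prime_pow hq).mp (hAc ▸ card_dvd_of_le (inf_le_left : W ≤ A))
    rcases (show i = 0 ∨ i = 1 ∨ i = 2 by omega) with rfl | rfl | rfl
    · have h1 : W = ⊥ := eq_bot_of_card_eq _ (by rw [hic, pow_zero])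
      have h2 : x₁ = 1 := mem_bot.mp (h1.le hx₁W)
      exact absurd (by rw [← hx₁o, h2, orderOf_one]) hq.ne_one
    · rw [Nat.card_zpowers, hx₁o, hic, pow_one]
    · exact absurd (Cfsg.Lib.Coprime.eq_of_le_of_card_eq inf_le_left (hic.trans hAc.symm)) hWA
  refine h.mover (le_bot_iff.mp fun z hz => (hexc.inf_centralizer_eq_bot hG).le ⟨hz.1, ?_⟩)
  refine mem_centralizer_iff.mpr fun a ha => ?_
  have h1 : A ≤ centralizer ({z} : Set G) := by
    refine hs.ge.trans (sup_le ?_ ?_)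
    · rw [hWc, zpowers_le]
      exact mem_centralizer_singleton_iff.mpr
        ((show Commute x z from (mem_centralizer_singleton_iff.mp hz.2).symm).pow_left _).eq
    · exact fun v hv => mem_centralizer_singleton_iff.mpr
        (mem_centralizer_iff.mp (hfix hv) z hz.1).symm
  exact mem_centralizer_singleton_iff.mp (h1 ha)

/-- The two kinds of elements outside `σ(M)` centralizing an element of `M_σ`. -/
theorem centralizer_split (hG : Cfsg.IsMinSimpleOddOrder G) (hM : IsCoatom M) (hx : x ∈ Cfsg.sigmaCore M)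
    (hx1 : x ≠ 1) {y : G} (hy : y ∈ M ⊓ centralizer ({x} : Set G)) (hy1 : y ≠ 1)
    (hσ : ∀ r : ℕ, r.Prime → r ∣ orderOf y → r ∉ Cfsg.sigma M) :
    ((∀ r : ℕ, r.Prime → r ∣ orderOf y → r ∈ Cfsg.kappa M) ∧ centralizer ({x} : Set G) ≤ M) ∨
      ((∀ r : ℕ, r.Prime → r ∣ orderOf y → r ∈ Cfsg.tau2 M) ∧
        (∃ L : Subgroup G, IsCoatom L ∧ ∀ r : ℕ, r.Prime → r ∣ orderOf y → r ∈ Cfsg.sigma L) ∧
        (centralizer ({y} : Set G) ≤ M ∧
          ∀ L : Subgroup G, IsCoatom L → centralizer ({y} : Set G) ≤ L → L = M)) := by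
  have hyx : y * x = x * y := mem_centralizer_singleton_iff.mp hy.2
  have hhat : y ∈ Cfsg.sigmaHat M := ⟨hy.1, x, hx, hx1, hyx⟩
  have hpw : ∀ t : ℕ, t ∣ orderOf y → orderOf (y ^ (orderOf y / t)) = t := fun t ht =>
    orderOf_pow_orderOf_div (orderOf_pos y).ne' ht
  by_cases hκ : ∃ t : ℕ, t.Prime ∧ t ∣ orderOf y ∧ t ∈ Cfsg.kappa M
  · obtain ⟨t, ht, htd, htκ⟩ := hκ
    haveI := Fact.mk ht
    refine .inl ⟨fun r hr hd => ?_, centralizer_le_of_kappa (p := t) hG hM hx hx1 htκ (pow_mem hy.1 _)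
      (hpw t htd) ((show Commute y x from hyx).pow_left _).eq⟩
    haveI := Fact.mk hr
    exact kappa_of_centralizes (p := t) (s := r) hG hM htκ (by rw [Nat.card_zpowers, hpw t htd])
      (zpowers_le.mpr (pow_mem hy.1 _)) (hpw r hd) (pow_mem hy.1 _) (hσ r hr hd) (by
        rw [Cfsg.Lib.Coprime.centralizer_zpowers]
        exact mem_centralizer_singleton_iff.mpr ((Commute.pow_pow_self y _ _)).eq)
  push Not at hκ
  have hτ : ∀ r : ℕ, r.Prime → r ∣ orderOf y → r ∈ Cfsg.tau2 M := fun r hr hd => by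
    haveI := Fact.mk hr
    exact (prime_of_hat hG hM hhat hd (hσ r hr hd)).resolve_right (hκ r hr hd)
  refine .inr ⟨hτ, ?_, unique_centralizer_of_tau_two hG hM hy.1 hy1 hτ hx hx1 hyx⟩
  obtain ⟨q, hq, hqy⟩ := exists_pow_prime hy1
  haveI := Fact.mk hq
  obtain ⟨E, hE, hyE⟩ := exists_complement_ge hG hM (zpowers_le.mpr hy.1) fun r hr hd =>
    hσ r hr (Nat.card_zpowers y ▸ hd)
  obtain ⟨B, -, -, hBc, hBA, -⟩ := exists_tau_two_core hG hM hE
  obtain ⟨A, hAE, hA, hAc⟩ := exists_sq_complement hG hM hE (hτ q hq hqy)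
  obtain ⟨A₀, hexc⟩ := exists_exc hG hM (hτ q hq hqy).2.1 (hAE.trans hE.1) hA hAc
  obtain ⟨L, hL, hNA⟩ := exists_coatom_ge (MinSimpleTransitivity.normalizer_ne_top hG (hexc.maxSq hG).ne_bot
    (FittingUniqueness.ne_top_of_le_coatom hM hexc.le))
  have hAL : A ≤ L := le_normalizer.trans hNA
  have hqL : q ∈ Cfsg.sigma L := by
    by_contra h
    obtain ⟨F, hF, hAF⟩ := exists_complement_ge hG hL hAL fun t ht hd =>
      eq_of_dvd_pgroup (hexc.maxSq hG).isPGroup ht hd ▸ h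
    exact (tau_two_complement hG hL h hF hAF hA hAc).2.1.2.2 hNA
  refine ⟨L, hL, fun r hr hd => ?_⟩
  haveI := Fact.mk hr
  obtain ⟨A', hA'E, hA', hA'c⟩ := exists_sq_complement hG hM hE (hτ r hr hd)
  by_contra hrL
  have hA'L : A' ≤ L := fun a ha => hNA (centralizer_le_normalizer _ (mem_centralizer_iff.mpr fun c hc =>
    ThompsonTransitivity.mul_comm_of hBc (hBA q (hτ q hq hqy) A hAE hA hAc hc)
      (hBA r (hτ r hr hd) A' hA'E hA' hA'c ha)))
  obtain ⟨A'₀, hexr⟩ := exists_exc hG hL hrL hA'L hA' hA'c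
  refine (hexc.maxSq hG).ne_bot (le_bot_iff.mp ?_)
  exact (le_inf (le_sigmaCore_of_pgroup hG hL hqL (hexc.maxSq hG).isPGroup hAL) hexc.le).trans
    (hexr.inf_other hG hM (fun e => (hτ q hq hqy).2.1 (e.symm ▸ hqL)) (hA'E.trans hE.1)).le

end Cfsg.Lib.OddLocal.RankTwoMax
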