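import Cfsg.Agent.Coprime.Action
import Mathlib

/-!
# A `p`-group and a coprime group acting on a `p`-group

If every point fixed by the `p`-group is fixed by the coprime group, then the latter acts trivially
(for odd `p`, or when the commutators with the `p`-group are central).
-/

namespace Cfsg.Lib.OddLocal.CoprimeFixed

open Subgroup
open scoped commutatorElement

universe u v

section Averaging

variable {M : Type u} [CommGroup M] [Finite M] {Y : Type v} [Group Y] [Finite Y]

/-- The abelian case. -/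
theorem trivial_of_fix {p : ℕ} [Fact p.Prime] (hM : IsPGroup p M) (hY : (Nat.card Y).Coprime p)
    (f : Y →* MulAut M) {A : Type*} [Group A] (hA : IsPGroup p A) (g : A →* MulAut M)
    (σ : A → Y ≃ Y) (hcomm : ∀ a y m, g a (f y m) = f (σ a y) (g a m))
    (hfix : ∀ m, (∀ a, g a m = m) → ∀ y, f y m = m) : ∀ y m, f y m = m := by
  classical
  have : Fintype Y := Fintype.ofFinite Y
  let D : M →* M :=
    { toFun := fun m => m ^ Nat.card Y * (∏ y, f y m)⁻¹
      map_one' := by simp
      map_mul' := fun m n => by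
        simp only [map_mul, Finset.prod_mul_distrib, mul_pow, mul_inv]
        exact mul_mul_mul_comm _ _ _ _ }
  have hDdef : ∀ m, D m = m ^ Nat.card Y * (∏ y, f y m)⁻¹ := fun _ => rfl
  have hN : ∀ z m, f z (∏ y, f y m) = ∏ y, f y m := by
    intro z m
    rw [map_prod]
    exact Fintype.prod_equiv (Equiv.mulLeft z) _ _ fun y => by simp
  have hNc : ∀ m, (∀ y, f y m = m) → D m = 1 := by
    intro m hm
    rw [hDdef, Finset.prod_congr rfl fun y _ => hm y, Finset.prod_const, Finset.card_univ,
      ← Nat.card_eq_fintype_card, mul_inv_cancel]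
  have hDD : ∀ m, D (D m) = D m ^ Nat.card Y := by
    intro m
    rw [hDdef m, map_mul, map_pow, map_inv, hNc _ (fun z => hN z m), inv_one, mul_one]
    rfl
  have hDg : ∀ a m, g a (D m) = D (g a m) := by
    intro a m
    rw [hDdef, hDdef, map_mul, map_pow, map_inv, map_prod]
    congr 2
    exact Fintype.prod_equiv (σ a) _ _ fun y => hcomm a y m
  -- the image of `D` is trivial
  have hS : D.range = ⊥ := by
    by_contra hne
    let act : MulAction A D.range :=
      { smul := fun a s => ⟨g a s.1, by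
          obtain ⟨m, hm⟩ := s.2
          exact ⟨g a m, by rw [← hDg, hm]⟩⟩
        one_smul := fun s => Subtype.ext (by show g 1 s.1 = s.1; rw [map_one]; rfl)
        mul_smul := fun a b s => Subtype.ext (by
          show g (a * b) s.1 = g a (g b s.1); rw [map_mul]; rfl) }
    have hfp : MulAction.fixedPoints A D.range = {1} := by
      ext s
      rw [MulAction.mem_fixedPoints, Set.mem_singleton_iff]
      constructor
      · intro hs
        obtain ⟨m, hm⟩ := s.2
        have h1 : D s.1 = 1 := hNc _ (hfix _ fun a => congrArg Subtype.val (hs a))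
        have h2 : (s.1) ^ Nat.card Y = 1 := by rw [← hm, ← hDD, hm, h1]
        obtain ⟨k, hk⟩ := IsPGroup.iff_orderOf.mp hM s.1
        apply Subtype.ext
        rw [OneMemClass.coe_one, ← orderOf_eq_one_iff]
        exact Nat.eq_one_of_dvd_coprimes (hY.pow_right k) (orderOf_dvd_of_pow_eq_one h2) (hk ▸ dvd_rfl)
      · rintro rfl a
        exact Subtype.ext (map_one (g a))
    have hmod := hA.card_modEq_card_fixedPoints D.range
    rw [hfp, Nat.card_coe_set_eq, Set.ncard_singleton] at hmod
    obtain ⟨k, hk⟩ := IsPGroup.iff_card.mp (hM.to_subgroup D.range)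
    rcases Nat.eq_zero_or_pos k with h | h
    · rw [h, pow_zero, card_eq_one] at hk
      exact hne hk
    · rw [hk, Nat.ModEq, Nat.one_mod_eq_one.mpr (Fact.out : p.Prime).one_lt.ne',
        Nat.dvd_iff_mod_eq_zero.mp (dvd_pow_self p h.ne')] at hmod
      exact zero_ne_one hmod
  intro z m
  have h1 : D m = 1 := by
    have : D m ∈ D.range := ⟨m, rfl⟩
    rwa [hS, mem_bot] at this
  rw [hDdef, mul_inv_eq_one] at h1
  obtain ⟨k, hk⟩ := IsPGroup.iff_card.mp hM
  have hcop : (Nat.card M).Coprime (Nat.card Y) := by rw [hk]; exact (hY.symm.pow_left k)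
  apply (powCoprime hcop).injective
  show (f z m) ^ Nat.card Y = m ^ Nat.card Y
  rw [← map_pow, h1, hN]

end Averaging

section Baer

/-- The data of a group of class at most two in which squaring can be inverted. -/
structure BaerData (W : Type u) [Group W] where
  /-- half of the exponent plus one half -/
  half : ℕ
  central : ∀ x y : W, ⁅x, y⁆ ∈ center W
  double : ∀ x y : W, ⁅x, y⁆ ^ (2 * half) = ⁅x, y⁆

/-- The abelian group of Baer. -/
structure Baer {W : Type u} [Group W] (_d : BaerData W) : Type u where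
  /-- the element -/
  val : W

variable {W : Type u} [Group W] (d : BaerData W)

theorem comm_mul_left (hd : BaerData W) (x y z : W) : ⁅x * y, z⁆ = ⁅x, z⁆ * ⁅y, z⁆ := by
  have h := mem_center_iff.mp (hd.central y z) x
  have h2 := mem_center_iff.mp (hd.central x z)
  calc ⁅x * y, z⁆ = x * ⁅y, z⁆ * x⁻¹ * ⁅x, z⁆ := by simp only [commutatorElement_def]; group
    _ = ⁅y, z⁆ * ⁅x, z⁆ := by rw [h, mul_inv_cancel_right]
    _ = ⁅x, z⁆ * ⁅y, z⁆ := h2 _

theorem comm_mul_right (hd : BaerData W) (x y z : W) : ⁅x, y * z⁆ = ⁅x, y⁆ * ⁅x, z⁆ := by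
  have h := mem_center_iff.mp (hd.central x z) y
  calc ⁅x, y * z⁆ = ⁅x, y⁆ * (y * ⁅x, z⁆ * y⁻¹) := by simp only [commutatorElement_def]; group
    _ = _ := by rw [h, mul_inv_cancel_right]

/-- The correction term. -/
def corr (x y : W) : W := ⁅y, x⁆ ^ d.half

theorem corr_central (x y z : W) : z * corr d x y = corr d x y * z :=
  mem_center_iff.mp (pow_mem (d.central y x) _) z

include d in
theorem commute_comm (x y z : W) : Commute ⁅x, y⁆ z :=
  ((mem_center_iff.mp (d.central x y)) z).symm

theorem comm_central_left {z : W} (hz : z ∈ center W) (x : W) : ⁅z, x⁆ = 1 :=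
  commutatorElement_eq_one_iff_mul_comm.mpr (mem_center_iff.mp hz x).symm

theorem comm_central_right {z : W} (hz : z ∈ center W) (x : W) : ⁅x, z⁆ = 1 :=
  commutatorElement_eq_one_iff_mul_comm.mpr (mem_center_iff.mp hz x)

theorem corr_mul_left (x y z : W) : corr d (x * y) z = corr d x z * corr d y z := by
  rw [corr, comm_mul_right d, (commute_comm d _ _ _).mul_pow]
  rfl

theorem corr_mul_right (x y z : W) : corr d x (y * z) = corr d x y * corr d x z := by
  rw [corr, comm_mul_left d, (commute_comm d _ _ _).mul_pow]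
  rfl

theorem corr_of_central_left {z : W} (hz : z ∈ center W) (x : W) : corr d z x = 1 := by
  rw [corr, comm_central_right hz, one_pow]

theorem corr_of_central_right {z : W} (hz : z ∈ center W) (x : W) : corr d x z = 1 := by
  rw [corr, comm_central_left hz, one_pow]

/-- The symmetric product. -/
def bmul (x y : W) : W := x * y * corr d x y

theorem bmul_comm (x y : W) : bmul d x y = bmul d y x := by
  have h1 : corr d y x = (corr d x y)⁻¹ := by
    rw [corr, corr, ← inv_pow, commutatorElement_inv]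
  have h2 : x * y = y * x * ⁅y, x⁆⁻¹ := by
    rw [commutatorElement_inv]
    have := mem_center_iff.mp (d.central x y) (y * x)
    rw [this, commutatorElement_def]
    group
  have h3 : ⁅y, x⁆⁻¹ * corr d x y = (corr d x y)⁻¹ := by
    rw [inv_mul_eq_iff_eq_mul, eq_mul_inv_iff_mul_eq, corr, ← pow_add, ← two_mul, d.double]
  rw [bmul, bmul, h1, h2, mul_assoc _ ⁅y, x⁆⁻¹, h3]

theorem bmul_assoc (x y z : W) : bmul d (bmul d x y) z = bmul d x (bmul d y z) := by
  simp only [bmul]
  rw [corr_mul_left, corr_mul_left, corr_of_central_left d (show corr d x y ∈ center W from pow_mem (d.central y x) _), mul_one,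
    corr_mul_right, corr_mul_right, corr_of_central_right d (show corr d y z ∈ center W from pow_mem (d.central z y) _), mul_one]
  rw [show x * y * corr d x y * z = x * y * z * corr d x y by
    rw [mul_assoc (x * y) (corr d x y) z, ← corr_central d x y z, ← mul_assoc]]
  simp only [mul_assoc]
  congr 3
  exact (mul_assoc _ _ _).symm.trans (corr_central d y z _)

instance : Mul (Baer d) := ⟨fun x y => ⟨bmul d x.val y.val⟩⟩

instance : One (Baer d) := ⟨⟨1⟩⟩

instance : Inv (Baer d) := ⟨fun x => ⟨x.val⁻¹⟩⟩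

instance : CommGroup (Baer d) where
  mul_assoc x y z := congrArg Baer.mk (bmul_assoc d x.val y.val z.val)
  one_mul x := congrArg Baer.mk (show bmul d 1 x.val = x.val by
    rw [bmul, corr_of_central_left d (one_mem _), one_mul, mul_one])
  mul_one x := congrArg Baer.mk (show bmul d x.val 1 = x.val by
    rw [bmul, corr_of_central_right d (one_mem _), mul_one, mul_one])
  inv_mul_cancel x := congrArg Baer.mk (show bmul d x.val⁻¹ x.val = 1 by
    rw [bmul, inv_mul_cancel, one_mul, corr, commutatorElement_eq_one_iff_mul_comm.mpr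
      (show x.val * x.val⁻¹ = x.val⁻¹ * x.val by simp), one_pow])
  mul_comm x y := congrArg Baer.mk (bmul_comm d x.val y.val)

/-- The underlying bijection. -/
def baerEquiv : Baer d ≃ W :=
  ⟨Baer.val, Baer.mk, fun _ => rfl, fun _ => rfl⟩

instance [Finite W] : Finite (Baer d) := Finite.of_equiv W (baerEquiv d).symm

/-- An automorphism of the group is one of Baer's group. -/
def baerAut : MulAut W →* MulAut (Baer d) where
  toFun e :=
    { toFun := fun x => ⟨e x.val⟩
      invFun := fun x => ⟨e.symm x.val⟩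
      left_inv := fun x => congrArg Baer.mk (e.symm_apply_apply x.val)
      right_inv := fun x => congrArg Baer.mk (e.apply_symm_apply x.val)
      map_mul' := fun x y => congrArg Baer.mk (by
        show e (bmul d x.val y.val) = bmul d (e x.val) (e y.val)
        rw [bmul, bmul, map_mul, map_mul, corr, corr, map_pow]
        congr 2
        simp [commutatorElement_def]) }
  map_one' := rfl
  map_mul' _ _ := rfl

theorem card_baer : Nat.card (Baer d) = Nat.card W := Nat.card_congr (baerEquiv d)

/-- The class two case for odd primes. -/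
theorem trivial_of_fix_class_two [Finite W] {p : ℕ} [Fact p.Prime] (hp : p ≠ 2) (hW : IsPGroup p W)
    (hcl : ∀ x y : W, ⁅x, y⁆ ∈ center W) {Y : Type v} [Group Y] [Finite Y]
    (hY : (Nat.card Y).Coprime p) (f : Y →* MulAut W) {A : Type*} [Group A] (hA : IsPGroup p A)
    (g : A →* MulAut W) (σ : A → Y ≃ Y) (hcomm : ∀ a y m, g a (f y m) = f (σ a y) (g a m))
    (hfix : ∀ m, (∀ a, g a m = m) → ∀ y, f y m = m) : ∀ y m, f y m = m := by
  obtain ⟨k, hk⟩ := IsPGroup.iff_card.mp hW
  obtain ⟨h, hh⟩ : ∃ h, 2 * h = Nat.card W + 1 := by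
    have hodd : Odd (Nat.card W) := hk ▸ ((Fact.out : p.Prime).odd_of_ne_two hp).pow
    obtain ⟨j, hj⟩ := hodd
    exact ⟨j + 1, by omega⟩
  let d : BaerData W := ⟨h, hcl, fun x y => by rw [hh, pow_succ, pow_card_eq_one', one_mul]⟩
  intro y m
  exact congrArg Baer.val (trivial_of_fix (M := Baer d)
    (IsPGroup.of_card (n := k) (by rw [card_baer]; exact hk)) hY
    ((baerAut d).comp f) hA ((baerAut d).comp g) σ (fun a y m => congrArg Baer.mk (hcomm a y m.val))
    (fun m hm y => congrArg Baer.mk (hfix m.val (fun a => congrArg Baer.val (hm a)) y)) y ⟨m⟩)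

end Baer

variable {G : Type u} [Group G] [Finite G] {p : ℕ} [Fact p.Prime]

/-- Conjugation as an action on a normalised subgroup. -/
def conjOn {H U : Subgroup G} (h : H ≤ normalizer (U : Set G)) : H →* MulAut U :=
  (normalizerMonoidHom U).comp (inclusion h)

omit [Finite G] in
theorem conjOn_apply {H U : Subgroup G} (h : H ≤ normalizer (U : Set G)) (x : H) (u : U) :
    ((conjOn h x u : U) : G) = x * u * (x : G)⁻¹ := rfl

/-- The general statement for odd primes. -/
theorem le_centralizer_of_fix (hp : p ≠ 2) {A Y : Subgroup G} (hA : IsPGroup p A)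
    (hY : (Nat.card Y).Coprime p) (hAY : A ≤ normalizer (Y : Set G)) :
    ∀ (n : ℕ) (U : Subgroup G), Nat.card U = n → IsPGroup p U → A ≤ normalizer (U : Set G) →
      Y ≤ normalizer (U : Set G) → U ⊓ centralizer (A : Set G) ≤ centralizer (Y : Set G) →
      Y ≤ centralizer (U : Set G) := by
  intro n
  induction n using Nat.strong_induction_on with
  | _ n ih =>
    intro U hn hU hAU hYU hfix
    rw [le_centralizer_iff]
    rcases eq_or_ne U ⊥ with rfl | hne
    · exact bot_le
    have hcop : (Nat.card Y).Coprime (Nat.card U) := by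
      obtain ⟨k, hk⟩ := IsPGroup.iff_card.mp hU
      rw [hk]
      exact hY.pow_right k
    have hnil := hU.isNilpotent
    have hsol : Group.IsSolvable U := inferInstance
    have hlt : ∀ V : Subgroup G, V < U → A ≤ normalizer (V : Set G) → Y ≤ normalizer (V : Set G) →
        V ≤ centralizer (Y : Set G) := fun V hV hAV hYV => le_centralizer_iff.mp
      (ih _ (hn ▸ Nat.lt_of_le_of_ne (Nat.le_of_dvd Nat.card_pos (card_dvd_of_le hV.le))
        fun h => hV.ne (eq_of_le_of_card_ge hV.le h.ge)) V rfl (hU.to_le hV.le) hAV hYV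
        ((inf_le_inf_right _ hV.le).trans hfix))
    have hnUY : A ≤ normalizer ((⁅U, Y⁆ : Subgroup G) : Set G) := fun a ha => by
      rw [← Cfsg.Lib.Coprime.conjMap_eq_self_iff, Cfsg.Lib.Coprime.conjMap, map_commutator]
      rw [show U.map (MulAut.conj a).toMonoidHom = U from Cfsg.Lib.Coprime.conjMap_eq_self (hAU ha),
        show Y.map (MulAut.conj a).toMonoidHom = Y from Cfsg.Lib.Coprime.conjMap_eq_self (hAY ha)]
    rcases (Cfsg.Lib.Coprime.commutator_le_of_le_normalizer hYU).lt_or_eq with hV | hV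
    · have h1 := commutator_eq_bot_iff_le_centralizer.mpr
        (hlt _ hV hnUY (Cfsg.Lib.Coprime.le_normalizer_commutator_right Y U))
      rw [Cfsg.Lib.Coprime.commutator_commutator_eq hYU hcop (Or.inr hsol)] at h1
      exact commutator_eq_bot_iff_le_centralizer.mp h1
    have hder : ⁅U, U⁆ < U := by
      refine lt_of_le_of_ne (commutator_le_self U) fun h => ?_
      have : Nontrivial U := (nontrivial_iff_ne_bot U).mpr hne
      have h2 : _root_.commutator U = ⊤ := by
        apply map_injective U.subtype_injective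
        rw [_root_.commutator_def, map_commutator, ← MonoidHom.range_eq_map, U.range_subtype]
        exact h
      exact (Group.IsSolvable.commutator_lt_top_of_nontrivial U).ne h2
    have hnder : normalizer (U : Set G) ≤ normalizer ((⁅U, U⁆ : Subgroup G) : Set G) := fun a ha => by
      rw [← Cfsg.Lib.Coprime.conjMap_eq_self_iff, Cfsg.Lib.Coprime.conjMap, map_commutator]
      rw [show U.map (MulAut.conj a).toMonoidHom = U from Cfsg.Lib.Coprime.conjMap_eq_self ha]
    have hcen : ⁅U, U⁆ ≤ centralizer (Y : Set G) :=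
      hlt _ hder (hAU.trans hnder) (hYU.trans hnder)
    have hclass : ⁅⁅U, U⁆, U⁆ = ⊥ := by
      have h1 : ⁅⁅⁅U, U⁆, U⁆, Y⁆ = ⊥ := commutator_eq_bot_iff_le_centralizer.mpr
        ((Cfsg.Lib.Coprime.commutator_le_of_le_normalizer (le_normalizer.trans hnder)).trans hcen)
      have h2 : ⁅⁅Y, ⁅U, U⁆⁆, U⁆ = ⊥ := by
        rw [commutator_comm Y, commutator_eq_bot_iff_le_centralizer.mpr hcen]
        exact commutator_bot_left _
      have h3 : ⁅⁅U, Y⁆, ⁅U, U⁆⁆ = ⊥ :=
        commutator_commutator_eq_bot_of_rotate h2 h1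
      rw [hV] at h3
      rw [commutator_comm]
      exact h3
    have hcl : ∀ x y : U, ⁅x, y⁆ ∈ center U := fun x y => mem_center_iff.mpr fun z =>
      Subtype.ext (mem_centralizer_iff.mp (commutator_eq_bot_iff_le_centralizer.mp hclass
        (commutator_mem_commutator x.2 y.2)) z z.2)
    intro u hu
    refine mem_centralizer_iff.mpr fun y hy => ?_
    have key := trivial_of_fix_class_two hp hU hcl hY (conjOn hYU) hA (conjOn hAU)
      (fun a => (normalizerMonoidHom Y (inclusion hAY a)).toEquiv)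
      (fun a y m => Subtype.ext (by
        show (a : G) * ((y : G) * m * (y : G)⁻¹) * (a : G)⁻¹ =
          ((a : G) * y * (a : G)⁻¹) * ((a : G) * m * (a : G)⁻¹) * ((a : G) * y * (a : G)⁻¹)⁻¹
        group))
      (fun m hm y => Subtype.ext (by
        have hmA : (m : G) ∈ centralizer (A : Set G) := mem_centralizer_iff.mpr fun a ha => by
          have h1 : (a : G) * m * a⁻¹ = m := congrArg Subtype.val (hm ⟨a, ha⟩)
          exact mul_inv_eq_iff_eq_mul.mp h1
        have h2 := mem_centralizer_iff.mp (hfix ⟨m.2, hmA⟩) y y.2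
        show (y : G) * m * (y : G)⁻¹ = m
        rw [h2, mul_inv_cancel_right]))
      ⟨y, hy⟩ ⟨u, hu⟩
    exact mul_inv_eq_iff_eq_mul.mp (congrArg Subtype.val key)

/-- The version with central commutators. -/
theorem le_centralizer_of_fix_central {A Y U : Subgroup G} (hY : (Nat.card Y).Coprime p)
    (hU : IsPGroup p U) (hAY : A ≤ normalizer (Y : Set G)) (hAU : A ≤ normalizer (U : Set G))
    (hYU : Y ≤ normalizer (U : Set G))
    (hfix : U ⊓ centralizer (A : Set G) ≤ centralizer (Y : Set G))
    (hcentral : ∀ u ∈ U, ∀ a ∈ A, ∀ v ∈ U ⊔ A, (u⁻¹ * (a * u * a⁻¹)) * v = v * (u⁻¹ * (a * u * a⁻¹))) :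
    Y ≤ centralizer (U : Set G) := by
  obtain ⟨k, hk⟩ := IsPGroup.iff_card.mp hU
  have hcop : (Nat.card Y).Coprime (Nat.card U) := by rw [hk]; exact hY.pow_right k
  have hnil := hU.isNilpotent
  have hconjU : ∀ g ∈ normalizer (U : Set G), ∀ u ∈ U, g * u * g⁻¹ ∈ U := fun g hg u hu =>
    (mem_normalizer_iff.mp hg u).mp hu
  have hdiff : ∀ u ∈ U, ∀ a ∈ A, u⁻¹ * (a * u * a⁻¹) ∈
      U ⊓ centralizer (A : Set G) ⊓ centralizer (U : Set G) := by
    intro u hu a ha
    refine mem_inf.mpr ⟨mem_inf.mpr ⟨mul_mem (inv_mem hu) (hconjU a (hAU ha) u hu), ?_⟩, ?_⟩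
    · exact mem_centralizer_iff.mpr fun v hv => (hcentral u hu a ha v (mem_sup_right hv)).symm
    · exact mem_centralizer_iff.mpr fun v hv => (hcentral u hu a ha v (mem_sup_left hv)).symm
  have hYfix : ∀ u ∈ U, ∀ a ∈ A, ∀ y ∈ Y,
      y * (u⁻¹ * (a * u * a⁻¹)) = (u⁻¹ * (a * u * a⁻¹)) * y := fun u hu a ha y hy =>
    mem_centralizer_iff.mp (hfix (hdiff u hu a ha).1) y hy
  -- the commutator map is invariant under `Y`
  have hinv : ∀ a ∈ A, ∀ y ∈ Y, ∀ u ∈ U,
      (y * u * y⁻¹)⁻¹ * (a * (y * u * y⁻¹) * a⁻¹) = u⁻¹ * (a * u * a⁻¹) := by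
    intro a ha y hy u hu
    set z := y⁻¹ * (a * y * a⁻¹) with hz
    have hzY : z ∈ Y := mul_mem (inv_mem hy) ((mem_normalizer_iff.mp (hAY ha) y).mp hy)
    set D := U ⊓ centralizer (A : Set G) ⊓ centralizer (U : Set G) with hD
    have hzfix : ∀ v ∈ U, z * v * z⁻¹ = v := by
      intro v hv
      have hyv := hconjU y (hYU hy) v hv
      set c := v⁻¹ * (a * v * a⁻¹) with hc
      set c' := (y * v * y⁻¹)⁻¹ * (a * (y * v * y⁻¹) * a⁻¹) with hc'
      have hcz : z * c = c * z := hYfix v hv a ha z hzY
      have hc'y : y⁻¹ * c' = c' * y⁻¹ := hYfix _ hyv a ha y⁻¹ (inv_mem hy)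
      have e1 : v⁻¹ * (z * v * z⁻¹) = c' * c⁻¹ := by
        have e2 : z * (v * c) * z⁻¹ = v * c' := by
          calc z * (v * c) * z⁻¹ = y⁻¹ * ((y * v * y⁻¹) * c') * y := by rw [hz, hc, hc']; group
            _ = y⁻¹ * (y * v * y⁻¹) * (c' * y) := by group
            _ = y⁻¹ * (y * v * y⁻¹) * (y * c') := by
                rw [show c' * y = y * c' from (hYfix _ hyv a ha y hy).symm]
            _ = v * c' := by group
        have e3 : z * (v * c) * z⁻¹ = z * v * z⁻¹ * c := by
          calc z * (v * c) * z⁻¹ = z * v * (c * z⁻¹) := by group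
            _ = z * v * (z⁻¹ * c) := by rw [show c * z⁻¹ = z⁻¹ * c from (hYfix v hv a ha z⁻¹ (inv_mem hzY)).symm]
            _ = z * v * z⁻¹ * c := by group
        rw [e3] at e2
        rw [eq_mul_inv_iff_mul_eq, mul_assoc, e2, inv_mul_cancel_left]
      have hmem : v ∈ centralizer ((zpowers z : Subgroup G) : Set G) := by
        have hDY : zpowers z ≤ centralizer (D : Set G) := zpowers_le.mpr
          (mem_centralizer_iff.mpr fun m hm => (mem_centralizer_iff.mp (hfix hm.1) z hzY).symm)
        refine Cfsg.Lib.Coprime.centralizes_of_coprime_chain ?_ hDY fun w hw => ?_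
        · exact (hcop.coprime_dvd_left (card_dvd_of_le (zpowers_le.mpr hzY))).coprime_dvd_right
            (card_dvd_of_le (inf_le_left.trans inf_le_left))
        · obtain ⟨i, rfl⟩ := mem_zpowers_iff.mp hw
          let T : Subgroup G :=
            { carrier := {w | w ∈ Y ∧ v⁻¹ * w * v * w⁻¹ ∈ D}
              one_mem' := ⟨one_mem Y, by simp⟩
              mul_mem' := fun {w w'} h1 h2 => ⟨mul_mem h1.1 h2.1, by
                have hc2 := mem_centralizer_iff.mp (hfix h2.2.1) w h1.1
                rw [show v⁻¹ * (w * w') * v * (w * w')⁻¹ =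
                  v⁻¹ * w * v * ((v⁻¹ * w' * v * w'⁻¹) * w⁻¹) by group]
                have hc3 := mem_centralizer_iff.mp (hfix h2.2.1) w⁻¹ (inv_mem h1.1)
                rw [← hc3, ← mul_assoc]
                exact mul_mem h1.2 h2.2⟩
              inv_mem' := fun {w} h1 => ⟨inv_mem h1.1, by
                have hc2 := mem_centralizer_iff.mp (hfix h1.2.1) w⁻¹ (inv_mem h1.1)
                have e : v⁻¹ * w⁻¹ * v * w⁻¹⁻¹ * (v⁻¹ * w * v * w⁻¹) = 1 := by
                  calc v⁻¹ * w⁻¹ * v * w⁻¹⁻¹ * (v⁻¹ * w * v * w⁻¹)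
                      = v⁻¹ * w⁻¹ * v * ((v⁻¹ * w * v * w⁻¹) * w) := by
                        rw [inv_inv, mul_assoc, ← mem_centralizer_iff.mp (hfix h1.2.1) w h1.1]
                    _ = 1 := by group
                rw [eq_inv_of_mul_eq_one_left e]
                exact inv_mem h1.2⟩ }
          suffices hzT : z ∈ T from (zpow_mem hzT i).2
          refine ⟨hzY, ?_⟩
          rw [show v⁻¹ * z * v * z⁻¹ = v⁻¹ * (z * v * z⁻¹) by group, e1]
          exact mul_mem (hdiff _ hyv a ha) (inv_mem (hdiff v hv a ha))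
      rw [mem_centralizer_iff.mp hmem z (mem_zpowers z), mul_inv_cancel_right]
    have e4 : a * (y * u * y⁻¹) * a⁻¹ = y * u * y⁻¹ * (u⁻¹ * (a * u * a⁻¹)) := by
      have hm : a * u * a⁻¹ ∈ U := hconjU a (hAU ha) u hu
      calc a * (y * u * y⁻¹) * a⁻¹ = y * (z * (a * u * a⁻¹) * z⁻¹) * y⁻¹ := by rw [hz]; group
        _ = y * (a * u * a⁻¹) * y⁻¹ := by rw [hzfix _ hm]
        _ = y * u * ((u⁻¹ * (a * u * a⁻¹)) * y⁻¹) := by group
        _ = y * u * (y⁻¹ * (u⁻¹ * (a * u * a⁻¹))) := by
            rw [← hYfix u hu a ha y⁻¹ (inv_mem hy)]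
        _ = _ := by group
    rw [e4, inv_mul_cancel_left]
  -- so `[U, Y]` is fixed by `A`
  have hle : ⁅U, Y⁆ ≤ U ⊓ centralizer (A : Set G) := by
    rw [commutator_le]
    intro u hu y hy
    have hw : y * u⁻¹ * y⁻¹ ∈ U := hconjU y (hYU hy) _ (inv_mem hu)
    rw [commutatorElement_def, mul_assoc, mul_assoc, ← mul_assoc y]
    refine ⟨mul_mem hu hw, mem_centralizer_iff.mpr fun a ha => ?_⟩
    have h1 := hinv a ha y hy u⁻¹ (inv_mem hu)
    rw [inv_inv] at h1
    set w := y * u⁻¹ * y⁻¹
    have h2 : a * w * a⁻¹ = w * (u * (a * u⁻¹ * a⁻¹)) := by rw [← h1, mul_inv_cancel_left]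
    have hc : ∀ v ∈ U, v * (u * (a * u⁻¹ * a⁻¹)) = (u * (a * u⁻¹ * a⁻¹)) * v := fun v hv => by
      have := hcentral u⁻¹ (inv_mem hu) a ha v (mem_sup_left hv)
      rw [inv_inv] at this
      exact this.symm
    calc a * (u * w) = (a * u * a⁻¹) * (a * w * a⁻¹) * a := by group
      _ = (a * u * a⁻¹) * (w * (u * (a * u⁻¹ * a⁻¹))) * a := by rw [h2]
      _ = (a * u * a⁻¹) * ((u * (a * u⁻¹ * a⁻¹)) * w) * a := by rw [hc w hw]
      _ = (a * u * a⁻¹) * (u * (a * u⁻¹ * a⁻¹)) * w * a := by group
      _ = (u * (a * u⁻¹ * a⁻¹)) * (a * u * a⁻¹) * w * a := by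
          rw [hc _ (hconjU a (hAU ha) u hu)]
      _ = u * w * a := by group
  have h1 := commutator_eq_bot_iff_le_centralizer.mpr (hle.trans hfix)
  rw [Cfsg.Lib.Coprime.commutator_commutator_eq hYU hcop (Or.inr inferInstance)] at h1
  exact le_centralizer_iff.mp (commutator_eq_bot_iff_le_centralizer.mp h1)

end Cfsg.Lib.OddLocal.CoprimeFixed
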