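import Cfsg.Agent.OddLocal.SigmaPrimeAbelian

/-!
# Basic facts on the standard factorisation
-/

set_option linter.unusedSectionVars false
set_option linter.unusedVariables false
set_option linter.style.haveILetI false

namespace Cfsg.Lib.OddLocal.RankTwoMax

open Subgroup Uniqueness Sigma
open Cfsg.Lib.Coprime (conjMap)

universe u

variable {G : Type u} [Group G] [Finite G] {M K U : Subgroup G} {p : ℕ} [hp : Fact p.Prime]

/-- The complement `U` involves no prime of `σ(M)`. -/
theorem not_sigma_of_dvd_decomp (hG : Cfsg.IsMinSimpleOddOrder G) (hM : IsCoatom M)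
    (h : Cfsg.IsSigmaDecomposition M K U) (hd : p ∣ Nat.card U) : p ∉ Cfsg.sigma M := by
  intro hσ
  obtain ⟨x, hx⟩ := exists_prime_orderOf_dvd_card' p hd
  have hxo : orderOf (x : G) = p := by rw [orderOf_coe]; exact hx
  have h1 : zpowers (x : G) ≤ Cfsg.sigmaCore M := le_sigmaCore_of_pgroup hG hM hσ
    (isPGroup_of_card (by rw [Nat.card_zpowers, hxo])) (zpowers_le.mpr (h.compl.1 x.2))
  have h2 : (x : G) ∈ U ⊓ (K ⊔ Cfsg.sigmaCore M) := ⟨x.2, mem_sup_right (h1 (mem_zpowers _))⟩
  rw [h.compl.2.2.1, mem_bot] at h2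
  exact hp.out.ne_one (by rw [← hxo, h2, orderOf_one])

/-- Sylow groups of `U` are abelian of rank at most two. -/
theorem decomp_sylow (hG : Cfsg.IsMinSimpleOddOrder G) (hM : IsCoatom M)
    (h : Cfsg.IsSigmaDecomposition M K U) (P : Sylow p U) :
    IsMulCommutative (P : Subgroup U) ∧ Cfsg.PRankLE p 2 (P : Subgroup U) := by
  by_cases hd : p ∣ Nat.card U
  · have hσ := not_sigma_of_dvd_decomp hG hM h hd
    refine ⟨?_, Cfsg.Lib.OddP.pRankLE_of_injective ((inclusion h.compl.1).comp (P : Subgroup U).subtype)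
      ((inclusion_injective h.compl.1).comp (P : Subgroup U).subtype_injective) (pRankLE_of_not_sigma hG hM hσ)⟩
    have hc := comm_of_not_sigma hG hM hσ (P.2.map U.subtype) ((map_subtype_le _).trans h.compl.1)
    exact ⟨⟨fun a b => Subtype.ext (Subtype.ext (ThompsonTransitivity.mul_comm_of hc
      (mem_map_of_mem _ a.2) (mem_map_of_mem _ b.2)))⟩⟩
  · have h1 : (P : Subgroup U) = ⊥ := by
      obtain ⟨j, hj⟩ := IsPGroup.iff_card.mp P.2
      refine card_eq_one.mp ?_
      rcases Nat.eq_zero_or_pos j with rfl | hj0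
      · rw [hj, pow_zero]
      · exact absurd ((dvd_pow_self p hj0.ne').trans (hj ▸ card_subgroup_dvd_card (P : Subgroup U))) hd
    haveI : Subsingleton (P : Subgroup U) := by
      rw [h1]; infer_instance
    refine ⟨⟨⟨fun a b => Subsingleton.elim _ _⟩⟩, fun B _ _ => ?_⟩
    rw [Nat.card_of_subsingleton (1 : B)]
    exact Nat.one_le_pow _ _ hp.out.pos

end Cfsg.Lib.OddLocal.RankTwoMax
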