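import Cfsg.Agent.OddLocal.FixedLineSylow

/-!
# Fixed points inside the derived subgroup, and commuting maps on an orbit-generated module
-/

set_option linter.unusedSectionVars false
set_option linter.unusedVariables false
set_option linter.style.haveILetI false

namespace Cfsg.Lib.OddLocal.RankTwoMax

open Subgroup MulAction
open scoped commutatorElement

universe u

/-- An element of a normal subgroup `D` whose `M`-class is its `D`-class and which lies in `[M, M]` lies in
`[D, D]`, when its order is prime to the index. -/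
theorem fixed_mem_derived {G : Type u} [Group G] [Finite G] {M D : Subgroup G} (hDM : D ≤ M)
    (hn : M ≤ normalizer (D : Set G)) {x : G} (hx : x ∈ D) (hxM : x ∈ ⁅M, M⁆)
    (hfus : ∀ m ∈ M, ∃ d ∈ D, m⁻¹ * x * m = d⁻¹ * x * d) (hcop : (orderOf x).Coprime (D.relIndex M)) :
    x ∈ ⁅D, D⁆ := by
  haveI : (D.subgroupOf M).Normal := normal_subgroupOf_of_le_normalizer hn
  set D₀ := D.subgroupOf M with hD₀
  set φ : D₀ →* Abelianization D₀ := Abelianization.of with hφ
  set x' : M := ⟨x, hDM hx⟩ with hx'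
  have hx'D : x' ∈ D₀ := hx
  letI := Fintype.ofFinite (Quotient (orbitRel (zpowers x') (M ⧸ D₀)))
  have htriv : ∀ q : M ⧸ D₀, Function.minimalPeriod (x' • ·) q = 1 := fun q => by
    rw [Function.minimalPeriod_eq_one_iff_isFixedPt]
    induction q using QuotientGroup.induction_on with
    | _ m =>
      show x' • (QuotientGroup.mk m : M ⧸ D₀) = QuotientGroup.mk m
      rw [MulAction.Quotient.smul_mk, QuotientGroup.eq, smul_eq_mul, mul_inv_rev]
      have := (inferInstance : D₀.Normal).conj_mem _ (inv_mem hx'D) m⁻¹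
      simpa [mul_assoc] using this
  have hval : ∀ q : Quotient (orbitRel (zpowers x') (M ⧸ D₀)),
      φ ⟨q.out.out⁻¹ * x' ^ Function.minimalPeriod (x' • ·) q.out * q.out.out,
        QuotientGroup.out_conj_pow_minimalPeriod_mem D₀ x' q.out⟩ = φ ⟨x', hx'D⟩ := fun q => by
    simp only [htriv, pow_one]
    obtain ⟨d, hd, hde⟩ := hfus _ q.out.out.2
    have hdD : (⟨d, hDM hd⟩ : M) ∈ D₀ := hd
    rw [show (⟨q.out.out⁻¹ * x' * q.out.out, _⟩ : D₀) = ⟨_, hdD⟩⁻¹ * ⟨x', hx'D⟩ * ⟨_, hdD⟩ from
      Subtype.ext (Subtype.ext hde), map_mul, map_mul, map_inv, mul_comm (φ ⟨_, hdD⟩)⁻¹, inv_mul_cancel_right]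
  have htr : MonoidHom.transfer φ x' = φ ⟨x', hx'D⟩ ^ D₀.index := by
    rw [MonoidHom.transfer_eq_prod_quotient_orbitRel_zpowers_quot, Finset.prod_congr rfl fun q _ => hval q,
      Finset.prod_const, Finset.card_univ]
    congr 1
    rw [Subgroup.index_eq_sum_minimalPeriod D₀ x']
    simp [htriv]
  have h1 : MonoidHom.transfer φ x' = 1 := by
    obtain ⟨y, hy, hye⟩ : x ∈ (commutator M).map M.subtype := by rw [map_subtype_commutator]; exact hxM
    rw [show x' = y from Subtype.ext hye.symm]
    exact Abelianization.commutator_subset_ker _ hy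
  have ho : orderOf (φ ⟨x', hx'D⟩) = 1 := by
    refine Nat.eq_one_of_dvd_coprimes hcop ((orderOf_map_dvd φ _).trans (dvd_of_eq ?_))
      (orderOf_dvd_of_pow_eq_one (htr.symm.trans h1))
    rw [orderOf_mk, orderOf_mk]
  have h2 : (⟨x', hx'D⟩ : D₀) ∈ commutator D₀ := by
    rw [← Abelianization.ker_of]
    exact orderOf_eq_one_iff.mp ho
  have h3 : x' ∈ (⁅D₀, D₀⁆ : Subgroup M) := by
    rw [← map_subtype_commutator]; exact ⟨_, h2, rfl⟩
  have h4 : x ∈ (⁅D₀, D₀⁆ : Subgroup M).map M.subtype := ⟨x', h3, rfl⟩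
  rwa [Subgroup.map_commutator, hD₀, map_subgroupOf_eq_of_le hDM] at h4

/-- Endomorphisms commuting with maps whose translates of one element generate commute with each other. -/
theorem comm_of_orbit_generated {V : Type u} [CommGroup V] [Finite V] {ι : Type*} (c : ι → V →* V) (Z : Set ι)
    (v : V) (hgen : Subgroup.closure ((fun z => c z v) '' Z) = ⊤)
    (hcomm : ∀ i, ∀ z ∈ Z, (c i).comp (c z) = (c z).comp (c i)) (i j : ι) :
    (c i).comp (c j) = (c j).comp (c i) := by
  have key : ∀ w : V, ∃ b : V →* V, b v = w ∧ ∀ k, (c k).comp b = b.comp (c k) := fun w => by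
    induction (show w ∈ Subgroup.closure ((fun z => c z v) '' Z) from hgen ▸ mem_top w) using
      Subgroup.closure_induction with
    | mem u hu =>
      obtain ⟨z, hz, rfl⟩ := hu
      exact ⟨c z, rfl, fun k => hcomm k z hz⟩
    | one => exact ⟨1, rfl, fun k => by ext; simp⟩
    | mul a b _ _ ha hb =>
      obtain ⟨f, hf, hfc⟩ := ha
      obtain ⟨g, hg, hgc⟩ := hb
      refine ⟨f * g, by simp [hf, hg], fun k => ?_⟩
      ext u
      simp only [MonoidHom.coe_comp, Function.comp_apply, MonoidHom.mul_apply, map_mul]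
      exact congrArg₂ (· * ·) (DFunLike.congr_fun (hfc k) u) (DFunLike.congr_fun (hgc k) u)
    | inv a _ ha =>
      obtain ⟨f, hf, hfc⟩ := ha
      refine ⟨f⁻¹, by simp [hf], fun k => ?_⟩
      ext u
      simp only [MonoidHom.coe_comp, Function.comp_apply, MonoidHom.inv_apply, map_inv]
      exact congrArg (·⁻¹) (DFunLike.congr_fun (hfc k) u)
  obtain ⟨b, hb, hbc⟩ := key (c j v)
  have hjb : c j = b := by
    refine MonoidHom.eq_of_eqOn_dense hgen ?_
    rintro _ ⟨z, hz, rfl⟩
    show c j (c z v) = b (c z v)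
    rw [show c j (c z v) = c z (c j v) from DFunLike.congr_fun (hcomm j z hz) v, ← hb]
    exact DFunLike.congr_fun (hbc z) v
  rw [hjb]
  exact hbc i

end Cfsg.Lib.OddLocal.RankTwoMax
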