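import Cfsg.Agent.OddLocal.DihedralEightArith
import Cfsg.Agent.OddLocal.QuaternionBrauerSuzuki
import Cfsg.Agent.InvolCalc.Counting
import Cfsg.Agent.S0111
import Cfsg.Agent.S0944

/-!
# A perfect group with an involution centralizer dihedral of order eight has order 168 or 360
-/

set_option linter.unusedSectionVars false
set_option linter.style.haveILetI false

namespace Cfsg.Lib.OddLocal.DihedralEight

open Subgroup Cfsg.Lib.Chars Cfsg.Lib.Dual
open scoped ComplexConjugate

universe u

theorem d4_center : ∀ a : DihedralGroup 4, (∀ b, a * b = b * a) → a = 1 ∨ a = DihedralGroup.r 2 := by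
  decide

theorem d4_powers : ∀ a : DihedralGroup 4, a = 1 ∨ a = DihedralGroup.r 1 ∨ a = DihedralGroup.r 2 ∨
    a = DihedralGroup.r 3 ∨ (a * a = 1 ∧ a * DihedralGroup.r 1 * a⁻¹ = DihedralGroup.r 3) := by
  decide

theorem d4_sq : (Finset.univ.filter fun a : DihedralGroup 4 => a * a = 1 ∧ a ≠ 1).card = 5 := by
  decide

theorem d4_inv : (Finset.univ.filter fun a : DihedralGroup 4 =>
    a * a = 1 ∧ a ≠ 1 ∧ a * DihedralGroup.r 1 * a⁻¹ = DihedralGroup.r 3).card = 4 := by
  decide

theorem orderOf_two_iff {M : Type*} [Group M] {a : M} : orderOf a = 2 ↔ a * a = 1 ∧ a ≠ 1 := by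
  refine ⟨fun h => ⟨Cfsg.Lib.InvolCalc.sq_of_order_two h, Cfsg.Lib.InvolCalc.ne_one_of_order_two h⟩,
    fun h => Cfsg.Lib.InvolCalc.order_two_of_mul_self h.1 h.2⟩

variable {G : Type u} [Group G] [Fintype G]

theorem order_eq (hperf : commutator G = ⊤) (t : G) (ht : orderOf t = 2)
    (e : centralizer ({t} : Set G) ≃* DihedralGroup 4) : Nat.card G = 168 ∨ Nat.card G = 360 := by
  classical
  set H := centralizer ({t} : Set G) with hHdef
  have htH : t ∈ H := mem_centralizer_singleton_iff.mpr rfl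
  have htc : ∀ h ∈ H, t * h = h * t := fun h hh => (mem_centralizer_singleton_iff.mp hh).symm
  have hH8 : Nat.card H = 8 := by rw [Nat.card_congr e.toEquiv, DihedralGroup.nat_card]
  let f : DihedralGroup 4 →* G := H.subtype.comp e.symm.toMonoidHom
  have hfi : Function.Injective f := Subtype.coe_injective.comp e.symm.injective
  have hfH : ∀ a, f a ∈ H := fun a => (e.symm a).2
  have hfe : ∀ (h : G) (hh : h ∈ H), f (e ⟨h, hh⟩) = h := fun h hh => by simp [f]
  set x := f (DihedralGroup.r 1) with hxdef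
  have htr : t = f (DihedralGroup.r 2) := by
    have h1 : e ⟨t, htH⟩ = 1 ∨ e ⟨t, htH⟩ = DihedralGroup.r 2 := by
      refine d4_center _ fun b => ?_
      apply hfi
      rw [map_mul, map_mul, hfe]
      exact htc _ (hfH b)
    rcases h1 with h | h
    · exfalso
      have := congrArg f h
      rw [hfe, map_one] at this
      rw [this, orderOf_one] at ht
      omega
    · rw [← h, hfe]
  have hx2 : x * x = t := by rw [htr, hxdef, ← map_mul]; rfl
  have hxo : orderOf x = 4 := by rw [hxdef, orderOf_injective f hfi, DihedralGroup.orderOf_r_one]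
  have hxH : x ∈ H := hfH _
  set K := zpowers x with hKdef
  have hKH : K ≤ H := zpowers_le.mpr hxH
  have hK4 : Nat.card K = 4 := by rw [hKdef, Nat.card_zpowers, hxo]
  have hxinv : x⁻¹ = f (DihedralGroup.r 3) := by rw [hxdef, ← map_inv]; rfl
  -- the elements of `H`
  have hcases : ∀ h ∈ H, h = 1 ∨ h = x ∨ h = t ∨ h = x⁻¹ ∨ (h * h = 1 ∧ h * x * h⁻¹ = x⁻¹) := by
    intro h hh
    rcases d4_powers (e ⟨h, hh⟩) with h1 | h1 | h1 | h1 | ⟨h1, h2⟩
    · exact Or.inl (by rw [← hfe h hh, h1, map_one])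
    · exact Or.inr (Or.inl (by rw [← hfe h hh, h1]))
    · exact Or.inr (Or.inr (Or.inl (by rw [← hfe h hh, h1, htr])))
    · exact Or.inr (Or.inr (Or.inr (Or.inl (by rw [← hfe h hh, h1, hxinv]))))
    · refine Or.inr (Or.inr (Or.inr (Or.inr ⟨?_, ?_⟩)))
      · rw [← hfe h hh, ← map_mul, h1, map_one]
      · rw [← hfe h hh, hxdef, ← map_inv, ← map_mul, ← map_mul, h2, ← map_inv]
        rfl
  have htK : t ∈ K := hx2 ▸ mul_mem (mem_zpowers x) (mem_zpowers x)
  have hKel : ∀ k ∈ K, k = 1 ∨ k = x ∨ k = t ∨ k = x⁻¹ := by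
    intro k hk
    rcases hcases k (hKH hk) with h | h | h | h | ⟨h1, h2⟩
    · exact Or.inl h
    · exact Or.inr (Or.inl h)
    · exact Or.inr (Or.inr (Or.inl h))
    · exact Or.inr (Or.inr (Or.inr h))
    · exfalso
      obtain ⟨i, rfl⟩ := mem_zpowers_iff.mp hk
      rw [(Commute.zpow_self x i).eq, mul_inv_cancel_right] at h2
      have : x * x = 1 := by nth_rw 2 [h2]; exact mul_inv_cancel x
      rw [hx2] at this
      rw [this, orderOf_one] at ht
      omega
  have hx4 : orderOf x⁻¹ = 4 := by rw [orderOf_inv, hxo]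
  have hxne : x ≠ x⁻¹ := fun h => by
    have : x * x = 1 := by nth_rw 2 [h]; exact mul_inv_cancel x
    rw [hx2] at this
    rw [this, orderOf_one] at ht
    omega
  have hKinv : ∀ k ∈ K, orderOf k = 2 → k = t := by
    intro k hk ho
    rcases hKel k hk with rfl | rfl | rfl | rfl
    · rw [orderOf_one] at ho; omega
    · omega
    · rfl
    · omega
  have hxt : ∀ w : G, w * x * w⁻¹ = x ∨ w * x * w⁻¹ = x⁻¹ → w ∈ H := by
    intro w hw
    refine mem_centralizer_singleton_iff.mpr ?_
    have h1 : w * t * w⁻¹ = t := by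
      have e1 : w * t * w⁻¹ = (w * x * w⁻¹) * (w * x * w⁻¹) := by rw [← hx2]; group
      rcases hw with h | h
      · rw [e1, h, hx2]
      · rw [e1, h, ← mul_inv_rev, hx2, Cfsg.Lib.InvolCalc.inv_of_order_two ht]
    exact mul_inv_eq_iff_eq_mul.mp h1
  have hCx : centralizer ({x} : Set G) = K := by
    refine le_antisymm (fun w hw => ?_) (zpowers_le.mpr (mem_centralizer_singleton_iff.mpr rfl))
    have h1 : w * x * w⁻¹ = x := mul_inv_eq_iff_eq_mul.mpr (mem_centralizer_singleton_iff.mp hw)
    rcases hcases w (hxt w (Or.inl h1)) with rfl | rfl | rfl | rfl | ⟨-, h2⟩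
    · exact one_mem _
    · exact mem_zpowers _
    · exact htK
    · exact inv_mem (mem_zpowers _)
    · exact absurd (h1.symm.trans h2) hxne
  -- `H` is a Sylow subgroup
  obtain ⟨P, hP⟩ := (IsPGroup.of_card (n := 3) (by rw [hH8]; norm_num) : IsPGroup 2 H).exists_le_sylow
  have hPH : (P : Subgroup G) = H := by
    refine le_antisymm ?_ hP
    haveI : Nontrivial (P : Subgroup G) := (nontrivial_iff_ne_bot _).mpr fun h => by
      have := hP htH
      rw [h, mem_bot] at this
      rw [this, orderOf_one] at ht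
      omega
    haveI := P.2.isNilpotent
    obtain ⟨⟨z, hzP⟩, hzc, hz1⟩ := (bot_or_exists_ne_one _).resolve_left
      (Group.IsNilpotent.center_ne_bot (P : Subgroup G))
    have hzcomm : ∀ y ∈ (P : Subgroup G), z * y = y * z := fun y hy =>
      (congrArg Subtype.val (mem_center_iff.mp hzc ⟨y, hy⟩)).symm
    have hzH : z ∈ H := mem_centralizer_singleton_iff.mpr (hzcomm t (hP htH))
    have hzt : z = t := by
      rcases d4_center (e ⟨z, hzH⟩) (fun b => hfi (by
          rw [map_mul, map_mul, hfe]; exact hzcomm _ (hP (hfH b)))) with h | h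
      · exact absurd (Subtype.ext (show z = 1 by rw [← hfe z hzH, h, map_one])) hz1
      · rw [← hfe z hzH, h, htr]
    exact fun y hy => mem_centralizer_singleton_iff.mpr (hzt ▸ (hzcomm y hy)).symm
  obtain ⟨o, ho, hgo⟩ : ∃ o, Odd o ∧ Nat.card G = 8 * o := by
    refine ⟨H.index, ?_, by rw [← H.card_mul_index, hH8]⟩
    rw [Nat.odd_iff, ← Nat.two_dvd_ne_zero, ← hPH]
    exact P.not_dvd_index
  -- one class of involutions
  have hclass : ∀ w : G, orderOf w = 2 → IsConj t w := by
    intro w hw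
    obtain ⟨Q, hQ⟩ := (IsPGroup.of_card (n := 1) (by rw [Nat.card_zpowers, hw, pow_one]) :
      IsPGroup 2 (zpowers w)).exists_le_sylow
    obtain ⟨g, hg⟩ := MulAction.exists_smul_eq G Q P
    set v := g * w * g⁻¹ with hv
    have hvP : v ∈ (P : Subgroup G) := by
      rw [← hg]; exact ⟨w, hQ (mem_zpowers w), rfl⟩
    have hvo : orderOf v = 2 := by
      rw [← hw]; exact orderOf_injective (MulAut.conj g).toMonoidHom (MulAut.conj g).injective w
    have hwv : IsConj w v := isConj_iff.mpr ⟨g, rfl⟩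
    by_cases hvK : v ∈ K
    · exact (hKinv v hvK hvo ▸ hwv).symm
    have hKi : K.relIndex (P : Subgroup G) = 2 := by
      have h1 := card_mul_index (K.subgroupOf H)
      rw [Nat.card_congr (subgroupOfEquivOfLe hKH).toEquiv, hK4, hH8] at h1
      rw [hPH, relIndex]
      omega
    rcases Cfsg.Agent.S0111.result P K (hPH ▸ hKH) hKi v hvo hvP hvK with ⟨M, hM, hMi, -⟩ | ⟨a, ha⟩
    · exfalso
      haveI := hM
      have h1 : commutator G ≤ M := by
        rw [_root_.commutator_def, commutator_le]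
        intro a _ b _
        rw [commutatorElement_def]
        simp only [Subgroup.mul_mem_iff_of_index_two hMi, inv_mem_iff]
        tauto
      rw [hperf, top_le_iff] at h1
      rw [h1, index_top] at hMi
      omega
    · have hao : orderOf (a * v * a⁻¹) = 2 := by
        rw [← hvo]; exact orderOf_injective (MulAut.conj a).toMonoidHom (MulAut.conj a).injective v
      have h2 : IsConj v t := isConj_iff.mpr ⟨a, hKinv _ ha hao⟩
      exact (hwv.trans h2).symm
  -- the two counts
  have hpx : Nat.card {p : G × G // IsConj t p.1 ∧ IsConj t p.2 ∧ p.1 * p.2 = x} = 4 := by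
    have hiff : ∀ w : G, IsConj t w ↔ orderOf w = 2 := fun w => ⟨fun h => by
      obtain ⟨k, rfl⟩ := isConj_iff.mp h
      rw [← ht]
      exact orderOf_injective (MulAut.conj k).toMonoidHom (MulAut.conj k).injective t, hclass w⟩
    rw [Nat.card_congr (Equiv.subtypeEquivRight fun p => by rw [hiff, hiff]),
      Cfsg.Lib.InvolCalc.card_pairs_eq (fun h => by
        rw [sq, hx2] at h; rw [h, orderOf_one] at ht; omega),
      ← d4_inv, ← Fintype.card_subtype, ← Nat.card_eq_fintype_card]
    refine Nat.card_congr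
      { toFun := fun w => ⟨e ⟨w.1, hxt w.1 (Or.inr w.2.2)⟩, ?_⟩
        invFun := fun a => ⟨f a.1, ?_, ?_⟩
        left_inv := fun w => Subtype.ext (hfe _ _)
        right_inv := fun a => Subtype.ext (by simp [f]) }
    · have hh := hxt w.1 (Or.inr w.2.2)
      obtain ⟨h1, h2⟩ := orderOf_two_iff.mp w.2.1
      refine ⟨hfi (by rw [map_mul, hfe, h1, map_one]), fun h => h2 ?_, hfi ?_⟩
      · rw [← hfe w.1 hh, h, map_one]
      · rw [map_mul, map_mul, map_inv, hfe, ← hxdef, ← hxinv]
        exact w.2.2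
    · exact orderOf_two_iff.mpr ⟨by rw [← map_mul, a.2.1, map_one],
        fun h => a.2.2.1 (hfi (by rw [h, map_one]))⟩
    · rw [hxdef, ← map_inv, ← map_mul, ← map_mul, a.2.2.2, ← map_inv]
      rfl
  have hpt : Nat.card {p : G × G // IsConj t p.1 ∧ IsConj t p.2 ∧ p.1 * p.2 = t} = 4 := by
    have hiff : ∀ w : G, IsConj t w ↔ orderOf w = 2 := fun w => ⟨fun h => by
      obtain ⟨k, rfl⟩ := isConj_iff.mp h
      rw [← ht]
      exact orderOf_injective (MulAut.conj k).toMonoidHom (MulAut.conj k).injective t, hclass w⟩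
    rw [Nat.card_congr (Equiv.subtypeEquivRight fun p => by rw [hiff, hiff])]
    have h5 : Nat.card {w : G // orderOf w = 2 ∧ Commute w t} = 5 := by
      rw [← d4_sq, ← Fintype.card_subtype, ← Nat.card_eq_fintype_card]
      refine Nat.card_congr
        { toFun := fun w => ⟨e ⟨w.1, mem_centralizer_singleton_iff.mpr w.2.2.eq⟩, ?_⟩
          invFun := fun a => ⟨f a.1, ?_, (mem_centralizer_singleton_iff.mp (hfH a.1))⟩
          left_inv := fun w => Subtype.ext (hfe _ _)
          right_inv := fun a => Subtype.ext (by simp [f]) }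
      · obtain ⟨h1, h2⟩ := orderOf_two_iff.mp w.2.1
        have hh : w.1 ∈ H := mem_centralizer_singleton_iff.mpr w.2.2.eq
        refine ⟨hfi (by rw [map_mul, hfe, h1, map_one]), fun h => h2 ?_⟩
        rw [← hfe w.1 hh, h, map_one]
      · exact orderOf_two_iff.mpr ⟨by rw [← map_mul, a.2.1, map_one],
          fun h => a.2.2 (hfi (by rw [h, map_one]))⟩
    have := Cfsg.Lib.InvolCalc.card_pairs_involution ht
    omega
  -- the class function on `H`
  haveI : Fintype H := Fintype.ofFinite _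
  let K' : Subgroup H := K.subgroupOf H
  haveI hK'n : K'.Normal := by
    refine ⟨fun k hk h => ?_⟩
    show (h : G) * k * (h : G)⁻¹ ∈ K
    obtain ⟨i, hi⟩ := mem_zpowers_iff.mp (show (k : G) ∈ zpowers x from hk)
    rw [← hi, ← conj_zpow]
    refine zpow_mem ?_ i
    rcases hcases h h.2 with h1 | h1 | h1 | h1 | ⟨-, h2⟩
    · rw [h1, one_mul, inv_one, mul_one]; exact mem_zpowers x
    · rw [h1, mul_inv_cancel_right]; exact mem_zpowers x
    · rw [h1, htc x hxH, mul_inv_cancel_right]; exact mem_zpowers x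
    · rw [h1, inv_inv, inv_mul_cancel, one_mul]; exact mem_zpowers x
    · rw [h2]; exact inv_mem (mem_zpowers x)
  haveI : Fintype K' := Fintype.ofFinite _
  let x' : K' := ⟨⟨x, hxH⟩, mem_zpowers x⟩
  have hgen : ∀ k : K', k ∈ zpowers x' := fun k => by
    obtain ⟨i, hi⟩ := mem_zpowers_iff.mp (show ((k : H) : G) ∈ zpowers x from k.2)
    refine mem_zpowers_iff.mpr ⟨i, ?_⟩
    apply Subtype.ext
    apply Subtype.ext
    simpa [x'] using hi
  let iu : ℂˣ := Units.mk0 Complex.I Complex.I_ne_zero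
  have hio : orderOf iu ∣ orderOf x' := by
    have : orderOf x' = 4 := by
      rw [← orderOf_coe, ← orderOf_coe]; exact hxo
    rw [this]
    exact orderOf_dvd_of_pow_eq_one (Units.ext (by simp [iu, Complex.I_pow_four]))
  let lam : K' →* ℂˣ := monoidHomOfForallMemZpowers hgen hio
  have hlx : lam x' = iu := monoidHomOfForallMemZpowers_apply_gen hgen hio
  have hlam1 : lam ≠ 1 := fun h => by
    have h1 := DFunLike.congr_fun h x'
    rw [hlx] at h1
    simpa [iu, Complex.ext_iff] using congrArg Units.val h1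
  obtain ⟨s, hsH, hsx⟩ : ∃ s ∈ H, s * x * s⁻¹ = x⁻¹ := by
    refine ⟨f (DihedralGroup.sr 0), hfH _, ?_⟩
    rw [hxinv, hxdef, ← map_inv, ← map_mul, ← map_mul]
    rfl
  have hsK : (⟨s, hsH⟩ : H) ∉ K' := fun h => by
    rcases hKel s h with rfl | rfl | rfl | rfl
    · exact hxne (by simpa using hsx)
    · exact hxne (by simpa using hsx)
    · rw [htc x hxH, mul_inv_cancel_right] at hsx; exact hxne hsx
    · exact hxne (by simpa using hsx)
  have hK'i : K'.index = 2 := by
    have h1 := card_mul_index K'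
    rw [Nat.card_congr (subgroupOfEquivOfLe hKH).toEquiv, hK4, hH8] at h1
    omega
  have hstab : ∀ g : H, conjN K' g (ev lam) = ev lam → g ∈ K' := by
    intro g hg
    by_contra hgK
    have hgs : g * (⟨s, hsH⟩ : H)⁻¹ ∈ K' :=
      (Subgroup.mul_mem_iff_of_index_two hK'i).mpr
        ⟨fun h => absurd h hgK, fun h => absurd ((K'.inv_mem_iff).mp h) hsK⟩
    have hgeq : g = (g * (⟨s, hsH⟩ : H)⁻¹) * ⟨s, hsH⟩ := by group
    rw [hgeq, conjN_mul, conjN_of_mem (isClassFunction_isChar (isCharacter_of_irr (isIrr_ev lam)))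
      ⟨_, hgs⟩] at hg
    have h3 := congrFun hg x'
    have e2 : (⟨(⟨s, hsH⟩ : H) * (x' : H) * (⟨s, hsH⟩ : H)⁻¹, hK'n.conj_mem _ x'.2 _⟩ : K') = x'⁻¹ :=
      Subtype.ext (Subtype.ext hsx)
    simp only [conjN, ev, e2, map_inv, hlx] at h3
    norm_num [iu, Complex.ext_iff] at h3
  let φ : H → ℂ := Cfsg.indFun K' (fun _ => 1) - Cfsg.indFun K' (ev lam)
  have hφgen : Cfsg.IsGeneralizedCharacter H φ :=
    IsGeneralizedCharacter.sub
      (IsCharacter.isGeneralized (IsCharacter.indFun (isCharacter_of_irr isIrrCharacter_one)))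
      (IsCharacter.isGeneralized (IsCharacter.indFun (isCharacter_of_irr (isIrr_ev lam))))
  have hφc := isClassFunction_generalized hφgen
  have hll : Cfsg.classInner (Cfsg.indFun K' (ev lam)) (Cfsg.indFun K' (ev lam)) = 1 := by
    have h := classInner_indFun_eq_card K' (isIrr_ev lam) (isIrr_ev lam)
    have hcard : Nat.card {g : H // conjN K' g (ev lam) = ev lam} = Nat.card K' :=
      Nat.card_congr (Equiv.subtypeEquivRight fun g => ⟨hstab g, fun hg =>
        conjN_of_mem (isClassFunction_isChar (isCharacter_of_irr (isIrr_ev lam))) ⟨g, hg⟩⟩)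
    rw [hcard] at h
    exact (mul_eq_left₀ (by exact_mod_cast Nat.card_pos.ne')).mp h
  have h1l := FrobLin.inner_one_lin K' hlam1
  have hl1 : Cfsg.classInner (Cfsg.indFun K' (ev lam)) (Cfsg.indFun K' fun _ => 1) = 0 := by
    rw [← classInner_conj_symm, h1l, map_zero]
  have hφn : Cfsg.classInner φ φ = 3 := by
    simp only [φ, classInner_sub_left, classInner_sub_right, FrobLin.inner_one_one, hll, h1l, hl1, hK'i]
    norm_num
  have hφp : Cfsg.classInner φ (fun _ => 1) = 1 := by
    show Cfsg.classInner (Cfsg.indFun K' (fun _ => 1) - Cfsg.indFun K' (ev lam)) (fun _ => 1) = 1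
    rw [classInner_sub_left, FrobLin.inner_one_principal, frobenius_reciprocity K' (ev lam)
      (isClassFunction_isChar (isCharacter_of_irr isIrrCharacter_one))]
    show _ - Cfsg.classInner (ev lam) (fun _ => (1 : ℂ)) = 1
    rw [classInner_irrChar (isIrr_ev lam) isIrrCharacter_one,
      if_neg (FrobLin.ev_ne_one K' hlam1), sub_zero]
  let T : Set G := {k | k ∈ K ∧ k ≠ 1}
  have hφout : ∀ w : H, (w : G) ∉ T → φ w = 0 := by
    intro w hw
    show Cfsg.indFun K' (fun _ => 1) w - Cfsg.indFun K' (ev lam) w = 0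
    by_cases hwK : w ∈ K'
    · obtain rfl : w = 1 := Subtype.ext (by_contra fun h => hw ⟨hwK, h⟩)
      rw [FrobLin.indFun_const_one, FrobLin.indFun_ev_one, sub_self]
    · rw [indFun_normal_not_mem K' _ hwK, indFun_normal_not_mem K' _ hwK, sub_zero]
  have hφone : φ 1 = 0 := hφout 1 fun h => h.2 rfl
  have hφt : φ ⟨t, htH⟩ = 4 := by
    show Cfsg.indFun K' (fun _ => 1) ⟨t, htH⟩ - Cfsg.indFun K' (ev lam) ⟨t, htH⟩ = 4
    have ht' : (⟨t, htH⟩ : H) ∈ K' := htK
    rw [show (⟨t, htH⟩ : H) = ((⟨⟨t, htH⟩, ht'⟩ : K') : H) from rfl, indFun_normal_mem,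
      indFun_normal_mem, ← mul_sub, ← Finset.sum_sub_distrib]
    have hv : ∀ g : H, (1 : ℂ) - ev lam ⟨g * ⟨t, htH⟩ * g⁻¹, hK'n.conj_mem _ ht' g⟩ = 2 := by
      intro g
      have h5 : (⟨g * ⟨t, htH⟩ * g⁻¹, hK'n.conj_mem _ ht' g⟩ : K') = x' * x' := by
        apply Subtype.ext; apply Subtype.ext
        show (g : G) * t * (g : G)⁻¹ = x * x
        rw [hx2, ← htc g g.2, mul_inv_cancel_right]
      show (1 : ℂ) - (lam _ : ℂ) = 2
      rw [h5, map_mul, hlx]
      simp [iu]
      norm_num
    rw [Finset.sum_congr rfl fun g _ => hv g, Finset.sum_const, Finset.card_univ, nsmul_eq_mul,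
      ← Nat.card_eq_fintype_card, hH8, Nat.card_congr (subgroupOfEquivOfLe hKH).toEquiv, hK4]
    norm_num
  have hφx : φ ⟨x, hxH⟩ = 2 := by
    have hsym : φ ⟨x⁻¹, inv_mem hxH⟩ = φ ⟨x, hxH⟩ := by
      have h6 := hφc ⟨x, hxH⟩ ⟨s, hsH⟩
      rw [← h6]
      exact congrArg φ (Subtype.ext hsx.symm)
    have hsum := hφp
    rw [classInner_def] at hsum
    simp only [map_one, mul_one] at hsum
    rw [← Finset.sum_subset (Finset.subset_univ
        ({⟨t, htH⟩, ⟨x, hxH⟩, ⟨x⁻¹, inv_mem hxH⟩} : Finset H)) (fun w _ hw => hφout w fun hwT => hw (by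
          rcases hKel _ hwT.1 with h | h | h | h
          · exact absurd h hwT.2
          all_goals simp [Subtype.ext_iff, h])),
      Finset.sum_insert (by
        simp only [Finset.mem_insert, Finset.mem_singleton, Subtype.mk.injEq, not_or]
        constructor <;> intro h <;> have := congrArg orderOf h <;> omega),
      Finset.sum_pair (fun h => hxne (congrArg Subtype.val h)), hsym, hφt, hH8] at hsum
    push_cast at hsum
    linear_combination 4 * hsum
  -- induce to `G`
  have hTI : ∀ g : G, g ∉ H → ∀ k ∈ T, g * k * g⁻¹ ∈ T → k = 1 := by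
    intro g hg k hk hgk
    exfalso
    refine hg ?_
    have ho : orderOf (g * k * g⁻¹) = orderOf k :=
      orderOf_injective (MulAut.conj g).toMonoidHom (MulAut.conj g).injective k
    rcases hKel k hk.1 with rfl | rfl | rfl | rfl
    · exact absurd rfl hk.2
    · rcases hKel _ hgk.1 with h | h | h | h
      · exact absurd h hgk.2
      · exact hxt g (Or.inl h)
      · rw [h, ht, hxo] at ho; omega
      · exact hxt g (Or.inr h)
    · exact mem_centralizer_singleton_iff.mpr (mul_inv_eq_iff_eq_mul.mp (hKinv _ hgk.1 (ho.trans ht)))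
    · have hgi : g * x * g⁻¹ = (g * x⁻¹ * g⁻¹)⁻¹ := by group
      rcases hKel _ hgk.1 with h | h | h | h
      · exact absurd h hgk.2
      · exact hxt g (Or.inr (by rw [hgi, h]))
      · rw [h, ht, hx4] at ho; omega
      · exact hxt g (Or.inl (by rw [hgi, h, inv_inv]))
  let F : G → ℂ := Cfsg.indFun H φ
  have hFgen : Cfsg.IsGeneralizedCharacter G F := IsGeneralizedCharacter.indFun hφgen
  have hFt : F t = 4 := by
    rw [← hφt]
    exact indFun_TI_apply' H T hTI hφc hφout ⟨t, htH⟩
      ⟨htK, Cfsg.Lib.InvolCalc.ne_one_of_order_two ht⟩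
      fun h => Cfsg.Lib.InvolCalc.ne_one_of_order_two ht (congrArg Subtype.val h)
  have hx1 : x ≠ 1 := fun h => by rw [h, orderOf_one] at hxo; omega
  have hFx : F x = 2 := by
    rw [← hφx]
    exact indFun_TI_apply' H T hTI hφc hφout ⟨x, hxH⟩ ⟨mem_zpowers x, hx1⟩
      fun h => hx1 (congrArg Subtype.val h)
  have hFn : Cfsg.classInner F F = 3 := by
    show Cfsg.classInner (Cfsg.indFun H φ) (Cfsg.indFun H φ) = 3
    rw [frobenius_reciprocity H φ (isClassFunction_indFun H φ), ← hφn, classInner_def, classInner_def]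
    refine congrArg _ (Finset.sum_congr rfl fun w _ => ?_)
    by_cases hw : (w : G) ∈ T
    · rw [indFun_TI_apply' H T hTI hφc hφout w hw (fun h => hw.2 (congrArg Subtype.val h))]
    · rw [hφout w hw, zero_mul, zero_mul]
  have hFone : F 1 = 0 := by
    show Cfsg.indFun H φ 1 = 0
    rw [indFun_one, hφone, mul_zero]
  have hF1 : Cfsg.classInner F (fun _ => 1) = 1 := by
    show Cfsg.classInner (Cfsg.indFun H φ) _ = 1
    rw [frobenius_reciprocity H φ (isClassFunction_isChar (isCharacter_of_irr isIrrCharacter_one))]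
    exact hφp
  have hFc : Cfsg.IsClassFunction G F := isClassFunction_generalized hFgen
  -- decomposition
  have h1irr : Cfsg.IsIrrCharacter G (fun _ => (1 : ℂ)) := isIrrCharacter_one
  have h1F : Cfsg.classInner (fun _ => (1 : ℂ)) F = 1 := by rw [← classInner_conj_symm, hF1, map_one]
  obtain ⟨μ, ν, hne, heq⟩ := QuatDerived.exists_sub_of_deg_neg_one (f := F - fun _ => 1)
    (IsGeneralizedCharacter.sub hFgen (IsCharacter.isGeneralized (isCharacter_of_irr h1irr)))
    (by rw [classInner_sub_left, classInner_sub_right, classInner_sub_right, hFn, hF1, h1F,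
      classInner_self_irr h1irr]; norm_num)
    (by simp [hFone])
  have hFeq : ∀ g, F g = 1 + (μ : G → ℂ) g - (ν : G → ℂ) g := fun g => by
    have := congrFun heq g
    simp only [Pi.sub_apply] at this
    linear_combination this
  have hcoef : ∀ χ : Cfsg.IrrCharacter G, Cfsg.classInner F (χ : G → ℂ) =
      (if principal G = χ then 1 else 0) + (if μ = χ then 1 else 0) - (if ν = χ then 1 else 0) := by
    intro χ
    have hF' : F = ((principal G : G → ℂ) + (μ : G → ℂ)) - (ν : G → ℂ) := by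
      funext g; rw [hFeq]; rfl
    rw [hF', classInner_sub_left, classInner_add_left, classInner_irrCharacter,
      classInner_irrCharacter, classInner_irrCharacter]
  have hP1 : Cfsg.classInner F (principal G : G → ℂ) = 1 := hF1
  rw [hcoef, if_pos rfl] at hP1
  have hνp : ν ≠ principal G := by
    intro h
    rw [if_pos h, if_neg (fun h' => hne (h'.trans h.symm))] at hP1
    norm_num at hP1
  have hμp : μ ≠ principal G := by
    intro h
    rw [if_neg hνp, if_pos h] at hP1
    norm_num at hP1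
  -- the class sum
  set k : ℂ := (Nat.card {w : G // IsConj t w} : ℂ) with hk
  set g₀ : ℂ := (Nat.card G : ℂ) with hg₀
  have hg0 : g₀ ≠ 0 := by rw [hg₀]; exact_mod_cast Nat.card_pos.ne'
  have hk8 : k * 8 = g₀ := by
    have h := card_isConj_mul t
    rw [hk, hg₀, ← h, ← hHdef, hH8]; push_cast; ring
  have hkx : (Nat.card {w : G // IsConj x w} : ℂ) * 4 = g₀ := by
    have h := card_isConj_mul x
    rw [hg₀, ← h, hCx, hK4]; push_cast; ring
  have hpt' : ∀ w, IsConj t w →
      (Nat.card {p : G × G // IsConj t p.1 ∧ IsConj t p.2 ∧ p.1 * p.2 = w} : ℂ) * F w = 16 := by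
    intro w hw
    rw [← classFunction_eq_of_isConj hFc hw, hFt]
    obtain ⟨c, rfl⟩ := isConj_iff.mp hw
    have hcnt : Nat.card {p : G × G // IsConj t p.1 ∧ IsConj t p.2 ∧ p.1 * p.2 = c * t * c⁻¹} = 4 := by
      rw [← hpt]
      refine Nat.card_congr (((MulAut.conj c⁻¹).toEquiv.prodCongr (MulAut.conj c⁻¹).toEquiv).subtypeEquiv
        fun p => ?_)
      simp only [Equiv.prodCongr_apply, Prod.map_fst, Prod.map_snd, MulEquiv.toEquiv_eq_coe,
        MulEquiv.coe_toEquiv, MulAut.conj_apply, inv_inv]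
      have hcj : ∀ a : G, IsConj t a ↔ IsConj t (c⁻¹ * a * c) := fun a =>
        ⟨fun h => h.trans (isConj_iff.mpr ⟨c⁻¹, by simp⟩),
          fun h => h.trans (isConj_iff.mpr ⟨c, by group⟩)⟩
      rw [← hcj, ← hcj]
      refine and_congr Iff.rfl (and_congr Iff.rfl ⟨fun h => ?_, fun h => ?_⟩)
      · calc c⁻¹ * p.1 * c * (c⁻¹ * p.2 * c) = c⁻¹ * (p.1 * p.2) * c := by group
          _ = t := by rw [h]; group
      · calc p.1 * p.2 = c * (c⁻¹ * p.1 * c * (c⁻¹ * p.2 * c)) * c⁻¹ := by group
          _ = c * t * c⁻¹ := by rw [h]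
    rw [hcnt]; norm_num
  have hpx' : ∀ w, IsConj x w →
      (Nat.card {p : G × G // IsConj t p.1 ∧ IsConj t p.2 ∧ p.1 * p.2 = w} : ℂ) * F w = 8 := by
    intro w hw
    rw [← classFunction_eq_of_isConj hFc hw, hFx]
    obtain ⟨c, rfl⟩ := isConj_iff.mp hw
    have hcnt : Nat.card {p : G × G // IsConj t p.1 ∧ IsConj t p.2 ∧ p.1 * p.2 = c * x * c⁻¹} = 4 := by
      rw [← hpx]
      refine Nat.card_congr (((MulAut.conj c⁻¹).toEquiv.prodCongr (MulAut.conj c⁻¹).toEquiv).subtypeEquiv
        fun p => ?_)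
      simp only [Equiv.prodCongr_apply, Prod.map_fst, Prod.map_snd, MulEquiv.toEquiv_eq_coe,
        MulEquiv.coe_toEquiv, MulAut.conj_apply, inv_inv]
      have hcj : ∀ a : G, IsConj t a ↔ IsConj t (c⁻¹ * a * c) := fun a =>
        ⟨fun h => h.trans (isConj_iff.mpr ⟨c⁻¹, by simp⟩),
          fun h => h.trans (isConj_iff.mpr ⟨c, by group⟩)⟩
      rw [← hcj, ← hcj]
      refine and_congr Iff.rfl (and_congr Iff.rfl ⟨fun h => ?_, fun h => ?_⟩)
      · calc c⁻¹ * p.1 * c * (c⁻¹ * p.2 * c) = c⁻¹ * (p.1 * p.2) * c := by group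
          _ = x := by rw [h]; group
      · calc p.1 * p.2 = c * (c⁻¹ * p.1 * c * (c⁻¹ * p.2 * c)) * c⁻¹ := by group
          _ = c * x * c⁻¹ := by rw [h]
    rw [hcnt]; norm_num
  have hzero : ∀ w, ¬ IsConj t w → ¬ IsConj x w → F w = 0 := by
    intro w h1 h2
    show Cfsg.indFun H φ w = 0
    rw [indFun_apply, Finset.sum_eq_zero, mul_zero]
    intro a _
    by_cases hma : a⁻¹ * w * a ∈ H
    · rw [extendByZero_mem _ hma]
      refine hφout _ fun hT => ?_
      have hc : IsConj (a⁻¹ * w * a) w := isConj_iff.mpr ⟨a, by group⟩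
      rcases hKel _ hT.1 with h | h | h | h
      · exact hT.2 h
      · exact h2 (h ▸ hc)
      · exact h1 (h ▸ hc)
      · exact h2 ((isConj_iff.mpr ⟨s, hsx⟩).trans (h ▸ hc))
    · rw [extendByZero_not_mem _ hma]
  have hsum : ∑ w : G,
      (Nat.card {p : G × G // IsConj t p.1 ∧ IsConj t p.2 ∧ p.1 * p.2 = w} : ℂ) * F w = 4 * g₀ := by
    have htx : ∀ w, IsConj t w → ¬ IsConj x w := fun w h1 h2 => by
      obtain ⟨c, hc⟩ := isConj_iff.mp (h1.trans h2.symm)
      have := orderOf_injective (MulAut.conj c).toMonoidHom (MulAut.conj c).injective t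
      rw [show (MulAut.conj c).toMonoidHom t = x from hc, hxo, ht] at this
      omega
    have hval : ∀ w : G, (Nat.card {p : G × G // IsConj t p.1 ∧ IsConj t p.2 ∧ p.1 * p.2 = w} : ℂ) * F w =
        (if IsConj t w then 16 else 0) + (if IsConj x w then 8 else 0) := by
      intro w
      by_cases h1 : IsConj t w
      · rw [hpt' w h1, if_pos h1, if_neg (htx w h1), add_zero]
      · by_cases h2 : IsConj x w
        · rw [hpx' w h2, if_neg h1, if_pos h2, zero_add]
        · rw [hzero w h1 h2, if_neg h1, if_neg h2, mul_zero, add_zero]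
    rw [Finset.sum_congr rfl fun w _ => hval w, Finset.sum_add_distrib, ← Finset.sum_filter,
      ← Finset.sum_filter, Finset.sum_const, Finset.sum_const, nsmul_eq_mul, nsmul_eq_mul,
      ← Fintype.card_subtype, ← Fintype.card_subtype, ← Nat.card_eq_fintype_card,
      ← Nat.card_eq_fintype_card, ← hk]
    linear_combination 2 * hk8 + 2 * hkx
  have hform : ∑ w : G,
      (Nat.card {p : G × G // IsConj t p.1 ∧ IsConj t p.2 ∧ p.1 * p.2 = w} : ℂ) * F w =
      k * k * ∑ χ : Cfsg.IrrCharacter G,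
        Cfsg.classInner F (χ : G → ℂ) * ((χ : G → ℂ) t * (χ : G → ℂ) t / (χ : G → ℂ) 1) := by
    simp only [class_mult_formula, mul_assoc, ← hk]
    simp only [Finset.mul_sum, Finset.sum_mul]
    rw [Finset.sum_comm]
    refine Finset.sum_congr rfl fun χ _ => ?_
    rw [classInner_def, Finset.mul_sum, Finset.sum_mul, Finset.mul_sum, Finset.mul_sum]
    refine Finset.sum_congr rfl fun w _ => ?_
    simp only [div_eq_mul_inv]
    ring
  rw [hsum] at hform
  simp only [hcoef, add_mul, sub_mul, Finset.sum_add_distrib, Finset.sum_sub_distrib, ite_mul,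
    one_mul, zero_mul, Finset.sum_ite_eq, Finset.mem_univ, if_true] at hform
  have hp : ∀ w : G, (principal G : G → ℂ) w = 1 := fun w => rfl
  rw [hp, hp] at hform
  -- values
  obtain ⟨a, ha, -⟩ := Cfsg.Agent.S0944.result μ t ht
  obtain ⟨b, hb, -⟩ := Cfsg.Agent.S0944.result ν t ht
  have hab : b = a - 3 := by
    have h := hFeq t
    rw [hFt, ha, hb] at h
    have h' : ((4 : ℤ) : ℂ) = ((1 + a - b : ℤ) : ℂ) := by push_cast; linear_combination h
    have := Int.cast_injective h'
    omega
  have hbound : a ^ 2 + b ^ 2 + 1 ≤ 8 := by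
    have h := second_orthogonality t t
    rw [if_pos (IsConj.refl t), ← hHdef, hH8] at h
    have hre : ∑ χ : Cfsg.IrrCharacter G, Complex.normSq ((χ : G → ℂ) t) = 8 := by
      have h' := congrArg Complex.re h
      rw [Complex.re_sum] at h'
      simp only [Complex.mul_conj, Complex.ofReal_re] at h'
      rw [h']; simp
    have h3 := Finset.sum_le_sum_of_subset_of_nonneg
      (f := fun χ : Cfsg.IrrCharacter G => Complex.normSq ((χ : G → ℂ) t))
      (Finset.subset_univ {principal G, μ, ν}) (fun χ _ _ => Complex.normSq_nonneg _)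
    rw [hre, Finset.sum_insert (by simp [hμp.symm, hνp.symm]), Finset.sum_pair hne, hp, ha, hb] at h3
    simp only [map_one, Complex.normSq_intCast] at h3
    have : ((a * a + b * b + 1 : ℤ) : ℝ) ≤ ((8 : ℤ) : ℝ) := by push_cast; linarith
    have := Int.cast_le.mp this
    nlinarith
  obtain ⟨m, hm0, hm⟩ := IsIrrCharacter.apply_one μ.2
  have hν1 : (ν : G → ℂ) 1 = (m : ℂ) + 1 := by
    have h := hFeq 1
    rw [hFone, hm] at h
    linear_combination h
  rw [ha, hb, hm, hν1, hab] at hform
  have hmC : (m : ℂ) ≠ 0 := by exact_mod_cast Nat.pos_iff_ne_zero.mp hm0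
  have hm1C : (m : ℂ) + 1 ≠ 0 := by exact_mod_cast Nat.succ_ne_zero m
  have ha12 : a = 1 ∨ a = 2 := by
    subst hab
    have h1 : 1 ≤ a := by nlinarith
    have h2 : a ≤ 2 := by nlinarith
    omega
  have hgC : g₀ = 8 * (o : ℂ) := by rw [hg₀, hgo]; push_cast; ring
  have hkC : k = (o : ℂ) := by linear_combination (hk8 + hgC) / 8
  have hoC : (o : ℂ) ≠ 0 := by exact_mod_cast ho.pos.ne'
  rw [hgC, hkC] at hform
  rcases ha12 with rfl | rfl
  · right
    rw [hgo]
    refine solve_one ho hm0 ?_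
    push_cast at hform
    field_simp at hform
    have h' : ((o * ((m - 1) * (m - 1)) : ℕ) : ℂ) = ((32 * (m * (m + 1)) : ℕ) : ℂ) := by
      rw [Nat.cast_mul, Nat.cast_mul, Nat.cast_sub hm0]
      push_cast
      linear_combination -hform
    exact_mod_cast h'
  · left
    rw [hgo]
    refine solve_two ho hm0 ?_
    push_cast at hform
    field_simp at hform
    have h' : ((o * ((m + 2) * (m + 2)) : ℕ) : ℂ) = ((32 * (m * (m + 1)) : ℕ) : ℂ) := by
      push_cast
      linear_combination -hform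
    exact_mod_cast h'

end Cfsg.Lib.OddLocal.DihedralEight
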