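import Mathlib

/-!
# The arithmetic for a group whose involution centralizer is dihedral of order eight
-/

namespace Cfsg.Lib.OddLocal.DihedralEight

theorem pow_two_eq_of_odd {a b o q : ℕ} (ho : Odd o) (hq : Odd q) (h : o * 2 ^ a = q * 2 ^ b) :
    a = b := by
  have h2 : ∀ {c d r : ℕ}, Odd r → 2 ^ c ∣ r * 2 ^ d → c ≤ d := by
    intro c d r hr hd
    have hc : Nat.Coprime (2 ^ c) r := Nat.Coprime.pow_left _ (Nat.coprime_two_left.mpr hr)
    exact (Nat.pow_dvd_pow_iff_le_right (by norm_num)).mp (hc.dvd_of_dvd_mul_left hd)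
  exact le_antisymm (h2 hq (h ▸ dvd_mul_left _ _)) (h2 ho (h.symm ▸ dvd_mul_left _ _))

theorem eq_two_pow_of_forall (n : ℕ) (hn : n ≠ 0) (h : ∀ p : ℕ, p.Prime → p ∣ n → p = 2) :
    ∃ j, n = 2 ^ j := ⟨_, Nat.eq_prime_pow_of_unique_prime_dvd hn fun {q} hq hd => h q hq hd⟩

/-- The case of value one at the involution. -/
theorem solve_one {o m : ℕ} (ho : Odd o) (hm : 1 ≤ m)
    (h : o * ((m - 1) * (m - 1)) = 32 * (m * (m + 1))) : 8 * o = 360 := by
  have hm1 : m - 1 ≠ 0 := by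
    intro h0
    rw [h0] at h
    simp only [Nat.mul_zero] at h
    nlinarith
  obtain ⟨j, hj⟩ := eq_two_pow_of_forall (m - 1) hm1 fun p hp hpd => by
    haveI := Fact.mk hp
    have h1 : p ∣ 32 * (m * (m + 1)) := h ▸ (hpd.mul_right _).mul_left _
    rcases (Nat.Prime.dvd_mul hp).mp h1 with h2 | h2
    · have h32 : (32 : ℕ) = 2 ^ 5 := by norm_num
      rw [h32] at h2
      exact (Nat.prime_dvd_prime_iff_eq hp Nat.prime_two).mp (hp.dvd_of_dvd_pow h2)
    · rcases (Nat.Prime.dvd_mul hp).mp h2 with h3 | h3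
      · have h4 := Nat.dvd_sub h3 hpd
        rw [show m - (m - 1) = 1 by omega] at h4
        exact absurd (Nat.eq_one_of_dvd_one h4) hp.one_lt.ne'
      · have h4 := Nat.dvd_sub h3 hpd
        rw [show m + 1 - (m - 1) = 2 by omega] at h4
        exact (Nat.prime_dvd_prime_iff_eq hp Nat.prime_two).mp h4
  have hm' : m = 2 ^ j + 1 := by omega
  rw [hj, hm', ← pow_add] at h
  match j with
  | 0 => norm_num at h; obtain ⟨k, hk⟩ := ho; omega
  | 1 => norm_num at h; obtain ⟨k, hk⟩ := ho; omega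
  | j + 2 =>
    have h1 : (2 ^ (j + 2) + 1) * (2 ^ (j + 1) + 1) * 2 ^ 6 =
        32 * ((2 ^ (j + 2) + 1) * (2 ^ (j + 2) + 1 + 1)) := by rw [pow_succ 2 (j + 1)]; ring
    rw [← h1] at h
    have hodd : Odd ((2 ^ (j + 2) + 1) * (2 ^ (j + 1) + 1)) := by
      refine Odd.mul ?_ ?_ <;> exact Even.add_one ((Nat.even_pow' (by omega)).mpr even_two)
    have h2 := pow_two_eq_of_odd ho hodd h
    have hj1 : j = 1 := by omega
    subst hj1
    norm_num at h ⊢
    omega

/-- The case of value two at the involution. -/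
theorem solve_two {o m : ℕ} (ho : Odd o) (hm : 1 ≤ m)
    (h : o * ((m + 2) * (m + 2)) = 32 * (m * (m + 1))) : 8 * o = 168 := by
  obtain ⟨j, hj⟩ := eq_two_pow_of_forall (m + 2) (by omega) fun p hp hpd => by
    have h1 : p ∣ 32 * (m * (m + 1)) := h ▸ (hpd.mul_right _).mul_left _
    rcases (Nat.Prime.dvd_mul hp).mp h1 with h2 | h2
    · have h32 : (32 : ℕ) = 2 ^ 5 := by norm_num
      rw [h32] at h2
      exact (Nat.prime_dvd_prime_iff_eq hp Nat.prime_two).mp (hp.dvd_of_dvd_pow h2)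
    · rcases (Nat.Prime.dvd_mul hp).mp h2 with h3 | h3
      · have h4 := Nat.dvd_sub hpd h3
        rw [show m + 2 - m = 2 by omega] at h4
        exact (Nat.prime_dvd_prime_iff_eq hp Nat.prime_two).mp h4
      · have h4 := Nat.dvd_sub hpd h3
        rw [show m + 2 - (m + 1) = 1 by omega] at h4
        exact absurd (Nat.eq_one_of_dvd_one h4) hp.one_lt.ne'
  rw [hj, ← pow_add] at h
  match j with
  | 0 => norm_num at hj; omega
  | 1 => norm_num at hj; omega
  | j + 2 =>
    have hm' : m = 2 * (2 ^ (j + 1) - 1) := by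
      rw [pow_succ 2 (j + 1)] at hj
      omega
    have hp : 1 ≤ 2 ^ (j + 1) := Nat.one_le_two_pow
    have h1 : (2 ^ (j + 1) - 1) * (m + 1) * 2 ^ 6 = 32 * (m * (m + 1)) := by rw [hm']; ring
    rw [← h1] at h
    have hodd : Odd ((2 ^ (j + 1) - 1) * (m + 1)) := by
      refine Odd.mul ?_ ?_
      · exact Nat.Even.sub_odd hp ((Nat.even_pow' (by omega)).mpr even_two) odd_one
      · exact ⟨2 ^ (j + 1) - 1, by omega⟩
    have h2 := pow_two_eq_of_odd ho hodd h
    have hj1 : j = 1 := by omega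
    subst hj1
    norm_num at h hm' ⊢
    rw [hm'] at h
    omega

end Cfsg.Lib.OddLocal.DihedralEight
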