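import Cfsg.Agent.OddLocal.ExceptionalBase
import Cfsg.Agent.OddLocal.RankTwo
import Cfsg.Agent.S1412

/-!
# Maximal subgroups containing the normalizer of a line in a maximal elementary subgroup of order `p²`
-/

set_option linter.unusedSectionVars false
set_option linter.unusedVariables false
set_option linter.style.haveILetI false

namespace Cfsg.Lib.OddLocal.RankTwoMax

open Subgroup Uniqueness Sigma
open Cfsg.Lib.Coprime (conjMap)
open scoped commutatorElement

universe u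

variable {G : Type u} [Group G] [Finite G] {M A A₀ : Subgroup G} {p : ℕ} [hp : Fact p.Prime]

/-- The exceptional configuration. -/
structure Exc (p : ℕ) (M A A₀ : Subgroup G) : Prop where
  coatom : IsCoatom M
  not_sigma : p ∉ Cfsg.sigma M
  le : A ≤ M
  ea : Cfsg.IsElementaryAbelian p A
  card : Nat.card A = p ^ 2
  line_le : A₀ ≤ A
  line_card : Nat.card A₀ = p
  norm_le : normalizer (A₀ : Set G) ≤ M

namespace Exc

theorem maxSq (hG : Cfsg.IsMinSimpleOddOrder G) (h : Exc p M A A₀) : MaxSq p A :=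
  MaxSq.of_not_sigma hG h.coatom h.not_sigma h.le h.ea h.card

theorem line_centralizer_le (h : Exc p M A A₀) : centralizer (A₀ : Set G) ≤ M :=
  (centralizer_le_normalizer _).trans h.norm_le

theorem centralizer_le (h : Exc p M A A₀) : centralizer (A : Set G) ≤ M :=
  (Subgroup.centralizer_le h.line_le).trans h.line_centralizer_le

theorem ne_of_sigma (h : Exc p M A A₀) {q : ℕ} (hσ : q ∈ Cfsg.sigma M) : q ≠ p :=
  fun e => h.not_sigma (e ▸ hσ)

theorem coprime_sigmaCore (h : Exc p M A A₀) : (Nat.card A).Coprime (Nat.card (Cfsg.sigmaCore M)) :=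
  Nat.coprime_of_dvd fun q hq hqA hqS => h.ne_of_sigma (sigmaCore_isPi q hq hqS)
    ((Nat.prime_dvd_prime_iff_eq hq hp.out).mp (hq.dvd_of_dvd_pow (h.card ▸ hqA)))

theorem le_normalizer_sigma (h : Exc p M A A₀) {g : G} (hg : A ≤ conjMap g M) :
    A ≤ normalizer (conjMap g (Cfsg.sigmaCore M) : Set G) := by
  rw [Cfsg.Lib.Coprime.normalizer_conjMap]
  exact hg.trans (Cfsg.Lib.Coprime.conjMap_mono (PiCoreOf.le_normalizer' _ M))

/-- An invariant Sylow group of `M_σ`, conjugated. -/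
theorem exists_max_sylow (hG : Cfsg.IsMinSimpleOddOrder G) (h : Exc p M A A₀) {q : ℕ} [hq : Fact q.Prime]
    (hσ : q ∈ Cfsg.sigma M) {g : G} (hg : A ≤ conjMap g M) {R : Subgroup G} (hRq : IsPGroup q R)
    (hR : R ≤ conjMap g (Cfsg.sigmaCore M)) (hAR : A ≤ normalizer (R : Set G)) :
    ∃ Q : Subgroup G, R ≤ conjMap g Q ∧ conjMap g Q ∈ Cfsg.maxInvSubgroups ⊤ A {q} ∧ IsSylowOf q Q M := by
  set S := conjMap g (Cfsg.sigmaCore M) with hS
  have hsol : Group.IsSolvable A := hG.2.2.2 A (FittingUniqueness.ne_top_of_le_coatom h.coatom h.le)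
  obtain ⟨T, hRT, hAT⟩ := Cfsg.Lib.Coprime.exists_invariant_sylow_ge (h.le_normalizer_sigma hg)
    (by rw [Cfsg.Lib.Coprime.card_conjMap]; exact h.coprime_sigmaCore) (Or.inl hsol) q hR hRq hAR
  set Q := conjMap g⁻¹ ((T : Subgroup S).map S.subtype) with hQ
  have hQS : Q ≤ Cfsg.sigmaCore M := by
    have h1 : Q ≤ conjMap g⁻¹ S := Cfsg.Lib.Coprime.conjMap_mono (map_subtype_le _)
    rwa [hS, Cfsg.Lib.Coprime.conjMap_inv_conjMap] at h1
  have hQg : conjMap g Q = (T : Subgroup S).map S.subtype := Cfsg.Lib.Coprime.conjMap_conjMap_inv _ _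
  have hQsyl : IsSylowOf q Q M := by
    refine ⟨hQS.trans (sigmaCore_le M), (T.2.map _).map _, fun W hW hWM hle => ?_⟩
    have hWS : conjMap g W ≤ S :=
      Cfsg.Lib.Coprime.conjMap_mono (le_sigmaCore_of_pgroup hG h.coatom hσ hW hWM)
    have h1 : (conjMap g W).subgroupOf S = T := T.3 (hW.map _).comap_subtype fun x hx =>
      mem_subgroupOf.mpr ((hQg.ge.trans (Cfsg.Lib.Coprime.conjMap_mono hle)) (mem_map_of_mem _ hx))
    have h2 : conjMap g W = conjMap g Q := by rw [hQg, ← h1, map_subgroupOf_eq_of_le hWS]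
    rw [← Cfsg.Lib.Coprime.conjMap_inv_conjMap g W, h2, Cfsg.Lib.Coprime.conjMap_inv_conjMap]
  refine ⟨Q, hQg ▸ hRT, ⟨Transitivity.mem_inv_iff.mpr ⟨hQsyl.2.1.map _, hQg ▸ hAT⟩, fun W hW hle => ?_⟩,
    hQsyl⟩
  have h1 := sylow_max hσ hQsyl ((Transitivity.mem_inv_iff.mp hW).1.map (MulAut.conj g⁻¹).toMonoidHom)
    (show Q ≤ conjMap g⁻¹ W by
      simpa [Cfsg.Lib.Coprime.conjMap_inv_conjMap] using Cfsg.Lib.Coprime.conjMap_mono (g := g⁻¹) hle)
  rw [← h1]
  exact (Cfsg.Lib.Coprime.conjMap_conjMap_inv g W).symm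

/-- Invariant Sylow groups of `M_σ` and a different conjugate are not conjugate under `C(A)`. -/
theorem not_conjUnder (hG : Cfsg.IsMinSimpleOddOrder G) (h : Exc p M A A₀) {q : ℕ} [hq : Fact q.Prime]
    (hσ : q ∈ Cfsg.sigma M) {g : G} (hg : g ∉ M) {Q Q' : Subgroup G} (hQ : IsSylowOf q Q M)
    (hQ' : IsSylowOf q Q' M) :
    ¬ Transitivity.ConjUnder (MinSimpleTransitivity.K A) Q (conjMap g Q') := by
  rintro ⟨k, hk, hkQ⟩
  have hkM : k ∈ M := h.centralizer_le (PiCoreOf.le _ _ hk)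
  obtain ⟨m, hm, hmQ⟩ := card_eq_of_sylowOf hQ hQ'
  have h1 : conjMap (k⁻¹ * g * m) Q = Q := by
    rw [← Cfsg.Lib.Coprime.conjMap_mul, hmQ, ← Cfsg.Lib.Coprime.conjMap_mul]
    show conjMap k⁻¹ (conjMap g Q') = Q
    rw [show conjMap g Q' = conjMap k Q from hkQ, Cfsg.Lib.Coprime.conjMap_inv_conjMap]
  have h2 := normalizer_le hσ hQ (Cfsg.Lib.Coprime.conjMap_eq_self_iff.mp h1)
  apply hg
  have : g = k * (k⁻¹ * g * m) * m⁻¹ := by group
  rw [this]
  exact mul_mem (mul_mem hkM h2) (inv_mem hm)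

/-- Invariant groups of `M_σ` and of a conjugate have no common centralizer in `A`. -/
theorem not_both (hG : Cfsg.IsMinSimpleOddOrder G) (h : Exc p M A A₀) {q : ℕ} [hq : Fact q.Prime]
    (hσ : q ∈ Cfsg.sigma M) {g : G} (hg : g ∉ M) (hgA : A ≤ conjMap g M) {e : G} (he : e ∈ A) (he1 : e ≠ 1)
    {R₁ R₂ : Subgroup G} (h₁q : IsPGroup q R₁) (h₁ : R₁ ≤ Cfsg.sigmaCore M)
    (h₁A : A ≤ normalizer (R₁ : Set G)) (h₁n : R₁ ≠ ⊥) (h₁e : R₁ ≤ centralizer ({e} : Set G))
    (h₂q : IsPGroup q R₂) (h₂ : R₂ ≤ conjMap g (Cfsg.sigmaCore M))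
    (h₂A : A ≤ normalizer (R₂ : Set G)) (h₂n : R₂ ≠ ⊥) (h₂e : R₂ ≤ centralizer ({e} : Set G)) : False := by
  obtain ⟨Q, hRQ, hQmax, hQ⟩ := h.exists_max_sylow hG hσ (g := 1)
    (by rw [Cfsg.Lib.Coprime.conjMap_one]; exact h.le) h₁q (by rw [Cfsg.Lib.Coprime.conjMap_one]; exact h₁)
    h₁A
  rw [Cfsg.Lib.Coprime.conjMap_one] at hRQ hQmax
  obtain ⟨Q', hRQ', hQ'max, hQ'⟩ := h.exists_max_sylow hG hσ hgA h₂q h₂ h₂A
  refine h.not_conjUnder hG hσ hg hQ hQ' (MinSimpleTransitivity.conj_of_common hG ((h.maxSq hG).transitivity hG)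
    ((h.maxSq hG).not_dvd_card hq.out (h.ne_of_sigma hσ)) hQmax hQ'max
    (MinSimpleTransitivity.centralizer_singleton_ne_top hG he1)
    (fun a ha => mem_centralizer_singleton_iff.mpr ((h.maxSq hG).comm_of_mem ha he)) ?_ ?_)
  · exact fun h0 => h₁n (le_bot_iff.mp (h0 ▸ le_inf h₁e hRQ))
  · exact fun h0 => h₂n (le_bot_iff.mp (h0 ▸ le_inf h₂e hRQ'))

theorem exists_sylow_outside (hG : Cfsg.IsMinSimpleOddOrder G) (h : Exc p M A A₀) :
    ∃ S : Subgroup G, IsSylowOf p S M ∧ A ≤ S ∧ ∃ g ∈ normalizer (S : Set G), g ∉ M ∧ A ≤ conjMap g M := by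
  obtain ⟨S, hS, hAS⟩ := exists_sylowOf (h.maxSq hG).isPGroup h.le
  have hnot := sylow_normalizer_not_le h.not_sigma ((h.maxSq hG).dvd h.le) hS
  obtain ⟨g, hg, hgM⟩ := SetLike.not_le_iff_exists.mp hnot
  exact ⟨S, hS, hAS, g, hg, hgM,
    hAS.trans ((Cfsg.Lib.Coprime.conjMap_eq_self hg).ge.trans (Cfsg.Lib.Coprime.conjMap_mono hS.1))⟩

theorem inf_centralizer_eq_bot (hG : Cfsg.IsMinSimpleOddOrder G) (h : Exc p M A A₀) :
    Cfsg.sigmaCore M ⊓ centralizer (A : Set G) = ⊥ := by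
  refine eq_bot_of_card_eq _ ?_
  by_contra hne
  obtain ⟨q, hq, hqd⟩ := Nat.exists_prime_and_dvd hne
  haveI := Fact.mk hq
  have hσ : q ∈ Cfsg.sigma M := sigmaCore_isPi q hq (hqd.trans (card_dvd_of_le inf_le_left))
  obtain ⟨S, -, -, g, -, hgM, hgA⟩ := h.exists_sylow_outside hG
  have hbot : ∀ g : G, A ≤ conjMap g M → ∃ Q : Subgroup G,
      conjMap g Q ∈ Cfsg.maxInvSubgroups ⊤ A {q} ∧ IsSylowOf q Q M := fun g hg => by
    obtain ⟨Q, -, h1, h2⟩ := h.exists_max_sylow hG hσ hg (IsPGroup.of_bot (p := q)) bot_le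
      (fun a _ => by rw [normalizer_eq_top]; exact mem_top a)
    exact ⟨Q, h1, h2⟩
  obtain ⟨Q, hQ1, hQ⟩ := hbot 1 (by rw [Cfsg.Lib.Coprime.conjMap_one]; exact h.le)
  obtain ⟨Q', hQ'1, hQ'⟩ := hbot g hgA
  rw [Cfsg.Lib.Coprime.conjMap_one] at hQ1
  exact h.not_conjUnder hG hσ hgM hQ hQ'
    ((h.maxSq hG).transitive hG (h.ne_of_sigma hσ) (hqd.trans (card_dvd_of_le inf_le_right)) _ hQ1 _ hQ'1)

theorem inf_conj_sigma (hG : Cfsg.IsMinSimpleOddOrder G) (h : Exc p M A A₀) {g : G} (hg : g ∉ M)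
    (hgA : A ≤ conjMap g M) : Cfsg.sigmaCore M ⊓ conjMap g (Cfsg.sigmaCore M) = ⊥ := by
  set D := Cfsg.sigmaCore M ⊓ conjMap g (Cfsg.sigmaCore M) with hD
  refine eq_bot_of_card_eq _ ?_
  by_contra hne
  obtain ⟨q, hq, hqd⟩ := Nat.exists_prime_and_dvd hne
  haveI := Fact.mk hq
  have hσ : q ∈ Cfsg.sigma M := sigmaCore_isPi q hq (hqd.trans (card_dvd_of_le inf_le_left))
  have hAD : A ≤ normalizer (D : Set G) :=
    Cfsg.Lib.Coprime.le_normalizer_inf (h.le.trans (PiCoreOf.le_normalizer' _ M)) (h.le_normalizer_sigma hgA)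
  haveI : IsMulCommutative A := h.ea.1
  have hsol : Group.IsSolvable A := hG.2.2.2 A (FittingUniqueness.ne_top_of_le_coatom h.coatom h.le)
  obtain ⟨T, hT⟩ := Cfsg.Lib.Coprime.exists_invariant_sylow hAD
    (h.coprime_sigmaCore.coprime_dvd_right (card_dvd_of_le inf_le_left)) (Or.inl hsol) q
  set R := (T : Subgroup D).map D.subtype with hR
  have hRD : R ≤ D := map_subtype_le _
  have hR1 : R ≠ ⊥ := fun h0 => T.ne_bot_of_dvd_card hqd
    ((map_eq_bot_iff_of_injective _ D.subtype_injective).mp h0)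
  have hcop : (Nat.card A).Coprime (Nat.card R) :=
    h.coprime_sigmaCore.coprime_dvd_right (card_dvd_of_le (hRD.trans inf_le_left))
  obtain ⟨e, he, he1, heR⟩ := Transitivity.exists_fixed_outside (D := (⊥ : Subgroup G)) (h.maxSq hG).not_isCyclic hT
    hcop (fun hle => hR1 (le_bot_iff.mp hle))
  have hne' : R ⊓ centralizer ({e} : Set G) ≠ ⊥ := fun h0 => heR h0.le
  have hA' : A ≤ normalizer ((R ⊓ centralizer ({e} : Set G) : Subgroup G) : Set G) :=
    Cfsg.Lib.Coprime.le_normalizer_inf hT fun a ha =>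
      le_normalizer (mem_centralizer_singleton_iff.mpr ((h.maxSq hG).comm_of_mem ha he))
  have hq' : IsPGroup q ↥(R ⊓ centralizer ({e} : Set G)) := (T.2.map _).to_le inf_le_left
  exact h.not_both hG hσ hg hgA he he1 hq' ((inf_le_left.trans hRD).trans inf_le_left) hA' hne' inf_le_right
    hq' ((inf_le_left.trans hRD).trans inf_le_right) hA' hne' inf_le_right

theorem inf_conj (hG : Cfsg.IsMinSimpleOddOrder G) (h : Exc p M A A₀) {g : G} (hg : g ∉ M)
    (hgA : A ≤ conjMap g M) :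
    Cfsg.sigmaCore M ⊓ conjMap g M = ⊥ ∧ conjMap g (Cfsg.sigmaCore M) ⊓ M = ⊥ := by
  have h0 := h.inf_conj_sigma hG hg hgA
  have key : ∀ D : Subgroup G, (∀ q : ℕ, q.Prime → q ∣ Nat.card D → q ∈ Cfsg.sigma M) →
      (∀ q : ℕ, q.Prime → ∀ R : Subgroup G, IsPGroup q R → R ≤ D → q ∈ Cfsg.sigma M →
        R ≤ Cfsg.sigmaCore M ⊓ conjMap g (Cfsg.sigmaCore M)) → D = ⊥ := by
    intro D hDσ hD
    refine eq_bot_of_card_eq _ ?_
    by_contra hne
    obtain ⟨q, hq, hqd⟩ := Nat.exists_prime_and_dvd hne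
    haveI := Fact.mk hq
    obtain ⟨T⟩ : Nonempty (Sylow q D) := inferInstance
    have h1 := hD q hq _ (T.2.map D.subtype) (map_subtype_le _) (hDσ q hq hqd)
    rw [h0, le_bot_iff, map_eq_bot_iff_of_injective _ D.subtype_injective] at h1
    exact T.ne_bot_of_dvd_card hqd h1
  constructor
  · refine key _ (fun q hq hd => sigmaCore_isPi q hq (hd.trans (card_dvd_of_le inf_le_left)))
      fun q hq R hR hRD hσ => le_inf (hRD.trans inf_le_left) ?_
    haveI := Fact.mk hq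
    have h1 : conjMap g⁻¹ R ≤ M := by
      have h2 : conjMap g⁻¹ R ≤ conjMap g⁻¹ (conjMap g M) :=
        Cfsg.Lib.Coprime.conjMap_mono (hRD.trans inf_le_right)
      rwa [Cfsg.Lib.Coprime.conjMap_inv_conjMap] at h2
    rw [← Cfsg.Lib.Coprime.conjMap_conjMap_inv g R]
    exact Cfsg.Lib.Coprime.conjMap_mono (le_sigmaCore_of_pgroup hG h.coatom hσ (hR.map _) h1)
  · refine key _ (fun q hq hd => sigmaCore_isPi q hq (by
      rw [← Cfsg.Lib.Coprime.card_conjMap g]
      exact hd.trans (card_dvd_of_le inf_le_left)))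
      fun q hq R hR hRD hσ => le_inf ?_ (hRD.trans inf_le_left)
    haveI := Fact.mk hq
    exact le_sigmaCore_of_pgroup hG h.coatom hσ hR (hRD.trans inf_le_right)

theorem fixed_line (hG : Cfsg.IsMinSimpleOddOrder G) (h : Exc p M A A₀) {g : G} (hg : g ∉ M)
    (hgA : A ≤ conjMap g M) {e : G} (he : e ∈ A) (he1 : e ≠ 1)
    (hfix : conjMap g (zpowers e) = zpowers e) :
    Cfsg.sigmaCore M ⊓ centralizer ({e} : Set G) = ⊥ := by
  set D := Cfsg.sigmaCore M ⊓ centralizer ({e} : Set G) with hD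
  refine eq_bot_of_card_eq _ ?_
  by_contra hne
  obtain ⟨q, hq, hqd⟩ := Nat.exists_prime_and_dvd hne
  haveI := Fact.mk hq
  have hσ : q ∈ Cfsg.sigma M := sigmaCore_isPi q hq (hqd.trans (card_dvd_of_le inf_le_left))
  have hc : conjMap g (centralizer ({e} : Set G)) = centralizer ({e} : Set G) := by
    ext y
    rw [← Cfsg.Lib.Coprime.centralizer_zpowers, ← mem_centralizer_conjMap, hfix]
  have hD2 : conjMap g D = conjMap g (Cfsg.sigmaCore M) ⊓ centralizer ({e} : Set G) := by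
    rw [hD, Cfsg.Lib.Coprime.conjMap_inf, hc]
  have hsol : Group.IsSolvable A := hG.2.2.2 A (FittingUniqueness.ne_top_of_le_coatom h.coatom h.le)
  have hAe : A ≤ normalizer (centralizer ({e} : Set G) : Set G) := fun a ha =>
    le_normalizer (mem_centralizer_singleton_iff.mpr ((h.maxSq hG).comm_of_mem ha he))
  have hAD₂ : A ≤ normalizer (conjMap g D : Set G) := by
    rw [hD2]
    exact Cfsg.Lib.Coprime.le_normalizer_inf (h.le_normalizer_sigma hgA) hAe
  have hcop : (Nat.card A).Coprime (Nat.card D) :=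
    h.coprime_sigmaCore.coprime_dvd_right (card_dvd_of_le inf_le_left)
  obtain ⟨T₁, hT₁⟩ := Cfsg.Lib.Coprime.exists_invariant_sylow
    (Cfsg.Lib.Coprime.le_normalizer_inf (h.le.trans (PiCoreOf.le_normalizer' _ M)) hAe :
      A ≤ normalizer (D : Set G)) hcop (Or.inl hsol) q
  obtain ⟨T₂, hT₂⟩ := Cfsg.Lib.Coprime.exists_invariant_sylow hAD₂
    (by rw [Cfsg.Lib.Coprime.card_conjMap]; exact hcop) (Or.inl hsol) q
  refine h.not_both hG hσ hg hgA he he1 (T₁.2.map D.subtype)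
    ((map_subtype_le _).trans inf_le_left) hT₁ ?_ ((map_subtype_le _).trans inf_le_right)
    (T₂.2.map (conjMap g D).subtype) ((map_subtype_le _).trans (hD2.le.trans inf_le_left)) hT₂ ?_
    ((map_subtype_le _).trans (hD2.le.trans inf_le_right))
  · exact fun h0 => T₁.ne_bot_of_dvd_card hqd ((map_eq_bot_iff_of_injective _ D.subtype_injective).mp h0)
  · exact fun h0 => T₂.ne_bot_of_dvd_card (by rw [Cfsg.Lib.Coprime.card_conjMap]; exact hqd)
      ((map_eq_bot_iff_of_injective _ (conjMap g D).subtype_injective).mp h0)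

theorem central (hG : Cfsg.IsMinSimpleOddOrder G) (h : Exc p M A A₀) {S : Subgroup G}
    (hS : IsSylowOf p S M) (hAS : A ≤ S) : S ≤ centralizer (A : Set G) := by
  by_contra hnc
  have hsq := h.maxSq hG
  obtain ⟨g, hg, hgM⟩ := SetLike.not_le_iff_exists.mp
    (sylow_normalizer_not_le h.not_sigma (hsq.dvd h.le) hS)
  have hgA : A ≤ conjMap g M :=
    hAS.trans ((Cfsg.Lib.Coprime.conjMap_eq_self hg).ge.trans (Cfsg.Lib.Coprime.conjMap_mono hS.1))
  set Z := A ⊓ centralizer (S : Set G) with hZ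
  haveI : Group.IsNilpotent S := hS.2.1.isNilpotent
  have hZ1 : Z ≠ ⊥ := by
    obtain ⟨z, hz, hzo⟩ : ∃ z ∈ S ⊓ centralizer (S : Set G), orderOf z = p := by
      refine ScnUniqueness.exists_orderOf (hS.2.1.to_le inf_le_left) fun h0 => ?_
      haveI : Nontrivial S := (nontrivial_iff_ne_bot _).mpr fun h1 => hsq.ne_bot (le_bot_iff.mp (h1 ▸ hAS))
      have := hS.2.1.center_nontrivial
      obtain ⟨⟨c, hc⟩, hc1⟩ := exists_ne (1 : center S)
      refine hc1 (Subtype.ext (Subtype.ext (mem_bot.mp (h0.le (show (c : G) ∈ S ⊓ centralizer (S : Set G) from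
        ⟨c.2, mem_centralizer_iff.mpr fun b hb => congrArg Subtype.val (mem_center_iff.mp hc ⟨b, hb⟩)⟩)))))
    have hzA : z ∈ A := hsq.mem_of_commute (Subgroup.centralizer_le hAS hz.2) (hzo ▸ pow_orderOf_eq_one z)
    intro h0
    have : z = 1 := mem_bot.mp (h0.le ⟨hzA, hz.2⟩)
    rw [this, orderOf_one] at hzo
    exact hp.out.ne_one hzo.symm
  have hZA : Z ≠ A := fun h0 => hnc (le_centralizer_iff.mp (inf_eq_left.mp h0))
  have hZc : Nat.card Z = p := by
    obtain ⟨i, hi, hic⟩ := (Nat.dvd_prime_pow hp.out).mp (h.card ▸ card_dvd_of_le (inf_le_left : Z ≤ A))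
    rcases (show i = 0 ∨ i = 1 ∨ i = 2 by omega) with rfl | rfl | rfl
    · exact absurd (eq_bot_of_card_eq _ (by rw [hic, pow_zero])) hZ1
    · rw [hic, pow_one]
    · exact absurd (Cfsg.Lib.Coprime.eq_of_le_of_card_eq inf_le_left (hic.trans h.card.symm)) hZA
  have hgZ : conjMap g Z = Z := by
    refine Cfsg.Lib.Coprime.eq_of_le_of_card_eq ?_ (Cfsg.Lib.Coprime.card_conjMap _ _)
    rintro _ ⟨z, hz, rfl⟩
    have h1 : g * z * g⁻¹ ∈ S := (mem_normalizer_iff.mp hg z).mp (hAS hz.1)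
    have h2 : g * z * g⁻¹ ∈ centralizer (S : Set G) :=
      (mem_normalizer_iff.mp (FittingParts.normalizer_centralizer_le S hg) z).mp hz.2
    exact ⟨hsq.mem_of_commute (Subgroup.centralizer_le hAS h2)
      (by show (g * z * g⁻¹) ^ p = 1; rw [conj_pow, h.ea.2 z hz.1, mul_one, mul_inv_cancel]), h2⟩
  have hgen : ∀ z ∈ Z, z ≠ 1 → zpowers z = Z := fun z hz hz1 =>
    eq_of_le_of_card_ge (zpowers_le.mpr hz) (by
      rw [hZc, Nat.card_zpowers, orderOf_eq_prime (h.ea.2 z hz.1) hz1])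
  have hZfix : ∀ z ∈ Z, z ≠ 1 → Cfsg.sigmaCore M ⊓ centralizer ({z} : Set G) = ⊥ := fun z hz hz1 =>
    h.fixed_line hG hgM hgA hz.1 hz1 (by rw [hgen z hz hz1, hgZ])
  -- an element of `S` moving `A`
  set T := S ⊓ normalizer (A : Set G) with hT
  obtain ⟨s, hs, hsA⟩ : ∃ s ∈ T, s ∉ centralizer (A : Set G) := by
    by_contra hall
    push Not at hall
    set C := S ⊓ centralizer (A : Set G) with hC
    have hlt : C < S := lt_of_le_of_ne inf_le_left fun h0 => hnc (inf_eq_left.mp h0)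
    obtain ⟨y, ⟨hyS, hyN⟩, hyC⟩ := SetLike.exists_of_lt (FittingUniqueness.lt_inf_normalizer hS.2.1 hlt)
    refine hyC ⟨hyS, hall y ⟨hyS, ?_⟩⟩
    refine Cfsg.Lib.Coprime.conjMap_eq_self_iff.mp
      (Cfsg.Lib.Coprime.eq_of_le_of_card_eq ?_ (Cfsg.Lib.Coprime.card_conjMap _ _))
    rintro _ ⟨a, ha, rfl⟩
    exact hsq.mem_of_commute ((mem_normalizer_iff.mp hyN a).mp ⟨hAS ha, hsq.le_centralizer ha⟩).2
      (by show (y * a * y⁻¹) ^ p = 1; rw [conj_pow, h.ea.2 a ha, mul_one, mul_inv_cancel])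
  haveI : Group.IsNilpotent T := (hS.2.1.to_le inf_le_left).isNilpotent
  have hAT : A ≤ T := le_inf hAS le_normalizer
  set N := ⁅A, T⁆ with hN
  have hNA : N < A := Cfsg.Lib.Coprime.commutator_lt_of_isNilpotent hAT hsq.ne_bot inf_le_right
  have hN1 : N ≠ ⊥ := fun h0 => hsA (mem_centralizer_iff.mpr fun a ha => by
    have h1 : ⁅a, s⁆ ∈ N := commutator_mem_commutator ha hs
    rw [h0, mem_bot] at h1
    exact commutatorElement_eq_one_iff_mul_comm.mp h1)
  have hNc : Nat.card N = p := by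
    obtain ⟨i, hi, hic⟩ := (Nat.dvd_prime_pow hp.out).mp (h.card ▸ card_dvd_of_le hNA.le)
    rcases (show i = 0 ∨ i = 1 ∨ i = 2 by omega) with rfl | rfl | rfl
    · exact absurd (eq_bot_of_card_eq _ (by rw [hic, pow_zero])) hN1
    · rw [hic, pow_one]
    · exact absurd (Cfsg.Lib.Coprime.eq_of_le_of_card_eq hNA.le (hic.trans h.card.symm)) hNA.ne
  have hNn : T ≤ normalizer (N : Set G) := Cfsg.Lib.Coprime.le_normalizer_commutator_right T A
  have hN0 : ⁅N, T⁆ = ⊥ := by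
    have h1 := Cfsg.Lib.Coprime.commutator_lt_of_isNilpotent (hNA.le.trans hAT) hN1 hNn
    refine eq_bot_of_card_eq _ ?_
    rcases (Nat.dvd_prime hp.out).mp (hNc ▸ card_dvd_of_le h1.le) with h2 | h2
    · exact h2
    · exact absurd (Cfsg.Lib.Coprime.eq_of_le_of_card_eq h1.le (h2.trans hNc.symm)) h1.ne
  have hNT : ∀ n ∈ N, ∀ t ∈ T, n * t = t * n := fun n hn t ht => by
    have h1 : ⁅n, t⁆ ∈ ⁅N, T⁆ := commutator_mem_commutator hn ht
    rw [hN0, mem_bot] at h1
    exact commutatorElement_eq_one_iff_mul_comm.mp h1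
  have hsZ : ∀ z ∈ Z, z * s = s * z := fun z hz => (mem_centralizer_iff.mp hz.2 s hs.1).symm
  -- the central line is the commutator line
  have hsplit : ∀ (X : Subgroup G), X ≤ A → Nat.card X = p → X ≠ Z → Z ⊔ X = A := by
    intro X hXA hXc hXZ
    have hd : Z ⊓ X = ⊥ := eq_bot_of_card_eq _ (by
      rcases (Nat.dvd_prime hp.out).mp (hXc ▸ card_dvd_of_le (inf_le_right : Z ⊓ X ≤ X)) with h2 | h2
      · exact h2
      · exact absurd ((Cfsg.Lib.Coprime.eq_of_le_of_card_eq inf_le_right (h2.trans hXc.symm)).symm.trans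
          (Cfsg.Lib.Coprime.eq_of_le_of_card_eq inf_le_left (h2.trans hZc.symm))) hXZ)
    refine Cfsg.Lib.Coprime.eq_of_le_of_card_eq (sup_le inf_le_left hXA) ?_
    rw [Cfsg.Lib.Coprime.card_sup_of_inf_eq_bot (fun x hx => centralizer_le_normalizer _
      (Subgroup.centralizer_le inf_le_left (hsq.le_centralizer (hXA hx)))) hd, hZc, hXc, h.card, sq]
  have hZN : N = Z := by
    by_contra hne
    refine hsA (mem_centralizer_iff.mpr fun a ha => ?_)
    have hle : A ≤ centralizer ({s} : Set G) := (hsplit N hNA.le hNc hne).ge.trans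
      (sup_le (fun z hz => mem_centralizer_singleton_iff.mpr (hsZ z hz))
        fun n hn => mem_centralizer_singleton_iff.mpr (hNT n hn s hs))
    exact mem_centralizer_singleton_iff.mp (hle ha)
  have hA0Z : A₀ ≠ Z := fun h0 => hgM (h.norm_le (Cfsg.Lib.Coprime.conjMap_eq_self_iff.mp (h0 ▸ hgZ)))
  obtain ⟨a, ha₀, hao⟩ := ScnUniqueness.exists_orderOf (isPGroup_of_card h.line_card)
    (fun h0 => hp.out.ne_one (by rw [← h.line_card, h0, Subgroup.card_bot]))
  set c := s * a * s⁻¹ * a⁻¹ with hc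
  have haA : a ∈ A := h.line_le ha₀
  have hcN : c ∈ N := by
    have h1 : ⁅a, s⁆⁻¹ ∈ N := inv_mem (commutator_mem_commutator haA hs)
    rwa [commutatorElement_inv, commutatorElement_def] at h1
  have hA0gen : zpowers a = A₀ := eq_of_le_of_card_ge (zpowers_le.mpr ha₀) (by
    rw [h.line_card, Nat.card_zpowers, hao])
  have hc1 : c ≠ 1 := fun h0 => by
    refine hsA (mem_centralizer_iff.mpr fun b hb => ?_)
    have hle : A ≤ centralizer ({s} : Set G) := (hsplit A₀ h.line_le h.line_card hA0Z).ge.trans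
      (sup_le (fun z hz => mem_centralizer_singleton_iff.mpr (hsZ z hz)) (hA0gen ▸ zpowers_le.mpr
        (mem_centralizer_singleton_iff.mpr (by
          have h2 : s * a = a * s := by
            have := congrArg (fun t => t * a * s) h0
            simpa [c, mul_assoc] using this
          exact h2.symm))))
    exact mem_centralizer_singleton_iff.mp (hle hb)
  have hcs : Commute c s := hNT c hcN s hs
  have hca : Commute c a := hsq.comm_of_mem (hNA.le hcN) haA
  have hpow : ∀ i : ℕ, s ^ i * a * (s ^ i)⁻¹ = c ^ i * a := by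
    intro i
    induction i with
    | zero => simp
    | succ i ih =>
      calc s ^ (i + 1) * a * (s ^ (i + 1))⁻¹ = s * (s ^ i * a * (s ^ i)⁻¹) * s⁻¹ := by
            rw [pow_succ']; group
        _ = s * (c ^ i * a) * s⁻¹ := by rw [ih]
        _ = c ^ i * (s * a * s⁻¹) := by
            rw [← mul_assoc, ← (hcs.pow_left i).eq, mul_assoc, mul_assoc, mul_assoc]
        _ = c ^ i * (c * a) := by simp [c, mul_assoc]
        _ = _ := by rw [← mul_assoc, ← pow_succ]
  have hall : ∀ e ∈ A, e ≠ 1 → centralizer ({e} : Set G) ≤ M ∨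
      Cfsg.sigmaCore M ⊓ centralizer ({e} : Set G) = ⊥ ∧
      conjMap g (centralizer ({e} : Set G)) = centralizer ({e} : Set G) := by
    intro e he he1
    obtain ⟨z, hz, b, hb, rfl⟩ := (Cfsg.Lib.Coprime.mem_sup_of_le_normalizer
      (fun x hx => centralizer_le_normalizer _ (Subgroup.centralizer_le inf_le_left
        (hsq.le_centralizer (h.line_le hx))))).mp ((hsplit A₀ h.line_le h.line_card hA0Z).ge he)
    by_cases hb1 : b = 1
    · subst hb1
      rw [mul_one] at he1 ⊢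
      refine Or.inr ⟨hZfix z hz he1, ?_⟩
      ext y
      rw [← Cfsg.Lib.Coprime.centralizer_zpowers, hgen z hz he1, ← mem_centralizer_conjMap, hgZ]
    left
    obtain ⟨k, rfl⟩ := (mem_powers_iff_mem_zpowers).mpr (hA0gen.ge hb)
    have hco : orderOf (c ^ k) = p := orderOf_eq_prime
      (by rw [← pow_mul, mul_comm, pow_mul, h.ea.2 c (hNA.le hcN), one_pow]) fun h0 => hb1 (by
        have hd : p ∣ k := (orderOf_eq_prime (h.ea.2 c (hNA.le hcN)) hc1) ▸ orderOf_dvd_of_pow_eq_one h0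
        obtain ⟨l, rfl⟩ := hd
        show a ^ (p * l) = 1
        rw [pow_mul, h.ea.2 a haA, one_pow])
    have hck : zpowers (c ^ k) = Z := eq_of_le_of_card_ge (zpowers_le.mpr (hZN ▸ pow_mem hcN k)) (by
      rw [hZc, Nat.card_zpowers, hco])
    obtain ⟨i, rfl⟩ := (mem_powers_iff_mem_zpowers).mpr (hck.ge hz)
    have he' : (c ^ k) ^ i * a ^ k = s ^ i * a ^ k * (s ^ i)⁻¹ := by
      rw [← conj_pow, hpow, (hca.pow_left i).mul_pow, ← pow_mul, ← pow_mul, mul_comm k i]
    intro y hy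
    rw [he', mem_centralizer_singleton_iff] at hy
    have hsM : s ^ i ∈ M := pow_mem (hS.1 hs.1) _
    have hak : zpowers (a ^ k) = A₀ := eq_of_le_of_card_ge (zpowers_le.mpr (pow_mem ha₀ _)) (by
      rw [h.line_card, Nat.card_zpowers, orderOf_eq_prime (by
        rw [← pow_mul, mul_comm, pow_mul, h.ea.2 a haA, one_pow]) hb1])
    have h1 : (s ^ i)⁻¹ * y * s ^ i ∈ M := h.line_centralizer_le (by
      rw [← hak, Cfsg.Lib.Coprime.centralizer_zpowers, mem_centralizer_singleton_iff]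
      calc (s ^ i)⁻¹ * y * s ^ i * a ^ k = (s ^ i)⁻¹ * (y * (s ^ i * a ^ k * (s ^ i)⁻¹)) * s ^ i := by group
        _ = (s ^ i)⁻¹ * (s ^ i * a ^ k * (s ^ i)⁻¹ * y) * s ^ i := by rw [hy]
        _ = _ := by group)
    have h3 := mul_mem (mul_mem hsM h1) (inv_mem hsM)
    simpa [mul_assoc] using h3
  haveI : IsMulCommutative A := h.ea.1
  refine sigmaCore_ne_bot hG h.coatom ((map_eq_bot_iff_of_injective _
    (show Function.Injective (MulAut.conj g).toMonoidHom from (MulAut.conj g).injective)).mp ?_)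
  show conjMap g (Cfsg.sigmaCore M) = ⊥
  rw [← Cfsg.Lib.Coprime.centralizerJoin_eq hsq.not_isCyclic (h.le_normalizer_sigma hgA)
    (by rw [Cfsg.Lib.Coprime.card_conjMap]; exact h.coprime_sigmaCore)]
  refine le_bot_iff.mp (iSup₂_le fun e he => ?_)
  rcases hall e he.1 he.2 with h1 | ⟨h1, h2⟩
  · exact (inf_le_inf_left _ h1).trans (h.inf_conj hG hgM hgA).2.le
  · have h3 : conjMap g (Cfsg.sigmaCore M ⊓ centralizer ({e} : Set G)) = ⊥ := by
      rw [h1]; exact map_bot _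
    rw [Cfsg.Lib.Coprime.conjMap_inf, h2] at h3
    exact h3.le

/-- The elements of order dividing `p` in a Sylow group of `M` containing `A`. -/
theorem mem_iff (hG : Cfsg.IsMinSimpleOddOrder G) (h : Exc p M A A₀) {S : Subgroup G}
    (hS : IsSylowOf p S M) (hAS : A ≤ S) {x : G} (hx : x ∈ S) : x ^ p = 1 ↔ x ∈ A :=
  ⟨fun hxp => (h.maxSq hG).mem_of_commute (h.central hG hS hAS hx) hxp, fun hxA => h.ea.2 x hxA⟩

theorem normalizer_le_normalizer (hG : Cfsg.IsMinSimpleOddOrder G) (h : Exc p M A A₀) {S : Subgroup G}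
    (hS : IsSylowOf p S M) (hAS : A ≤ S) : normalizer (S : Set G) ≤ normalizer (A : Set G) := fun g hg => by
  refine Cfsg.Lib.Coprime.conjMap_eq_self_iff.mp
    (Cfsg.Lib.Coprime.eq_of_le_of_card_eq ?_ (Cfsg.Lib.Coprime.card_conjMap _ _))
  rintro _ ⟨a, ha, rfl⟩
  exact (h.mem_iff hG hS hAS ((mem_normalizer_iff.mp hg a).mp (hAS ha))).mp
    (by show (g * a * g⁻¹) ^ p = 1; rw [conj_pow, h.ea.2 a ha, mul_one, mul_inv_cancel])

theorem exists_mem_normalizer (hG : Cfsg.IsMinSimpleOddOrder G) (h : Exc p M A A₀) :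
    ∃ g ∈ normalizer (A : Set G), g ∉ M := by
  obtain ⟨S, hS, hAS, g, hg, hgM, -⟩ := h.exists_sylow_outside hG
  exact ⟨g, h.normalizer_le_normalizer hG hS hAS hg, hgM⟩

/-- Two lines of `A` fixed point free on `M_σ`. -/
theorem exists_fpf (hG : Cfsg.IsMinSimpleOddOrder G) (h : Exc p M A A₀) :
    ∃ a b : G, a ∈ A ∧ b ∈ A ∧ orderOf a = p ∧ orderOf b = p ∧
      Cfsg.sigmaCore M ⊓ centralizer ({a} : Set G) = ⊥ ∧
      Cfsg.sigmaCore M ⊓ centralizer ({b} : Set G) = ⊥ ∧ zpowers a ⊔ zpowers b = A := by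
  obtain ⟨g, hg, hgM⟩ := h.exists_mem_normalizer hG
  have hg2M : g * g ∉ M := fun hm => hgM (by
    obtain ⟨k, hk⟩ := hG.1.of_dvd_nat (orderOf_dvd_natCard g)
    have h1 : g = (g * g) ^ (k + 1) := by
      rw [← sq, ← pow_mul, show 2 * (k + 1) = orderOf g + 1 by omega, pow_succ, pow_orderOf_eq_one, one_mul]
    rw [h1]
    exact pow_mem hm _)
  obtain ⟨e, he, heo⟩ := ScnUniqueness.exists_orderOf (isPGroup_of_card h.line_card)
    (fun h0 => hp.out.ne_one (by rw [← h.line_card, h0, Subgroup.card_bot]))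
  have hgen : zpowers e = A₀ := eq_of_le_of_card_ge (zpowers_le.mpr he) (by
    rw [h.line_card, Nat.card_zpowers, heo])
  have key : ∀ x ∈ normalizer (A : Set G), x ∉ M →
      x * e * x⁻¹ ∈ A ∧ orderOf (x * e * x⁻¹) = p ∧
        Cfsg.sigmaCore M ⊓ centralizer ({x * e * x⁻¹} : Set G) = ⊥ := by
    intro x hx hxM
    refine ⟨(mem_normalizer_iff.mp hx e).mp (h.line_le he), by
      rw [show x * e * x⁻¹ = MulAut.conj x e from rfl, MulEquiv.orderOf_eq, heo], ?_⟩
    have hAx : A ≤ conjMap x M :=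
      (Cfsg.Lib.Coprime.conjMap_eq_self hx).ge.trans (Cfsg.Lib.Coprime.conjMap_mono h.le)
    refine le_bot_iff.mp ((inf_le_inf_left _ ?_).trans (h.inf_conj hG hxM hAx).1.le)
    intro y hy
    refine Cfsg.Lib.Coprime.mem_conjMap.mpr (h.line_centralizer_le ?_)
    rw [mem_centralizer_singleton_iff] at hy
    rw [← hgen, Cfsg.Lib.Coprime.centralizer_zpowers, mem_centralizer_singleton_iff]
    calc x⁻¹ * y * x * e = x⁻¹ * (y * (x * e * x⁻¹)) * x := by group
      _ = x⁻¹ * (x * e * x⁻¹ * y) * x := by rw [hy]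
      _ = _ := by group
  obtain ⟨ha, hao, haf⟩ := key g hg hgM
  obtain ⟨hb, hbo, hbf⟩ := key (g * g) (mul_mem hg hg) hg2M
  refine ⟨_, _, ha, hb, hao, hbo, haf, hbf, ?_⟩
  have hsq := h.maxSq hG
  set a := g * e * g⁻¹
  set b := g * g * e * (g * g)⁻¹
  have hne : zpowers a ≠ zpowers b := fun h0 => hgM (h.norm_le (by
    refine Cfsg.Lib.Coprime.conjMap_eq_self_iff.mp ?_
    have h1 : conjMap g⁻¹ (zpowers a) = conjMap g⁻¹ (zpowers b) := congrArg _ h0
    unfold conjMap at h1 ⊢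
    rw [MonoidHom.map_zpowers, MonoidHom.map_zpowers] at h1
    rw [← hgen, MonoidHom.map_zpowers]
    simp only [MulEquiv.coe_toMonoidHom, MulAut.conj_apply, a, b] at h1 ⊢
    simp only [mul_assoc, inv_inv, inv_mul_cancel_left, inv_mul_cancel, mul_one, mul_inv_rev] at h1 ⊢
    exact h1.symm))
  have hn : zpowers b ≤ normalizer (zpowers a : Set G) := zpowers_le.mpr (centralizer_le_normalizer _ (by
    rw [Cfsg.Lib.Coprime.centralizer_zpowers]
    exact mem_centralizer_singleton_iff.mpr (hsq.comm_of_mem hb ha)))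
  have hd : zpowers a ⊓ zpowers b = ⊥ := eq_bot_of_card_eq _ (by
    rcases (Nat.dvd_prime hp.out).mp (hbo ▸ Nat.card_zpowers b ▸
      card_dvd_of_le (inf_le_right : zpowers a ⊓ zpowers b ≤ zpowers b)) with h2 | h2
    · exact h2
    · exact absurd ((Cfsg.Lib.Coprime.eq_of_le_of_card_eq (inf_le_left : zpowers a ⊓ zpowers b ≤ zpowers a)
        (by rw [h2, Nat.card_zpowers, hao])).symm.trans (Cfsg.Lib.Coprime.eq_of_le_of_card_eq inf_le_right
        (by rw [h2, Nat.card_zpowers, hbo]))) hne)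
  refine Cfsg.Lib.Coprime.eq_of_le_of_card_eq (sup_le (zpowers_le.mpr ha) (zpowers_le.mpr hb)) ?_
  rw [Cfsg.Lib.Coprime.card_sup_of_inf_eq_bot hn hd, Nat.card_zpowers, Nat.card_zpowers, hao, hbo, h.card, sq]

theorem nilpotent (hG : Cfsg.IsMinSimpleOddOrder G) (h : Exc p M A A₀) :
    Group.IsNilpotent (Cfsg.sigmaCore M) := by
  obtain ⟨a, -, haA, -, hao, -, haf, -, -⟩ := h.exists_fpf hG
  set N := Cfsg.sigmaCore M
  have han : a ∈ normalizer (N : Set G) := (h.le.trans (PiCoreOf.le_normalizer' _ M)) haA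
  set φ : N →* N := (N.normalizerMonoidHom ⟨a, han⟩).toMonoidHom with hφ
  refine Cfsg.Lib.Thompson.isNilpotent_of_fpf (G := N) φ (fun x hx => ?_) hp.out (funext fun x => ?_)
  · have hc : a * (x : G) * a⁻¹ = x := congrArg Subtype.val hx
    refine Subtype.ext (mem_bot.mp (haf.le ⟨x.2, mem_centralizer_singleton_iff.mpr ?_⟩))
    exact (mul_inv_eq_iff_eq_mul.mp hc).symm
  · have key : ∀ n : ℕ, (((φ : N → N)^[n] x : N) : G) = a ^ n * x * (a ^ n)⁻¹ := by
      intro n
      induction n with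
      | zero => simp
      | succ n ih =>
        rw [Function.iterate_succ_apply']
        show a * (((φ : N → N)^[n] x : N) : G) * a⁻¹ = _
        rw [ih, pow_succ']
        group
    refine Subtype.ext ?_
    rw [key, ← hao, pow_orderOf_eq_one]
    simp

end Exc

/-- The centralizer of a maximal elementary subgroup of order `p²` in a Sylow group of `G` is abelian. -/
theorem MaxSq.comm_in_sylow (hG : Cfsg.IsMinSimpleOddOrder G) (h : MaxSq p A) (P : Sylow p G)
    (hAP : A ≤ (P : Subgroup G)) : IsMulCommutative ↥((P : Subgroup G) ⊓ centralizer (A : Set G)) := by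
  set C := (P : Subgroup G) ⊓ centralizer (A : Set G) with hC
  have hp2 : p ≠ 2 := ne_two hG h.isPGroup h.ne_bot
  by_cases hr : Cfsg.PRankLE p 2 (P : Subgroup G)
  · rcases Cfsg.Agent.S1412.result hG p P hr with hab | ⟨P₁, P₂, hsup, hcomm, -, -, hexp, hcyc, hclo⟩
    · exact ⟨⟨fun a b => Subtype.ext (ThompsonTransitivity.mul_comm_of hab a.2.1 b.2.1)⟩⟩
    have hn : P₂ ≤ normalizer (P₁ : Set G) := fun b hb =>
      centralizer_le_normalizer _ (mem_centralizer_iff.mpr fun a ha => hcomm a ha b hb)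
    have hexp' : ∀ u ∈ P₁, u ^ p = 1 := fun u hu => by
      have h1 := Monoid.pow_exponent_eq_one (⟨u, hu⟩ : P₁)
      rw [hexp] at h1
      exact congrArg Subtype.val h1
    have hA1 : A ≤ P₁ := by
      intro a ha
      obtain ⟨u, hu, v, hv, rfl⟩ := (Cfsg.Lib.Coprime.mem_sup_of_le_normalizer hn).mp (hsup.ge (hAP ha))
      have hv1 : v ^ p = 1 := by
        have h1 := h.ea.2 _ ha
        rwa [(show Commute u v from hcomm u hu v hv).mul_pow, hexp' u hu, one_mul] at h1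
      exact mul_mem hu ((hclo.le (subset_closure ⟨hv, hv1⟩)).1)
    have hdec : ∀ x ∈ C, ∃ u ∈ A, ∃ v ∈ P₂, x = u * v := by
      rintro x ⟨hxP, hxA⟩
      obtain ⟨u, hu, v, hv, rfl⟩ := (Cfsg.Lib.Coprime.mem_sup_of_le_normalizer hn).mp (hsup.ge hxP)
      have hvA : v ∈ centralizer (A : Set G) := mem_centralizer_iff.mpr fun a ha => hcomm a (hA1 ha) v hv
      have huA : u ∈ centralizer (A : Set G) := by
        have := (centralizer (A : Set G)).mul_mem hxA ((centralizer (A : Set G)).inv_mem hvA)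
        rwa [mul_inv_cancel_right] at this
      exact ⟨u, h.mem_of_commute huA (hexp' u hu), v, hv, rfl⟩
    refine ⟨⟨fun x y => Subtype.ext ?_⟩⟩
    obtain ⟨u, hu, v, hv, hx⟩ := hdec x x.2
    obtain ⟨u', hu', v', hv', hy⟩ := hdec y y.2
    have hvv : Commute v v' := by
      letI : CommGroup P₂ := hcyc.commGroup
      exact congrArg Subtype.val (mul_comm (⟨v, hv⟩ : P₂) ⟨v', hv'⟩)
    rw [Subgroup.coe_mul, Subgroup.coe_mul, hx, hy]
    exact (((show Commute u u' from h.comm_of_mem hu hu').mul_right (hcomm u (hA1 hu) v' hv')).mul_left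
      (Commute.mul_right (Commute.symm (hcomm u' (hA1 hu') v hv)) hvv)).eq
  set E := A.subgroupOf (P : Subgroup G) with hE
  have hEe : Cfsg.IsElementaryAbelian p E :=
    ⟨⟨⟨fun a b => Subtype.ext (Subtype.ext (h.comm_of_mem a.2 b.2))⟩⟩, fun a ha =>
      Subtype.ext (by simpa using h.ea.2 a ha)⟩
  have hEc : Nat.card E = p ^ 2 := by rw [Nat.card_congr (subgroupOfEquivOfLe hAP).toEquiv, h.card]
  have hEmax : ∀ B : Subgroup ↥(P : Subgroup G), Cfsg.IsElementaryAbelian p B → E ≤ B → B = E := by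
    intro B hB hEB
    have h1 : B.map (P : Subgroup G).subtype = A := h.max _ (Cfsg.Lib.OddP.isElementaryAbelian_map hB _)
      fun a ha => ⟨⟨a, hAP ha⟩, hEB ha, rfl⟩
    rw [hE, ← h1, subgroupOf, comap_map_eq_self_of_injective (P : Subgroup G).subtype_injective]
  obtain ⟨hnot, hZc, -, hTc, hTi⟩ := Cfsg.Lib.OddP.maximal_sq_structure hp2 P.2 hr E hEe hEc hEmax
  set T := centralizer ((closure {x : ↥(P : Subgroup G) | x ∈ Subgroup.upperCentralSeries _ 2 ∧ x ^ p = 1} :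
    Subgroup ↥(P : Subgroup G)) : Set ↥(P : Subgroup G)) with hT
  haveI := hTc
  set D := T ⊓ centralizer (E : Set ↥(P : Subgroup G)) with hD
  have hEmem : ∀ x ∈ centralizer (E : Set ↥(P : Subgroup G)), x ^ p = 1 → x ∈ E := fun x hx hxp => by
    refine mem_subgroupOf.mpr (h.mem_of_commute (mem_centralizer_iff.mpr fun a ha => ?_) (by
      simpa using congrArg Subtype.val hxp))
    exact congrArg Subtype.val (mem_centralizer_iff.mp hx ⟨a, hAP ha⟩ ha)
  haveI hDc : IsCyclic D := by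
    by_contra hnc
    obtain ⟨F, hFD, -, hF, hFc⟩ := exists_normal_sq hp2 (P.2.to_subgroup D) hnc
    have hFE : F ≤ E := fun x hx => hEmem x (hFD hx).2 (hF.2 x hx)
    have h1 : F = E := Cfsg.Lib.Coprime.eq_of_le_of_card_eq hFE (hFc.trans hEc.symm)
    exact hnot (h1 ▸ hFD.trans inf_le_left)
  haveI : T.Normal := inferInstance
  have htop : T ⊔ E = ⊤ := by
    have hlt : T < T ⊔ E := lt_of_le_of_ne le_sup_left fun h0 => hnot (le_sup_right.trans h0.ge)
    rcases hp.out.eq_one_or_self_of_dvd _ ((index_dvd_of_le hlt.le).trans (dvd_of_eq hTi)) with h1 | h1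
    · exact index_eq_one.mp h1
    · refine absurd ?_ hlt.ne
      have h2 := relIndex_mul_index hlt.le
      rw [h1, hTi] at h2
      exact le_antisymm hlt.le (relIndex_eq_one.mp ((Nat.mul_eq_right hp.out.ne_zero).mp h2))
  have hdec : ∀ x ∈ centralizer (E : Set ↥(P : Subgroup G)), ∃ t ∈ D, ∃ e ∈ E, x = t * e := by
    intro x hx
    obtain ⟨t, ht, e, he, rfl⟩ := mem_sup_of_normal_left.mp (htop ▸ mem_top x)
    refine ⟨t, ⟨ht, ?_⟩, e, he, rfl⟩
    have he' : e ∈ centralizer (E : Set ↥(P : Subgroup G)) := mem_centralizer_iff.mpr fun f hf =>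
      ThompsonTransitivity.mul_comm_of hEe.1 hf he
    have := mul_mem hx (inv_mem he')
    rwa [mul_inv_cancel_right] at this
  refine ⟨⟨fun x y => Subtype.ext ?_⟩⟩
  have hmem : ∀ z : C, (⟨z, z.2.1⟩ : ↥(P : Subgroup G)) ∈ centralizer (E : Set ↥(P : Subgroup G)) := fun z =>
    mem_centralizer_iff.mpr fun e he => Subtype.ext (mem_centralizer_iff.mp z.2.2 _ he)
  obtain ⟨t, ht, e, he, hx⟩ := hdec _ (hmem x)
  obtain ⟨t', ht', e', he', hy⟩ := hdec _ (hmem y)
  have htt : Commute t t' := by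
    letI : CommGroup D := hDc.commGroup
    exact congrArg Subtype.val (mul_comm (⟨t, ht⟩ : D) ⟨t', ht'⟩)
  have h1 : Commute t e' := (mem_centralizer_iff.mp ht.2 e' he').symm
  have h2 : Commute e t' := mem_centralizer_iff.mp ht'.2 e he
  have h3 := congrArg Subtype.val (show (⟨x, x.2.1⟩ : ↥(P : Subgroup G)) * ⟨y, y.2.1⟩ = ⟨y, y.2.1⟩ * ⟨x, x.2.1⟩ by
    rw [hx, hy]
    exact ((htt.mul_right h1).mul_left (h2.mul_right (ThompsonTransitivity.mul_comm_of hEe.1 he he'))).eq)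
  simpa using h3

namespace Exc

theorem comm (hG : Cfsg.IsMinSimpleOddOrder G) (h : Exc p M A A₀) {S : Subgroup G}
    (hS : IsSylowOf p S M) (hAS : A ≤ S) : IsMulCommutative S := by
  obtain ⟨P, hSP⟩ := hS.2.1.exists_le_sylow
  have hcm := (h.maxSq hG).comm_in_sylow hG P (hAS.trans hSP)
  exact ⟨⟨fun a b => Subtype.ext (ThompsonTransitivity.mul_comm_of hcm
    ⟨hSP a.2, h.central hG hS hAS a.2⟩ ⟨hSP b.2, h.central hG hS hAS b.2⟩)⟩⟩

end Exc

end Cfsg.Lib.OddLocal.RankTwoMax
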