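import Cfsg.Agent.OddLocal.MovedPoint

/-!
# The intersection of `F(M)` with a conjugate
-/

set_option linter.unusedSectionVars false
set_option linter.unusedVariables false
set_option linter.style.haveILetI false

namespace Cfsg.Lib.OddLocal.RankTwoMax

open Subgroup Uniqueness Sigma
open Cfsg.Lib.Coprime (conjMap)
open scoped commutatorElement

universe u

variable {G : Type u} [Group G] [Finite G] {M N A : Subgroup G} {p q : ℕ} {g x y : G}

namespace MovedPoint

variable [hp : Fact p.Prime]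

theorem sylow_not_comm (d : MovedPoint M N A p x) (hG : Cfsg.IsMinSimpleOddOrder G)
    (hna : ¬ IsMulCommutative ↥(FittingParts.O p M)) :
    ∀ T : Sylow p G, ¬ IsMulCommutative (T : Subgroup G) := fun T hT => by
  obtain ⟨P, hP⟩ := exists_sylow_O hG d.pair.max d.nil d.sigma
  exact hna (hP ▸ sylow_comm_all hT)

theorem tau_data (d : MovedPoint M N A p x) (hG : Cfsg.IsMinSimpleOddOrder G)
    (hna : ¬ IsMulCommutative ↥(FittingParts.O p M)) :
    Cfsg.tau2 N = {p} ∧
      (Nat.card ↥(A ⊓ centralizer (Cfsg.sigmaCore N : Set G)) = p ∧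
        Cfsg.fittingOf N = Cfsg.sigmaCore N ⊔ (A ⊓ centralizer (Cfsg.sigmaCore N : Set G))) ∧
      ∀ X : Subgroup G, X ≤ M ⊓ N → Nat.card X = p → X ≠ A ⊓ centralizer (Cfsg.sigmaCore N : Set G) →
        Cfsg.sigmaCore N ⊓ centralizer (X : Set G) = ⊥ ∧ ¬ centralizer (X : Set G) ≤ N :=
  tau_two_nonabelian hG d.pair.maxN d.pair.compl d.tau (d.sylow_not_comm hG hna) d.le d.maxSq.ea d.maxSq.card

/-- With `O_p(M)` nonabelian the other cores are cyclic. -/
theorem other_rank_one (d : MovedPoint M N A p x) [hq : Fact q.Prime] (hG : Cfsg.IsMinSimpleOddOrder G)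
    (hna : ¬ IsMulCommutative ↥(FittingParts.O p M)) (hσ : q ∈ Cfsg.sigma M) (hne : q ≠ p) :
    Cfsg.PRankLE q 1 M := by
  by_contra h
  obtain ⟨E, hEM, hE, hEc⟩ := exists_elementary h
  have hEN := (pgroup_le_O hG d.pair.max d.nil hσ (isPGroup_of_pow hE.2) hEM).trans
    ((d.other_le hG hne).trans inf_le_right)
  have hr : ¬ Cfsg.PRankLE q 1 N := not_pRankLE_of hE hEN hEc
  have hτ : q ∈ Cfsg.tau2 N :=
    ⟨hq.out, d.not_sigma hG hσ, pRankLE_of_not_sigma hG d.pair.maxN (d.not_sigma hG hσ), hr⟩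
  rw [(d.tau_data hG hna).1] at hτ
  exact hne hτ

theorem other_cyclic (d : MovedPoint M N A p x) [hq : Fact q.Prime] (hG : Cfsg.IsMinSimpleOddOrder G)
    (hna : ¬ IsMulCommutative ↥(FittingParts.O p M)) (hσ : q ∈ Cfsg.sigma M) (hne : q ≠ p) :
    IsCyclic ↥(FittingParts.O q M) :=
  isCyclic_sylow_of_rank_one hG (FittingParts.isPGroup M) (PiCoreOf.le _ M) (d.other_rank_one hG hna hσ hne)

/-- A `p`-element of `M ∩ N` with fixed points in `N_σ` lies in `A`. -/
theorem hat_mem (d : MovedPoint M N A p x) (hG : Cfsg.IsMinSimpleOddOrder G)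
    (hna : ¬ IsMulCommutative ↥(FittingParts.O p M)) (hy : y ∈ M ⊓ N) (hyp : IsPGroup p (zpowers y))
    (h : Cfsg.sigmaCore N ⊓ centralizer ({y} : Set G) ≠ ⊥) : y ∈ A := by
  obtain ⟨z, hz⟩ := (Subgroup.ne_bot_iff_exists_ne_one).mp h
  exact tau_two_hat_nonabelian hG d.pair.maxN d.pair.compl d.tau (d.sylow_not_comm hG hna) d.le d.maxSq.ea
    d.maxSq.card hy hyp z.2.1 (fun e => hz (Subtype.ext e)) (mem_centralizer_singleton_iff.mp z.2.2).symm

/-- `x` is not central in `O_p(M)`. -/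
theorem not_central (d : MovedPoint M N A p x) (hG : Cfsg.IsMinSimpleOddOrder G)
    (hna : ¬ IsMulCommutative ↥(FittingParts.O p M)) :
    x ∉ centralizer (FittingParts.O p M : Set G) := fun h => by
  refine hna (comm_of_not_sigma hG d.pair.maxN d.tau.2.1 (FittingParts.isPGroup M) fun y hy => d.pair.le ?_)
  exact mem_centralizer_singleton_iff.mpr (mem_centralizer_iff.mp h y hy)

theorem center_cyclic (d : MovedPoint M N A p x) (hG : Cfsg.IsMinSimpleOddOrder G)
    (hna : ¬ IsMulCommutative ↥(FittingParts.O p M)) : IsCyclic ↥(FittingParts.Z p M) := by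
  by_contra hnc
  have hp2 : p ≠ 2 := ne_two hG d.maxSq.isPGroup d.maxSq.ne_bot
  obtain ⟨F, hF, -, hFe, hFc⟩ := exists_normal_sq hp2 ((FittingParts.isPGroup M).to_le inf_le_left) hnc
  have hFA : F ≤ A := fun f hf => d.maxSq.mem_of_commute
    (centralizer_le (show (A : Set G) ⊆ FittingParts.O p M from d.sq_le hG) (hF hf).2) (hFe.2 f hf)
  have he : F = A := Cfsg.Lib.Coprime.eq_of_le_of_card_eq hFA (hFc.trans d.maxSq.card.symm)
  exact d.not_central hG hna (hF (he ▸ d.mem)).2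

/-- The line of `Z(O_p(M))` is normal in `M`. -/
theorem center_line (d : MovedPoint M N A p x) (hG : Cfsg.IsMinSimpleOddOrder G)
    (hna : ¬ IsMulCommutative ↥(FittingParts.O p M)) :
    ∃ z : G, z ∈ FittingParts.Z p M ∧ orderOf z = p ∧ M ≤ normalizer (zpowers z : Set G) := by
  have hO : FittingParts.O p M ≠ ⊥ := fun h => by
    have h1 := d.mem_O hG
    rw [h] at h1
    exact d.pair.ne_one (mem_bot.mp h1)
  have hd : p ∣ Nat.card ↥(FittingParts.Z p M) :=
    dvd_card_of_isPGroup ((FittingParts.isPGroup M).to_le inf_le_left) (FittingParts.Z_ne_bot hO)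
  obtain ⟨z, hz⟩ := exists_prime_orderOf_dvd_card' p hd
  exact ⟨z, z.2, (Subgroup.orderOf_coe z).trans hz, (FittingParts.le_normalizer_Z p M).trans
    (normalizer_le_of_cyclic (d.center_cyclic hG hna) (zpowers_le.mpr z.2))⟩

/-- Every element of `M_σ` is a product of one in `O_p(M)` and one centralizing `M_σ`. -/
theorem core_split (d : MovedPoint M N A p x) (hG : Cfsg.IsMinSimpleOddOrder G) {a : G}
    (ha : a ∈ Cfsg.sigmaCore M) :
    ∃ u ∈ FittingParts.O p M, ∃ c ∈ centralizer (Cfsg.sigmaCore M : Set G), a = u * c := by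
  obtain ⟨u, c, hu, -, huc, -, hc⟩ := FittingParts.split (r := p) (sigmaCore_le_fittingOf d.nil ha)
  refine ⟨u, hu, c, ?_, huc.symm⟩
  revert hc
  suffices hle : (⨆ s : {s : ℕ // s.Prime ∧ s ≠ p}, FittingParts.O s.1 M) ≤
      centralizer (Cfsg.sigmaCore M : Set G) from fun hc => hle hc
  refine iSup_le fun s => ?_
  haveI := Fact.mk s.2.1
  refine le_centralizer_sigmaCore hG d.pair.max d.nil fun r hr hσ => ?_
  haveI := Fact.mk hr
  by_cases hrs : r = s.1
  · subst hrs
    intro b hb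
    exact mem_centralizer_iff.mpr fun e he =>
      ThompsonTransitivity.mul_comm_of (d.other_comm hG hσ s.2.2) he hb
  · exact FittingParts.commute (Ne.symm hrs)

/-- `(M_σ)' ≤ O_p(M)`. -/
theorem derived_core_le (d : MovedPoint M N A p x) (hG : Cfsg.IsMinSimpleOddOrder G) :
    ⁅Cfsg.sigmaCore M, Cfsg.sigmaCore M⁆ ≤ FittingParts.O p M := by
  refine commutator_le.mpr fun a ha b hb => ?_
  have hH : FittingParts.O p M ≤ Cfsg.sigmaCore M := O_le_sigmaCore hG d.pair.max d.sigma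
  obtain ⟨u, hu, c, hc, rfl⟩ := d.core_split hG ha
  obtain ⟨v, hv, e, he, rfl⟩ := d.core_split hG hb
  have hcH : c ∈ Cfsg.sigmaCore M := by simpa using mul_mem (inv_mem (hH hu)) ha
  have heH : e ∈ Cfsg.sigmaCore M := by simpa using mul_mem (inv_mem (hH hv)) hb
  have h1 : Commute c v := (mem_centralizer_iff.mp hc v (hH hv)).symm
  have h2 : Commute c e := (mem_centralizer_iff.mp hc e heH).symm
  have h3 : Commute u e := mem_centralizer_iff.mp he u (hH hu)
  rw [show ⁅u * c, v * e⁆ = ⁅u, v⁆ by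
    simp only [commutatorElement_def, mul_inv_rev]
    have k1 : c * (v * e) * c⁻¹ = v * e := by
      rw [(h1.mul_right h2).eq, mul_inv_cancel_right]
    calc u * c * (v * e) * (c⁻¹ * u⁻¹) * (e⁻¹ * v⁻¹)
        = u * (c * (v * e) * c⁻¹) * u⁻¹ * (e⁻¹ * v⁻¹) := by group
      _ = u * v * (e * u⁻¹) * (e⁻¹ * v⁻¹) := by rw [k1]; group
      _ = u * v * u⁻¹ * v⁻¹ := by rw [h3.inv_left.eq.symm]; group]
  exact commutator_le_self _ (commutator_mem_commutator hu hv)

end MovedPoint

section Meet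

variable (hG : Cfsg.IsMinSimpleOddOrder G) (hM : IsCoatom M)
  (hnil : Group.IsNilpotent (Cfsg.sigmaCore M)) (hg : g ∉ M)

include hG hM hg in
theorem line_absurd {r : ℕ} [hr : Fact r.Prime] (hσ : r ∉ Cfsg.sigma M) (hyo : orderOf y = r)
    (hy : y ∈ Cfsg.fittingOf M) (hy' : y ∈ conjMap g (Cfsg.fittingOf M)) : False := by
  obtain ⟨y₀, hy₀, he⟩ := hy'
  have he' : g * y₀ * g⁻¹ = y := he
  have key : ∀ z ∈ Cfsg.fittingOf M, orderOf z = r →
      zpowers z ≤ M ∧ M ≤ normalizer (zpowers z : Set G) := fun z hz hzo => by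
    have h1 : zpowers z ≤ FittingParts.O r M := le_O_of_le_fitting
      (isPGroup_of_card (p := r) (by rw [Nat.card_zpowers, hzo])) (zpowers_le.mpr hz)
    have hne : FittingParts.O r M ≠ ⊥ := fun h0 => by
      rw [h0, le_bot_iff, zpowers_eq_bot] at h1
      rw [h1, orderOf_one] at hzo
      exact hr.out.one_lt.ne hzo
    exact ⟨h1.trans (PiCoreOf.le _ M), (PiCoreOf.le_normalizer' _ M).trans
      (normalizer_le_of_cyclic (core_outside_sigma hG hM hσ hne).1 h1)⟩
  have hy1 : zpowers y ≠ ⊥ := line_ne_bot (p := r) (by rw [Nat.card_zpowers, hyo])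
  have hy₀o : orderOf y₀ = r := by rw [← hyo, ← he', conj_orderOf]
  obtain ⟨hyM, hn⟩ := key y hy hyo
  obtain ⟨-, hn₀⟩ := key y₀ hy₀ hy₀o
  have hN := normalizer_eq hG hM hy1 hyM hn
  have hle : conjMap g M ≤ M := by
    refine le_trans (Cfsg.Lib.Coprime.conjMap_mono hn₀) ?_
    rw [← hN, ← Cfsg.Lib.Coprime.normalizer_conjMap]
    refine le_of_eq (congrArg (fun T : Subgroup G => normalizer (T : Set G)) ?_)
    rw [conjMap, MonoidHom.map_zpowers]
    exact congrArg zpowers he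
  exact hg (eq_of_conj_fix hG hM (Cfsg.Lib.Coprime.eq_of_le_of_card_eq hle (Cfsg.Lib.Coprime.card_conjMap g M)))

include hG hM hg in
theorem meet_le_sigmaCore :
    Cfsg.fittingOf M ⊓ conjMap g (Cfsg.fittingOf M) ≤ Cfsg.sigmaCore M := fun y hy => by
  refine mem_sigmaCore_of_primes hG hM (FittingParts.fittingOf_le M hy.1) fun r hr hd => ?_
  by_contra hσ
  haveI := Fact.mk hr
  exact line_absurd hG hM hg hσ (orderOf_pow_orderOf_div (orderOf_pos y).ne' hd)
    (pow_mem hy.1 _) (pow_mem hy.2 _)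

include hG hM hg in
theorem meet_moved (hy : y ∈ Cfsg.fittingOf M ⊓ conjMap g (Cfsg.fittingOf M)) (hy1 : y ≠ 1) :
    ¬ centralizer ({y} : Set G) ≤ M := fun hle => by
  obtain ⟨c, hc, he⟩ := exists_centralizer_conj hG hM (meet_le_sigmaCore hG hM hg hy) hy1
    (Cfsg.Lib.Coprime.conjMap_mono (FittingParts.fittingOf_le M) hy.2)
  rw [Cfsg.Lib.Coprime.conjMap_eq_self (le_normalizer (hle hc))] at he
  exact hg (eq_of_conj_fix hG hM he.symm)

include hG hM hg in
theorem meet_cyclic : IsCyclic ↥(Cfsg.fittingOf M ⊓ conjMap g (Cfsg.fittingOf M)) := by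
  haveI := (inf_conj_theorem hG hM hg).1
  exact isCyclic_of_injective (inclusion (le_inf (meet_le_sigmaCore hG hM hg)
    (inf_le_right.trans (Cfsg.Lib.Coprime.conjMap_mono (FittingParts.fittingOf_le M))) :
      Cfsg.fittingOf M ⊓ conjMap g (Cfsg.fittingOf M) ≤ Cfsg.sigmaCore M ⊓ conjMap g M))
    (inclusion_injective _)

include hG hM hg hnil in
theorem exists_moved (hX : Cfsg.fittingOf M ⊓ conjMap g (Cfsg.fittingOf M) ≠ ⊥) :
    ∃ (p : ℕ) (_ : Fact p.Prime) (N A : Subgroup G) (x : G),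
      x ∈ Cfsg.fittingOf M ⊓ conjMap g (Cfsg.fittingOf M) ∧ MovedPoint M N A p x := by
  obtain ⟨y, hy⟩ := (Subgroup.ne_bot_iff_exists_ne_one).mp hX
  have hy1' : (y : G) ≠ 1 := fun e => hy (Subtype.ext e)
  obtain ⟨p, hp, hd⟩ := exists_pow_prime hy1'
  haveI := Fact.mk hp
  have hxo := orderOf_pow_orderOf_div (orderOf_pos (y : G)).ne' hd
  have hxX := pow_mem y.2 (orderOf (y : G) / p)
  have hx1 : (y : G) ^ (orderOf (y : G) / p) ≠ 1 := fun e => by
    rw [e, orderOf_one] at hxo; exact hp.one_lt.ne hxo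
  obtain ⟨N, A, d⟩ := exists_movedPoint hG hM hnil (meet_le_sigmaCore hG hM hg hxX) hxo
    (meet_moved hG hM hg hxX hx1)
  exact ⟨p, ⟨hp⟩, N, A, _, hxX, d⟩

include hG hM hg in
theorem meet_card [hp : Fact p.Prime] (d : MovedPoint M N A p x)
    (hx : x ∈ Cfsg.fittingOf M ⊓ conjMap g (Cfsg.fittingOf M))
    (hna : ¬ IsMulCommutative ↥(FittingParts.O p M)) :
    Nat.card ↥(Cfsg.fittingOf M ⊓ conjMap g (Cfsg.fittingOf M)) = p := by
  set X := Cfsg.fittingOf M ⊓ conjMap g (Cfsg.fittingOf M) with hX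
  have hcyc : IsCyclic X := meet_cyclic hG hM hg
  have hone : ∀ r : ℕ, r.Prime → r ∣ Nat.card X → r = p := fun r hr hd => by
    by_contra hne
    haveI := Fact.mk hr
    obtain ⟨y, hy⟩ := exists_prime_orderOf_dvd_card' r hd
    have hyo : orderOf (y : G) = r := (Subgroup.orderOf_coe y).trans hy
    have hy1 : (y : G) ≠ 1 := fun e => by rw [e, orderOf_one] at hyo; exact hr.one_lt.ne hyo
    obtain ⟨N', A', d'⟩ := exists_movedPoint hG hM d.nil (meet_le_sigmaCore hG hM hg y.2) hyo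
      (meet_moved hG hM hg y.2 hy1)
    haveI := d.other_cyclic hG hna d'.sigma hne
    exact d'.maxSq.not_isCyclic (isCyclic_of_injective (inclusion (d'.sq_le hG)) (inclusion_injective _))
  obtain ⟨k, hk⟩ : ∃ k, Nat.card X = p ^ k :=
    (IsPGroup.iff_card (p := p)).mp (IsPGroup.of_card (n := (Nat.card X).factorization p) (by
      refine Nat.eq_of_factorization_eq Nat.card_pos.ne' (pow_ne_zero _ hp.out.ne_zero) fun r => ?_
      rw [hp.out.factorization_pow, Finsupp.single_apply]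
      split_ifs with h
      · subst h; rfl
      · by_contra h0
        obtain ⟨hr1, hr2, -⟩ := Nat.mem_primeFactors.mp (Nat.support_factorization _ ▸ Finsupp.mem_support_iff.mpr h0)
        exact h (hone r hr1 hr2).symm))
  have hxc : Nat.card ↥(zpowers x) = p := (Nat.card_zpowers x).trans d.order
  rcases k with _ | _ | k
  · have h1 := card_dvd_of_le (zpowers_le.mpr hx : zpowers x ≤ X)
    rw [hxc, hk, pow_zero] at h1
    exact absurd (Nat.dvd_one.mp h1) hp.out.one_lt.ne'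
  · rw [hk, zero_add, pow_one]
  exfalso
  haveI := hcyc
  obtain ⟨y, hy⟩ := IsCyclic.exists_ofOrder_eq_natCard (α := X)
  have hyo : orderOf (y : G) = p ^ (k + 2) := (Subgroup.orderOf_coe y).trans (hy.trans hk)
  have hy1 : (y : G) ≠ 1 := fun e => by
    rw [e, orderOf_one] at hyo
    exact (Nat.one_lt_pow (by omega) hp.out.one_lt).ne hyo
  have hxy : zpowers x ≤ zpowers (y : G) := by
    refine (zpowers_le.mpr hx).trans (le_of_eq ?_)
    exact (Cfsg.Lib.Coprime.eq_of_le_of_card_eq (zpowers_le.mpr y.2)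
      ((Nat.card_zpowers _).trans ((Subgroup.orderOf_coe y).trans hy))).symm
  have hCy : centralizer ({(y : G)} : Set G) ≤ centralizer ({x} : Set G) := by
    rw [← Cfsg.Lib.Coprime.centralizer_zpowers, ← Cfsg.Lib.Coprime.centralizer_zpowers]
    exact centralizer_le hxy
  obtain ⟨N', hN'⟩ := exists_supportPair hG hM (meet_le_sigmaCore hG hM hg y.2) hy1
    (meet_moved hG hM hg y.2 hy1)
  have hNN := hN'.unique N d.pair.maxN (hCy.trans d.pair.le)
  have hyA : (y : G) ∈ A := d.hat_mem hG hna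
    ⟨FittingParts.fittingOf_le M y.2.1, d.pair.le (hCy (mem_centralizer_singleton_iff.mpr rfl))⟩
    (IsPGroup.of_card (n := k + 2) ((Nat.card_zpowers _).trans hyo)) (hNN ▸ hN'.mover)
  have h1 := orderOf_dvd_of_pow_eq_one (d.maxSq.ea.2 _ hyA)
  rw [hyo] at h1
  exact absurd (Nat.le_of_dvd hp.out.pos h1) (not_le.mpr (by
    calc p = p ^ 1 := (pow_one p).symm
      _ < p ^ (k + 2) := Nat.pow_lt_pow_right hp.out.one_lt (by omega)))

end Meet

end Cfsg.Lib.OddLocal.RankTwoMax
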