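import Cfsg.Agent.OddLocal.SupportKappaBase
import Cfsg.Agent.OddLocal.FixedPointFreeGroup
import Cfsg.Agent.SolvStruct.TIHallComplement

/-!
# An automorphism of prime order with a fixed line inside the derived subgroup

If `a` of order `p` acts coprimely on a solvable group `H`, `C_H(a)` has prime order `q` and lies in
`[H, H]`, then `H` has a normal Sylow `q`-subgroup.
-/

set_option linter.unusedSectionVars false
set_option linter.unusedVariables false
set_option linter.style.haveILetI false

namespace Cfsg.Lib.OddLocal.RankTwoMax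

open Subgroup Uniqueness Sigma
open Cfsg.Lib.Coprime (conjMap)
open scoped commutatorElement

universe u

variable {X : Type u} [Group X] [Finite X] {p q : ℕ} [hp : Fact p.Prime] [hq : Fact q.Prime] {H : Subgroup X}
  {a : X}

/-- The case `O_q(H) = 1`: the fixed line avoids the derived subgroup. -/
theorem fixed_line_not_derived (hq2 : q ≠ 2) (ha : orderOf a = p) (haH : a ∈ normalizer (H : Set X))
    (hsol : Group.IsSolvable H) (hcop : (Nat.card H).Coprime p)
    (hC : Nat.card ↥(H ⊓ centralizer ({a} : Set X)) = q) (hO : FittingParts.O q H = ⊥) :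
    ¬ H ⊓ centralizer ({a} : Set X) ≤ ⁅H, H⁆ := by
  intro hder
  set C := H ⊓ centralizer ({a} : Set X) with hCdef
  set A := zpowers a with hA
  have hAc : Nat.card A = p := by rw [Nat.card_zpowers, ha]
  have hAH : A ≤ normalizer (H : Set X) := zpowers_le.mpr haH
  have hcop' : (Nat.card A).Coprime (Nat.card H) := by rw [hAc]; exact hcop.symm
  have hCA : H ⊓ centralizer (A : Set X) = C := by rw [hA, Cfsg.Lib.Coprime.centralizer_zpowers]
  have hpq : p ≠ q := fun e => hp.out.ne_one (Nat.eq_one_of_dvd_coprimes hcop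
    (e ▸ hC.symm.dvd.trans (card_dvd_of_le inf_le_left)) dvd_rfl)
  have hCq : IsPGroup q C := isPGroup_of_card hC
  have hCc : IsMulCommutative C := by
    haveI := isCyclic_of_prime_card hC
    exact IsCyclic.isMulCommutative
  have hAC : A ≤ normalizer (C : Set X) := (zpowers_le.mpr (mem_centralizer_iff.mpr fun c hc =>
    mem_centralizer_singleton_iff.mp (hc : c ∈ C).2)).trans (centralizer_le_normalizer _)
  obtain ⟨P, hCP, hAP⟩ := Cfsg.Lib.Coprime.exists_invariant_sylow_ge hAH hcop' (Or.inr hsol) q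
    inf_le_left hCq hAC
  set Q := (P : Subgroup H).map H.subtype with hQ
  have hQH : Q ≤ H := map_subtype_le _
  have hQp : IsPGroup q Q := P.2.map _
  -- the Sylow subgroup is the fixed line
  have hQC : Q = C := by
    refine le_antisymm (le_inf hQH ?_) hCP
    rw [← Cfsg.Lib.Coprime.centralizer_zpowers, ← commutator_eq_bot_iff_le_centralizer]
    have hcQ : ⁅Q, A⁆ ≤ Q := Cfsg.Lib.Coprime.commutator_le_of_le_normalizer hAP
    refine le_bot_iff.mp fun y hy => ?_
    rw [mem_bot]
    by_contra hy1
    have hcent : ⁅Q, A⁆ ≤ centralizer (Cfsg.fittingOf H : Set X) := by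
      refine FittingParts.le_centralizer_fittingOf fun r hr => ?_
      haveI := Fact.mk hr
      by_cases hrq : r = q
      · subst hrq
        rw [hO]
        exact fun z _ => mem_centralizer_iff.mpr fun w hw => by rw [mem_bot.mp hw, one_mul, mul_one]
      by_cases hrp : r = p
      · have hO0 : FittingParts.O r H = ⊥ := by
          subst hrp
          obtain ⟨k, hk⟩ := IsPGroup.iff_card.mp (FittingParts.isPGroup (q := r) H)
          have h1 := hcop.coprime_dvd_left (card_dvd_of_le (PiCoreOf.le {r} H))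
          rw [hk] at h1
          cases k with
          | zero => exact card_eq_one.mp (by rw [hk, pow_zero])
          | succ k => exact absurd (Nat.eq_one_of_dvd_coprimes h1 (dvd_pow_self r k.succ_ne_zero) dvd_rfl) hr.ne_one
        rw [hO0]
        exact fun z _ => mem_centralizer_iff.mpr fun w hw => by rw [mem_bot.mp hw, one_mul, mul_one]
      exact Cfsg.Lib.OddP.commutator_centralizes (p := r) hp.out hq.out hpq hq2 (Ne.symm hrp) (Ne.symm hrq)
        (by rw [← ha]; exact pow_orderOf_eq_one a) hQp (FittingParts.isPGroup H)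
        (hAP (mem_zpowers a)) (PiCoreOf.normalizer_le _ _ haH) (hQH.trans (PiCoreOf.le_normalizer' _ _))
        (le_bot_iff.mp fun z hz => Cfsg.Lib.Coprime.eq_one_of_coprime
          (FittingParts.coprime hrq (FittingParts.isPGroup H) hCq) hz.1 ⟨PiCoreOf.le _ H hz.1, hz.2⟩)
    have hyF : y ∈ Cfsg.fittingOf H := FittingParts.centralizer_fittingOf_le (X := H) ⟨hQH (hcQ hy), hcent hy⟩
    refine hy1 (Cfsg.Lib.Coprime.eq_one_of_coprime ?_ hyF (hcQ hy))
    obtain ⟨k, hk⟩ := IsPGroup.iff_card.mp hQp
    rw [hk]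
    refine ((hq.out.coprime_iff_not_dvd.mpr fun h => ?_).pow_left k).symm
    exact (FittingParts.dvd_fittingOf_iff H).mp h hO
  -- transfer
  have hN : normalizer ((P : Subgroup H) : Set H) ≤ centralizer ((P : Subgroup H) : Set H) := by
    intro n hn
    have hnQ : (n : X) ∈ H ⊓ normalizer (C : Set X) := by
      refine ⟨n.2, ?_⟩
      rw [← hQC]
      exact Cfsg.Lib.Coprime.conjMap_eq_self_iff.mp ((Cfsg.Lib.Coprime.map_conjMap H.subtype n _).symm.trans
        (congrArg _ (Cfsg.Lib.Coprime.conjMap_eq_self hn)))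
    set N := H ⊓ normalizer (C : Set X) with hNdef
    have hAN : A ≤ normalizer (N : Set X) :=
      Cfsg.Lib.Coprime.le_normalizer_inf hAH (hAC.trans le_normalizer)
    have hle : N ≤ centralizer (C : Set X) := by
      rw [← Cfsg.Lib.Coprime.commutator_sup_centralizer hAN (Cfsg.Lib.Coprime.coprime_of_le inf_le_left hcop')
        (Or.inr (Cfsg.Lib.Coprime.isSolvable_of_le inf_le_left hsol))]
      refine sup_le (commutator_le.mpr fun m hm b hb => ?_) fun c hc => ?_
      · refine mem_centralizer_iff.mpr fun z hz => ?_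
        have hbz : ∀ w ∈ C, b * w = w * b := fun w hw => by
          have h1 : b ∈ centralizer ({w} : Set X) := zpowers_le.mpr
            (mem_centralizer_singleton_iff.mpr (mem_centralizer_singleton_iff.mp hw.2).symm) hb
          exact mem_centralizer_singleton_iff.mp h1
        have h1 : m⁻¹ * z * m ∈ C := (mem_normalizer_iff''.mp hm.2 z).mp hz
        rw [commutatorElement_def]
        have h2 := hbz _ h1
        calc z * (m * b * m⁻¹ * b⁻¹) = m * ((m⁻¹ * z * m) * b) * m⁻¹ * b⁻¹ := by group
          _ = m * (b * (m⁻¹ * z * m)) * m⁻¹ * b⁻¹ := by rw [h2]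
          _ = m * b * m⁻¹ * (z * b⁻¹) := by group
          _ = m * b * m⁻¹ * (b⁻¹ * z) := by
            congr 1
            rw [eq_comm, ← mul_right_inj b, mul_inv_cancel_left, ← mul_assoc, hbz z hz, mul_inv_cancel_right]
          _ = _ := by group
      · have hc' : c ∈ C := hCA.le ⟨hc.1.1, hc.2⟩
        exact mem_centralizer_iff.mpr fun z hz => ThompsonTransitivity.mul_comm_of hCc hz hc'
    refine mem_centralizer_iff.mpr fun z hz => Subtype.ext ?_
    exact mem_centralizer_iff.mp (hle hnQ) z (hQC.le ⟨z, hz, rfl⟩)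
  have hnd := Cfsg.Lib.SolvStruct.not_dvd_card_commutator_of_burnside hAH P hN fun z hz b hb => by
    have h1 : b ∈ centralizer ({(z : X)} : Set X) := zpowers_le.mpr (mem_centralizer_singleton_iff.mpr
      (mem_centralizer_singleton_iff.mp (hQC.le ⟨z, hz, rfl⟩).2).symm) hb
    exact mem_centralizer_singleton_iff.mp h1
  refine hnd (hC.symm.dvd.trans (card_dvd_of_le (hder.trans ?_)))
  refine commutator_le_of_prod hCc (Cfsg.Lib.Coprime.le_normalizer_commutator_left A H) inf_le_left
    (Cfsg.Lib.Coprime.commutator_le_of_le_normalizer hAH) fun y hy => ?_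
  rw [← Cfsg.Lib.Coprime.commutator_sup_centralizer hAH hcop' (Or.inr hsol), hCA,
    Cfsg.Lib.Coprime.mem_sup_of_le_normalizer'
      (inf_le_left.trans (Cfsg.Lib.Coprime.le_normalizer_commutator_left A H))] at hy
  obtain ⟨c, hc, n, hn, rfl⟩ := hy
  exact ⟨c, hc, n, hn, rfl⟩

/-- The fixed line in the derived subgroup forces a normal Sylow subgroup. -/
theorem normal_sylow_of_fixed_line {G : Type u} [Group G] [Finite G] {H : Subgroup G} {a : G} (hq2 : q ≠ 2)
    (ha : orderOf a = p) (haH : a ∈ normalizer (H : Set G)) (hsol : Group.IsSolvable H)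
    (hcop : (Nat.card H).Coprime p) (hC : Nat.card ↥(H ⊓ centralizer ({a} : Set G)) = q)
    (hder : H ⊓ centralizer ({a} : Set G) ≤ ⁅H, H⁆) : ¬ q ∣ (FittingParts.O q H).relIndex H := by
  intro hd
  set N := FittingParts.O q H with hN
  set T := normalizer (N : Set G) with hT
  have hNT : N ≤ T := le_normalizer
  haveI : (N.subgroupOf T).Normal := normal_subgroupOf_of_le_normalizer le_rfl
  set π := QuotientGroup.mk' (N.subgroupOf T) with hπ
  have hHT : H ≤ T := PiCoreOf.le_normalizer' _ _
  have haT : a ∈ T := PiCoreOf.normalizer_le _ _ haH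
  set H' := (H.subgroupOf T).map π with hH'
  set a' := π ⟨a, haT⟩ with ha'
  have hker : ∀ y : T, π y = 1 ↔ (y : G) ∈ N := fun y => by
    rw [hπ, QuotientGroup.mk'_apply, QuotientGroup.eq_one_iff]; rfl
  have hNH : N ≤ H := PiCoreOf.le _ _
  have hcard : Nat.card (H.subgroupOf T) = Nat.card H := Nat.card_congr (subgroupOfEquivOfLe hHT).toEquiv
  have hcop' : (Nat.card H').Coprime p := (hcard ▸ hcop).coprime_dvd_left (card_map_dvd _ π)
  have ha1 : a' ≠ 1 := fun e => by
    have h1 : a ∈ N := (hker _).mp e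
    exact hp.out.ne_one (Nat.eq_one_of_dvd_coprimes hcop
      (ha ▸ (Nat.card_zpowers a).symm ▸ card_dvd_of_le (zpowers_le.mpr (hNH h1))) dvd_rfl)
  have hao : orderOf a' = p := orderOf_eq_prime (by
    rw [ha', ← map_pow, show (⟨a, haT⟩ : T) ^ p = 1 from Subtype.ext (by
      rw [SubmonoidClass.coe_pow, OneMemClass.coe_one, ← ha]; exact pow_orderOf_eq_one a), map_one]) ha1
  have haH' : a' ∈ normalizer (H' : Set (T ⧸ N.subgroupOf T)) := by
    refine le_normalizer_map π (mem_map_of_mem π ?_)
    exact mem_normalizer_iff.mpr fun y => mem_normalizer_iff.mp haH (y : G)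
  have hsol' : Group.IsSolvable H' := Cfsg.Lib.Coprime.isSolvable_map
    (Group.isSolvable_of_isSolvable_injective (f := (subgroupOfEquivOfLe hHT).toMonoidHom)
      (subgroupOfEquivOfLe hHT).injective) π
  have hfix : H' ⊓ centralizer ({a'} : Set _) =
      ((H ⊓ centralizer ({a} : Set G)).subgroupOf T).map π := by
    refine le_antisymm ?_ ?_
    · rintro _ ⟨⟨y, hy, rfl⟩, hyC⟩
      have hyN : a * y * a⁻¹ * (y : G)⁻¹ ∈ N := by
        have h1 : π (⟨a, haT⟩ * y * ⟨a, haT⟩⁻¹ * y⁻¹) = 1 := by
          rw [map_mul, map_mul, map_mul, map_inv, map_inv, ← ha', ← mem_centralizer_singleton_iff.mp hyC,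
            mul_inv_cancel_right, mul_inv_cancel]
        exact (hker _).mp h1
      obtain ⟨n, hn, hyn⟩ := Cfsg.Lib.Coprime.exists_fixed_of_commutator_mem (A := zpowers a)
        (zpowers_le.mpr haT) (by
          rw [Nat.card_zpowers, ha]
          exact (hcop.coprime_dvd_left (card_dvd_of_le hNH)).symm)
        (Or.inr (Cfsg.Lib.Coprime.isSolvable_of_le hNH hsol)) (k := (y : G)) y.2 (by
          intro b hb
          obtain ⟨k, rfl⟩ := mem_powers_iff_mem_zpowers.mpr hb
          induction k with
          | zero => simp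
          | succ k ih =>
            have h2 : a * ((a ^ k) * (y : G) * (a ^ k)⁻¹ * (y : G)⁻¹) * a⁻¹ ∈ N :=
              (mem_normalizer_iff.mp haT _).mp (ih (npow_mem_zpowers a k))
            have := mul_mem h2 hyN
            simpa [pow_succ', mul_assoc] using this)
      rw [Cfsg.Lib.Coprime.centralizer_zpowers] at hyn
      refine ⟨y * ⟨n, hNT hn⟩, ⟨mul_mem hy (hNH hn), hyn⟩, ?_⟩
      rw [map_mul, (hker ⟨n, hNT hn⟩).mpr hn, mul_one]
    · rintro _ ⟨y, hy, rfl⟩
      refine ⟨mem_map_of_mem π hy.1, mem_centralizer_singleton_iff.mpr ?_⟩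
      rw [ha', ← map_mul, ← map_mul]
      exact congrArg π (Subtype.ext (mem_centralizer_singleton_iff.mp hy.2))
  have hO' : FittingParts.O q H' = ⊥ := by
    refine le_bot_iff.mp fun z hz => ?_
    obtain ⟨y, hy, rfl⟩ := PiCoreOf.le _ _ hz
    set W := ((FittingParts.O q H').comap π).map T.subtype with hW
    have hker' : π.ker = N.subgroupOf T := QuotientGroup.ker_mk' _
    have hle : N.subgroupOf T ≤ H.subgroupOf T := fun w hw => hNH hw
    have hWH : W ≤ H := by
      rintro _ ⟨w, hw, rfl⟩
      obtain ⟨v, hv, hve⟩ := PiCoreOf.le _ _ hw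
      have h1 : v⁻¹ * w ∈ N.subgroupOf T := by rw [← hker', MonoidHom.mem_ker, map_mul, map_inv, hve, inv_mul_cancel]
      have h2 : w ∈ H.subgroupOf T := by simpa using mul_mem hv (hle h1)
      exact h2
    have hWn : H ≤ normalizer (W : Set G) := by
      intro h hh
      have h1 : (⟨h, hHT hh⟩ : T) ∈ normalizer ((FittingParts.O q H').comap π : Set T) :=
        le_normalizer_comap π (mem_comap.mpr (PiCoreOf.le_normalizer' _ _ (mem_map_of_mem π hh)))
      exact Cfsg.Lib.Coprime.conjMap_eq_self_iff.mp ((Cfsg.Lib.Coprime.map_conjMap T.subtype ⟨h, hHT hh⟩ _).symm.trans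
        (congrArg _ (Cfsg.Lib.Coprime.conjMap_eq_self h1)))
    have hWq : IsPGroup q W := by
      refine (IsPGroup.comap_of_ker_isPGroup (FittingParts.isPGroup H') π ?_).map _
      rw [hker']
      exact (FittingParts.isPGroup H).of_equiv (subgroupOfEquivOfLe hNT).symm
    exact mem_bot.mpr ((hker y).mpr (FittingParts.le_of_isPGroup hWH hWn hWq ⟨y, hz, rfl⟩))
  have hqH : q ∣ Nat.card H' := by
    have h1 : Nat.card H' = N.relIndex H := by
      rw [hH', ← relIndex_bot_left, ← (Subgroup.map_eq_bot_iff _).mpr (QuotientGroup.ker_mk' (N.subgroupOf T)).ge,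
        relIndex_map_map, QuotientGroup.ker_mk', sup_idem, sup_eq_left.mpr (fun w hw => hNH hw),
        relIndex_subgroupOf hHT]
    rw [h1]; exact hd
  by_cases hCN : H ⊓ centralizer ({a} : Set G) ≤ N
  · -- no fixed points in the quotient
    haveI := nilpotent_of_fixed_free hao haH' (by
      rw [hfix]
      refine (Subgroup.map_eq_bot_iff _).mpr fun y hy => ?_
      rw [QuotientGroup.ker_mk']
      exact hCN hy)
    obtain ⟨S⟩ : Nonempty (Sylow q H') := inferInstance
    haveI : (S : Subgroup H').Normal := Sylow.normal_of_normalizerCondition Group.normalizerCondition_of_isNilpotent S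
    refine S.ne_bot_of_dvd_card hqH ((map_eq_bot_iff_of_injective _ H'.subtype_injective).mp (le_bot_iff.mp ?_))
    exact (FittingParts.le_of_isPGroup (map_subtype_le _) (fun h hh => Cfsg.Lib.Coprime.conjMap_eq_self_iff.mp
      ((Cfsg.Lib.Coprime.map_conjMap H'.subtype ⟨h, hh⟩ _).symm.trans (congrArg _
        (Cfsg.Lib.Coprime.conjMap_eq_self (le_normalizer_of_normal (K := ⊤) (mem_top _)))))) (S.2.map _)).trans hO'.le
  · have hC' : Nat.card ↥(H' ⊓ centralizer ({a'} : Set _)) = q := by
      rw [hfix]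
      refine ((Nat.dvd_prime hq.out).mp ?_).resolve_left fun h => hCN fun y hy => ?_
      · refine (card_map_dvd _ π).trans (dvd_of_eq ?_)
        rw [Nat.card_congr (subgroupOfEquivOfLe (inf_le_left.trans hHT)).toEquiv, hC]
      · have := (Subgroup.map_eq_bot_iff _).mp (card_eq_one.mp h) (show (⟨y, hHT hy.1⟩ : T) ∈ _ from hy)
        rwa [QuotientGroup.ker_mk'] at this
    refine fixed_line_not_derived hq2 hao haH' hsol' hcop' hC' hO' ?_
    rw [hfix, hH', ← Subgroup.map_commutator]
    refine map_mono fun y hy => ?_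
    obtain ⟨w, hw, hwe⟩ : (y : G) ∈ (⁅H.subgroupOf T, H.subgroupOf T⁆).map T.subtype := by
      rw [Subgroup.map_commutator, map_subgroupOf_eq_of_le hHT]
      exact hder hy
    exact Subtype.ext hwe ▸ hw

end Cfsg.Lib.OddLocal.RankTwoMax
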