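import Cfsg.Agent.OddLocal.FullyRamified
import Cfsg.Agent.Coprime.Sylow
import Cfsg.Agent.Coprime.Hall
import Cfsg.Agent.PGroups.Basic
import Cfsg.Agent.PGroups.Commutators

/-!
# A fixed-point-free element of odd prime order centralizes the odd `q`-groups it normalizes
-/

set_option linter.unusedSectionVars false
set_option linter.style.haveILetI false

namespace Cfsg.Lib.OddP

open Module Subgroup
open scoped commutatorElement

universe u v w

variable {K : Type u} [Field K] [IsAlgClosed K] {V : Type v} [AddCommGroup V] [Module K V]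
  [FiniteDimensional K V] {Γ : Type w} [Group Γ] [Finite Γ]

theorem restrict_mul {S : Submodule K V} (f g : Module.End K V) (hf : ∀ v ∈ S, f v ∈ S)
    (hg : ∀ v ∈ S, g v ∈ S) (v : S) :
    ((f.restrict hf) ((g.restrict hg) v) : V) = f (g v) := rfl

theorem normalizer_le_normalizer_center (Q : Subgroup Γ) :
    normalizer (Q : Set Γ) ≤ normalizer ((center Q).map Q.subtype : Set Γ) := by
  intro g hg
  have key : ∀ g ∈ normalizer (Q : Set Γ), ∀ y ∈ (center Q).map Q.subtype,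
      g * y * g⁻¹ ∈ (center Q).map Q.subtype := by
    rintro g hg - ⟨y, hy, rfl⟩
    exact ⟨Q.normalizerMonoidHom ⟨g, hg⟩ y,
      characteristic_iff_le_comap.mp inferInstance _ hy, rfl⟩
  exact Cfsg.Lib.Coprime.mem_normalizer_of_conj_mem (key g hg)
    fun y hy => by simpa using key g⁻¹ (inv_mem hg) y hy

/-- a minimal invariant subspace of the image of `ρ z - 1` -/
theorem exists_irreducible_moved (ρ : Γ →* Module.End K V) (Q : Subgroup Γ) {z : Γ} (hzQ : z ∈ Q)
    (hzc : ∀ u ∈ Q, z * u = u * z) (hz : ρ z ≠ 1) (hK : ((orderOf z : ℕ) : K) ≠ 0) :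
    ∃ (W : Submodule K V) (ρ0 : Q →* Module.End K W), Nontrivial W ∧
      (∀ (u : Q) (w : W), ((ρ0 u w : W) : V) = ρ u w) ∧
      (∀ S : Submodule K W, (∀ g : Q, ∀ x ∈ S, ρ0 g x ∈ S) → S = ⊥ ∨ S = ⊤) ∧
      ∀ w : W, ρ z w = w → w = 0 := by
  classical
  set U := LinearMap.range (ρ z - 1)
  have hUne : U ≠ ⊥ := fun h => hz (sub_eq_zero.mp (LinearMap.range_eq_bot.mp h))
  have hUinv : ∀ u ∈ Q, ∀ v ∈ U, ρ u v ∈ U := by
    rintro u hu - ⟨v, rfl⟩
    refine ⟨ρ u v, ?_⟩
    rw [← Module.End.mul_apply, ← Module.End.mul_apply]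
    congr 1
    rw [sub_mul, mul_sub, one_mul, mul_one, ← map_mul, ← map_mul, hzc u hu]
  have hUfix : ∀ v ∈ U, ρ z v = v → v = 0 := by
    rintro - ⟨v, rfl⟩ h
    set d := (ρ z - 1) v with hd
    have hstep : ρ z v = v + d := by
      rw [hd, LinearMap.sub_apply, Module.End.one_apply, add_sub_cancel]
    have hit : ∀ j : ℕ, (ρ z ^ j) v = v + (j : K) • d := by
      intro j
      induction j with
      | zero => simp
      | succ j ih =>
        rw [pow_succ', Module.End.mul_apply, ih, map_add, map_smul, h, hstep, Nat.cast_succ,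
          add_smul, one_smul]
        abel
    have h2 := hit (orderOf z)
    rw [← map_pow, pow_orderOf_eq_one, map_one, Module.End.one_apply, left_eq_add] at h2
    exact (smul_eq_zero.mp h2).resolve_left hK
  let P : Set (Submodule K V) := {W | W ≠ ⊥ ∧ W ≤ U ∧ ∀ u ∈ Q, ∀ v ∈ W, ρ u v ∈ W}
  obtain ⟨W, ⟨hWne, hWU, hWinv⟩, hWmin⟩ :=
    WellFounded.has_min (wellFounded_lt (α := Submodule K V)) P ⟨U, hUne, le_rfl, hUinv⟩
  let ρ0 : Q →* Module.End K W :=
    { toFun := fun u => (ρ u).restrict (hWinv u u.2)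
      map_one' := LinearMap.ext fun v => Subtype.ext (by
        show ρ ((1 : Q) : Γ) v = v
        rw [OneMemClass.coe_one, map_one]; rfl)
      map_mul' := fun a b => LinearMap.ext fun v => Subtype.ext (by
        show ρ ((a * b : Q) : Γ) v = ρ a (ρ b v)
        rw [Subgroup.coe_mul, map_mul]; rfl) }
  refine ⟨W, ρ0, Submodule.nontrivial_iff_ne_bot.mpr hWne, fun u w => rfl, fun S hS => ?_,
    fun w hw => Subtype.ext (hUfix w (hWU w.2) hw)⟩
  by_contra hne
  push Not at hne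
  refine hWmin (S.map W.subtype) ⟨fun h => hne.1 ?_, (Submodule.map_subtype_le W S).trans hWU, ?_⟩ ?_
  · exact Submodule.map_injective_of_injective W.injective_subtype (h.trans (Submodule.map_bot _).symm)
  · rintro u hu - ⟨v, hv, rfl⟩
    exact ⟨ρ0 ⟨u, hu⟩ v, hS ⟨u, hu⟩ v hv, rfl⟩
  · refine lt_of_le_of_ne (Submodule.map_subtype_le W S) fun h => hne.2 ?_
    exact Submodule.map_injective_of_injective W.injective_subtype
      (h.trans (Submodule.map_subtype_top W).symm)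

/-- orbit sums in the abelian case -/
theorem abelian_fixed_point (ρ : Γ →* Module.End K V) (Q : Subgroup Γ)
    (hab : ∀ a ∈ Q, ∀ b ∈ Q, a * b = b * a) {x : Γ} {r : ℕ} (hr : r.Prime) (hxr : x ^ r = 1)
    (hxN : x ∈ normalizer (Q : Set Γ)) (hQX : ⁅Q, zpowers x⁆ = Q) {z : Γ} (hzQ : z ∈ Q)
    (hz : ρ z ≠ 1) (hQK : ((Nat.card Q : ℕ) : K) ≠ 0) : ∃ v : V, v ≠ 0 ∧ ρ x v = v := by
  classical
  haveI := Fintype.ofFinite Q
  have hzK : ((orderOf z : ℕ) : K) ≠ 0 := fun h => by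
    obtain ⟨c, hc⟩ := Subgroup.orderOf_dvd_natCard Q hzQ
    exact hQK (by rw [hc, Nat.cast_mul, h, zero_mul])
  obtain ⟨W, ρ0, hW, hρ0, hirr, hzfix⟩ :=
    exists_irreducible_moved ρ Q hzQ (fun u hu => hab z hzQ u hu) hz hzK
  have hscal : ∀ a : Q, ∃ c : K, ρ0 a = c • 1 := fun a => schur ρ0 hirr _ fun g => by
    rw [← map_mul, ← map_mul, show a * g = g * a from Subtype.ext (hab a a.2 g g.2)]
  choose χ hχ using hscal
  obtain ⟨w, hw⟩ := exists_ne (0 : W)
  have hχv : ∀ a : Q, ρ a (w : V) = χ a • (w : V) := fun a => by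
    rw [← hρ0, hχ]; rfl
  have hwV : (w : V) ≠ 0 := fun h => hw (Subtype.ext h)
  have hχmul : ∀ a b : Q, χ (a * b) = χ a * χ b := fun a b => by
    refine smul_left_injective K hwV ?_
    show χ (a * b) • (w : V) = (χ a * χ b) • (w : V)
    rw [← hχv, Subgroup.coe_mul, map_mul, Module.End.mul_apply, hχv, map_smul, hχv, smul_smul,
      mul_comm]
  have hχ1 : χ 1 = 1 := smul_left_injective K hwV
    (show χ 1 • (w : V) = (1 : K) • (w : V) by rw [← hχv, OneMemClass.coe_one, map_one, one_smul]; rfl)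
  have hχz : χ ⟨z, hzQ⟩ ≠ 1 := fun h => hw (hzfix w (by rw [hχv ⟨z, hzQ⟩, h, one_smul]))
  have hχne : ∀ a, χ a ≠ 0 := fun a h => by
    have := hχmul a a⁻¹
    rw [mul_inv_cancel, hχ1, h, zero_mul] at this
    exact one_ne_zero this
  -- conjugation by powers of `x`
  have hxpow : ∀ k : ℕ, x ^ k ∈ normalizer (Q : Set Γ) := fun k => pow_mem hxN k
  let cj : ℕ → Q → Q := fun k a =>
    ⟨(x ^ k)⁻¹ * a * x ^ k, (mem_normalizer_iff''.mp (hxpow k) _).mp a.2⟩
  have hcjmul : ∀ k a b, cj k (a * b) = cj k a * cj k b := fun k a b =>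
    Subtype.ext (by simp [cj, mul_assoc])
  have hact : ∀ (k : ℕ) (a : Q), ρ a (ρ (x ^ k) (w : V)) = χ (cj k a) • ρ (x ^ k) (w : V) := by
    intro k a
    rw [← Module.End.mul_apply, ← map_mul,
      show (a : Γ) * x ^ k = x ^ k * (cj k a : Γ) by simp [cj, mul_assoc], map_mul,
      Module.End.mul_apply, hχv, map_smul]
  have hmoved : ∀ k : ℕ, 0 < k → k < r → ∃ b : Q, χ (cj k b) ≠ χ b := by
    intro k hk hkr
    by_contra h
    push Not at h
    apply hχz
    let ker : Subgroup Γ :=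
      { carrier := {g | ∃ hg : g ∈ Q, χ ⟨g, hg⟩ = 1}
        one_mem' := ⟨one_mem Q, hχ1⟩
        mul_mem' := fun {g g'} hg hg' => ⟨mul_mem hg.1 hg'.1, by
          show χ (⟨g, hg.1⟩ * ⟨g', hg'.1⟩) = 1
          rw [hχmul, hg.2, hg'.2, one_mul]⟩
        inv_mem' := fun {g} hg => ⟨inv_mem hg.1, by
          have := hχmul ⟨g, hg.1⟩ ⟨g, hg.1⟩⁻¹
          rw [mul_inv_cancel, hχ1, hg.2, one_mul] at this
          exact this.symm⟩ }
    have hgen : zpowers x = zpowers (x ^ k) := by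
      by_cases hx1 : x = 1
      · rw [hx1, one_pow]
      refine le_antisymm (zpowers_le.mpr ?_) (zpowers_le.mpr (pow_mem (mem_zpowers x) k))
      have hord : orderOf x = r := by
        haveI := Fact.mk hr
        exact orderOf_eq_prime hxr hx1
      obtain ⟨m, hm⟩ := exists_pow_eq_self_of_coprime (x := x) (n := k) (by
        rw [hord]
        exact ((hr.coprime_iff_not_dvd).mpr fun hd => absurd (Nat.le_of_dvd hk hd) (by omega)).symm)
      have h9 := pow_mem (mem_zpowers (x ^ k)) m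
      rwa [hm] at h9
    have hinvk : ∀ j : ℕ, ∀ b : Q, ∀ hb : ((x ^ k) ^ j)⁻¹ * (b : Γ) * (x ^ k) ^ j ∈ Q,
        χ ⟨_, hb⟩ = χ b := by
      intro j
      induction j with
      | zero => intro b hb; congr 1; simp
      | succ j ih =>
        intro b hb
        have e : (⟨_, hb⟩ : Q) = cj k ⟨((x ^ k) ^ j)⁻¹ * (b : Γ) * (x ^ k) ^ j,
            (mem_normalizer_iff''.mp (pow_mem (hxpow k) j) _).mp b.2⟩ := Subtype.ext (by
          simp [cj, pow_succ, mul_assoc])
        rw [e, h, ih]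
    have hle : ⁅Q, zpowers x⁆ ≤ ker := by
      rw [hgen, commutator_le]
      intro a ha b hb
      obtain ⟨j, rfl⟩ := mem_powers_iff_mem_zpowers.mpr hb
      have hj : (x ^ k) ^ j ∈ normalizer (Q : Set Γ) := pow_mem (hxpow k) j
      have h1 : (x ^ k) ^ j * a⁻¹ * ((x ^ k) ^ j)⁻¹ ∈ Q := (mem_normalizer_iff.mp hj _).mp (inv_mem ha)
      have hmem : ⁅a, (x ^ k) ^ j⁆ ∈ Q := by
        rw [commutatorElement_def, mul_assoc, mul_assoc, ← mul_assoc ((x ^ k) ^ j)]
        exact mul_mem ha h1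
      refine ⟨hmem, ?_⟩
      have h2 := hinvk j ⟨_, h1⟩ (by simpa [mul_assoc] using inv_mem ha)
      have e : (⟨⁅a, (x ^ k) ^ j⁆, hmem⟩ : Q) = ⟨a, ha⟩ * ⟨_, h1⟩ :=
        Subtype.ext (by simp [commutatorElement_def, mul_assoc])
      show χ ⟨_, hmem⟩ = 1
      rw [e, hχmul, ← h2, ← hχmul, ← hχ1]
      congr 1
      exact Subtype.ext (by simp [mul_assoc])
    obtain ⟨_, h1⟩ := hle (hQX.symm ▸ hzQ)
    exact h1
  -- the orbit sum
  refine ⟨∑ k ∈ Finset.range r, ρ (x ^ k) (w : V), fun h0 => ?_, ?_⟩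
  · have h1 := congrArg (fun v => ∑ a : Q, (χ a)⁻¹ • ρ a v) h0
    simp only [map_sum, map_zero, smul_zero, Finset.sum_const_zero, Finset.smul_sum, hact,
      smul_smul] at h1
    rw [Finset.sum_comm, Finset.sum_eq_single 0] at h1
    · simp only [← Finset.sum_smul, pow_zero, map_one, Module.End.one_apply] at h1
      have hone : ∀ a : Q, (χ a)⁻¹ * χ (cj 0 a) = 1 := fun a => by
        rw [show cj 0 a = a from Subtype.ext (by simp [cj]), inv_mul_cancel₀ (hχne a)]
      rw [Finset.sum_congr rfl fun a _ => hone a, Finset.sum_const, Finset.card_univ, nsmul_eq_mul,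
        mul_one, ← Nat.card_eq_fintype_card] at h1
      exact hwV ((smul_eq_zero.mp h1).resolve_left hQK)
    · intro k hk hk0
      obtain ⟨b, hb⟩ := hmoved k (Nat.pos_of_ne_zero hk0) (Finset.mem_range.mp hk)
      rw [← Finset.sum_smul]
      have hsum : (∑ a : Q, (χ a)⁻¹ * χ (cj k a)) = 0 := by
        have h2 : ((χ b)⁻¹ * χ (cj k b)) * ∑ a : Q, (χ a)⁻¹ * χ (cj k a) =
            ∑ a : Q, (χ a)⁻¹ * χ (cj k a) := by
          rw [Finset.mul_sum]
          refine Fintype.sum_equiv (Equiv.mulLeft b) _ _ fun a => ?_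
          simp only [Equiv.coe_mulLeft, hcjmul, hχmul]
          field_simp
        refine (mul_eq_zero.mp (show ((χ b)⁻¹ * χ (cj k b) - 1) *
          (∑ a : Q, (χ a)⁻¹ * χ (cj k a)) = 0 by rw [sub_mul, h2, one_mul, sub_self])).resolve_left ?_
        exact fun h0 => hb ((inv_mul_eq_one₀ (hχne b)).mp (sub_eq_zero.mp h0)).symm
      rw [hsum, zero_smul]
    · intro h; exact absurd (Finset.mem_range.mpr hr.pos) h
  · obtain ⟨s, hs⟩ : ∃ s, r = s + 1 := ⟨r - 1, by have := hr.one_le; omega⟩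
    subst hs
    rw [map_sum]
    simp only [← Module.End.mul_apply, ← map_mul, ← pow_succ']
    conv_lhs => rw [Finset.sum_range_succ, hxr]
    conv_rhs => rw [Finset.sum_range_succ', pow_zero]

/-- the nonabelian case -/
theorem nonabelian_fixed_point (ρ : Γ →* Module.End K V) (Q : Subgroup Γ) (hQodd : Odd (Nat.card Q))
    (hQK : ((Nat.card Q : ℕ) : K) ≠ 0) {x : Γ} {r : ℕ} (hr : r.Prime) (hrK : (r : K) ≠ 0)
    (hxr : x ^ r = 1) (hxN : x ∈ normalizer (Q : Set Γ))
    (hsol : Group.IsSolvable Q) (hcop : (Nat.card (zpowers x)).Coprime (Nat.card Q))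
    (hcom : ∀ a ∈ Q, ∀ b ∈ Q, ∀ c ∈ Q, ⁅a, b⁆ * c = c * ⁅a, b⁆)
    (hcomx : ∀ a ∈ Q, ∀ b ∈ Q, x * ⁅a, b⁆ = ⁅a, b⁆ * x)
    (hmax : ∀ R : Subgroup Γ, R ≤ Q → R ≠ Q → x ∈ normalizer (R : Set Γ) →
      x ∈ centralizer (R : Set Γ))
    (hfix : Q ⊓ centralizer ({x} : Set Γ) ≤ centralizer (Q : Set Γ))
    {a₀ b₀ : Γ} (ha₀ : a₀ ∈ Q) (hb₀ : b₀ ∈ Q) (hz : ρ ⁅a₀, b₀⁆ ≠ 1) :
    ∃ v : V, v ≠ 0 ∧ ρ x v = v := by
  classical
  haveI := Fintype.ofFinite Q
  set z := ⁅a₀, b₀⁆ with hzdef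
  have hzQ : z ∈ Q := by
    rw [hzdef, commutatorElement_def]
    exact mul_mem (mul_mem (mul_mem ha₀ hb₀) (inv_mem ha₀)) (inv_mem hb₀)
  have hzK : ((orderOf z : ℕ) : K) ≠ 0 := fun h => by
    obtain ⟨c, hc⟩ := Subgroup.orderOf_dvd_natCard Q hzQ
    exact hQK (by rw [hc, Nat.cast_mul, h, zero_mul])
  obtain ⟨W, ρ0, hW, hρ0, hirr, hzfix⟩ :=
    exists_irreducible_moved ρ Q hzQ (fun u hu => hcom a₀ ha₀ b₀ hb₀ u hu) hz hzK
  let σ : MulAut Q := Q.normalizerMonoidHom ⟨x, hxN⟩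
  have hσv : ∀ u : Q, ((σ u : Q) : Γ) = x * u * x⁻¹ := fun u => rfl
  have hσr : σ ^ r = 1 := by
    show Q.normalizerMonoidHom ⟨x, hxN⟩ ^ r = 1
    rw [← map_pow, show (⟨x, hxN⟩ : normalizer (Q : Set Γ)) ^ r = 1 from Subtype.ext hxr, map_one]
  have hcc : ∀ u w : Q, ⁅u, w⁆ ∈ center Q := fun u w => mem_center_iff.mpr fun c => Subtype.ext (by
    have := hcom u u.2 w w.2 c c.2
    simpa [commutatorElement_def, mul_assoc] using this.symm)
  have hσcomm : ∀ u w : Q, σ ⁅u, w⁆ = ⁅u, w⁆ := fun u w => Subtype.ext (by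
    rw [hσv, mul_inv_eq_iff_eq_mul]
    have := hcomx u u.2 w w.2
    simpa [commutatorElement_def, mul_assoc] using this)
  -- the radical of `ρ0` is central
  let f0 : Q →* (Module.End K W)ˣ := ρ0.toHomUnits
  set Z₀ : Subgroup Q := (center f0.range).comap f0.rangeRestrict with hZ₀def
  have hZ₀ : ∀ u : Q, u ∈ Z₀ ↔ ∀ w : Q, ρ0 ⁅u, w⁆ = 1 := by
    intro u
    rw [hZ₀def, mem_comap, mem_center_iff]
    constructor
    · intro h w
      have h1 : f0.rangeRestrict ⁅u, w⁆ = 1 := by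
        rw [map_commutatorElement, commutatorElement_eq_one_iff_mul_comm]
        exact (h _).symm
      exact congrArg (fun t : f0.range => ((t : (Module.End K W)ˣ) : Module.End K W)) h1
    · rintro h ⟨-, w, rfl⟩
      have h1 : f0.rangeRestrict ⁅u, w⁆ = 1 := Subtype.ext (Units.ext (h w))
      rw [map_commutatorElement, commutatorElement_eq_one_iff_mul_comm] at h1
      exact h1.symm
  have hZ₀inv : ∀ u ∈ Z₀, σ u ∈ Z₀ := by
    intro u hu
    rw [hZ₀] at hu ⊢
    intro w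
    rw [← σ.apply_symm_apply w, ← map_commutatorElement, hσcomm]
    exact hu _
  have hz0 : ρ0 ⟨z, hzQ⟩ ≠ 1 := fun h => by
    obtain ⟨w, hw⟩ := exists_ne (0 : W)
    exact hw (hzfix w (by rw [← hρ0 ⟨z, hzQ⟩, h]; rfl))
  have hZ₀le : Z₀ ≤ center Q := by
    have hne : Z₀.map Q.subtype ≠ Q := fun h => hz0 (by
      obtain ⟨u, hu, hu'⟩ := h.ge ha₀
      have h1 := (hZ₀ u).mp hu ⟨b₀, hb₀⟩
      rw [show (⟨z, hzQ⟩ : Q) = ⁅u, ⟨b₀, hb₀⟩⁆ from Subtype.ext (show z = ⁅(u : Γ), b₀⁆ by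
        rw [show (u : Γ) = a₀ from hu'])]
      exact h1)
    have hxR : x ∈ normalizer (Z₀.map Q.subtype : Set Γ) := by
      refine Cfsg.Lib.Coprime.mem_normalizer_of_conj_mem ?_ ?_
      · rintro _ ⟨u, hu, rfl⟩
        exact ⟨σ u, hZ₀inv u hu, rfl⟩
      · rintro _ ⟨u, hu, rfl⟩
        refine ⟨σ.symm u, ?_, ?_⟩
        · rw [SetLike.mem_coe, hZ₀] at hu ⊢
          intro w
          rw [← σ.symm_apply_apply w, ← map_commutatorElement, σ.symm_apply_eq.mpr (hσcomm u (σ w)).symm]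
          exact hu _
        · have h5 := hσv (σ.symm u)
          rw [σ.apply_symm_apply] at h5
          show ((σ.symm u : Q) : Γ) = x⁻¹ * (u : Γ) * x
          rw [h5]; group
    intro u hu
    have h1 := hmax _ (map_subtype_le _) hne hxR
    have h2 : (u : Γ) ∈ Q ⊓ centralizer ({x} : Set Γ) := ⟨u.2, mem_centralizer_singleton_iff.mpr
      (mem_centralizer_iff.mp h1 _ ⟨u, hu, rfl⟩)⟩
    exact mem_center_iff.mpr fun c => Subtype.ext (mem_centralizer_iff.mp (hfix h2) c c.2)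
  have hscal : ∀ u ∈ center Q, ∃ c : K, ρ0 u = c • 1 := fun u hu => schur ρ0 hirr _ fun g => by
    rw [← map_mul, ← map_mul, mem_center_iff.mp hu g]
  have hQc : center Q ≠ ⊤ := fun h => hz0 (by
    have : (⟨a₀, ha₀⟩ : Q) * ⟨b₀, hb₀⟩ = ⟨b₀, hb₀⟩ * ⟨a₀, ha₀⟩ :=
      (mem_center_iff.mp (h ▸ mem_top (⟨a₀, ha₀⟩ : Q)) _).symm
    rw [← commutatorElement_eq_one_iff_mul_comm] at this
    rw [show (⟨z, hzQ⟩ : Q) = ⁅(⟨a₀, ha₀⟩ : Q), ⟨b₀, hb₀⟩⁆ from rfl, this, map_one])
  have hpair : ∀ u : Q, u ∉ center Q →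
      ∃ (w : Q) (c : K), c ≠ 1 ∧ ρ0 u * ρ0 w = c • (ρ0 w * ρ0 u) := by
    intro u hu
    obtain ⟨w, hw⟩ : ∃ w, ρ0 ⁅u, w⁆ ≠ 1 := by
      by_contra h
      push Not at h
      exact hu (hZ₀le ((hZ₀ u).mpr h))
    obtain ⟨c, hc⟩ := hscal _ (hcc u w)
    refine ⟨w, c, fun h1 => hw (by rw [hc, h1, one_smul]), ?_⟩
    calc ρ0 u * ρ0 w = ρ0 (⁅u, w⁆ * (w * u)) := by
          rw [← map_mul, commutatorElement_def]; congr 1; group
      _ = _ := by rw [map_mul, hc, smul_mul_assoc, one_mul, map_mul]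
  have hfree : ∀ u : Q, u⁻¹ * σ u ∈ center Q → u ∈ center Q := by
    intro u hu
    set D := (center Q).map Q.subtype
    have hxD : zpowers x ≤ normalizer (D : Set Γ) := zpowers_le.mpr
      (normalizer_le_normalizer_center Q hxN)
    have hk : ∀ a ∈ zpowers x, (u : Γ)⁻¹ * a * u * a⁻¹ ∈ D := by
      intro a ha
      obtain ⟨j, rfl⟩ := mem_powers_iff_mem_zpowers.mpr ha
      clear ha
      induction j with
      | zero => simp
      | succ j ih =>
        have h1 : x * ((u : Γ)⁻¹ * x ^ j * u * (x ^ j)⁻¹) * x⁻¹ ∈ D :=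
          (mem_normalizer_iff.mp (hxD (mem_zpowers x)) _).mp ih
        have h2 : (u : Γ)⁻¹ * (x * u * x⁻¹) ∈ D := ⟨_, hu, rfl⟩
        have := mul_mem h2 h1
        simp only [pow_succ', mul_inv_rev, mul_assoc] at this ⊢
        simpa [mul_assoc] using this
    obtain ⟨d, hd, hdc⟩ := Cfsg.Lib.Coprime.exists_fixed_in_coset (A := zpowers x) (D := D) hxD
      (Cfsg.Lib.Coprime.coprime_of_le (map_subtype_le _) hcop)
      (Or.inr (Cfsg.Lib.Coprime.isSolvable_of_le (map_subtype_le _) hsol)) hk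
    obtain ⟨d', hd', rfl⟩ := hd
    have h3 : ((u * d' : Q) : Γ) ∈ Q ⊓ centralizer ({x} : Set Γ) := ⟨(u * d').2,
      mem_centralizer_singleton_iff.mpr (mem_centralizer_iff.mp hdc x (mem_zpowers x)).symm⟩
    have h4 : u * d' ∈ center Q :=
      mem_center_iff.mpr fun c => Subtype.ext (mem_centralizer_iff.mp (hfix h3) c c.2)
    have := mul_mem h4 (inv_mem hd')
    rwa [mul_inv_cancel_right] at this
  -- an operator on `W` inducing `σ`
  have htr0 : ∀ g : Q, g ∉ center Q → LinearMap.trace K W (ρ0 g) = 0 := by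
    intro g hg
    obtain ⟨w, c, hc, hw⟩ := hpair g hg
    have h1 : ρ0 g = c • (ρ0 w * ρ0 g * ρ0 w⁻¹) := by
      rw [← smul_mul_assoc, ← hw, mul_assoc, ← map_mul ρ0 w, mul_inv_cancel, map_one, mul_one]
    have h2 := congrArg (LinearMap.trace K W) h1
    rw [map_smul, LinearMap.trace_mul_comm, ← mul_assoc, ← map_mul, inv_mul_cancel, map_one, one_mul,
      smul_eq_mul] at h2
    exact (mul_eq_zero.mp (show (c - 1) * LinearMap.trace K W (ρ0 g) = 0 by
      linear_combination -h2)).resolve_left (sub_ne_zero.mpr hc)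
  have hN0 : (finrank K W : K) ≠ 0 := by
    intro h
    obtain ⟨B, hB⟩ := transversal_basis ρ0 hirr hQK hpair
    have h0 : LinearMap.trace K W = 0 := B.ext fun t => by
      rw [LinearMap.zero_apply, hB]
      by_cases ht : t.out ∈ center Q
      · obtain ⟨c, hc⟩ := hscal _ ht
        rw [hc, map_smul, LinearMap.trace_one, h, smul_zero]
      · exact htr0 _ ht
    let b := Module.finBasis K W
    haveI : Nonempty (Fin (finrank K W)) := b.index_nonempty
    let i : Fin (finrank K W) := Classical.arbitrary _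
    have h1 := LinearMap.congr_fun h0 (LinearMap.smulRight (b.coord i) (b i))
    rw [LinearMap.zero_apply, LinearMap.trace_eq_matrix_trace K b, Matrix.trace] at h1
    simp [Matrix.diag_apply, LinearMap.toMatrix_apply, Finsupp.single_apply, Matrix.vecMulVec_apply, Pi.single_apply] at h1
  let θ₀ : Module.End K W := ∑ u : Q, ρ0 (σ u) * ρ0 u⁻¹
  have hθ₀ : ∀ u, θ₀ * ρ0 u = ρ0 (σ u) * θ₀ := by
    intro w
    simp only [θ₀, Finset.sum_mul, Finset.mul_sum, ← map_mul]
    refine Fintype.sum_equiv (Equiv.mulLeft w⁻¹) _ _ fun u => ?_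
    simp only [Equiv.coe_mulLeft, map_mul, map_inv, mul_inv_rev, inv_inv, mul_assoc,
      mul_inv_cancel_left]
  have hθne : θ₀ ≠ 0 := by
    intro h0
    have h1 := congrArg (LinearMap.trace K W) h0
    simp only [θ₀, map_sum, map_zero, ← map_mul] at h1
    have hterm : ∀ u : Q, LinearMap.trace K W (ρ0 (σ u * u⁻¹)) =
        if u ∈ center Q then (finrank K W : K) else 0 := by
      intro u
      split_ifs with hu
      · have h2 : x ∈ centralizer ((center Q).map Q.subtype : Set Γ) :=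
          hmax _ (map_subtype_le _) (fun h => hQc (eq_top_iff.mpr fun c _ => by
            obtain ⟨c', hc', e⟩ := h.ge c.2
            rwa [← Subtype.ext e])) (normalizer_le_normalizer_center Q hxN)
        have h3 : σ u = u := Subtype.ext (by
          rw [hσv, mul_inv_eq_iff_eq_mul]
          exact (mem_centralizer_iff.mp h2 _ ⟨u, hu, rfl⟩).symm)
        rw [h3, mul_inv_cancel, map_one, LinearMap.trace_one]
      · refine htr0 _ fun hc => hu (hfree u ?_)
        rwa [show u⁻¹ * σ u = σ u * u⁻¹ by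
          have := mem_center_iff.mp hc u
          calc u⁻¹ * σ u = u⁻¹ * ((σ u * u⁻¹) * u) := by group
            _ = u⁻¹ * (u * (σ u * u⁻¹)) := by rw [this]
            _ = σ u * u⁻¹ := by group]
    rw [Finset.sum_congr rfl fun u _ => hterm u, Finset.sum_ite, Finset.sum_const_zero, add_zero,
      Finset.sum_const, nsmul_eq_mul, mul_eq_zero] at h1
    refine hQK ?_
    have hdvd : (Finset.univ.filter (· ∈ center Q)).card ∣ Nat.card Q := by
      rw [← Fintype.card_subtype, ← Nat.card_eq_fintype_card]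
      exact card_subgroup_dvd_card (center Q)
    obtain ⟨k, hk⟩ := hdvd
    rw [hk, Nat.cast_mul, h1.resolve_right hN0, zero_mul]
  have hθinj : LinearMap.ker θ₀ = ⊥ := (hirr _ fun g v hv => by
      rw [LinearMap.mem_ker] at hv ⊢
      rw [← Module.End.mul_apply, hθ₀, Module.End.mul_apply, hv, map_zero]).resolve_right
    fun h => hθne (LinearMap.ker_eq_top.mp h)
  obtain ⟨c, hc⟩ := schur ρ0 hirr (θ₀ ^ r) fun g => by
    have : ∀ (k : ℕ) (u : Q), θ₀ ^ k * ρ0 u = ρ0 ((σ ^ k) u) * θ₀ ^ k := by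
      intro k
      induction k with
      | zero => intro u; simp
      | succ k ih =>
        intro u
        rw [pow_succ' θ₀, mul_assoc, ih, ← mul_assoc, hθ₀, mul_assoc, pow_succ' σ, MulAut.mul_apply]
    rw [this, hσr]; rfl
  have hc0 : c ≠ 0 := by
    intro h
    obtain ⟨w, hw⟩ := exists_ne (0 : W)
    apply hw
    have hinj : Function.Injective θ₀ := LinearMap.ker_eq_bot.mp hθinj
    have hit : Function.Injective (θ₀ ^ r : Module.End K W) := by
      rw [Module.End.coe_pow]; exact hinj.iterate r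
    exact hit (by rw [map_zero, hc, h, zero_smul]; rfl)
  obtain ⟨a, ha⟩ := IsAlgClosed.exists_pow_nat_eq c hr.pos
  have ha0 : a ≠ 0 := fun h => hc0 (by rw [← ha, h, zero_pow hr.ne_zero])
  set θ₁ := a⁻¹ • θ₀ with hθ₁
  have hθ₁r : θ₁ ^ r = 1 := by
    rw [hθ₁, smul_pow, hc, smul_smul, inv_pow, ha, inv_mul_cancel₀ hc0, one_smul]
  have hθ₁c : ∀ u, θ₁ * ρ0 u = ρ0 (σ u) * θ₁ := fun u => by
    rw [hθ₁, smul_mul_assoc, hθ₀, mul_smul_comm]
  set θi := θ₁ ^ (r - 1) with hθi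
  have hθi1 : θi * θ₁ = 1 := by rw [hθi, ← pow_succ, Nat.sub_add_cancel hr.one_le, hθ₁r]
  have hθi2 : θ₁ * θi = 1 := by rw [hθi, ← pow_succ', Nat.sub_add_cancel hr.one_le, hθ₁r]
  -- the space of intertwiners
  let H : Submodule K (W →ₗ[K] V) :=
    { carrier := {φ | ∀ (u : Q) (w : W), φ (ρ0 u w) = ρ u (φ w)}
      add_mem' := fun {φ ψ} h1 h2 u w => by simp [h1 u w, h2 u w]
      zero_mem' := fun u w => by simp
      smul_mem' := fun c φ h1 u w => by simp [h1 u w] }
  haveI : Nontrivial H := ⟨⟨⟨W.subtype, fun u w => hρ0 u w⟩, 0, fun h => by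
    obtain ⟨w, hw⟩ := exists_ne (0 : W)
    exact hw (Subtype.ext (LinearMap.congr_fun (congrArg Subtype.val h) w))⟩⟩
  let T : H →ₗ[K] H :=
    { toFun := fun φ => ⟨(ρ x).comp ((φ : W →ₗ[K] V).comp θi), fun u w => by
        obtain ⟨u, rfl⟩ := σ.surjective u
        show ρ x ((φ : W →ₗ[K] V) (θi (ρ0 (σ u) w))) = ρ (σ u) (ρ x ((φ : W →ₗ[K] V) (θi w)))
        have h1 : θi * ρ0 (σ u) = ρ0 u * θi := by
          calc θi * ρ0 (σ u) = θi * (ρ0 (σ u) * θ₁) * θi := by rw [mul_assoc, mul_assoc, hθi2, mul_one]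
            _ = θi * θ₁ * ρ0 u * θi := by rw [← hθ₁c, mul_assoc θi θ₁]
            _ = _ := by rw [hθi1, one_mul]
        rw [← Module.End.mul_apply θi, h1, Module.End.mul_apply, φ.2, ← Module.End.mul_apply,
          ← map_mul, ← Module.End.mul_apply, ← map_mul, hσv, inv_mul_cancel_right]⟩
      map_add' := fun φ ψ => Subtype.ext (LinearMap.ext fun w => by simp)
      map_smul' := fun c φ => Subtype.ext (LinearMap.ext fun w => by simp) }
  obtain ⟨lam, hlam⟩ := Module.End.exists_eigenvalue T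
  obtain ⟨φ, hφ⟩ := hlam.exists_hasEigenvector
  set φ' : W →ₗ[K] V := (φ : W →ₗ[K] V) with hφ'
  have hφinj : LinearMap.ker φ' = ⊥ := (hirr _ fun g v hv => by
      rw [LinearMap.mem_ker] at hv ⊢
      rw [hφ', φ.2, ← hφ', hv, map_zero]).resolve_right
    fun h => hφ.2 (Subtype.ext (LinearMap.ker_eq_top.mp h))
  have hφx : ∀ w : W, ρ x (φ' w) = φ' ((lam • θ₁) w) := fun w => by
    have h1 := LinearMap.congr_fun (congrArg Subtype.val hφ.apply_eq_smul) (θ₁ w)
    have h2 : ρ x (φ' ((θi * θ₁) w)) = lam • φ' (θ₁ w) := h1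
    rw [hθi1, Module.End.one_apply] at h2
    rw [h2]
    show _ = φ' (lam • θ₁ w)
    rw [map_smul]
  have hθr : (lam • θ₁) ^ r = 1 := by
    have hit : ∀ k : ℕ, ∀ w : W, (ρ x ^ k) (φ' w) = φ' (((lam • θ₁) ^ k) w) := by
      intro k
      induction k with
      | zero => intro w; simp
      | succ k ih =>
        intro w
        rw [pow_succ', pow_succ', Module.End.mul_apply, ih, hφx, Module.End.mul_apply]
    refine LinearMap.ext fun w => LinearMap.ker_eq_bot.mp hφinj ?_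
    rw [← hit r w, ← map_pow, hxr, map_one]; rfl
  obtain ⟨v, hv, hvθ⟩ := exists_fixed_point ρ0 hirr hQK hQodd hQc hpair hr hrK σ hσr hfree
    (lam • θ₁) hθr (fun u => by rw [smul_mul_assoc lam θ₁ (ρ0 u), hθ₁c, mul_smul_comm lam (ρ0 (σ u)) θ₁])
  exact ⟨φ' v, fun h => hv (LinearMap.ker_eq_bot'.mp hφinj v h), by rw [hφx, hvθ]⟩

/-- **An element of prime order without fixed points centralizes the odd order `q`-groups it
normalizes.** -/
theorem centralizes_of_no_fixed_point (ρ : Γ →* Module.End K V) (hρ : Function.Injective ρ) {x : Γ}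
    {r q : ℕ} (hr : r.Prime) (hq : q.Prime) (hrq : r ≠ q) (hq2 : q ≠ 2) (hrK : (r : K) ≠ 0)
    (hqK : (q : K) ≠ 0) (hxr : x ^ r = 1) (hfix : ∀ v : V, ρ x v = v → v = 0) (n : ℕ) :
    ∀ Q : Subgroup Γ, Nat.card Q = n → IsPGroup q Q → x ∈ normalizer (Q : Set Γ) →
      x ∈ centralizer (Q : Set Γ) := by
  classical
  haveI := Fact.mk hq
  induction n using Nat.strong_induction_on with
  | _ n ih =>
  intro Q hn hQ hxN
  have hcard := IsPGroup.iff_card.mp hQ
  obtain ⟨j, hj⟩ := hcard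
  have hQK : ((Nat.card Q : ℕ) : K) ≠ 0 := by rw [hj, Nat.cast_pow]; exact pow_ne_zero j hqK
  have hQodd : Odd (Nat.card Q) := by rw [hj]; exact (hq.odd_of_ne_two hq2).pow
  set X := zpowers x
  have hXN : X ≤ normalizer (Q : Set Γ) := zpowers_le.mpr hxN
  have hcop : (Nat.card X).Coprime (Nat.card Q) := by
    rw [Nat.card_zpowers, hj]
    exact Nat.Coprime.coprime_dvd_left (orderOf_dvd_of_pow_eq_one hxr)
      (((Nat.coprime_primes hr hq).mpr hrq).pow_right j)
  haveI := hQ.isNilpotent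
  have hsol : Group.IsSolvable Q := inferInstance
  have hmax : ∀ R : Subgroup Γ, R ≤ Q → R ≠ Q → x ∈ normalizer (R : Set Γ) →
      x ∈ centralizer (R : Set Γ) := fun R hR hne hxR =>
    ih _ (hn ▸ lt_of_le_of_ne (Nat.le_of_dvd Nat.card_pos (card_dvd_of_le hR))
      fun e => hne (eq_of_le_of_card_ge hR e.ge)) R rfl (hQ.to_le hR) hxR
  have hXcent : ∀ R : Subgroup Γ, x ∈ centralizer (R : Set Γ) → ⁅R, X⁆ = ⊥ := fun R hR => by
    rw [commutator_comm, commutator_eq_bot_iff_le_centralizer]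
    exact zpowers_le.mpr hR
  by_contra hnc
  have hQX : ⁅Q, X⁆ = Q := by
    by_contra hne
    have h1 := hmax _ (Cfsg.Lib.Coprime.commutator_le_of_le_normalizer hXN) hne
      (Cfsg.Lib.Coprime.le_normalizer_commutator_right X Q (mem_zpowers x))
    have h2 := hXcent _ h1
    rw [Cfsg.Lib.Coprime.commutator_commutator_eq hXN hcop (Or.inr hsol), commutator_comm,
      commutator_eq_bot_iff_le_centralizer] at h2
    exact hnc (h2 (mem_zpowers x))
  have hQne : Q ≠ ⊥ := by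
    rintro rfl
    exact hnc (mem_centralizer_iff.mpr fun y hy => by rw [mem_bot.mp hy, one_mul, mul_one])
  haveI : Nontrivial Q := (nontrivial_iff_ne_bot Q).mpr hQne
  set Φ := (frattini Q).map Q.subtype with hΦdef
  have hΦne : Φ ≠ Q := fun h => by
    have h3 : frattini Q = ⊤ := eq_top_iff.mpr fun b _ => by
      obtain ⟨b', hb', he⟩ := h.ge b.2
      rwa [← Subtype.ext he]
    exact bot_ne_top (frattini_nongenerating (K := (⊥ : Subgroup Q)) (by rw [h3, sup_top_eq]))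
  have hchar : ∀ g ∈ normalizer (Q : Set Γ), ∀ y ∈ Φ, g * y * g⁻¹ ∈ Φ := by
    rintro g hg - ⟨y, hy, rfl⟩
    exact ⟨Q.normalizerMonoidHom ⟨g, hg⟩ y,
      characteristic_iff_le_comap.mp frattini_characteristic _ hy, rfl⟩
  have hΦN : normalizer (Q : Set Γ) ≤ normalizer (Φ : Set Γ) := fun g hg =>
    Cfsg.Lib.Coprime.mem_normalizer_of_conj_mem (hchar g hg)
      fun y hy => by simpa using hchar g⁻¹ (inv_mem hg) y hy
  have hΦx := hmax Φ (map_subtype_le _) hΦne (hΦN hxN)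
  have hQQ : ⁅Q, Q⁆ ≤ Φ := by
    rw [← map_subtype_commutator]
    exact map_mono (Cfsg.Lib.PGroups.commutator_le_frattini hQ)
  -- everything fixed by `x` is central
  have hcent : ∀ R : Subgroup Γ, R ≤ Q → x ∈ centralizer (R : Set Γ) →
      R ≤ centralizer (Q : Set Γ) := by
    intro R hR hRx
    have h1 : ⁅⁅R, X⁆, Q⁆ = ⊥ := by rw [hXcent R hRx, commutator_bot_left]
    have h2 : ⁅⁅Q, R⁆, X⁆ = ⊥ := by
      refine eq_bot_iff.mpr ((commutator_mono ?_ le_rfl).trans (hXcent Φ hΦx).le)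
      exact (commutator_mono le_rfl hR).trans hQQ
    have h3 : ⁅⁅X, Q⁆, R⁆ = ⊥ := commutator_commutator_eq_bot_of_rotate h2 h1
    rw [commutator_comm X Q, hQX, commutator_comm] at h3
    exact commutator_eq_bot_iff_le_centralizer.mp h3
  have hfixQ : Q ⊓ centralizer ({x} : Set Γ) ≤ centralizer (Q : Set Γ) :=
    hcent _ inf_le_left (mem_centralizer_iff.mpr fun y hy =>
      mem_centralizer_singleton_iff.mp hy.2)
  have hfixv : ¬ ∃ v : V, v ≠ 0 ∧ ρ x v = v := fun ⟨v, hv, hvx⟩ => hv (hfix v hvx)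
  by_cases hab : ∀ a ∈ Q, ∀ b ∈ Q, a * b = b * a
  · haveI : IsMulCommutative Q := ⟨⟨fun a b => Subtype.ext (hab a a.2 b b.2)⟩⟩
    obtain ⟨z, hz, hz1⟩ := (bot_or_exists_ne_one Q).resolve_left hQne
    exact hfixv (abelian_fixed_point ρ Q hab hr hxr hxN hQX hz
      (fun h => hz1 (hρ (h.trans (map_one ρ).symm))) hQK)
  · push Not at hab
    obtain ⟨a₀, ha₀, b₀, hb₀, hne⟩ := hab
    refine hfixv (nonabelian_fixed_point ρ Q hQodd hQK hr hrK hxr hxN hsol hcop (fun a ha b hb c hc => ?_)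
      (fun a ha b hb => ?_) hmax hfixQ ha₀ hb₀ (fun h => hne ?_))
    · exact (mem_centralizer_iff.mp (hcent Φ (map_subtype_le _) hΦx
        (hQQ (commutator_mem_commutator ha hb))) c hc).symm
    · exact (mem_centralizer_iff.mp hΦx _ (hQQ (commutator_mem_commutator ha hb))).symm
    · exact commutatorElement_eq_one_iff_mul_comm.mp (hρ (h.trans (map_one ρ).symm))

end Cfsg.Lib.OddP
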