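import Cfsg.Agent.OddLocal.OneFixedLine
import Cfsg.Agent.OddLocal.FixedPointFreeGroup

/-!
# Elements of prime order fixing at most `p` elements: group form
-/

set_option linter.unusedSectionVars false
set_option linter.style.haveILetI false

namespace Cfsg.Lib.OddP

open Subgroup Module
open scoped commutatorElement

universe u

variable {G : Type u} [Group G] [Finite G]

/-- an element of odd prime order fixing at most `p` elements of an elementary abelian `p`-group -/
theorem centralizes_of_fixed_le_prime {p q r : ℕ} [hp : Fact p.Prime] (hp2 : p ≠ 2) (hr : r.Prime)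
    (hr2 : r ≠ 2) (hq : q.Prime) (hq2 : q ≠ 2) (hrq : r ≠ q) (hpq : p ≠ q) (hrp : r ≠ p) {x : G}
    (hxr : x ^ r = 1) {P Q V : Subgroup G} (hP : IsPGroup p P) (hQ : IsPGroup q Q)
    (hV : Cfsg.IsElementaryAbelian p V) (hxP : x ∈ normalizer (P : Set G))
    (hxQ : x ∈ normalizer (Q : Set G)) (hxV : x ∈ normalizer (V : Set G))
    (hPV : P ≤ normalizer (V : Set G)) (hQV : Q ≤ normalizer (V : Set G))
    (hPQ : P ≤ normalizer (Q : Set G)) (hPfix : P ⊓ centralizer ({x} : Set G) = ⊥)
    (hcyc : IsCyclic ↥(Q ⊓ centralizer ({x} : Set G)))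
    (hline : Nat.card ↥(V ⊓ centralizer ({x} : Set G)) ≤ p)
    (hP0 : P ⊓ centralizer (V : Set G) = ⊥) (hQ0 : Q ⊓ centralizer (V : Set G) = ⊥) :
    P ≤ centralizer (Q : Set G) := by
  classical
  haveI := hV.1
  letI : CommGroup V := { (inferInstance : Group V) with mul_comm := mul_comm' }
  set N := normalizer (V : Set G)
  haveI : Finite (MulAut V) := Finite.of_injective (fun e => (e : V → V)) DFunLike.coe_injective
  let φ : N →* MulAut V := V.normalizerMonoidHom
  have hVp : ∀ m : V, m ^ p = 1 := fun m => Subtype.ext (hV.2 m m.2)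
  letI : Module (ZMod p) (Additive V) :=
    AddCommGroup.zmodModule (n := p) (G := Additive V) fun m => hVp m.toMul
  haveI : Module.Finite (ZMod p) (Additive V) := Module.Finite.of_finite
  let b := Module.finBasis (ZMod p) (Additive V)
  let lin : MulAut V →* Module.End (ZMod p) (Additive V) :=
    { toFun := fun a => AddMonoidHom.toZModLinearMap p (MonoidHom.toAdditive a.toMonoidHom)
      map_one' := LinearMap.ext fun v => rfl
      map_mul' := fun a b => LinearMap.ext fun v => rfl }
  let K := AlgebraicClosure (ZMod p)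
  haveI : CharP K p := charP_of_injective_algebraMap (algebraMap (ZMod p) K).injective p
  let toK : Module.End (ZMod p) (Additive V) →+*
      Module.End K (Fin (finrank (ZMod p) (Additive V)) → K) :=
    ((Matrix.toLinAlgEquiv' (R := K)).toAlgHom.toRingHom.comp
      ((algebraMap (ZMod p) K).mapMatrix)).comp
      (LinearMap.toMatrixAlgEquiv b).toAlgHom.toRingHom
  have htoK : Function.Injective toK := fun f g h =>
    (LinearMap.toMatrixAlgEquiv b).injective
      (Matrix.map_injective (algebraMap (ZMod p) K).injective (Matrix.toLinAlgEquiv'.injective h))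
  let ρ : φ.range →* Module.End K (Fin (finrank (ZMod p) (Additive V)) → K) :=
    (toK.toMonoidHom.comp lin).comp φ.range.subtype
  have hρ : Function.Injective ρ := fun a c h => Subtype.ext (MulEquiv.ext fun m =>
    Additive.ofMul.injective (LinearMap.congr_fun (htoK h) (Additive.ofMul m)))
  have hne : ∀ s : ℕ, s.Prime → s ≠ p → (s : K) ≠ 0 := fun s hs hsp h =>
    hsp (((Nat.prime_dvd_prime_iff_eq hp.out hs).mp ((CharP.cast_eq_zero_iff K p s).mp h)).symm)
  have hker : ∀ g : N, φ g = 1 → (g : G) ∈ centralizer (V : Set G) := by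
    intro g hg
    refine mem_centralizer_iff.mpr fun v hv => ?_
    have h1 : (g : G) * v * (g : G)⁻¹ = v :=
      congrArg Subtype.val (DFunLike.congr_fun hg (⟨v, hv⟩ : V))
    exact (mul_inv_eq_iff_eq_mul.mp h1).symm
  set f := φ.rangeRestrict with hf
  set xb : φ.range := f ⟨x, hxV⟩
  have hxb : xb ^ r = 1 := by
    rw [← map_pow, show (⟨x, hxV⟩ : N) ^ r = 1 from Subtype.ext hxr, map_one]
  have hfix : ∀ g : N, ∀ U : Subgroup G, U ⊓ centralizer (V : Set G) = ⊥ → (g : G) ∈ U →
      x ∈ normalizer (U : Set G) → f g * xb = xb * f g →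
      (g : G) ∈ centralizer ({x} : Set G) := by
    intro g U hU hg hx hcomm
    have h1 : φ ⁅g, (⟨x, hxV⟩ : N)⁆ = 1 := by
      rw [map_commutatorElement, commutatorElement_eq_one_iff_mul_comm]
      exact congrArg Subtype.val hcomm
    have h2 : ((g : G) * x * (g : G)⁻¹ * x⁻¹) ∈ U ⊓ centralizer (V : Set G) := by
      refine ⟨?_, hker _ h1⟩
      rw [show (g : G) * x * (g : G)⁻¹ * x⁻¹ = (g : G) * (x * (g : G)⁻¹ * x⁻¹) by group]
      exact mul_mem hg ((mem_normalizer_iff.mp hx _).mp (inv_mem hg))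
    rw [hU, mem_bot, mul_inv_eq_one, mul_inv_eq_iff_eq_mul] at h2
    exact mem_centralizer_singleton_iff.mpr h2
  set Pb := (P.subgroupOf N).map f
  set Qb := (Q.subgroupOf N).map f
  have hxN : ∀ U : Subgroup G, x ∈ normalizer (U : Set G) →
      xb ∈ normalizer (((U.subgroupOf N).map f : Subgroup φ.range) : Set φ.range) := by
    intro U hx
    refine (le_normalizer_map f) (mem_map_of_mem _ ?_)
    rw [mem_normalizer_iff]
    exact fun a => mem_normalizer_iff.mp hx (a : G)
  have hPbfix : Pb ⊓ centralizer ({xb} : Set φ.range) = ⊥ := by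
    rw [eq_bot_iff]
    rintro y ⟨⟨a, ha, rfl⟩, hy⟩
    have h1 : (a : G) ∈ P ⊓ centralizer ({x} : Set G) :=
      ⟨ha, hfix a P hP0 ha hxP (mem_centralizer_singleton_iff.mp hy)⟩
    rw [hPfix, mem_bot] at h1
    rw [mem_bot, show a = 1 from Subtype.ext h1, map_one]
  have hQbcyc : IsCyclic ↥(Qb ⊓ centralizer ({xb} : Set φ.range)) := by
    set C := (Q ⊓ centralizer ({x} : Set G)).subgroupOf N
    haveI : IsCyclic C :=
      (subgroupOfEquivOfLe (inf_le_left.trans hQV)).isCyclic.mpr hcyc
    haveI : IsCyclic (C.map f) :=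
      isCyclic_of_surjective (f.subgroupMap C) (f.subgroupMap_surjective C)
    have hle : Qb ⊓ centralizer ({xb} : Set φ.range) ≤ C.map f := by
      rintro y ⟨⟨a, ha, rfl⟩, hy⟩
      exact mem_map_of_mem f ⟨ha, hfix a Q hQ0 ha hxQ (mem_centralizer_singleton_iff.mp hy)⟩
    exact isCyclic_of_injective (inclusion hle) (inclusion_injective hle)
  -- the fixed space is at most a line
  obtain ⟨m₀, hm₀⟩ : ∃ m₀ : Additive V, ∀ m : V, φ ⟨x, hxV⟩ m = m →
      ∃ c : ZMod p, Additive.ofMul m = c • m₀ := by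
    have hmem : ∀ m : V, φ ⟨x, hxV⟩ m = m → (m : G) ∈ V ⊓ centralizer ({x} : Set G) := by
      intro m hm
      have h1 : x * (m : G) * x⁻¹ = m := congrArg Subtype.val hm
      exact ⟨m.2, mem_centralizer_singleton_iff.mpr (mul_inv_eq_iff_eq_mul.mp h1).symm⟩
    by_cases h : ∃ m : V, φ ⟨x, hxV⟩ m = m ∧ m ≠ 1
    · obtain ⟨m₁, hm₁, hne1⟩ := h
      refine ⟨Additive.ofMul m₁, fun m hm => ?_⟩
      have hle : zpowers (m₁ : G) ≤ V ⊓ centralizer ({x} : Set G) := zpowers_le.mpr (hmem m₁ hm₁)
      have hord : orderOf (m₁ : G) = p :=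
        orderOf_eq_prime (hV.2 m₁ m₁.2) fun h => hne1 (Subtype.ext h)
      have heq := Cfsg.Lib.Coprime.eq_of_le_of_card_eq hle
        (le_antisymm (card_le_of_le hle) (by rw [Nat.card_zpowers, hord]; exact hline))
      obtain ⟨k, hk⟩ := heq.ge (hmem m hm)
      refine ⟨(k : ZMod p), ?_⟩
      rw [Int.cast_smul_eq_zsmul, ← ofMul_zpow]
      exact congrArg Additive.ofMul (Subtype.ext hk.symm)
    · push Not at h
      exact ⟨0, fun m hm => ⟨0, by rw [h m hm, smul_zero]; rfl⟩⟩
  have hlineK : ∀ v, ρ xb v = v →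
      v ∈ Submodule.span K {fun i => algebraMap (ZMod p) K (b.repr m₀ i)} := by
    intro v hv
    set A := lin (φ ⟨x, hxV⟩)
    have hA : A ^ r = 1 := by
      rw [← map_pow, ← map_pow, show (⟨x, hxV⟩ : N) ^ r = 1 from Subtype.ext hxr, map_one, map_one]
    set S := ∑ i ∈ Finset.range r, A ^ i with hS
    have h1 : A * S = S := by
      rw [hS, Finset.mul_sum]
      simp only [← pow_succ']
      obtain ⟨s, hs⟩ : ∃ s, r = s + 1 := ⟨r - 1, by have := hr.one_le; omega⟩
      rw [hs] at hA ⊢
      conv_lhs => rw [Finset.sum_range_succ, hA]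
      conv_rhs => rw [Finset.sum_range_succ', pow_zero]
    have hc : ∀ j, ∃ c : ZMod p, S (b j) = c • m₀ := fun j => by
      obtain ⟨c, hc⟩ := hm₀ (S (b j)).toMul (congrArg Additive.toMul (LinearMap.congr_fun h1 (b j)))
      exact ⟨c, hc⟩
    choose c hc using hc
    have h2 : ∀ i : ℕ, (toK A ^ i) v = v := by
      intro i
      induction i with
      | zero => simp
      | succ i ih => rw [pow_succ', Module.End.mul_apply, ih]; exact hv
    have h3 : toK S v = (r : K) • v := by
      rw [hS, map_sum, LinearMap.sum_apply]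
      simp only [map_pow, h2, Finset.sum_const, Finset.card_range]
      rw [← Nat.cast_smul_eq_nsmul K]
    have h4 : toK S v = (∑ j, algebraMap (ZMod p) K (c j) * v j) •
        fun i => algebraMap (ZMod p) K (b.repr m₀ i) := by
      funext i
      rw [show toK S = Matrix.toLin' ((LinearMap.toMatrixAlgEquiv b S).map (algebraMap (ZMod p) K))
        from rfl, Matrix.toLin'_apply]
      simp only [Matrix.mulVec, dotProduct, Matrix.map_apply, LinearMap.toMatrixAlgEquiv_apply]
      rw [Pi.smul_apply, smul_eq_mul, Finset.sum_mul]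
      refine Finset.sum_congr rfl fun j _ => ?_
      rw [hc j, map_smul, Finsupp.smul_apply, smul_eq_mul, map_mul]
      ring
    refine (Submodule.smul_mem_iff _ (hne r hr hrp)).mp ?_
    rw [← h3, h4]
    exact Submodule.smul_mem _ _ (Submodule.mem_span_singleton_self _)
  haveI : Fintype φ.range := Fintype.ofFinite _
  have hmain := centralizes_of_fixed_line ρ hρ hr hr2 hp.out hp2 hq hq2 hrq hpq hrp
    (hne q hq (Ne.symm hpq)) hxb Pb
    ((hP.comap_of_injective N.subtype N.subtype_injective).map f) (hxN P hxP) hPbfix hlineK _ Qb rfl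
    ((hQ.comap_of_injective N.subtype N.subtype_injective).map f) (hxN Q hxQ)
    (by
      refine (map_mono ?_).trans (le_normalizer_map f)
      intro a ha
      rw [mem_normalizer_iff]
      exact fun c => mem_normalizer_iff.mp (hPQ ha) (c : G)) hQbcyc
  intro a ha
  refine mem_centralizer_iff.mpr fun u hu => ?_
  have h1 := mem_centralizer_iff.mp (hmain (mem_map_of_mem f (show (⟨a, hPV ha⟩ : N) ∈ P.subgroupOf N from ha)))
    _ (mem_map_of_mem f (show (⟨u, hQV hu⟩ : N) ∈ Q.subgroupOf N from hu))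
  have h2 : φ ⁅(⟨a, hPV ha⟩ : N), (⟨u, hQV hu⟩ : N)⁆ = 1 := by
    rw [map_commutatorElement, commutatorElement_eq_one_iff_mul_comm]
    exact (congrArg Subtype.val h1).symm
  have h3 : a * u * a⁻¹ * u⁻¹ ∈ Q ⊓ centralizer (V : Set G) :=
    mem_inf.mpr ⟨mul_mem ((mem_normalizer_iff.mp (hPQ ha) u).mp hu) (inv_mem hu), hker _ h2⟩
  rw [hQ0, mem_bot, mul_inv_eq_one, mul_inv_eq_iff_eq_mul] at h3
  exact h3.symm

end Cfsg.Lib.OddP
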