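import Cfsg.Agent.OddLocal.FixedPointFreeModule
import Cfsg.Prelude.Def_Transfer

/-!
# Elements of prime order without fixed points: the exceptional case `q = 2`, `r = 2 ^ b + 1`
-/

set_option linter.unusedSectionVars false
set_option linter.style.haveILetI false

namespace Cfsg.Lib.FpfExceptional

open Module Subgroup Cfsg.Lib.OddP
open scoped commutatorElement

universe u v w

theorem exceptional_numbers {q r d j : ℕ} (hr : r.Prime) (hq : q.Prime) (hd : 2 ≤ d) (hdr : d + 1 = r)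
    (hdvd : d ∣ q ^ j) : q = 2 ∧ ∃ b, 1 ≤ b ∧ d = 2 ^ b ∧ r = 2 ^ b + 1 := by
  obtain ⟨b, -, rfl⟩ := (Nat.dvd_prime_pow hq).mp hdvd
  have hb : b ≠ 0 := fun h => by rw [h, pow_zero] at hd; omega
  have hq2 : q = 2 := (hq.eq_two_or_odd').resolve_right fun ho => by
    have h1 : Even (q ^ b + 1) := (ho.pow).add_odd odd_one
    rw [hdr] at h1
    have h2 := (Nat.Prime.even_iff hr).mp h1
    omega
  subst hq2
  exact ⟨rfl, b, Nat.one_le_iff_ne_zero.mpr hb, rfl, hdr.symm⟩

section Fully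

variable {K : Type u} [Field K] [IsAlgClosed K] {W : Type v} [AddCommGroup W] [Module K W]
  [FiniteDimensional K W] {Q : Type w} [Group Q] [Finite Q]

/-- An element of prime order acting freely on `Q/Z(Q)` has a fixed point, or the exceptional numerology holds. -/
theorem fixed_or_count (ρ : Q →* Module.End K W) [Nontrivial W]
    (hirr : ∀ S : Submodule K W, (∀ g : Q, ∀ x ∈ S, ρ g x ∈ S) → S = ⊥ ∨ S = ⊤)
    (hQK : ((Nat.card Q : ℕ) : K) ≠ 0) (hQc : center Q ≠ ⊤)
    (hpair : ∀ u : Q, u ∉ center Q → ∃ (w : Q) (c : K), c ≠ 1 ∧ ρ u * ρ w = c • (ρ w * ρ u))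
    {r : ℕ} (hr : r.Prime) (hrK : (r : K) ≠ 0) (σ : MulAut Q) (hσr : σ ^ r = 1)
    (hfree : ∀ u : Q, u⁻¹ * σ u ∈ center Q → u ∈ center Q)
    (θ : Module.End K W) (hθr : θ ^ r = 1) (hθ : ∀ u : Q, θ * ρ u = ρ (σ u) * θ) :
    (∃ v : W, v ≠ 0 ∧ θ v = v) ∨
      (2 ≤ finrank K W ∧ finrank K W + 1 = r ∧ Nat.card (Q ⧸ center Q) = finrank K W * finrank K W) := by
  classical
  refine or_iff_not_imp_left.mpr fun hfix => ?_
  push Not at hfix
  obtain ⟨B, hB⟩ := transversal_basis ρ hirr hQK hpair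
  haveI := Fintype.ofFinite (Q ⧸ center Q)
  set N := finrank K W
  have hT : Nat.card (Q ⧸ center Q) = N * N := by
    rw [Nat.card_eq_fintype_card, ← Module.finrank_eq_card_basis B, Module.finrank_linearMap]
  -- the action on the quotient
  let τ : MulAut (Q ⧸ center Q) := QuotientGroup.congr (center Q) (center Q) σ
    (characteristic_iff_map_eq.mp inferInstance σ)
  have hτ : ∀ u : Q, τ (QuotientGroup.mk u) = QuotientGroup.mk (σ u) := fun u => rfl
  have hτfix : ∀ t, τ t = t → t = 1 := by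
    intro t ht
    obtain ⟨u, rfl⟩ := QuotientGroup.mk_surjective t
    rw [hτ, eq_comm, QuotientGroup.eq] at ht
    exact (QuotientGroup.eq_one_iff u).mpr (hfree u ht)
  have hτr : τ ^ r = 1 := by
    refine MulEquiv.ext fun t => ?_
    obtain ⟨u, rfl⟩ := QuotientGroup.mk_surjective t
    have : ∀ k : ℕ, (τ ^ k) (QuotientGroup.mk u) = QuotientGroup.mk ((σ ^ k) u) := by
      intro k
      induction k with
      | zero => rfl
      | succ k ih => rw [pow_succ', pow_succ', MulAut.mul_apply, ih, hτ]; rfl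
    rw [this, hσr]; rfl
  set A := Subgroup.zpowers τ
  let Y := {t : Q ⧸ center Q // t ≠ 1}
  letI : MulAction A Y :=
    { smul := fun a y => ⟨(a : MulAut (Q ⧸ center Q)) y.1, fun h => y.2
        ((a : MulAut (Q ⧸ center Q)).injective (h.trans (map_one _).symm))⟩
      one_smul := fun y => Subtype.ext rfl
      mul_smul := fun a b y => Subtype.ext rfl }
  have hsmul : ∀ (a : A) (y : Y), (a • y).1 = (a : MulAut (Q ⧸ center Q)) y.1 := fun a y => rfl
  have hQne : ∃ u : Q, u ∉ center Q := by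
    by_contra h
    push Not at h
    exact hQc (eq_top_iff.mpr fun u _ => h u)
  obtain ⟨u₀, hu₀⟩ := hQne
  have hτ1 : τ ≠ 1 := fun h => hu₀ ((QuotientGroup.eq_one_iff u₀).mp
    (hτfix _ (by rw [h]; rfl)))
  have hordτ : orderOf τ = r := by
    haveI := Fact.mk hr
    exact orderOf_eq_prime hτr hτ1
  have hA : Nat.card A = r := by rw [Nat.card_zpowers, hordτ]
  haveI : Fact (Nat.card A).Prime := ⟨hA ▸ hr⟩
  have hstab : ∀ y : Y, MulAction.stabilizer A y = ⊥ := by
    intro y
    refine (MulAction.stabilizer A y).eq_bot_or_eq_top_of_prime_card.resolve_right fun h => ?_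
    have h1 : (⟨τ, mem_zpowers τ⟩ : A) ∈ MulAction.stabilizer A y := h ▸ mem_top _
    exact y.2 (hτfix _ (congrArg Subtype.val h1))
  haveI := Fintype.ofFinite A
  set O := MulAction.orbitRel.Quotient A Y
  haveI : Fintype O := Fintype.ofFinite _
  haveI : Fintype Y := Fintype.ofFinite _
  have hY : Nat.card Y = Fintype.card O * r := by
    rw [Nat.card_congr (MulAction.selfEquivSigmaOrbitsQuotientStabilizer A Y), Nat.card_sigma]
    simp only [Nat.card_eq_fintype_card, ← Finset.card_univ]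
    rw [Finset.sum_const_nat]
    intro ω _
    rw [Finset.card_univ, ← Nat.card_eq_fintype_card, hstab]
    rw [Nat.card_congr (QuotientGroup.quotientBot (G := A)).toEquiv, hA]
  have hY1 : Nat.card Y + 1 = N * N := by
    rw [← hT, Nat.card_eq_fintype_card, Nat.card_eq_fintype_card, Fintype.card_subtype_compl,
      Fintype.card_subtype_eq]
    have : 0 < Fintype.card (Q ⧸ center Q) := Fintype.card_pos
    omega
  -- the centralizer of `θ`
  let C : Submodule K (Module.End K W) :=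
    LinearMap.ker (LinearMap.mulLeft K θ - LinearMap.mulRight K θ)
  have hC : ∀ f, f ∈ C ↔ θ * f = f * θ := fun f => by
    simp [C, LinearMap.mem_ker, sub_eq_zero]
  have hθu : θ * θ ^ (r - 1) = 1 := by
    rw [← pow_succ', Nat.sub_add_cancel hr.one_le, hθr]
  have hθu' : θ ^ (r - 1) * θ = 1 := by
    rw [← pow_succ, Nat.sub_add_cancel hr.one_le, hθr]
  have hcoef : ∀ t, ∃ c : K, c ≠ 0 ∧ θ * B t * θ ^ (r - 1) = c • B (τ t) := by
    intro t
    rw [hB, hθ, mul_assoc, hθu, mul_one, hB]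
    have hz : (τ t).out⁻¹ * σ t.out ∈ center Q := QuotientGroup.eq.mp (by
      rw [QuotientGroup.out_eq', ← hτ, QuotientGroup.out_eq'])
    obtain ⟨c, hc⟩ := schur ρ hirr (ρ ((τ t).out⁻¹ * σ t.out)) fun g => by
      rw [← map_mul, ← map_mul, mem_center_iff.mp hz g]
    refine ⟨c, fun h0 => ?_, ?_⟩
    · obtain ⟨w, hw⟩ := exists_ne (0 : W)
      apply hw
      have h1 : ρ ((τ t).out⁻¹ * σ t.out)⁻¹ * ρ ((τ t).out⁻¹ * σ t.out) = 1 := by
        rw [← map_mul, inv_mul_cancel, map_one]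
      rw [hc, h0, zero_smul, mul_zero] at h1
      exact (LinearMap.congr_fun h1 w).symm
    · rw [show σ t.out = (τ t).out * ((τ t).out⁻¹ * σ t.out) by group, map_mul, hc, mul_smul_comm,
        mul_one]
  have hupper : finrank K C ≤ 1 + Fintype.card O := by
    let Λ : C →ₗ[K] K × (O → K) :=
      { toFun := fun f => (B.repr f.1 1, fun o => B.repr f.1 (Quotient.out o).1)
        map_add' := fun f g => by
          refine Prod.ext ?_ (funext fun o => ?_) <;> simp
        map_smul' := fun c f => by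
          refine Prod.ext ?_ (funext fun o => ?_) <;> simp }
    have hinj : Function.Injective Λ := by
      rw [injective_iff_map_eq_zero]
      rintro ⟨f, hf⟩ h0
      have h1 : B.repr f 1 = 0 := congrArg Prod.fst h0
      have h2 : ∀ o : O, B.repr f (Quotient.out o).1 = 0 := fun o => congrFun (congrArg Prod.snd h0) o
      have hfθ : θ * f * θ ^ (r - 1) = f := by rw [(hC f).mp hf, mul_assoc, hθu, mul_one]
      have hstep : ∀ t, B.repr f t = 0 → B.repr f (τ t) = 0 := by
        intro t ht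
        conv_lhs => rw [← hfθ]
        choose c hc0 hc using hcoef
        have h3 : θ * f * θ ^ (r - 1) = ∑ s, (B.repr f s * c s) • B (τ s) := by
          conv_lhs => rw [← B.sum_repr f]
          rw [Finset.mul_sum, Finset.sum_mul]
          refine Finset.sum_congr rfl fun s _ => ?_
          rw [mul_smul_comm, smul_mul_assoc, hc, smul_smul]
        rw [h3, map_sum, Finsupp.finsetSum_apply, Finset.sum_eq_single t]
        · simp [ht]
        · intro s _ hs
          simp [B.repr_self, Finsupp.single_apply, τ.injective.ne hs]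
        · simp
      have hzero : ∀ t, B.repr f t = 0 := by
        intro t
        by_cases ht : t = 1
        · rw [ht]; exact h1
        set o : O := Quotient.mk'' (⟨t, ht⟩ : Y)
        have hrel : (Quotient.out o) ∈ MulAction.orbit A (⟨t, ht⟩ : Y) := by
          have h3 : Quotient.mk'' (Quotient.out o) = o := Quotient.out_eq' o
          exact MulAction.orbitRel_apply.mp (Quotient.eq''.mp h3)
        obtain ⟨a, ha⟩ := hrel
        have h5 : a⁻¹ • Quotient.out o = (⟨t, ht⟩ : Y) := by rw [← ha, inv_smul_smul]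
        have h6 : ((a⁻¹ : A) : MulAut (Q ⧸ center Q)) (Quotient.out o).1 = t := congrArg Subtype.val h5
        obtain ⟨n, hn⟩ : ∃ n : ℕ, τ ^ n = ((a⁻¹ : A) : MulAut (Q ⧸ center Q)) :=
          (mem_powers_iff_mem_zpowers.mpr (a⁻¹ : A).2)
        rw [← h6, ← hn]
        clear h6 hn h5
        induction n with
        | zero => exact h2 o
        | succ n ih => rw [pow_succ', MulAut.mul_apply]; exact hstep _ ih
      exact Subtype.ext (B.repr.injective (Finsupp.ext fun t => by simp [hzero t]))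
    refine (LinearMap.finrank_le_finrank_of_injective hinj).trans (le_of_eq ?_)
    rw [Module.finrank_prod, Module.finrank_self, Module.finrank_pi]
  -- an eigenbasis
  let e := Basis.ofSpan (eigen_span hrK θ hθr).ge
  haveI : Fintype ((linearIndepOn_empty K (id : W → W)).extend
      (Set.empty_subset {v : W | ∃ μ : K, θ v = μ • v})) := FiniteDimensional.fintypeBasisIndex e
  have heig : ∀ i, ∃ μ : K, θ (e i) = μ • e i := fun i => by
    rw [Basis.ofSpan_apply_self]
    exact LinearIndepOn.extend_subset (linearIndepOn_empty K (id : W → W))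
      (Set.empty_subset {v : W | ∃ μ : K, θ v = μ • v}) i.2
  choose μ hμ using heig
  have hμr : ∀ i, μ i ∈ (Polynomial.nthRootsFinset r (1 : K)).erase 1 := by
    intro i
    rw [Finset.mem_erase, Polynomial.mem_nthRootsFinset hr.pos]
    refine ⟨fun h1 => hfix (e i) (e.ne_zero i) (by rw [hμ, h1, one_smul]), ?_⟩
    have hpow : ∀ k : ℕ, (θ ^ k) (e i) = μ i ^ k • e i := by
      intro k
      induction k with
      | zero => simp
      | succ k ih => rw [pow_succ', Module.End.mul_apply, ih, map_smul, hμ, smul_smul, pow_succ]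
    have h2 := hpow r
    rw [hθr, Module.End.one_apply] at h2
    exact smul_left_injective K (e.ne_zero i) (h2.symm.trans (one_smul K (e i)).symm)
  set R := (Polynomial.nthRootsFinset r (1 : K)).erase 1
  have hR : R.card ≤ r - 1 := by
    rw [Finset.card_erase_of_mem (by simp [Polynomial.mem_nthRootsFinset hr.pos])]
    have : (Polynomial.nthRootsFinset r (1 : K)).card ≤ r := by
      rw [Polynomial.nthRootsFinset_def]
      exact (Multiset.toFinset_card_le _).trans (Polynomial.card_nthRoots r 1)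
    omega
  set P := Finset.univ.filter fun ij : _ × _ => μ ij.1 = μ ij.2 with hP
  have hlower : P.card ≤ finrank K C := by
    let Λ : P → C := fun ij => ⟨e.constr K fun k => if k = ij.1.1 then e ij.1.2 else 0, (hC _).mpr (by
      refine e.ext fun k => ?_
      have hij : μ ij.1.1 = μ ij.1.2 := (Finset.mem_filter.mp ij.2).2
      rw [Module.End.mul_apply, Module.End.mul_apply, hμ k, map_smul, Basis.constr_basis]
      split_ifs with hk
      · rw [hμ, hk, hij]
      · rw [map_zero, smul_zero])⟩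
    have hli : LinearIndependent K Λ := by
      refine LinearIndependent.of_comp C.subtype ?_
      rw [Fintype.linearIndependent_iff]
      intro g hg ij
      have h1 := congrArg (fun F => e.repr (F (e ij.1.1)) ij.1.2) hg
      simp only [LinearMap.sum_apply, LinearMap.smul_apply, Function.comp_apply, Submodule.coe_subtype,
        Λ, Basis.constr_basis, LinearMap.zero_apply, map_zero, Finsupp.coe_zero, Pi.zero_apply,
        map_sum, Finsupp.finsetSum_apply, map_smul, Finsupp.smul_apply, smul_eq_mul] at h1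
      rw [Finset.sum_eq_single ij] at h1
      · simpa using h1
      · intro kl _ hne
        by_cases hk : ij.1.1 = kl.1.1
        · have : kl.1.2 ≠ ij.1.2 := fun h => hne (Subtype.ext (Prod.ext hk.symm h))
          simp [hk, Finsupp.single_apply, this]
        · simp [hk]
      · simp
    simpa [Fintype.card_coe] using hli.fintype_card_le_finrank
  -- Cauchy–Schwarz
  have hsq : N * N ≤ R.card * P.card := by
    have hN : N = ∑ x ∈ R, (Finset.univ.filter fun i => μ i = x).card := by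
      rw [← Finset.card_eq_sum_card_fiberwise (fun i _ => hμr i), Finset.card_univ]
      exact Module.finrank_eq_card_basis e
    have hPc : P.card = ∑ x ∈ R, (Finset.univ.filter fun i => μ i = x).card ^ 2 := by
      rw [Finset.card_eq_sum_card_fiberwise (f := fun ij => μ ij.1) (t := R) (fun ij _ => hμr ij.1)]
      refine Finset.sum_congr rfl fun x _ => ?_
      rw [pow_two, ← Finset.card_product, hP, Finset.filter_filter]
      refine congrArg Finset.card (Finset.ext fun ij => ?_)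
      simp only [Finset.mem_filter, Finset.mem_product, Finset.mem_univ, true_and]
      exact ⟨fun h => ⟨h.2, h.1 ▸ h.2⟩, fun h => ⟨h.1.trans h.2.symm, h.1⟩⟩
    rw [hPc, hN, ← pow_two]
    exact sq_sum_le_card_mul_sum_sq
  have hN2 : N * N ≤ (r - 1) * (1 + Fintype.card O) :=
    hsq.trans (Nat.mul_le_mul hR (hlower.trans hupper))
  have hdec : N * N = 1 + r * Fintype.card O := by rw [← hY1, hY]; ring
  -- `N = r - 1` is even
  have hle : N ≤ r - 1 := by
    by_contra h
    obtain ⟨s, hs⟩ : ∃ s, r = s + 1 := ⟨r - 1, by have := hr.one_le; omega⟩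
    subst hs
    simp only [Nat.add_sub_cancel, not_le] at h hN2
    nlinarith
  have hN1 : N ≠ 1 := fun h => by
    have hsub : Subsingleton (Q ⧸ center Q) :=
      (Nat.card_eq_one_iff_unique.mp (by rw [hT, h])).1
    exact hu₀ ((QuotientGroup.eq_one_iff u₀).mp (Subsingleton.elim _ _))
  have hNpos : 0 < N := Module.finrank_pos
  have hdvd : r ∣ (N - 1) * (N + 1) := by
    refine ⟨Fintype.card O, ?_⟩
    have : (N - 1) * (N + 1) + 1 = N * N := by
      obtain ⟨s, hs⟩ : ∃ s, N = s + 1 := ⟨N - 1, by omega⟩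
      rw [hs, Nat.add_sub_cancel]; ring
    omega
  rcases hr.dvd_mul.mp hdvd with h | h
  · have := Nat.le_of_dvd (by omega) h
    omega
  · have hNr : N + 1 = r := by
      have := Nat.le_of_dvd (by omega) h
      have := hr.one_le
      omega
    exact ⟨by omega, hNr, hT⟩

end Fully

variable {K : Type u} [Field K] [IsAlgClosed K] {V : Type v} [AddCommGroup V] [Module K V]
  [FiniteDimensional K V] {Γ : Type w} [Group Γ] [Finite Γ]

/-- the nonabelian case -/
theorem nonabelian_fixed_or_count (ρ : Γ →* Module.End K V) (Q : Subgroup Γ) (hQK : ((Nat.card Q : ℕ) : K) ≠ 0) {x : Γ} {r : ℕ} (hr : r.Prime) (hrK : (r : K) ≠ 0)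
    (hxr : x ^ r = 1) (hxN : x ∈ normalizer (Q : Set Γ))
    (hsol : Group.IsSolvable Q) (hcop : (Nat.card (zpowers x)).Coprime (Nat.card Q))
    (hcom : ∀ a ∈ Q, ∀ b ∈ Q, ∀ c ∈ Q, ⁅a, b⁆ * c = c * ⁅a, b⁆)
    (hcomx : ∀ a ∈ Q, ∀ b ∈ Q, x * ⁅a, b⁆ = ⁅a, b⁆ * x)
    (hxZ : ∀ c ∈ center Q, x * (c : Γ) = (c : Γ) * x)
    (hrad : (∀ R : Subgroup Γ, R ≤ Q → R ≠ Q → x ∈ normalizer (R : Set Γ) →
      x ∈ centralizer (R : Set Γ)) ∨ (Nat.card (center Q)).Prime)
    (hfix : Q ⊓ centralizer ({x} : Set Γ) ≤ centralizer (Q : Set Γ))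
    {a₀ b₀ : Γ} (ha₀ : a₀ ∈ Q) (hb₀ : b₀ ∈ Q) (hz : ρ ⁅a₀, b₀⁆ ≠ 1) :
    (∃ v : V, v ≠ 0 ∧ ρ x v = v) ∨
      ∃ d, 2 ≤ d ∧ d + 1 = r ∧ Nat.card (Q ⧸ center Q) = d * d := by
  classical
  haveI := Fintype.ofFinite Q
  set z := ⁅a₀, b₀⁆ with hzdef
  have hzQ : z ∈ Q := by
    rw [hzdef, commutatorElement_def]
    exact mul_mem (mul_mem (mul_mem ha₀ hb₀) (inv_mem ha₀)) (inv_mem hb₀)
  have hzK : ((orderOf z : ℕ) : K) ≠ 0 := fun h => by
    obtain ⟨c, hc⟩ := Subgroup.orderOf_dvd_natCard Q hzQ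
    exact hQK (by rw [hc, Nat.cast_mul, h, zero_mul])
  obtain ⟨W, ρ0, hW, hρ0, hirr, hzfix⟩ :=
    exists_irreducible_moved ρ Q hzQ (fun u hu => hcom a₀ ha₀ b₀ hb₀ u hu) hz hzK
  let σ : MulAut Q := Q.normalizerMonoidHom ⟨x, hxN⟩
  have hσv : ∀ u : Q, ((σ u : Q) : Γ) = x * u * x⁻¹ := fun u => rfl
  have hσr : σ ^ r = 1 := by
    show Q.normalizerMonoidHom ⟨x, hxN⟩ ^ r = 1
    rw [← map_pow, show (⟨x, hxN⟩ : normalizer (Q : Set Γ)) ^ r = 1 from Subtype.ext hxr, map_one]
  have hcc : ∀ u w : Q, ⁅u, w⁆ ∈ center Q := fun u w => mem_center_iff.mpr fun c => Subtype.ext (by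
    have := hcom u u.2 w w.2 c c.2
    simpa [commutatorElement_def, mul_assoc] using this.symm)
  have hσcomm : ∀ u w : Q, σ ⁅u, w⁆ = ⁅u, w⁆ := fun u w => Subtype.ext (by
    rw [hσv, mul_inv_eq_iff_eq_mul]
    have := hcomx u u.2 w w.2
    simpa [commutatorElement_def, mul_assoc] using this)
  -- the radical of `ρ0` is central
  let f0 : Q →* (Module.End K W)ˣ := ρ0.toHomUnits
  set Z₀ : Subgroup Q := (center f0.range).comap f0.rangeRestrict with hZ₀def
  have hZ₀ : ∀ u : Q, u ∈ Z₀ ↔ ∀ w : Q, ρ0 ⁅u, w⁆ = 1 := by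
    intro u
    rw [hZ₀def, mem_comap, mem_center_iff]
    constructor
    · intro h w
      have h1 : f0.rangeRestrict ⁅u, w⁆ = 1 := by
        rw [map_commutatorElement, commutatorElement_eq_one_iff_mul_comm]
        exact (h _).symm
      exact congrArg (fun t : f0.range => ((t : (Module.End K W)ˣ) : Module.End K W)) h1
    · rintro h ⟨-, w, rfl⟩
      have h1 : f0.rangeRestrict ⁅u, w⁆ = 1 := Subtype.ext (Units.ext (h w))
      rw [map_commutatorElement, commutatorElement_eq_one_iff_mul_comm] at h1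
      exact h1.symm
  have hZ₀inv : ∀ u ∈ Z₀, σ u ∈ Z₀ := by
    intro u hu
    rw [hZ₀] at hu ⊢
    intro w
    rw [← σ.apply_symm_apply w, ← map_commutatorElement, hσcomm]
    exact hu _
  have hz0 : ρ0 ⟨z, hzQ⟩ ≠ 1 := fun h => by
    obtain ⟨w, hw⟩ := exists_ne (0 : W)
    exact hw (hzfix w (by rw [← hρ0 ⟨z, hzQ⟩, h]; rfl))
  have hZ₀le : Z₀ ≤ center Q := by
    rcases hrad with hmax | hpc
    swap
    · intro u hu
      by_contra hun
      obtain ⟨w, hw⟩ : ∃ w : Q, ⁅u, w⁆ ≠ 1 := by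
        by_contra hall
        push Not at hall
        exact hun (mem_center_iff.mpr fun c => (commutatorElement_eq_one_iff_mul_comm.mp (hall c)).symm)
      haveI := Fact.mk hpc
      have hzc : (⟨z, hzQ⟩ : Q) ∈ center Q := by
        have h1 := hcc ⟨a₀, ha₀⟩ ⟨b₀, hb₀⟩
        rwa [show (⟨z, hzQ⟩ : Q) = ⁅(⟨a₀, ha₀⟩ : Q), ⟨b₀, hb₀⟩⁆ from Subtype.ext hzdef]
      obtain ⟨k, hk⟩ := mem_zpowers_iff.mp (mem_zpowers_of_prime_card (G := center Q) rfl
        (g := ⟨_, hcc u w⟩) (g' := ⟨_, hzc⟩) fun h => hw (congrArg Subtype.val h))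
      have hk' : ⁅u, w⁆ ^ k = ⟨z, hzQ⟩ := congrArg Subtype.val hk
      apply hz0
      have h2 : f0 ⁅u, w⁆ = 1 := Units.ext ((hZ₀ u).mp hu w)
      have h3 : f0 ⟨z, hzQ⟩ = 1 := by rw [← hk', map_zpow, h2, one_zpow]
      exact congrArg Units.val h3
    have hne : Z₀.map Q.subtype ≠ Q := fun h => hz0 (by
      obtain ⟨u, hu, hu'⟩ := h.ge ha₀
      have h1 := (hZ₀ u).mp hu ⟨b₀, hb₀⟩
      rw [show (⟨z, hzQ⟩ : Q) = ⁅u, ⟨b₀, hb₀⟩⁆ from Subtype.ext (show z = ⁅(u : Γ), b₀⁆ by
        rw [show (u : Γ) = a₀ from hu'])]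
      exact h1)
    have hxR : x ∈ normalizer (Z₀.map Q.subtype : Set Γ) := by
      refine Cfsg.Lib.Coprime.mem_normalizer_of_conj_mem ?_ ?_
      · rintro _ ⟨u, hu, rfl⟩
        exact ⟨σ u, hZ₀inv u hu, rfl⟩
      · rintro _ ⟨u, hu, rfl⟩
        refine ⟨σ.symm u, ?_, ?_⟩
        · rw [SetLike.mem_coe, hZ₀] at hu ⊢
          intro w
          rw [← σ.symm_apply_apply w, ← map_commutatorElement, σ.symm_apply_eq.mpr (hσcomm u (σ w)).symm]
          exact hu _
        · have h5 := hσv (σ.symm u)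
          rw [σ.apply_symm_apply] at h5
          show ((σ.symm u : Q) : Γ) = x⁻¹ * (u : Γ) * x
          rw [h5]; group
    intro u hu
    have h1 := hmax _ (map_subtype_le _) hne hxR
    have h2 : (u : Γ) ∈ Q ⊓ centralizer ({x} : Set Γ) := ⟨u.2, mem_centralizer_singleton_iff.mpr
      (mem_centralizer_iff.mp h1 _ ⟨u, hu, rfl⟩)⟩
    exact mem_center_iff.mpr fun c => Subtype.ext (mem_centralizer_iff.mp (hfix h2) c c.2)
  have hscal : ∀ u ∈ center Q, ∃ c : K, ρ0 u = c • 1 := fun u hu => schur ρ0 hirr _ fun g => by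
    rw [← map_mul, ← map_mul, mem_center_iff.mp hu g]
  have hQc : center Q ≠ ⊤ := fun h => hz0 (by
    have : (⟨a₀, ha₀⟩ : Q) * ⟨b₀, hb₀⟩ = ⟨b₀, hb₀⟩ * ⟨a₀, ha₀⟩ :=
      (mem_center_iff.mp (h ▸ mem_top (⟨a₀, ha₀⟩ : Q)) _).symm
    rw [← commutatorElement_eq_one_iff_mul_comm] at this
    rw [show (⟨z, hzQ⟩ : Q) = ⁅(⟨a₀, ha₀⟩ : Q), ⟨b₀, hb₀⟩⁆ from rfl, this, map_one])
  have hpair : ∀ u : Q, u ∉ center Q →
      ∃ (w : Q) (c : K), c ≠ 1 ∧ ρ0 u * ρ0 w = c • (ρ0 w * ρ0 u) := by
    intro u hu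
    obtain ⟨w, hw⟩ : ∃ w, ρ0 ⁅u, w⁆ ≠ 1 := by
      by_contra h
      push Not at h
      exact hu (hZ₀le ((hZ₀ u).mpr h))
    obtain ⟨c, hc⟩ := hscal _ (hcc u w)
    refine ⟨w, c, fun h1 => hw (by rw [hc, h1, one_smul]), ?_⟩
    calc ρ0 u * ρ0 w = ρ0 (⁅u, w⁆ * (w * u)) := by
          rw [← map_mul, commutatorElement_def]; congr 1; group
      _ = _ := by rw [map_mul, hc, smul_mul_assoc, one_mul, map_mul]
  have hfree : ∀ u : Q, u⁻¹ * σ u ∈ center Q → u ∈ center Q := by
    intro u hu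
    set D := (center Q).map Q.subtype
    have hxD : zpowers x ≤ normalizer (D : Set Γ) := zpowers_le.mpr
      (normalizer_le_normalizer_center Q hxN)
    have hk : ∀ a ∈ zpowers x, (u : Γ)⁻¹ * a * u * a⁻¹ ∈ D := by
      intro a ha
      obtain ⟨j, rfl⟩ := mem_powers_iff_mem_zpowers.mpr ha
      clear ha
      induction j with
      | zero => simp
      | succ j ih =>
        have h1 : x * ((u : Γ)⁻¹ * x ^ j * u * (x ^ j)⁻¹) * x⁻¹ ∈ D :=
          (mem_normalizer_iff.mp (hxD (mem_zpowers x)) _).mp ih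
        have h2 : (u : Γ)⁻¹ * (x * u * x⁻¹) ∈ D := ⟨_, hu, rfl⟩
        have := mul_mem h2 h1
        simp only [pow_succ', mul_inv_rev, mul_assoc] at this ⊢
        simpa [mul_assoc] using this
    obtain ⟨d, hd, hdc⟩ := Cfsg.Lib.Coprime.exists_fixed_in_coset (A := zpowers x) (D := D) hxD
      (Cfsg.Lib.Coprime.coprime_of_le (map_subtype_le _) hcop)
      (Or.inr (Cfsg.Lib.Coprime.isSolvable_of_le (map_subtype_le _) hsol)) hk
    obtain ⟨d', hd', rfl⟩ := hd
    have h3 : ((u * d' : Q) : Γ) ∈ Q ⊓ centralizer ({x} : Set Γ) := ⟨(u * d').2,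
      mem_centralizer_singleton_iff.mpr (mem_centralizer_iff.mp hdc x (mem_zpowers x)).symm⟩
    have h4 : u * d' ∈ center Q :=
      mem_center_iff.mpr fun c => Subtype.ext (mem_centralizer_iff.mp (hfix h3) c c.2)
    have := mul_mem h4 (inv_mem hd')
    rwa [mul_inv_cancel_right] at this
  -- an operator on `W` inducing `σ`
  have htr0 : ∀ g : Q, g ∉ center Q → LinearMap.trace K W (ρ0 g) = 0 := by
    intro g hg
    obtain ⟨w, c, hc, hw⟩ := hpair g hg
    have h1 : ρ0 g = c • (ρ0 w * ρ0 g * ρ0 w⁻¹) := by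
      rw [← smul_mul_assoc, ← hw, mul_assoc, ← map_mul ρ0 w, mul_inv_cancel, map_one, mul_one]
    have h2 := congrArg (LinearMap.trace K W) h1
    rw [map_smul, LinearMap.trace_mul_comm, ← mul_assoc, ← map_mul, inv_mul_cancel, map_one, one_mul,
      smul_eq_mul] at h2
    exact (mul_eq_zero.mp (show (c - 1) * LinearMap.trace K W (ρ0 g) = 0 by
      linear_combination -h2)).resolve_left (sub_ne_zero.mpr hc)
  have hN0 : (finrank K W : K) ≠ 0 := by
    intro h
    obtain ⟨B, hB⟩ := transversal_basis ρ0 hirr hQK hpair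
    have h0 : LinearMap.trace K W = 0 := B.ext fun t => by
      rw [LinearMap.zero_apply, hB]
      by_cases ht : t.out ∈ center Q
      · obtain ⟨c, hc⟩ := hscal _ ht
        rw [hc, map_smul, LinearMap.trace_one, h, smul_zero]
      · exact htr0 _ ht
    let b := Module.finBasis K W
    haveI : Nonempty (Fin (finrank K W)) := b.index_nonempty
    let i : Fin (finrank K W) := Classical.arbitrary _
    have h1 := LinearMap.congr_fun h0 (LinearMap.smulRight (b.coord i) (b i))
    rw [LinearMap.zero_apply, LinearMap.trace_eq_matrix_trace K b, Matrix.trace] at h1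
    simp [Matrix.diag_apply, LinearMap.toMatrix_apply, Finsupp.single_apply, Matrix.vecMulVec_apply, Pi.single_apply] at h1
  let θ₀ : Module.End K W := ∑ u : Q, ρ0 (σ u) * ρ0 u⁻¹
  have hθ₀ : ∀ u, θ₀ * ρ0 u = ρ0 (σ u) * θ₀ := by
    intro w
    simp only [θ₀, Finset.sum_mul, Finset.mul_sum, ← map_mul]
    refine Fintype.sum_equiv (Equiv.mulLeft w⁻¹) _ _ fun u => ?_
    simp only [Equiv.coe_mulLeft, map_mul, map_inv, mul_inv_rev, inv_inv, mul_assoc,
      mul_inv_cancel_left]
  have hθne : θ₀ ≠ 0 := by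
    intro h0
    have h1 := congrArg (LinearMap.trace K W) h0
    simp only [θ₀, map_sum, map_zero, ← map_mul] at h1
    have hterm : ∀ u : Q, LinearMap.trace K W (ρ0 (σ u * u⁻¹)) =
        if u ∈ center Q then (finrank K W : K) else 0 := by
      intro u
      split_ifs with hu
      · have h3 : σ u = u := Subtype.ext (by
          rw [hσv, mul_inv_eq_iff_eq_mul]
          exact hxZ u hu)
        rw [h3, mul_inv_cancel, map_one, LinearMap.trace_one]
      · refine htr0 _ fun hc => hu (hfree u ?_)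
        rwa [show u⁻¹ * σ u = σ u * u⁻¹ by
          have := mem_center_iff.mp hc u
          calc u⁻¹ * σ u = u⁻¹ * ((σ u * u⁻¹) * u) := by group
            _ = u⁻¹ * (u * (σ u * u⁻¹)) := by rw [this]
            _ = σ u * u⁻¹ := by group]
    rw [Finset.sum_congr rfl fun u _ => hterm u, Finset.sum_ite, Finset.sum_const_zero, add_zero,
      Finset.sum_const, nsmul_eq_mul, mul_eq_zero] at h1
    refine hQK ?_
    have hdvd : (Finset.univ.filter (· ∈ center Q)).card ∣ Nat.card Q := by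
      rw [← Fintype.card_subtype, ← Nat.card_eq_fintype_card]
      exact card_subgroup_dvd_card (center Q)
    obtain ⟨k, hk⟩ := hdvd
    rw [hk, Nat.cast_mul, h1.resolve_right hN0, zero_mul]
  have hθinj : LinearMap.ker θ₀ = ⊥ := (hirr _ fun g v hv => by
      rw [LinearMap.mem_ker] at hv ⊢
      rw [← Module.End.mul_apply, hθ₀, Module.End.mul_apply, hv, map_zero]).resolve_right
    fun h => hθne (LinearMap.ker_eq_top.mp h)
  obtain ⟨c, hc⟩ := schur ρ0 hirr (θ₀ ^ r) fun g => by
    have : ∀ (k : ℕ) (u : Q), θ₀ ^ k * ρ0 u = ρ0 ((σ ^ k) u) * θ₀ ^ k := by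
      intro k
      induction k with
      | zero => intro u; simp
      | succ k ih =>
        intro u
        rw [pow_succ' θ₀, mul_assoc, ih, ← mul_assoc, hθ₀, mul_assoc, pow_succ' σ, MulAut.mul_apply]
    rw [this, hσr]; rfl
  have hc0 : c ≠ 0 := by
    intro h
    obtain ⟨w, hw⟩ := exists_ne (0 : W)
    apply hw
    have hinj : Function.Injective θ₀ := LinearMap.ker_eq_bot.mp hθinj
    have hit : Function.Injective (θ₀ ^ r : Module.End K W) := by
      rw [Module.End.coe_pow]; exact hinj.iterate r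
    exact hit (by rw [map_zero, hc, h, zero_smul]; rfl)
  obtain ⟨a, ha⟩ := IsAlgClosed.exists_pow_nat_eq c hr.pos
  have ha0 : a ≠ 0 := fun h => hc0 (by rw [← ha, h, zero_pow hr.ne_zero])
  set θ₁ := a⁻¹ • θ₀ with hθ₁
  have hθ₁r : θ₁ ^ r = 1 := by
    rw [hθ₁, smul_pow, hc, smul_smul, inv_pow, ha, inv_mul_cancel₀ hc0, one_smul]
  have hθ₁c : ∀ u, θ₁ * ρ0 u = ρ0 (σ u) * θ₁ := fun u => by
    rw [hθ₁, smul_mul_assoc, hθ₀, mul_smul_comm]
  set θi := θ₁ ^ (r - 1) with hθi
  have hθi1 : θi * θ₁ = 1 := by rw [hθi, ← pow_succ, Nat.sub_add_cancel hr.one_le, hθ₁r]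
  have hθi2 : θ₁ * θi = 1 := by rw [hθi, ← pow_succ', Nat.sub_add_cancel hr.one_le, hθ₁r]
  -- the space of intertwiners
  let H : Submodule K (W →ₗ[K] V) :=
    { carrier := {φ | ∀ (u : Q) (w : W), φ (ρ0 u w) = ρ u (φ w)}
      add_mem' := fun {φ ψ} h1 h2 u w => by simp [h1 u w, h2 u w]
      zero_mem' := fun u w => by simp
      smul_mem' := fun c φ h1 u w => by simp [h1 u w] }
  haveI : Nontrivial H := ⟨⟨⟨W.subtype, fun u w => hρ0 u w⟩, 0, fun h => by
    obtain ⟨w, hw⟩ := exists_ne (0 : W)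
    exact hw (Subtype.ext (LinearMap.congr_fun (congrArg Subtype.val h) w))⟩⟩
  let T : H →ₗ[K] H :=
    { toFun := fun φ => ⟨(ρ x).comp ((φ : W →ₗ[K] V).comp θi), fun u w => by
        obtain ⟨u, rfl⟩ := σ.surjective u
        show ρ x ((φ : W →ₗ[K] V) (θi (ρ0 (σ u) w))) = ρ (σ u) (ρ x ((φ : W →ₗ[K] V) (θi w)))
        have h1 : θi * ρ0 (σ u) = ρ0 u * θi := by
          calc θi * ρ0 (σ u) = θi * (ρ0 (σ u) * θ₁) * θi := by rw [mul_assoc, mul_assoc, hθi2, mul_one]
            _ = θi * θ₁ * ρ0 u * θi := by rw [← hθ₁c, mul_assoc θi θ₁]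
            _ = _ := by rw [hθi1, one_mul]
        rw [← Module.End.mul_apply θi, h1, Module.End.mul_apply, φ.2, ← Module.End.mul_apply,
          ← map_mul, ← Module.End.mul_apply, ← map_mul, hσv, inv_mul_cancel_right]⟩
      map_add' := fun φ ψ => Subtype.ext (LinearMap.ext fun w => by simp)
      map_smul' := fun c φ => Subtype.ext (LinearMap.ext fun w => by simp) }
  obtain ⟨lam, hlam⟩ := Module.End.exists_eigenvalue T
  obtain ⟨φ, hφ⟩ := hlam.exists_hasEigenvector
  set φ' : W →ₗ[K] V := (φ : W →ₗ[K] V) with hφ'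
  have hφinj : LinearMap.ker φ' = ⊥ := (hirr _ fun g v hv => by
      rw [LinearMap.mem_ker] at hv ⊢
      rw [hφ', φ.2, ← hφ', hv, map_zero]).resolve_right
    fun h => hφ.2 (Subtype.ext (LinearMap.ker_eq_top.mp h))
  have hφx : ∀ w : W, ρ x (φ' w) = φ' ((lam • θ₁) w) := fun w => by
    have h1 := LinearMap.congr_fun (congrArg Subtype.val hφ.apply_eq_smul) (θ₁ w)
    have h2 : ρ x (φ' ((θi * θ₁) w)) = lam • φ' (θ₁ w) := h1
    rw [hθi1, Module.End.one_apply] at h2
    rw [h2]
    show _ = φ' (lam • θ₁ w)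
    rw [map_smul]
  have hθr : (lam • θ₁) ^ r = 1 := by
    have hit : ∀ k : ℕ, ∀ w : W, (ρ x ^ k) (φ' w) = φ' (((lam • θ₁) ^ k) w) := by
      intro k
      induction k with
      | zero => intro w; simp
      | succ k ih =>
        intro w
        rw [pow_succ', pow_succ', Module.End.mul_apply, ih, hφx, Module.End.mul_apply]
    refine LinearMap.ext fun w => LinearMap.ker_eq_bot.mp hφinj ?_
    rw [← hit r w, ← map_pow, hxr, map_one]; rfl
  rcases fixed_or_count ρ0 hirr hQK hQc hpair hr hrK σ hσr hfree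
    (lam • θ₁) hθr (fun u => by rw [smul_mul_assoc lam θ₁ (ρ0 u), hθ₁c, mul_smul_comm lam (ρ0 (σ u)) θ₁])
    with ⟨v, hv, hvθ⟩ | hcount
  swap
  · exact Or.inr ⟨_, hcount⟩
  exact Or.inl ⟨φ' v, fun h => hv (LinearMap.ker_eq_bot'.mp hφinj v h), by rw [hφx, hvθ]⟩

/-- An element of prime order without fixed points centralizes, or `q = 2` and `r = 2 ^ b + 1`. -/
theorem centralizes_or_exceptional (ρ : Γ →* Module.End K V) (hρ : Function.Injective ρ) {x : Γ}
    {r q : ℕ} (hr : r.Prime) (hq : q.Prime) (hrq : r ≠ q) (hrK : (r : K) ≠ 0)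
    (hqK : (q : K) ≠ 0) (hxr : x ^ r = 1) (hfix : ∀ v : V, ρ x v = v → v = 0) (n : ℕ) :
    ∀ Q : Subgroup Γ, Nat.card Q = n → IsPGroup q Q → x ∈ normalizer (Q : Set Γ) →
      x ∈ centralizer (Q : Set Γ) ∨
        (q = 2 ∧ (∃ b : ℕ, r = 2 ^ b + 1) ∧ ∃ a ∈ Q, ∃ c ∈ Q, a * c ≠ c * a) := by
  classical
  haveI := Fact.mk hq
  induction n using Nat.strong_induction_on with
  | _ n ih =>
  intro Q hn hQ hxN
  have hcard := IsPGroup.iff_card.mp hQ
  obtain ⟨j, hj⟩ := hcard
  have hQK : ((Nat.card Q : ℕ) : K) ≠ 0 := by rw [hj, Nat.cast_pow]; exact pow_ne_zero j hqK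
  set X := zpowers x
  have hXN : X ≤ normalizer (Q : Set Γ) := zpowers_le.mpr hxN
  have hcop : (Nat.card X).Coprime (Nat.card Q) := by
    rw [Nat.card_zpowers, hj]
    exact Nat.Coprime.coprime_dvd_left (orderOf_dvd_of_pow_eq_one hxr)
      (((Nat.coprime_primes hr hq).mpr hrq).pow_right j)
  haveI := hQ.isNilpotent
  have hsol : Group.IsSolvable Q := inferInstance
  have hmax : ∀ R : Subgroup Γ, R ≤ Q → R ≠ Q → x ∈ normalizer (R : Set Γ) →
      x ∈ centralizer (R : Set Γ) ∨
        (q = 2 ∧ (∃ b : ℕ, r = 2 ^ b + 1) ∧ ∃ a ∈ R, ∃ c ∈ R, a * c ≠ c * a) := fun R hR hne hxR =>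
    ih _ (hn ▸ lt_of_le_of_ne (Nat.le_of_dvd Nat.card_pos (card_dvd_of_le hR))
      fun e => hne (eq_of_le_of_card_ge hR e.ge)) R rfl (hQ.to_le hR) hxR
  refine or_iff_not_imp_right.mpr fun hnexc => ?_
  replace hmax : ∀ R : Subgroup Γ, R ≤ Q → R ≠ Q → x ∈ normalizer (R : Set Γ) →
      x ∈ centralizer (R : Set Γ) := fun R hR hne hxR =>
    (hmax R hR hne hxR).resolve_right fun ⟨h2, h3, a, ha, c, hc, hac⟩ =>
      hnexc ⟨h2, h3, a, hR ha, c, hR hc, hac⟩
  have hXcent : ∀ R : Subgroup Γ, x ∈ centralizer (R : Set Γ) → ⁅R, X⁆ = ⊥ := fun R hR => by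
    rw [commutator_comm, commutator_eq_bot_iff_le_centralizer]
    exact zpowers_le.mpr hR
  by_contra hnc
  have hQX : ⁅Q, X⁆ = Q := by
    by_contra hne
    have h1 := hmax _ (Cfsg.Lib.Coprime.commutator_le_of_le_normalizer hXN) hne
      (Cfsg.Lib.Coprime.le_normalizer_commutator_right X Q (mem_zpowers x))
    have h2 := hXcent _ h1
    rw [Cfsg.Lib.Coprime.commutator_commutator_eq hXN hcop (Or.inr hsol), commutator_comm,
      commutator_eq_bot_iff_le_centralizer] at h2
    exact hnc (h2 (mem_zpowers x))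
  have hQne : Q ≠ ⊥ := by
    rintro rfl
    exact hnc (mem_centralizer_iff.mpr fun y hy => by rw [mem_bot.mp hy, one_mul, mul_one])
  haveI : Nontrivial Q := (nontrivial_iff_ne_bot Q).mpr hQne
  set Φ := (frattini Q).map Q.subtype with hΦdef
  have hΦne : Φ ≠ Q := fun h => by
    have h3 : frattini Q = ⊤ := eq_top_iff.mpr fun b _ => by
      obtain ⟨b', hb', he⟩ := h.ge b.2
      rwa [← Subtype.ext he]
    exact bot_ne_top (frattini_nongenerating (K := (⊥ : Subgroup Q)) (by rw [h3, sup_top_eq]))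
  have hchar : ∀ g ∈ normalizer (Q : Set Γ), ∀ y ∈ Φ, g * y * g⁻¹ ∈ Φ := by
    rintro g hg - ⟨y, hy, rfl⟩
    exact ⟨Q.normalizerMonoidHom ⟨g, hg⟩ y,
      characteristic_iff_le_comap.mp frattini_characteristic _ hy, rfl⟩
  have hΦN : normalizer (Q : Set Γ) ≤ normalizer (Φ : Set Γ) := fun g hg =>
    Cfsg.Lib.Coprime.mem_normalizer_of_conj_mem (hchar g hg)
      fun y hy => by simpa using hchar g⁻¹ (inv_mem hg) y hy
  have hΦx := hmax Φ (map_subtype_le _) hΦne (hΦN hxN)
  have hQQ : ⁅Q, Q⁆ ≤ Φ := by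
    rw [← map_subtype_commutator]
    exact map_mono (Cfsg.Lib.PGroups.commutator_le_frattini hQ)
  -- everything fixed by `x` is central
  have hcent : ∀ R : Subgroup Γ, R ≤ Q → x ∈ centralizer (R : Set Γ) →
      R ≤ centralizer (Q : Set Γ) := by
    intro R hR hRx
    have h1 : ⁅⁅R, X⁆, Q⁆ = ⊥ := by rw [hXcent R hRx, commutator_bot_left]
    have h2 : ⁅⁅Q, R⁆, X⁆ = ⊥ := by
      refine eq_bot_iff.mpr ((commutator_mono ?_ le_rfl).trans (hXcent Φ hΦx).le)
      exact (commutator_mono le_rfl hR).trans hQQ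
    have h3 : ⁅⁅X, Q⁆, R⁆ = ⊥ := commutator_commutator_eq_bot_of_rotate h2 h1
    rw [commutator_comm X Q, hQX, commutator_comm] at h3
    exact commutator_eq_bot_iff_le_centralizer.mp h3
  have hfixQ : Q ⊓ centralizer ({x} : Set Γ) ≤ centralizer (Q : Set Γ) :=
    hcent _ inf_le_left (mem_centralizer_iff.mpr fun y hy =>
      mem_centralizer_singleton_iff.mp hy.2)
  have hfixv : ¬ ∃ v : V, v ≠ 0 ∧ ρ x v = v := fun ⟨v, hv, hvx⟩ => hv (hfix v hvx)
  by_cases hab : ∀ a ∈ Q, ∀ b ∈ Q, a * b = b * a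
  · haveI : IsMulCommutative Q := ⟨⟨fun a b => Subtype.ext (hab a a.2 b b.2)⟩⟩
    obtain ⟨z, hz, hz1⟩ := (bot_or_exists_ne_one Q).resolve_left hQne
    exact hfixv (abelian_fixed_point ρ Q hab hr hxr hxN hQX hz
      (fun h => hz1 (hρ (h.trans (map_one ρ).symm))) hQK)
  · push Not at hab
    obtain ⟨a₀, ha₀, b₀, hb₀, hne⟩ := hab
    refine (nonabelian_fixed_or_count ρ Q hQK hr hrK hxr hxN hsol hcop (fun a ha b hb c hc => ?_)
      (fun a ha b hb => ?_) (fun c hc => ?_) (Or.inl hmax) hfixQ ha₀ hb₀ (fun h => hne ?_)).elim hfixv ?_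
    · exact (mem_centralizer_iff.mp (hcent Φ (map_subtype_le _) hΦx
        (hQQ (commutator_mem_commutator ha hb))) c hc).symm
    · exact (mem_centralizer_iff.mp hΦx _ (hQQ (commutator_mem_commutator ha hb))).symm
    · have hne' : (center Q).map Q.subtype ≠ Q := fun h => by
        obtain ⟨u, hu, hu'⟩ := h.ge ha₀
        refine hne ?_
        rw [← hu']
        exact (congrArg Subtype.val (mem_center_iff.mp hu ⟨b₀, hb₀⟩)).symm
      exact (mem_centralizer_iff.mp (hmax _ (map_subtype_le _) hne' (normalizer_le_normalizer_center Q hxN))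
        _ ⟨c, hc, rfl⟩).symm
    · exact commutatorElement_eq_one_iff_mul_comm.mp (hρ (h.trans (map_one ρ).symm))
    · rintro ⟨d, hd2, hdr, hdT⟩
      obtain ⟨hq2, b, hb⟩ := exceptional_numbers hr hq hd2 hdr
        (show d ∣ q ^ j from hj ▸ (dvd_mul_right d d).trans (hdT ▸ (center Q).card_quotient_dvd_card))
      exact hnexc ⟨hq2, ⟨b, hb.2.2⟩, a₀, ha₀, b₀, hb₀, hne⟩

section GroupForm

variable {G : Type w} [Group G] [Finite G]

/-- A fixed-point-free element on an elementary abelian group stays so over the algebraic closure. -/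
theorem exists_fpf_rep {p r : ℕ} [hp : Fact p.Prime] (hr : r.Prime) (hrp : r ≠ p) {H V : Subgroup G}
    (hV : Cfsg.IsElementaryAbelian p V) (hHV : H ≤ normalizer (V : Set G))
    (hfaith : H ⊓ centralizer (V : Set G) = ⊥) {x : G} (hxH : x ∈ H) (hxr : x ^ r = 1)
    (hfix : ∀ v ∈ V, x * v = v * x → v = 1) :
    ∃ (n : ℕ) (ρ : H →* Module.End (AlgebraicClosure (ZMod p)) (Fin n → AlgebraicClosure (ZMod p))),
      Function.Injective ρ ∧ ∀ v, ρ ⟨x, hxH⟩ v = v → v = 0 := by
  classical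
  haveI := hV.1
  letI : CommGroup V := { (inferInstance : Group V) with mul_comm := mul_comm' }
  let φ : H →* MulAut V := V.normalizerMonoidHom.comp (inclusion hHV)
  have hφ : ∀ (g : H) (v : V), ((φ g v : V) : G) = (g : G) * v * (g : G)⁻¹ := fun g v => rfl
  have hVp : ∀ m : V, m ^ p = 1 := fun m => Subtype.ext (hV.2 m m.2)
  letI : Module (ZMod p) (Additive V) :=
    AddCommGroup.zmodModule (n := p) (G := Additive V) fun m => hVp m.toMul
  haveI : Module.Finite (ZMod p) (Additive V) := Module.Finite.of_finite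
  let b := Module.finBasis (ZMod p) (Additive V)
  let lin : MulAut V →* Module.End (ZMod p) (Additive V) :=
    { toFun := fun a => AddMonoidHom.toZModLinearMap p (MonoidHom.toAdditive a.toMonoidHom)
      map_one' := LinearMap.ext fun v => rfl
      map_mul' := fun a b => LinearMap.ext fun v => rfl }
  let K := AlgebraicClosure (ZMod p)
  haveI : CharP K p := charP_of_injective_algebraMap (algebraMap (ZMod p) K).injective p
  let toK : Module.End (ZMod p) (Additive V) →+*
      Module.End K (Fin (finrank (ZMod p) (Additive V)) → K) :=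
    ((Matrix.toLinAlgEquiv' (R := K)).toAlgHom.toRingHom.comp
      ((algebraMap (ZMod p) K).mapMatrix)).comp
      (LinearMap.toMatrixAlgEquiv b).toAlgHom.toRingHom
  have htoK : Function.Injective toK := fun f g h =>
    (LinearMap.toMatrixAlgEquiv b).injective
      (Matrix.map_injective (algebraMap (ZMod p) K).injective (Matrix.toLinAlgEquiv'.injective h))
  refine ⟨_, (toK.toMonoidHom.comp lin).comp φ, (injective_iff_map_eq_one _).2 fun g hg => ?_, ?_⟩
  · have h1 : (g : G) ∈ H ⊓ centralizer (V : Set G) := by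
      refine ⟨g.2, mem_centralizer_iff.mpr fun v hv => ?_⟩
      have h2 := congrArg (fun m : Additive V => (m.toMul : G))
        (LinearMap.congr_fun (htoK (hg.trans (map_one toK).symm)) (Additive.ofMul (⟨v, hv⟩ : V)))
      have h3 : (g : G) * v * (g : G)⁻¹ = v := h2
      exact (mul_inv_eq_iff_eq_mul.mp h3).symm
    rw [hfaith, mem_bot] at h1
    exact Subtype.ext h1
  intro v hv
  set A := lin (φ ⟨x, hxH⟩)
  have hA : A ^ r = 1 := by
    rw [← map_pow, ← map_pow, show (⟨x, hxH⟩ : H) ^ r = 1 from Subtype.ext hxr, map_one, map_one]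
  have hS : ∑ i ∈ Finset.range r, A ^ i = 0 := by
    refine LinearMap.ext fun m => ?_
    rw [LinearMap.zero_apply]
    apply Additive.toMul.injective
    have h1 : A * ∑ i ∈ Finset.range r, A ^ i = ∑ i ∈ Finset.range r, A ^ i := by
      rw [Finset.mul_sum]
      simp only [← pow_succ']
      obtain ⟨s, hs⟩ : ∃ s, r = s + 1 := ⟨r - 1, by have := hr.one_le; omega⟩
      rw [hs] at hA ⊢
      conv_lhs => rw [Finset.sum_range_succ, hA]
      conv_rhs => rw [Finset.sum_range_succ', pow_zero]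
    set w : V := ((∑ i ∈ Finset.range r, A ^ i) m).toMul with hw
    have h2 : x * (w : G) * x⁻¹ = w :=
      congrArg (fun m : Additive V => (m.toMul : G)) (LinearMap.congr_fun h1 m)
    exact Subtype.ext (hfix _ w.2 (mul_inv_eq_iff_eq_mul.mp h2))
  have h2 : ∀ i : ℕ, (toK A ^ i) v = v := by
    intro i
    induction i with
    | zero => simp
    | succ i ih => rw [pow_succ', Module.End.mul_apply, ih]; exact hv
  have h3 := congrArg (fun f => toK f v) hS
  simp only [map_sum, map_zero, map_pow, LinearMap.sum_apply, LinearMap.zero_apply, h2,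
    Finset.sum_const, Finset.card_range] at h3
  rw [← Nat.cast_smul_eq_nsmul K] at h3
  exact (smul_eq_zero.mp h3).resolve_left fun h =>
    hrp (((Nat.prime_dvd_prime_iff_eq hp.out hr).mp ((CharP.cast_eq_zero_iff K p r).mp h)).symm)

end GroupForm

end Cfsg.Lib.FpfExceptional
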