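import Cfsg.Agent.OddLocal.TauTwoLine
import Cfsg.Agent.Coprime.MaximalInvariant
import Mathlib.NumberTheory.Basic
import Mathlib.GroupTheory.Transfer
import Mathlib.FieldTheory.Finite.Basic

/-!
# A subgroup of full exponent acting without fixed points on `M_σ`
-/

set_option linter.unusedSectionVars false
set_option linter.unusedVariables false
set_option linter.style.haveILetI false

namespace Cfsg.Lib.OddLocal.RankTwoMax

open Subgroup Uniqueness Sigma
open Cfsg.Lib.Coprime (conjMap)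
open scoped commutatorElement IsMulCommutative

universe u

variable {G : Type u} [Group G] [Finite G] {M E U A A₀ : Subgroup G} {p : ℕ} [hp : Fact p.Prime]

theorem pow_eq_of_modEq {x : G} {n a b : ℕ} (hx : x ^ n = 1) (h : a ≡ b [MOD n]) : x ^ a = x ^ b :=
  pow_eq_pow_iff_modEq.mpr (h.of_dvd (orderOf_dvd_of_pow_eq_one hx))

/-- A coprime group normalizing a line in the top power layer normalizes a cyclic group over it. -/
theorem exists_invariant_cyclic {T H X : Subgroup G} [hTc : IsMulCommutative T] {k : ℕ}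
    (hexp : ∀ s ∈ T, s ^ p ^ (k + 1) = 1) (hHT : H ≤ normalizer (T : Set G))
    (hcop : (Nat.card H).Coprime p) (hXc : Nat.card X = p) (hHX : H ≤ normalizer (X : Set G)) {x t : G}
    (hx : x ∈ X) (hx1 : x ≠ 1) (ht : t ∈ T) (htx : t ^ p ^ k = x) :
    ∃ C : Subgroup G, C ≤ T ∧ IsCyclic C ∧ X ≤ C ∧ Nat.card C = p ^ (k + 1) ∧ H ≤ normalizer (C : Set G) := by
  classical
  haveI : Fintype H := Fintype.ofFinite H
  have hXz : zpowers x = X := line_eq_of_mem hXc hx hx1
  have hxo : orderOf x = p := by rw [← Nat.card_zpowers, hXz, hXc]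
  have hv : ∀ h : H, ∃ n : ℕ, x ^ n = h * x * (h : G)⁻¹ := fun h =>
    (isOfFinOrder_of_finite x).mem_powers_iff_mem_zpowers.mpr
      (hXz.ge ((mem_normalizer_iff.mp (hHX h.2) x).mp hx))
  choose v hv using hv
  have hxp : x ^ p = 1 := by rw [← hxo, pow_orderOf_eq_one]
  have hmul : ∀ g h : H, v (g * h) ≡ v g * v h [MOD p] := fun g h => by
    rw [← hxo]
    refine pow_eq_pow_iff_modEq.mp ?_
    rw [hv, pow_mul, hv, conj_pow, hv]
    push_cast
    group
  have hone : v 1 ≡ 1 [MOD p] := by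
    rw [← hxo]
    refine pow_eq_pow_iff_modEq.mp ?_
    rw [hv, pow_one, OneMemClass.coe_one, inv_one, one_mul, mul_one]
  set w : H → ℕ := fun h => v h ^ p ^ k with hw
  have hwmul : ∀ g h : H, w (g * h) ≡ w g * w h [MOD p ^ (k + 1)] := fun g h => by
    rw [hw]
    simp only
    rw [← mul_pow, Nat.modEq_iff_dvd]
    push_cast
    exact dvd_sub_pow_of_dvd_sub (by exact_mod_cast Nat.modEq_iff_dvd.mp (hmul g h)) k
  have hwv : ∀ h : H, w h ≡ v h [MOD p] := fun h => by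
    rw [← ZMod.natCast_eq_natCast_iff, hw]
    push_cast
    exact ZMod.pow_card_pow _
  let f : H → T := fun h => ⟨h * t * (h : G)⁻¹, (mem_normalizer_iff.mp (hHT h.2) t).mp ht⟩
  let S : T := ∏ h : H, f h ^ w h⁻¹
  let c : H → (T →* T) := fun g => MonoidHom.mk'
    (fun s => ⟨g * s * (g : G)⁻¹, (mem_normalizer_iff.mp (hHT g.2) s).mp s.2⟩)
    fun a b => Subtype.ext (by simp only [Subgroup.coe_mul]; group)
  have hf : ∀ g h : H, c g (f h) = f (g * h) := fun g h => Subtype.ext (by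
    show (g : G) * (h * t * (h : G)⁻¹) * (g : G)⁻¹ = _
    show _ = ((g * h : H) : G) * t * ((g * h : H) : G)⁻¹
    push_cast
    group)
  have hconj : ∀ g : H, c g S = S ^ w g := fun g => by
    show c g (∏ h : H, f h ^ w h⁻¹) = (∏ h : H, f h ^ w h⁻¹) ^ w g
    rw [map_prod, ← Finset.prod_pow]
    refine Fintype.prod_equiv (Equiv.mulLeft g) _ _ fun h => ?_
    rw [map_pow, hf, Equiv.coe_mulLeft, ← pow_mul]
    refine Subtype.ext ?_
    rw [SubgroupClass.coe_pow, SubgroupClass.coe_pow]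
    refine pow_eq_of_modEq (hexp _ (f (g * h)).2) ?_
    have h1 := hwmul (g * h)⁻¹ g
    rwa [show (g * h)⁻¹ * g = h⁻¹ by group] at h1
  have hS : (S : G) ^ p ^ (k + 1) = 1 := hexp _ S.2
  have hfx : ∀ h : H, ((f h ^ p ^ k : T) : G) = x ^ v h := fun h => by
    rw [SubgroupClass.coe_pow, hv]
    show (h * t * (h : G)⁻¹) ^ p ^ k = _
    rw [conj_pow, htx]
  have hSx : (S : G) ^ p ^ k = x ^ ∑ h : H, v h * w h⁻¹ := by
    let xT : T := ⟨x, htx ▸ pow_mem ht _⟩
    have h1 : S ^ p ^ k = xT ^ ∑ h : H, v h * w h⁻¹ := by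
      rw [← Finset.prod_pow_eq_pow_sum]
      show (∏ h : H, f h ^ w h⁻¹) ^ p ^ k = _
      rw [← Finset.prod_pow]
      refine Finset.prod_congr rfl fun h _ => ?_
      rw [← pow_mul, mul_comm, pow_mul, pow_mul]
      congr 1
      exact Subtype.ext (by rw [hfx, SubgroupClass.coe_pow])
    simpa [xT] using congrArg Subtype.val h1
  have hsum : ¬ p ∣ ∑ h : H, v h * w h⁻¹ := by
    intro hd
    have h1 : ((∑ h : H, v h * w h⁻¹ : ℕ) : ZMod p) = 0 := (ZMod.natCast_eq_zero_iff ..).mpr hd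
    rw [Nat.cast_sum] at h1
    have h2 : ∀ h : H, ((v h * w h⁻¹ : ℕ) : ZMod p) = 1 := fun h => by
      rw [← Nat.cast_one (R := ZMod p), ZMod.natCast_eq_natCast_iff]
      refine ((hwv h⁻¹).mul_left _).trans ((hmul h h⁻¹).symm.trans ?_)
      rw [mul_inv_cancel]
      exact hone
    rw [Finset.sum_congr rfl fun h _ => h2 h, Finset.sum_const, Finset.card_univ, nsmul_one,
      ZMod.natCast_eq_zero_iff, ← Nat.card_eq_fintype_card] at h1
    exact (hp.out.coprime_iff_not_dvd.mp hcop.symm) h1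
  have hSk : (S : G) ^ p ^ k ≠ 1 := by
    rw [hSx]
    exact fun h1 => hsum (hxo ▸ orderOf_dvd_of_pow_eq_one h1)
  have hSo : orderOf (S : G) = p ^ (k + 1) := orderOf_eq_prime_pow hSk hS
  refine ⟨zpowers (S : G), zpowers_le.mpr S.2, inferInstance, ?_, by rw [Nat.card_zpowers, hSo], ?_⟩
  · have hmem : x ^ (∑ h : H, v h * w h⁻¹) ∈ zpowers (S : G) := hSx ▸ pow_mem (mem_zpowers _) _
    rw [← line_eq_of_mem hXc (pow_mem hx _) (hSx ▸ hSk)]
    exact zpowers_le.mpr hmem
  · intro g hg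
    refine Cfsg.Lib.Coprime.conjMap_eq_self_iff.mp (Cfsg.Lib.Coprime.eq_of_le_of_card_eq ?_
      (Cfsg.Lib.Coprime.card_conjMap g _))
    show (zpowers (S : G)).map _ ≤ _
    rw [MonoidHom.map_zpowers]
    refine zpowers_le.mpr ?_
    show g * (S : G) * g⁻¹ ∈ zpowers (S : G)
    have h1 := congrArg Subtype.val (hconj ⟨g, hg⟩)
    rw [show g * (S : G) * g⁻¹ = ((c ⟨g, hg⟩ S : T) : G) from rfl, h1, SubgroupClass.coe_pow]
    exact pow_mem (mem_zpowers _) _

/-- The subgroup of `n`-th powers of an abelian subgroup. -/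
def powSubgroup (T : Subgroup G) [IsMulCommutative T] (n : ℕ) : Subgroup G :=
  (powMonoidHom n : T →* T).range.map T.subtype

theorem mem_powSubgroup {T : Subgroup G} [IsMulCommutative T] {n : ℕ} {x : G} :
    x ∈ powSubgroup T n ↔ ∃ s ∈ T, s ^ n = x := by
  constructor
  · rintro ⟨_, ⟨s, rfl⟩, rfl⟩
    exact ⟨s, s.2, rfl⟩
  · rintro ⟨s, hs, rfl⟩
    exact ⟨_, ⟨⟨s, hs⟩, rfl⟩, rfl⟩

/-- A cyclic subgroup of full exponent of a Sylow group, fixed point free on `M_σ`. -/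
theorem Exc.free_cyclic (hG : Cfsg.IsMinSimpleOddOrder G) (h : Exc p M A A₀)
    (hE : Cfsg.IsComplIn E (Cfsg.sigmaCore M) M) (hAE : A ≤ E) (hUE : U ≤ E)
    (hfree : ∀ t : ℕ, t.Prime → t ∉ Cfsg.sigma M → Cfsg.PRankLE t 1 M → ∀ a ∈ U, orderOf a = t →
      Cfsg.sigmaCore M ⊓ centralizer ({a} : Set G) = ⊥)
    {S H : Subgroup G} (hS : IsSylowOf p S M) (hAS : A ≤ S) (hHU : H ≤ U) (hHS : H ≤ normalizer (S : Set G))
    (hcop : (Nat.card H).Coprime p) :
    ∃ C : Subgroup G, C ≤ S ∧ H ≤ normalizer (C : Set G) ∧ (∀ s ∈ S, orderOf s ∣ Nat.card C) ∧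
      IsCyclic C ∧ ∀ c ∈ C, c ≠ 1 → Cfsg.sigmaCore M ⊓ centralizer ({c} : Set G) = ⊥ := by
  have hM := h.coatom
  haveI hSc : IsMulCommutative S := h.comm hG hS hAS
  obtain ⟨s₀, hs₀⟩ := Monoid.exists_orderOf_eq_exponent (Monoid.ExponentExists.of_finite (G := S))
  obtain ⟨j, hj⟩ := IsPGroup.iff_orderOf.mp hS.2.1 s₀
  have hexpS : ∀ s ∈ S, s ^ p ^ j = 1 := fun s hs => by
    have h1 := Monoid.pow_exponent_eq_one (⟨s, hs⟩ : S)
    rw [← hs₀, hj] at h1
    simpa using congrArg Subtype.val h1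
  rcases j with _ | k
  · refine absurd (eq_bot_iff.mpr fun a ha => ?_) (h.maxSq hG).ne_bot
    rw [mem_bot]
    simpa using hexpS a (hAS ha)
  set V := powSubgroup S (p ^ k) with hV
  have hVA : V ≤ A := fun x hx => by
    obtain ⟨s, hs, rfl⟩ := mem_powSubgroup.mp hx
    exact (h.mem_iff hG hS hAS (pow_mem hs _)).mp (by rw [← pow_mul, ← pow_succ, hexpS s hs])
  have hV1 : V ≠ ⊥ := fun h0 => by
    have h1 : ((s₀ : S) : G) ^ p ^ k = 1 := mem_bot.mp (h0.le (mem_powSubgroup.mpr ⟨_, s₀.2, rfl⟩))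
    have h2 := orderOf_dvd_of_pow_eq_one h1
    rw [orderOf_coe, hj, Nat.pow_dvd_pow_iff_le_right hp.out.one_lt] at h2
    omega
  obtain ⟨⟨hEA, -⟩, -, huniq⟩ := tau_two_complement hG hM h.not_sigma hE hAE h.ea h.card
  obtain ⟨X, hXV, hXc, hHX, hXf⟩ : ∃ X : Subgroup G, X ≤ V ∧ Nat.card X = p ∧ H ≤ normalizer (X : Set G) ∧
      Cfsg.sigmaCore M ⊓ centralizer (X : Set G) = ⊥ := by
    obtain ⟨i, hi, hic⟩ := (Nat.dvd_prime_pow hp.out).mp (h.card ▸ card_dvd_of_le hVA)
    rcases (show i = 0 ∨ i = 1 ∨ i = 2 by omega) with rfl | rfl | rfl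
    · exact absurd (eq_bot_of_card_eq _ (by rw [hic, pow_zero])) hV1
    · rw [pow_one] at hic
      have hNV : normalizer (S : Set G) ≤ normalizer (V : Set G) := fun g hg =>
        Cfsg.Lib.Coprime.conjMap_eq_self_iff.mp (Cfsg.Lib.Coprime.eq_of_le_of_card_eq (by
          rintro _ ⟨x, hx, rfl⟩
          obtain ⟨s, hs, rfl⟩ := mem_powSubgroup.mp hx
          exact mem_powSubgroup.mpr ⟨g * s * g⁻¹, (mem_normalizer_iff.mp hg s).mp hs, by
            show _ = g * s ^ p ^ k * g⁻¹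
            rw [conj_pow]⟩) (Cfsg.Lib.Coprime.card_conjMap g V))
      refine ⟨V, le_rfl, hic, hHS.trans hNV, ?_⟩
      by_contra hne
      exact sylow_normalizer_not_le h.not_sigma
        ((dvd_of_eq hic.symm).trans (card_dvd_of_le (hVA.trans h.le))) hS
        (hNV.trans (normalizer_le_of_unique hG hM hV1 (hVA.trans h.le)
          fun N hN hle => (huniq V hVA hic hne).2 N hN hle))
    · have hVeq : V = A := Cfsg.Lib.Coprime.eq_of_le_of_card_eq hVA (hic.trans h.card.symm)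
      obtain ⟨P, hP⟩ := hS.2.1.exists_le_sylow
      by_cases hPc : IsMulCommutative (P : Subgroup G)
      · obtain ⟨X, hXA, hXc, hUX, hXf⟩ := h.free_line hG hE hAE P hPc (hAS.trans hP) hUE hfree
        exact ⟨X, hVeq.ge.trans' hXA, hXc, hHU.trans hUX, hXf⟩
      have hτ : p ∈ Cfsg.tau2 M := ⟨hp.out, h.not_sigma, pRankLE_of_not_sigma hG hM h.not_sigma,
        not_pRankLE_of h.ea h.le (k := 1) h.card.ge⟩
      have hna : ∀ T : Sylow p G, ¬ IsMulCommutative (T : Subgroup G) := fun T hT => hPc (sylow_comm_all hT)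
      rcases k with _ | k
      swap
      · obtain ⟨D, hD, hpow⟩ := (h.maxSq hG).pow_cyclic hG P (hAS.trans hP) hPc
        refine absurd ?_ (not_isCyclic_of_card h.ea.2 h.card.ge)
        haveI := hD
        refine isCyclic_of_injective (inclusion (?_ : A ≤ D)) (inclusion_injective _)
        intro a ha
        obtain ⟨s, hs, rfl⟩ := mem_powSubgroup.mp (hVeq.ge ha)
        rw [pow_succ, pow_mul]
        exact hpow _ ⟨hP (pow_mem hs _), h.central hG hS hAS (pow_mem hs _)⟩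
      obtain ⟨-, ⟨hZc, -⟩, hlines⟩ := tau_two_nonabelian hG hM hE hτ hna hAE h.ea h.card
      set Z := A ⊓ centralizer (Cfsg.sigmaCore M : Set G) with hZ
      have hHA : H ≤ normalizer (A : Set G) := (hHU.trans hUE).trans hEA
      have hHZ : H ≤ normalizer (Z : Set G) := Cfsg.Lib.Coprime.le_normalizer_inf hHA
        (((hHU.trans hUE).trans hE.1).trans ((le_normalizer_sigmaCore M).trans
          (FittingParts.normalizer_centralizer_le _)))
      have hAcomm : ∀ a b : A, a * b = b * a := fun a b =>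
        Subtype.ext (ThompsonTransitivity.mul_comm_of h.ea.1 a.2 b.2)
      letI : CommGroup A := { (inferInstance : Group A) with mul_comm := hAcomm }
      let σ : H →* MulAut A := (normalizerMonoidHom A).comp (inclusion hHA)
      obtain ⟨C₁, hd, hs, hinv⟩ := Cfsg.Lib.Coprime.MaximalInvariant.exists_invariant_complement (V := A) (A := H) (p := p)
        (fun a b => mul_comm a b) (fun a => Subtype.ext (by rw [SubgroupClass.coe_pow]; exact h.ea.2 a a.2))
        (hp.out.coprime_iff_not_dvd.mp hcop.symm) σ (Z.subgroupOf A) fun g a ha => by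
          show (g : G) * (a : G) * (g : G)⁻¹ ∈ Z
          exact (mem_normalizer_iff.mp (hHZ g.2) _).mp ha
      haveI : (Z.subgroupOf A).Normal := ⟨fun n hn g => by rwa [mul_comm g, mul_inv_cancel_right]⟩
      have hc1 : Nat.card (Z.subgroupOf A) * Nat.card C₁ = p ^ 2 := by
        rw [← Cfsg.Lib.Coprime.card_sup_of_inf_eq_bot (N := Z.subgroupOf A) (H := C₁)
          (fun x _ => by rw [normalizer_eq_top]; exact mem_top x) hd, hs, card_top, h.card]
      rw [Nat.card_congr (subgroupOfEquivOfLe (inf_le_left : Z ≤ A)).toEquiv, hZc, pow_two] at hc1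
      have hC₁c : Nat.card C₁ = p := Nat.eq_of_mul_eq_mul_left hp.out.pos hc1
      refine ⟨C₁.map A.subtype, (map_subtype_le _).trans hVeq.ge,
        by rw [card_map_of_injective A.subtype_injective, hC₁c], fun g hg => ?_, ?_⟩
      · refine Cfsg.Lib.Coprime.conjMap_eq_self_iff.mp (Cfsg.Lib.Coprime.eq_of_le_of_card_eq ?_
          (Cfsg.Lib.Coprime.card_conjMap g _))
        rintro _ ⟨_, ⟨a, ha, rfl⟩, rfl⟩
        exact ⟨_, hinv ⟨g, hg⟩ a ha, rfl⟩
      · refine (hlines (C₁.map A.subtype) ((map_subtype_le _).trans hAE)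
          (by rw [card_map_of_injective A.subtype_injective, hC₁c]) fun he => ?_).1
        have h1 : Z.subgroupOf A = C₁ := by
          rw [← he, subgroupOf, comap_map_eq_self_of_injective A.subtype_injective]
        rw [h1, inf_idem] at hd
        rw [hd, card_bot] at hC₁c
        exact hp.out.ne_one hC₁c.symm
  obtain ⟨x, hx, hxo⟩ := ScnUniqueness.exists_orderOf (isPGroup_of_card (p := p) hXc) (line_ne_bot hXc)
  have hx1 : x ≠ 1 := fun hh => hp.out.ne_one (by rw [← hxo, hh, orderOf_one])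
  obtain ⟨t, ht, htx⟩ := mem_powSubgroup.mp (hXV hx)
  obtain ⟨C, hCS, hCc, hXC, hCcard, hHC⟩ := exists_invariant_cyclic hexpS hHS hcop hXc hHX hx hx1 ht htx
  refine ⟨C, hCS, hHC, fun s hs => hCcard ▸ orderOf_dvd_of_pow_eq_one (hexpS s hs), hCc, fun c hc hc1 => ?_⟩
  refine le_bot_iff.mp (le_trans (le_inf inf_le_left ?_) hXf.le)
  obtain ⟨y, hy, hyo⟩ := ScnUniqueness.exists_orderOf (hS.2.1.to_le ((zpowers_le.mpr hc).trans hCS))
    (fun h0 => hc1 (zpowers_eq_bot.mp h0))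
  have hXz : zpowers y = X := eq_of_cyclic hCc ((zpowers_le.mpr hy).trans (zpowers_le.mpr hc)) hXC
    (by rw [Nat.card_zpowers, hyo, hXc])
  refine inf_le_right.trans ?_
  rw [← hXz, ← Cfsg.Lib.Coprime.centralizer_zpowers c]
  exact Subgroup.centralizer_le (SetLike.coe_subset_coe.mpr (zpowers_le.mpr hy))

/-- An element centralizing `A` and normalizing an abelian Sylow group over `A` centralizes it. -/
theorem Exc.centralizes_sylow (hG : Cfsg.IsMinSimpleOddOrder G) (h : Exc p M A A₀) {S : Subgroup G}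
    (hS : IsSylowOf p S M) (hAS : A ≤ S) {x : G} (hxM : x ∈ M) (hxA : x ∈ centralizer (A : Set G))
    (hxS : x ∈ normalizer (S : Set G)) : x ∈ centralizer (S : Set G) := by
  haveI hSc : IsMulCommutative S := h.comm hG hS hAS
  refine zpowers_le.mp (Cfsg.Lib.Coprime.le_of_forall_sylow fun t ht => ?_)
  haveI := Fact.mk ht
  obtain ⟨R₀⟩ : Nonempty (Sylow t (zpowers x)) := inferInstance
  refine ⟨R₀, ?_⟩
  set R := (R₀ : Subgroup (zpowers x)).map (zpowers x).subtype with hR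
  have hRx : R ≤ zpowers x := map_subtype_le _
  have hRS : R ≤ normalizer (S : Set G) := hRx.trans (zpowers_le.mpr hxS)
  by_cases htp : t = p
  · subst htp
    intro y hy
    have hyS : y ∈ S := hS.mem_of_centralizes (zpowers_le.mpr hxM (hRx hy)) (hRS hy)
      ((R₀.2.map _).to_le (zpowers_le.mpr hy))
    exact mem_centralizer_iff.mpr fun s hs => ThompsonTransitivity.mul_comm_of hSc hs hyS
  obtain ⟨i, hi⟩ := IsPGroup.iff_card.mp (R₀.2.map (zpowers x).subtype : IsPGroup t R)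
  obtain ⟨j, hj⟩ := IsPGroup.iff_card.mp hS.2.1
  obtain ⟨hd, hs⟩ := Cfsg.Lib.Coprime.abelian_coprime_decomp hRS
    (by rw [hi, hj]; exact Nat.Coprime.pow i j ((Nat.coprime_primes ht hp.out).mpr htp))
  by_cases hb : ⁅S, R⁆ = ⊥
  · rw [hb, sup_bot_eq] at hs
    exact le_centralizer_iff.mp (hs.ge.trans inf_le_right)
  exfalso
  have hDS : ⁅S, R⁆ ≤ S := Cfsg.Lib.Coprime.commutator_le_of_le_normalizer hRS
  obtain ⟨y, hy, hyo⟩ := ScnUniqueness.exists_orderOf (hS.2.1.to_le hDS) hb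
  have hyA : y ∈ A := (h.mem_iff hG hS hAS (hDS hy)).mp (hyo ▸ pow_orderOf_eq_one y)
  refine hp.out.ne_one (hyo ▸ orderOf_eq_one_iff.mpr (mem_bot.mp (hd.le ⟨⟨hDS hy, ?_⟩, hy⟩)))
  exact mem_centralizer_iff.mpr fun r hr =>
    (mem_centralizer_iff.mp (zpowers_le.mpr hxA (hRx hr)) y hyA).symm

/-- The property of a subgroup for one prime of `τ₂(M)`. -/
def FreeAt (M U F : Subgroup G) (p : ℕ) : Prop :=
  (∀ u ∈ F, u ≠ 1 → IsPGroup p (zpowers u) → Cfsg.sigmaCore M ⊓ centralizer ({u} : Set G) = ⊥) ∧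
    ∃ c ∈ F, IsPGroup p (zpowers c) ∧ ∀ u ∈ U, IsPGroup p (zpowers u) → orderOf u ∣ orderOf c

theorem conj_orderOf (g x : G) : orderOf (g * x * g⁻¹) = orderOf x :=
  orderOf_injective (MulAut.conj g).toMonoidHom (MulAut.conj g).injective x

theorem conj_mem_of_sylowOf {R R' X : Subgroup G} (h : IsSylowOf p R X) (h' : IsSylowOf p R' X) :
    ∃ m ∈ X, ∀ x ∈ R, m * x * m⁻¹ ∈ R' := by
  obtain ⟨m, hm, rfl⟩ := card_eq_of_sylowOf h h'
  exact ⟨m, hm, fun x hx => ⟨x, hx, rfl⟩⟩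

/-- The fixed point free subgroup for one prime. -/
theorem exists_free_prime (hG : Cfsg.IsMinSimpleOddOrder G) (hM : IsCoatom M)
    (hE : Cfsg.IsComplIn E (Cfsg.sigmaCore M) M) (hUE : U ≤ E) (hUn : E ≤ normalizer (U : Set G))
    (hτp : ∀ X : Subgroup G, IsPGroup p X → X ≤ E → X ≤ U)
    (hfree : ∀ t : ℕ, t.Prime → t ∉ Cfsg.sigma M → Cfsg.PRankLE t 1 M → ∀ a ∈ U, orderOf a = t →
      Cfsg.sigmaCore M ⊓ centralizer ({a} : Set G) = ⊥) (hτ : p ∈ Cfsg.tau2 M) :
    ∃ F : Subgroup G, F ≤ U ∧ (∀ r : ℕ, r.Prime → r ∣ F.relIndex U → r = p) ∧ FreeAt M U F p := by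
  obtain ⟨A, hAE, hA, hAc⟩ := exists_sq_complement hG hM hE hτ
  obtain ⟨A₀, h⟩ := exists_exc hG hM hτ.2.1 (hAE.trans hE.1) hA hAc
  have hAp : IsPGroup p A := (h.maxSq hG).isPGroup
  have hAU : A ≤ U := hτp A hAp hAE
  obtain ⟨S, hS, hAS⟩ := exists_sylowOf (M := U) hAp hAU
  have hSE : IsSylowOf p S E := ⟨hS.1.trans hUE, hS.2.1, fun X hX hXE hle => hS.2.2 X hX (hτp X hX hXE) hle⟩
  have hSM : IsSylowOf p S M := by
    obtain ⟨T, hT⟩ := hSE.exists_sylow
    exact hT ▸ isSylowOf_complement hG hM hE hτ.2.1 T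
  haveI hSc : IsMulCommutative S := h.comm hG hSM hAS
  have hUA : U ≤ normalizer (A : Set G) := hUE.trans (h.le_normalizer hG hE hAE)
  set C₁ := U ⊓ centralizer (A : Set G) with hC₁
  have hC₁n : U ≤ normalizer (C₁ : Set G) := Cfsg.Lib.Coprime.le_normalizer_inf le_normalizer
    (hUA.trans (FittingParts.normalizer_centralizer_le A))
  have hSC : IsSylowOf p S C₁ :=
    ⟨le_inf hS.1 (h.central hG hSM hAS), hS.2.1, fun X hX hXC hle => hS.2.2 X hX (hXC.trans inf_le_left) hle⟩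
  obtain ⟨P, hP⟩ := hSC.exists_sylow
  have hPN : normalizer ((P : Subgroup C₁) : Set C₁) ≤ centralizer ((P : Subgroup C₁) : Set C₁) := by
    intro x hx
    have hxS : (x : G) ∈ normalizer (S : Set G) := by
      rw [← hP]
      exact le_normalizer_map C₁.subtype (mem_map_of_mem _ hx)
    have h1 := h.centralizes_sylow hG hSM hAS (hE.1 (hUE x.2.1)) x.2.2 hxS
    exact mem_centralizer_iff.mpr fun y hy => Subtype.ext
      (mem_centralizer_iff.mp h1 y (hP ▸ mem_map_of_mem _ hy))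
  set W₁ := (MonoidHom.transferSylow P hPN).ker with hW₁
  set W := W₁.map C₁.subtype with hW
  have hWC : W ≤ C₁ := map_subtype_le _
  have hWp : ¬ p ∣ Nat.card W := by
    rw [hW, card_map_of_injective C₁.subtype_injective]
    exact MonoidHom.not_dvd_card_ker_transferSylow P hPN
  have hWmem : ∀ y ∈ C₁, (orderOf y).Coprime p → y ∈ W := fun y hy hyo => by
    refine ⟨⟨y, hy⟩, MonoidHom.mem_ker.mpr (orderOf_eq_one_iff.mp ?_), rfl⟩
    obtain ⟨i, hi⟩ := IsPGroup.iff_orderOf.mp P.2 (MonoidHom.transferSylow P hPN ⟨y, hy⟩)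
    refine Nat.eq_one_of_dvd_coprimes (hyo.pow_right i) ?_ (hi ▸ dvd_rfl)
    exact (orderOf_map_dvd _ _).trans (by rw [Subgroup.orderOf_mk])
  have hWn : U ≤ normalizer (W : Set G) := fun u hu => by
    refine Cfsg.Lib.Coprime.conjMap_eq_self_iff.mp (Cfsg.Lib.Coprime.eq_of_le_of_card_eq ?_
      (Cfsg.Lib.Coprime.card_conjMap u W))
    rintro _ ⟨w, hw, rfl⟩
    refine hWmem _ ((mem_normalizer_iff.mp (hC₁n hu) w).mp (hWC hw)) ?_
    show (orderOf (u * w * u⁻¹)).Coprime p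
    rw [conj_orderOf]
    refine (hp.out.coprime_iff_not_dvd.mpr fun hd => hWp (hd.trans ?_)).symm
    rw [← Nat.card_zpowers]; exact card_dvd_of_le (zpowers_le.mpr hw)
  have hsup : W ⊔ S = C₁ := by
    have h1 := (MonoidHom.ker_transferSylow_isComplement' P hPN).sup_eq_top
    have h2 := congrArg (Subgroup.map C₁.subtype) h1
    rw [Subgroup.map_sup, hP, ← MonoidHom.range_eq_map, C₁.range_subtype] at h2
    exact h2
  set N := U ⊓ normalizer (S : Set G) with hN
  have hfr : W ⊔ N = U := by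
    refine le_antisymm (sup_le (hWC.trans inf_le_left) inf_le_left) fun u hu => ?_
    have hcS : IsSylowOf p (conjMap u S) C₁ := ⟨(Cfsg.Lib.Coprime.conjMap_mono hSC.1).trans
        (Cfsg.Lib.Coprime.conjMap_eq_self (hC₁n hu)).le, hS.2.1.map _, fun X hX hXC hle => by
          have h1 : conjMap u⁻¹ X ≤ C₁ := (Cfsg.Lib.Coprime.conjMap_mono hXC).trans
            (Cfsg.Lib.Coprime.conjMap_eq_self (hC₁n (inv_mem hu))).le
          have h2 := hSC.2.2 (conjMap u⁻¹ X) (hX.map _) h1 (by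
            have h3 := Cfsg.Lib.Coprime.conjMap_mono (g := u⁻¹) hle
            rwa [Cfsg.Lib.Coprime.conjMap_inv_conjMap] at h3)
          rw [← h2, Cfsg.Lib.Coprime.conjMap_conjMap_inv]⟩
    obtain ⟨m, hm, hmS⟩ := card_eq_of_sylowOf hSC hcS
    have h1 : m⁻¹ * u ∈ N := ⟨Subgroup.mul_mem _ (Subgroup.inv_mem _ hm.1) hu, Cfsg.Lib.Coprime.conjMap_eq_self_iff.mp (by
      rw [← Cfsg.Lib.Coprime.conjMap_mul, ← hmS, Cfsg.Lib.Coprime.conjMap_inv_conjMap])⟩
    rw [show u = m * (m⁻¹ * u) by group]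
    exact mul_mem (sup_le le_sup_left ((le_inf hS.1 le_normalizer).trans le_sup_right) (hsup.ge hm))
      (mem_sup_right h1)
  have hSN : S ≤ N := le_inf hS.1 le_normalizer
  obtain ⟨k, hk⟩ := IsPGroup.iff_card.mp hS.2.1
  have hrelS : ¬ p ∣ S.relIndex N := fun hd => by
    obtain ⟨S', hS'⟩ := hS.exists_sylow
    refine S'.not_dvd_index ?_
    have h1 : p ∣ S.relIndex U := hd.trans (by
      rw [← relIndex_mul_relIndex S N U hSN inf_le_left]; exact dvd_mul_right _ _)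
    rwa [← hS', relIndex, subgroupOf, comap_map_eq_self_of_injective U.subtype_injective] at h1
  have hcop : (Nat.card S).Coprime (S.relIndex N) := by
    rw [hk]; exact (hp.out.coprime_iff_not_dvd.mpr hrelS).pow_left k
  obtain ⟨H, hHN, hSH, hHc⟩ := Cfsg.Lib.Coprime.exists_complement_in hSN inf_le_right hcop
  have hHp : (Nat.card H).Coprime p := by
    rw [hHc]; exact (hp.out.coprime_iff_not_dvd.mpr hrelS).symm
  obtain ⟨C, hCS, hHC, hCexp, hCc, hCfree⟩ := h.free_cyclic hG hE hAE hUE hfree hSM hAS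
    (hHN.trans inf_le_left) (hHN.trans inf_le_right) hHp
  have hCHN : C ⊔ H ≤ N := sup_le (hCS.trans hSN) hHN
  set F := W ⊔ (C ⊔ H) with hF
  have hFU : F ≤ U := hfr ▸ sup_le_sup_left hCHN W
  have hc1 : Nat.card ↥(C ⊔ H) = Nat.card C * Nat.card H := Cfsg.Lib.Coprime.card_sup_coprime hHC
    ((hcop.coprime_dvd_left (card_dvd_of_le hCS)).coprime_dvd_right (dvd_of_eq hHc))
  have hc2 : Nat.card N = Nat.card S * Nat.card H := by rw [hHc, card_mul_relIndex hSN]
  have hF1 : Nat.card F * Nat.card ↥(W ⊓ (C ⊔ H)) = Nat.card W * (Nat.card C * Nat.card H) := by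
    rw [hF, Cfsg.Lib.Coprime.card_sup_mul_card_inf (hCHN.trans (inf_le_left.trans hWn)), hc1]
  have hU1 : Nat.card U * Nat.card ↥(W ⊓ N) = Nat.card W * (Nat.card S * Nat.card H) := by
    have h1 := Cfsg.Lib.Coprime.card_sup_mul_card_inf (N := W) (H := N) (inf_le_left.trans hWn)
    rwa [hfr, hc2] at h1
  refine ⟨F, hFU, ?_, ?_, ?_⟩
  · intro r hr hd
    obtain ⟨a, ha⟩ := card_dvd_of_le (inf_le_inf_left W hCHN)
    have h2 : F.relIndex U * a * Nat.card C = Nat.card S := by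
      have hpos : 0 < Nat.card W * Nat.card H := Nat.mul_pos Nat.card_pos Nat.card_pos
      refine Nat.eq_of_mul_eq_mul_left hpos ?_
      calc Nat.card W * Nat.card H * (F.relIndex U * a * Nat.card C)
          = F.relIndex U * a * (Nat.card W * (Nat.card C * Nat.card H)) := by ring
        _ = F.relIndex U * a * (Nat.card F * Nat.card ↥(W ⊓ (C ⊔ H))) := by rw [hF1]
        _ = Nat.card F * F.relIndex U * (Nat.card ↥(W ⊓ (C ⊔ H)) * a) := by ring
        _ = Nat.card U * Nat.card ↥(W ⊓ N) := by rw [card_mul_relIndex hFU, ← ha]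
        _ = _ := by rw [hU1]; ring
    refine eq_of_dvd_pgroup hS.2.1 hr (hd.trans ?_)
    rw [← h2, mul_assoc]
    exact dvd_mul_right _ _
  · have hCF : IsSylowOf p C F := by
      refine ⟨le_sup_left.trans le_sup_right, hS.2.1.to_le hCS, fun X hX hXF hle => ?_⟩
      refine (eq_of_le_of_card_ge hle (Nat.le_of_dvd Nat.card_pos ?_)).symm
      obtain ⟨i, hi⟩ := IsPGroup.iff_card.mp hX
      have h1 : Nat.card X ∣ Nat.card W * (Nat.card C * Nat.card H) :=
        (card_dvd_of_le hXF).trans (hF1 ▸ dvd_mul_right _ _)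
      rw [hi] at h1 ⊢
      exact (hHp.symm.pow_left i).dvd_of_dvd_mul_right
        (((hp.out.coprime_iff_not_dvd.mpr hWp).pow_left i).dvd_of_dvd_mul_left h1)
    intro u hu hu1 hup
    obtain ⟨R, hR, huR⟩ := exists_sylowOf (M := F) hup (zpowers_le.mpr hu)
    obtain ⟨m, hm, hmC⟩ := conj_mem_of_sylowOf hR hCF
    refine le_bot_iff.mp fun z hz => ?_
    have h1 := hCfree (m * u * m⁻¹) (hmC u (huR (mem_zpowers u))) (by rwa [Ne, conj_eq_one_iff])
    have hmM : m ∈ M := hE.1 (hUE (hFU hm))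
    have h2 : m * z * m⁻¹ ∈ Cfsg.sigmaCore M ⊓ centralizer ({m * u * m⁻¹} : Set G) := by
      refine ⟨(mem_normalizer_iff.mp (le_normalizer_sigmaCore M hmM) z).mp hz.1,
        mem_centralizer_singleton_iff.mpr ?_⟩
      rw [show m * z * m⁻¹ * (m * u * m⁻¹) = m * (z * u) * m⁻¹ by group,
        show m * u * m⁻¹ * (m * z * m⁻¹) = m * (u * z) * m⁻¹ by group,
        mem_centralizer_singleton_iff.mp hz.2]
    rw [h1, mem_bot, conj_eq_one_iff] at h2
    rw [h2]; exact one_mem _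
  · haveI := hCc
    obtain ⟨c, hc⟩ := IsCyclic.exists_ofOrder_eq_natCard (α := C)
    refine ⟨c, mem_sup_right (mem_sup_left c.2), (hS.2.1.to_le hCS).to_le (zpowers_le.mpr c.2),
      fun u hu hup => ?_⟩
    obtain ⟨R, hR, huR⟩ := exists_sylowOf (M := U) hup (zpowers_le.mpr hu)
    obtain ⟨m, -, hmS⟩ := conj_mem_of_sylowOf hR hS
    rw [orderOf_coe, hc, ← conj_orderOf m u]
    exact hCexp _ (hmS u (huR (mem_zpowers u)))

/-- A subgroup of full exponent without fixed points on `M_σ`. -/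
theorem exists_free_subgroup (hG : Cfsg.IsMinSimpleOddOrder G) (hM : IsCoatom M)
    (hE : Cfsg.IsComplIn E (Cfsg.sigmaCore M) M) (hUE : U ≤ E) (hUn : E ≤ normalizer (U : Set G))
    (hτU : ∀ t : ℕ, t ∈ Cfsg.tau2 M → ∀ X : Subgroup G, IsPGroup t X → X ≤ E → X ≤ U)
    (hfree : ∀ t : ℕ, t.Prime → t ∉ Cfsg.sigma M → Cfsg.PRankLE t 1 M → ∀ a ∈ U, orderOf a = t →
      Cfsg.sigmaCore M ⊓ centralizer ({a} : Set G) = ⊥) :
    ∃ U₀ : Subgroup G, U₀ ≤ U ∧ Monoid.exponent U₀ = Monoid.exponent U ∧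
      ∀ u ∈ U₀, u ≠ 1 → Cfsg.sigmaCore M ⊓ centralizer ({u} : Set G) = ⊥ := by
  classical
  have key : ∀ s : Finset ℕ, (∀ t ∈ s, t ∈ Cfsg.tau2 M) → ∃ F : Subgroup G, F ≤ U ∧
      (∀ r : ℕ, r.Prime → r ∣ F.relIndex U → r ∈ s) ∧ ∀ t ∈ s, FreeAt M U F t := by
    intro s
    induction s using Finset.induction with
    | empty =>
      exact fun _ => ⟨U, le_rfl, fun r hr hd => absurd (by simpa using hd) hr.ne_one,
        fun t ht => absurd ht (Finset.notMem_empty t)⟩
    | insert p s hps ih =>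
      intro hs
      have hτ : p ∈ Cfsg.tau2 M := hs p (Finset.mem_insert_self p s)
      haveI := Fact.mk hτ.1
      obtain ⟨F, hFU, hFi, hFfree⟩ := ih fun t ht => hs t (Finset.mem_insert_of_mem ht)
      obtain ⟨F', hF'U, hF'i, hF'free⟩ :=
        exists_free_prime hG hM hE hUE hUn (fun X hX hXE => hτU p hτ X hX hXE) hfree hτ
      have hcop : (F.relIndex U).Coprime (F'.relIndex U) := Nat.coprime_of_dvd fun r hr h1 h2 =>
        hps (hF'i r hr h2 ▸ hFi r hr h1)
      have hidx : (F ⊓ F').relIndex U = F.relIndex U * F'.relIndex U :=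
        (Cfsg.Lib.Coprime.inf_index_of_coprime (F.subgroupOf U) (F'.subgroupOf U) hcop).1
      refine ⟨F ⊓ F', inf_le_left.trans hFU, fun r hr hd => ?_, fun t ht => ?_⟩
      · rw [hidx] at hd
        rcases hr.dvd_mul.mp hd with h | h
        · exact Finset.mem_insert_of_mem (hFi r hr h)
        · exact Finset.mem_insert.mpr (.inl (hF'i r hr h))
      have pick : ∀ (F₁ : Subgroup G), F ⊓ F' ≤ F₁ → F₁ ≤ U → t.Prime →
          ¬ t ∣ (F ⊓ F').relIndex F₁ → FreeAt M U F₁ t → FreeAt M U (F ⊓ F') t := by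
        intro F₁ hle hF₁U ht' hnd hfr
        haveI := Fact.mk ht'
        obtain ⟨c, hc, hcp, hmax⟩ := hfr.2
        refine ⟨fun u hu => hfr.1 u (hle hu), ?_⟩
        obtain ⟨R, hR, hcR⟩ := exists_sylowOf (M := F₁) hcp (zpowers_le.mpr hc)
        obtain ⟨T₀⟩ : Nonempty (Sylow t ↥(F ⊓ F')) := inferInstance
        have hT : IsSylowOf t ((T₀ : Subgroup ↥(F ⊓ F')).map (F ⊓ F').subtype) F₁ := by
          set T := (T₀ : Subgroup ↥(F ⊓ F')).map (F ⊓ F').subtype with hTd
          have hTF : T ≤ F₁ := (map_subtype_le _).trans hle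
          refine ⟨hTF, T₀.2.map _, fun X hX hXF hTX => (eq_of_le_of_card_ge hTX (Nat.le_of_dvd Nat.card_pos ?_)).symm⟩
          obtain ⟨i, hi⟩ := IsPGroup.iff_card.mp hX
          have hTr : ¬ t ∣ T.relIndex (F ⊓ F') := by
            rw [hTd, relIndex, subgroupOf, comap_map_eq_self_of_injective (F ⊓ F').subtype_injective]
            exact T₀.not_dvd_index
          have h1 : Nat.card X ∣ Nat.card T * (T.relIndex (F ⊓ F') * (F ⊓ F').relIndex F₁) := by
            rw [← mul_assoc, card_mul_relIndex (map_subtype_le _), card_mul_relIndex hle]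
            exact card_dvd_of_le hXF
          rw [hi] at h1 ⊢
          exact ((ht'.coprime_iff_not_dvd.mpr fun hd => (ht'.dvd_mul.mp hd).elim hTr hnd).pow_left i)
            |>.dvd_of_dvd_mul_right h1
        obtain ⟨m, -, hmT⟩ := conj_mem_of_sylowOf hR hT
        have hm' := hmT c (hcR (mem_zpowers c))
        exact ⟨m * c * m⁻¹, map_subtype_le _ hm', (T₀.2.map _).to_le (zpowers_le.mpr hm'),
          by rw [conj_orderOf]; exact hmax⟩
      rcases Finset.mem_insert.mp ht with rfl | ht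
      · refine pick F' inf_le_right hF'U hτ.1 (fun hd => hps (hFi t hτ.1 (hd.trans ?_))) hF'free
        have h1 := relIndex_mul_relIndex (F ⊓ F') F' U inf_le_right hF'U
        rw [hidx] at h1
        exact dvd_of_eq (Nat.eq_of_mul_eq_mul_right (Nat.pos_of_ne_zero FiniteIndex.index_ne_zero) h1)
      · have hτt := hs t (Finset.mem_insert_of_mem ht)
        refine pick F inf_le_left hFU hτt.1 (fun hd => hps ?_) (hFfree t ht)
        have h1 := relIndex_mul_relIndex (F ⊓ F') F U inf_le_left hFU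
        rw [hidx, mul_comm] at h1
        have h2 := Nat.eq_of_mul_eq_mul_left (Nat.pos_of_ne_zero FiniteIndex.index_ne_zero) h1
        exact hF'i t hτt.1 (hd.trans (dvd_of_eq h2)) ▸ ht
  obtain ⟨U₀, hU₀, hidx, hfr⟩ := key ((Nat.card U).primeFactors.filter fun t => t ∈ Cfsg.tau2 M)
    fun t ht => (Finset.mem_filter.mp ht).2
  have hUM : U ≤ M := hUE.trans hE.1
  have hmem : ∀ r : ℕ, r.Prime → r ∣ Nat.card U → r ∈ Cfsg.tau2 M →
      r ∈ (Nat.card U).primeFactors.filter fun t => t ∈ Cfsg.tau2 M := fun r hr hd hτ =>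
    Finset.mem_filter.mpr ⟨Nat.mem_primeFactors.mpr ⟨hr, hd, Nat.card_pos.ne'⟩, hτ⟩
  refine ⟨U₀, hU₀, Nat.dvd_antisymm
    (Monoid.exponent_dvd_of_monoidHom (inclusion hU₀) (inclusion_injective _)) ?_, fun u hu hu1 => ?_⟩
  · refine Monoid.exponent_dvd.mpr fun g => ?_
    rw [Nat.dvd_iff_prime_pow_dvd_dvd]
    intro r i hr hd
    haveI := Fact.mk hr
    rcases i with _ | i
    · simp
    set v := (g : G) ^ (orderOf (g : G) / r ^ (i + 1)) with hv
    have hdG : r ^ (i + 1) ∣ orderOf (g : G) := by rwa [orderOf_coe]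
    have hvo : orderOf v = r ^ (i + 1) := orderOf_pow_orderOf_div (orderOf_pos (g : G)).ne' hdG
    have hvp : IsPGroup r (zpowers v) := IsPGroup.iff_card.mpr ⟨i + 1, by rw [Nat.card_zpowers, hvo]⟩
    have hvU : v ∈ U := pow_mem g.2 _
    have hrU : r ∣ Nat.card U := (dvd_pow_self r i.succ_ne_zero).trans
      (hvo ▸ Nat.card_zpowers v ▸ card_dvd_of_le (zpowers_le.mpr hvU))
    rw [← hvo]
    by_cases hrs : r ∈ (Nat.card U).primeFactors.filter fun t => t ∈ Cfsg.tau2 M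
    · obtain ⟨c, hc, -, hmax⟩ := (hfr r hrs).2
      refine (hmax v hvU hvp).trans ?_
      rw [← Subgroup.orderOf_mk c hc]
      exact Monoid.order_dvd_exponent _
    · obtain ⟨R, hR, hvR⟩ := exists_sylowOf (M := U) hvp (zpowers_le.mpr hvU)
      obtain ⟨T₀⟩ : Nonempty (Sylow r U₀) := inferInstance
      have hT : IsSylowOf r ((T₀ : Subgroup U₀).map U₀.subtype) U := by
        set T := (T₀ : Subgroup U₀).map U₀.subtype with hTd
        refine ⟨(map_subtype_le _).trans hU₀, T₀.2.map _, fun X hX hXU hTX =>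
          (eq_of_le_of_card_ge hTX (Nat.le_of_dvd Nat.card_pos ?_)).symm⟩
        obtain ⟨j, hj⟩ := IsPGroup.iff_card.mp hX
        have hTr : ¬ r ∣ T.relIndex U₀ := by
          rw [hTd, relIndex, subgroupOf, comap_map_eq_self_of_injective U₀.subtype_injective]
          exact T₀.not_dvd_index
        have h1 : Nat.card X ∣ Nat.card T * (T.relIndex U₀ * U₀.relIndex U) := by
          rw [← mul_assoc, card_mul_relIndex (map_subtype_le _), card_mul_relIndex hU₀]
          exact card_dvd_of_le hXU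
        rw [hj] at h1 ⊢
        exact ((hr.coprime_iff_not_dvd.mpr fun hd' => (hr.dvd_mul.mp hd').elim hTr
          fun h2 => hrs (hidx r hr h2)).pow_left j).dvd_of_dvd_mul_right h1
      obtain ⟨m, -, hmT⟩ := conj_mem_of_sylowOf hR hT
      rw [← conj_orderOf m v, ← Subgroup.orderOf_mk _ (map_subtype_le _ (hmT v (hvR (mem_zpowers v))))]
      exact Monoid.order_dvd_exponent _
  · obtain ⟨b, hb, hbp, hbC⟩ := exists_prime_pow_mem hu1
    haveI := Fact.mk hbp
    refine le_bot_iff.mp ((inf_le_inf_left _ hbC).trans (le_of_eq ?_))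
    have hbU₀ : b ∈ U₀ := zpowers_le.mpr hu hb
    have hbd : orderOf b ∣ Nat.card U := Nat.card_zpowers b ▸ card_dvd_of_le (zpowers_le.mpr (hU₀ hbU₀))
    have hσ : orderOf b ∉ Cfsg.sigma M := not_sigma_of_dvd hG hM hE hbp (hbd.trans (card_dvd_of_le hUE))
    by_cases hr : Cfsg.PRankLE (orderOf b) 1 M
    · exact hfree _ hbp hσ hr b (hU₀ hbU₀) rfl
    · exact (hfr _ (hmem _ hbp hbd ⟨hbp, hσ, pRankLE_of_not_sigma hG hM hσ, hr⟩)).1 b hbU₀
        (fun e => hbp.ne_one (by rw [e, orderOf_one])) (isPGroup_of_card (Nat.card_zpowers b))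

end Cfsg.Lib.OddLocal.RankTwoMax

namespace Cfsg.Lib.OddLocal.RankTwoMax

open Subgroup Uniqueness Sigma

universe v

variable {G : Type v} [Group G] [Finite G] {M E K U : Subgroup G}

/-- The subgroups of a complement when all `τ₁ ∪ τ₃`-elements are fixed point free. -/
theorem complement_free_theorem (hG : Cfsg.IsMinSimpleOddOrder G) (hM : IsCoatom M)
    (hE : Cfsg.IsComplIn E (Cfsg.sigmaCore M) M)
    (h : ∀ e ∈ E, e ≠ 1 → (∀ p : ℕ, p.Prime → p ∣ orderOf e → p ∈ Cfsg.tau1 M ∪ Cfsg.tau3 M) →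
      Cfsg.sigmaCore M ⊓ Subgroup.centralizer ({e} : Set G) = ⊥) :
    (∃ A₀ : Subgroup G, A₀ ≤ E ∧ E ≤ Subgroup.normalizer (A₀ : Set G) ∧ IsMulCommutative A₀ ∧
        ∀ x ∈ Cfsg.sigmaCore M, x ≠ 1 → E ⊓ Subgroup.centralizer ({x} : Set G) ≤ A₀) ∧
      ∃ E₀ : Subgroup G, E₀ ≤ E ∧ Monoid.exponent E₀ = Monoid.exponent E ∧
        ∀ e ∈ E₀, e ≠ 1 → Cfsg.sigmaCore M ⊓ Subgroup.centralizer ({e} : Set G) = ⊥ := by
  have hfree : ∀ t : ℕ, t.Prime → t ∉ Cfsg.sigma M → Cfsg.PRankLE t 1 M → ∀ a ∈ E, orderOf a = t →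
      Cfsg.sigmaCore M ⊓ centralizer ({a} : Set G) = ⊥ := fun t ht hσ hr a ha hao => by
    refine h a ha (fun e => ht.ne_one (by rw [← hao, e, orderOf_one])) fun s hs hd => ?_
    obtain rfl : s = t := (Nat.prime_dvd_prime_iff_eq hs ht).mp (hao ▸ hd)
    have hsM : s ∣ Nat.card M := by
      rw [← hao, ← Nat.card_zpowers]; exact card_dvd_of_le (zpowers_le.mpr (hE.1 ha))
    by_cases hD : s ∣ Nat.card ↥⁅M, M⁆
    · exact Or.inr ⟨hs, hσ, hD, hr⟩
    · exact Or.inl ⟨hs, hσ, hsM, hD, hr⟩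
  refine ⟨?_, exists_free_subgroup hG hM hE le_rfl Subgroup.le_normalizer (fun _ _ _ _ hX => hX) hfree⟩
  obtain ⟨B, hBE, hBn, hBc, -, hBu⟩ := exists_tau_two_core hG hM hE
  refine ⟨B, hBE, hBn, hBc, fun x hx hx1 u hu => ?_⟩
  have hux : u * x = x * u := mem_centralizer_singleton_iff.mp hu.2
  refine hBu u hu.1 (fun t ht hd => ?_) ⟨hE.1 hu.1, x, hx, hx1, hux⟩
  haveI := Fact.mk ht
  have hσ := not_sigma_of_dvd hG hM hE ht (hd.trans (Nat.card_zpowers u ▸
    card_dvd_of_le (zpowers_le.mpr hu.1)))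
  refine ⟨ht, hσ, pRankLE_of_not_sigma hG hM hσ, fun hr => hx1 (mem_bot.mp ((hfree t ht hσ hr
    (u ^ (orderOf u / t)) (pow_mem hu.1 _) (orderOf_pow_orderOf_div (orderOf_pos u).ne' hd)).le
    ⟨hx, mem_centralizer_singleton_iff.mpr ((show Commute x u from hux.symm).pow_right _).eq⟩))⟩

/-- The fixed point free subgroup of full exponent in the standard factorisation. -/
theorem decomp_free (hG : Cfsg.IsMinSimpleOddOrder G) (hM : IsCoatom M)
    (h : Cfsg.IsSigmaDecomposition M K U) :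
    ∃ U₀ : Subgroup G, U₀ ≤ U ∧ Monoid.exponent U₀ = Monoid.exponent U ∧
      ∀ u ∈ U₀, u ∈ Cfsg.sigmaHat M → u = 1 := by
  obtain ⟨E, hs⟩ := decomp_split hG hM h
  obtain ⟨U₀, hU₀, hexp, hfree⟩ := exists_free_subgroup hG hM hs.compl hs.memU hs.normal
    (fun t hτ X hX hXE => by
      haveI := Fact.mk hτ.1
      have htπ : t ∈ {r : ℕ | r.Prime ∧ r ∉ Cfsg.kappa M ∧ r ∉ Cfsg.sigma M} :=
        ⟨hτ.1, fun hκ => hτ.2.2.2 (kappa_rank hG hM hκ), hτ.2.1⟩
      have h1 : U.relIndex (U ⊔ X) = 1 := by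
        by_contra hne
        obtain ⟨r, hr, hd⟩ := Nat.exists_prime_and_dvd hne
        have hrπ : r ∈ {r : ℕ | r.Prime ∧ r ∉ Cfsg.kappa M ∧ r ∉ Cfsg.sigma M} := by
          rcases dvd_card_sup (hXE.trans hs.normal) hr (hd.trans (relIndex_dvd_card _ _)) with hh | hh
          · exact hs.hallU.2.1 r hr hh
          · exact eq_of_dvd_pgroup hX hr hh ▸ htπ
        refine hs.hallU.2.2 r hr hrπ (hd.trans ?_)
        rw [← relIndex_mul_relIndex U (U ⊔ X) M le_sup_left (sup_le hs.hallU.1 (hXE.trans hs.compl.1))]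
        exact dvd_mul_right _ _
      exact le_sup_right.trans (relIndex_eq_one.mp h1))
    (fun t ht hσ hr a ha hao => by
      haveI := Fact.mk ht
      refine le_bot_iff.mp fun z hz => ?_
      rw [mem_bot]
      by_contra hz1
      exact (hs.hallU.2.1 t ht (hao ▸ Nat.card_zpowers a ▸ card_dvd_of_le (zpowers_le.mpr ha))).2.1
        (kappa_intro hG hM hσ hr (hs.hallU.1 ha) hao hz.1 hz1 (mem_centralizer_singleton_iff.mp hz.2)))
  refine ⟨U₀, hU₀, hexp, fun u hu ⟨_, z, hz, hz1, huz⟩ => by_contra fun hu1 => hz1 (mem_bot.mp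
    ((hfree u hu hu1).le ⟨hz, mem_centralizer_singleton_iff.mpr huz.symm⟩))⟩

end Cfsg.Lib.OddLocal.RankTwoMax
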