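import Cfsg.Agent.OddLocal.HallCentralizer
import Cfsg.Agent.OddLocal.CNMinSimple

/-!
# Fusion in Hall subgroups of the `σ`-core
-/

set_option linter.unusedSectionVars false
set_option linter.unusedVariables false
set_option linter.style.haveILetI false

namespace Cfsg.Lib.OddLocal.RankTwoMax

open Subgroup Uniqueness Sigma
open Cfsg.Lib.Coprime (conjMap)
open scoped commutatorElement

universe u

variable {G : Type u} [Group G] [Finite G] {M H T : Subgroup G}

/-- A Hall subgroup of a nilpotent group is normal in it. -/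
theorem hall_normal_of_nilpotent [Group.IsNilpotent T] (hHT : H ≤ T)
    (hcop : (Nat.card H).Coprime (H.relIndex T)) : T ≤ normalizer (H : Set G) := by
  set W := T ⊓ normalizer (H : Set G) with hW
  have hHW : H ≤ W := le_inf hHT le_normalizer
  have key : ∀ g ∈ T ⊓ normalizer (W : Set G), g ∈ W := fun g hg => ⟨hg.1, by
    refine Cfsg.Lib.Coprime.conjMap_eq_self_iff.mp (Cfsg.Lib.Coprime.eq_of_le_of_card_eq ?_
      (Cfsg.Lib.Coprime.card_conjMap _ _))
    intro y hy
    have hyW : y ∈ W := (Cfsg.Lib.Coprime.conjMap_eq_self hg.2).le (Cfsg.Lib.Coprime.conjMap_mono hHW hy)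
    refine mem_of_coprime_relIndex (inf_le_right : W ≤ _) hyW fun r hr h1 h2 => ?_
    refine hr.ne_one (Nat.eq_one_of_dvd_coprimes hcop ?_ (h2.trans ?_))
    · exact h1.trans ((Nat.card_zpowers y).symm ▸
        (card_dvd_of_le (zpowers_le.mpr hy)).trans (dvd_of_eq (Cfsg.Lib.Coprime.card_conjMap _ _)))
    · exact dvd_of_mul_right_eq _ (relIndex_mul_relIndex H W T hHW inf_le_left)⟩
  by_contra hne
  have hlt : W.subgroupOf T < ⊤ := lt_top_iff_ne_top.mpr fun e =>
    hne ((subgroupOf_eq_top.mp e).trans inf_le_right)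
  obtain ⟨g, hg, hgW⟩ := SetLike.exists_of_lt (Group.normalizerCondition_of_isNilpotent _ hlt)
  refine hgW (key g ⟨g.2, mem_normalizer_iff.mpr fun y => ⟨fun hy => ?_, fun hy => ?_⟩⟩)
  · exact (mem_normalizer_iff.mp hg ⟨y, (inf_le_left : W ≤ T) hy⟩).mp hy
  · have hyT : y ∈ T := by
      have := mul_mem (mul_mem (inv_mem g.2) ((inf_le_left : W ≤ T) hy : (g : G) * y * (g : G)⁻¹ ∈ T)) g.2
      simpa [mul_assoc] using this
    exact (mem_normalizer_iff.mp hg ⟨y, hyT⟩).mpr hy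

/-- A normal subgroup meeting the Hall subgroup trivially and making it normal. -/
theorem exists_normal_split (hG : Cfsg.IsMinSimpleOddOrder G) (hM : IsCoatom M) (hH : H ≤ Cfsg.sigmaCore M)
    (hHall : (Nat.card H).Coprime (H.relIndex (Cfsg.sigmaCore M))) :
    ∃ N₀ : Subgroup G, N₀ ≤ Cfsg.sigmaCore M ∧ M ≤ normalizer (N₀ : Set G) ∧ N₀ ⊓ H = ⊥ ∧
      M ≤ normalizer ((N₀ ⊔ H : Subgroup G) : Set G) := by
  set S := Cfsg.sigmaCore M with hS
  by_cases hnil : Group.IsNilpotent S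
  · haveI := hnil
    refine ⟨⊥, bot_le, (normalizer_eq_top (H := (⊥ : Subgroup G))).symm ▸ le_top, bot_inf_eq _, ?_⟩
    rw [bot_sup_eq]
    intro m hm
    refine Cfsg.Lib.Coprime.conjMap_eq_self_iff.mp (Cfsg.Lib.Coprime.eq_of_le_of_card_eq (fun y hy => ?_)
      (Cfsg.Lib.Coprime.card_conjMap _ _))
    have hyS : y ∈ S := (Cfsg.Lib.Coprime.conjMap_eq_self (le_normalizer_sigmaCore M hm)).le
      (Cfsg.Lib.Coprime.conjMap_mono hH hy)
    refine mem_of_coprime_relIndex (hall_normal_of_nilpotent hH hHall) hyS fun r hr h1 h2 => ?_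
    exact hr.ne_one (Nat.eq_one_of_dvd_coprimes hHall (h1.trans ((Nat.card_zpowers y).symm ▸
      (card_dvd_of_le (zpowers_le.mpr hy)).trans (dvd_of_eq (Cfsg.Lib.Coprime.card_conjMap _ _)))) h2)
  obtain ⟨K₀, hK₀⟩ := exists_kappa_hall hG hM
  obtain ⟨E, U, h⟩ := exists_kappaSplit hG hM hK₀
  obtain ⟨hU, n⟩ := nonNil_of_ne hG hM (h.decomposition hK₀ (kappa_hall_cyclic hG hM hK₀))
    fun e => hnil (by
      rw [hS, ← e]
      haveI : Group.IsNilpotent (Cfsg.fittingHall M) := CN.nilpotent_of_le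
        Cfsg.Lib.FittingHall.fittingHall_le_fitting Cfsg.Lib.Components.isNilpotent_fitting
      exact Group.nilpotent_of_mulEquiv (Subgroup.equivMapOfInjective _ _ M.subtype_injective))
  haveI := Fact.mk n.prime_fix
  set q := Nat.card ↥(Cfsg.sigmaCore M ⊓ centralizer (SetLike.coe K₀)) with hq
  set Q := FittingParts.O q (Cfsg.sigmaCore M) with hQ
  obtain ⟨D, hD, hKD⟩ := n.exists_invariant_compl hG
  haveI := n.invariant_nilpotent hG hD hKD
  have hQS : Q ≤ S := NonNil.syl_le M K₀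
  have hQn : M ≤ normalizer (Q : Set G) := NonNil.le_normalizer_syl M K₀
  have hHQ : H ≤ normalizer (Q : Set G) := (hH.trans (sigmaCore_le M)).trans hQn
  set Y := Q ⊔ H with hY
  set D₁ := D ⊓ Y with hD₁
  have hYS : Y ≤ S := sup_le hQS hH
  have hDQ : D ≤ normalizer (Q : Set G) := hD.2.1.trans (NonNil.core_le_normalizer_syl M K₀)
  have hsup : Q ⊔ D = S := le_antisymm (sup_le hQS hD.2.1) fun y hy => by
    obtain ⟨a, ha, b, hb, rfl⟩ := hD.2.2.2 y hy
    exact mul_mem_sup ha hb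
  have hYeq : Q ⊔ D₁ = Y := by
    rw [hD₁, ← Cfsg.Lib.Coprime.sup_inf_dedekind hDQ le_sup_left, hsup, inf_eq_right.mpr hYS]
  have hc1 : Nat.card Y = Nat.card Q * Nat.card D₁ := by
    rw [← hYeq, Cfsg.Lib.Coprime.card_sup_coprime (inf_le_left.trans hDQ)
      ((n.coprime_syl hG hD).coprime_dvd_right (card_dvd_of_le inf_le_left))]
  have hdiv : Nat.card D₁ ∣ Nat.card H := by
    have h1 := Cfsg.Lib.Coprime.card_sup_mul_card_inf hHQ
    rw [← hY, hc1, mul_assoc] at h1
    exact dvd_of_mul_right_eq _ (Nat.eq_of_mul_eq_mul_left Nat.card_pos h1)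
  have hcS : Nat.card S = Nat.card Q * Nat.card D := compl_card hD
  have hidx : D₁.relIndex D = Y.relIndex S := by
    refine Nat.eq_of_mul_eq_mul_left (Nat.mul_pos (Nat.card_pos (α := Q)) (Nat.card_pos (α := D₁))) ?_
    rw [mul_assoc, card_mul_relIndex (inf_le_left : D₁ ≤ D), ← hc1, card_mul_relIndex hYS, hcS]
  have hcop₁ : (Nat.card D₁).Coprime (D₁.relIndex D) := by
    rw [hidx]
    exact (hHall.coprime_dvd_left hdiv).coprime_dvd_right (relIndex_dvd_of_le_left S le_sup_right)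
  have hD₁n : D ≤ normalizer (D₁ : Set G) := hall_normal_of_nilpotent inf_le_left hcop₁
  have hYn : M ≤ normalizer (Y : Set G) := by
    rw [← hYeq]
    refine le_of_eq_of_le n.sup.symm (sup_le ?_ ?_)
    · rw [← hS, ← hsup]
      exact sup_le (le_sup_left.trans le_normalizer) (Cfsg.Lib.Coprime.le_normalizer_sup hDQ hD₁n)
    · refine Cfsg.Lib.Coprime.le_normalizer_sup (n.K_le.trans hQn) fun k hk => ?_
      refine Cfsg.Lib.Coprime.conjMap_eq_self_iff.mp (Cfsg.Lib.Coprime.eq_of_le_of_card_eq (fun y hy => ?_)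
        (Cfsg.Lib.Coprime.card_conjMap _ _))
      have hyD : y ∈ D := (Cfsg.Lib.Coprime.conjMap_eq_self (hKD hk)).le
        (Cfsg.Lib.Coprime.conjMap_mono inf_le_left hy)
      refine mem_of_coprime_relIndex hD₁n hyD fun r hr h1 h2 => ?_
      exact hr.ne_one (Nat.eq_one_of_dvd_coprimes hcop₁ (h1.trans ((Nat.card_zpowers y).symm ▸
        (card_dvd_of_le (zpowers_le.mpr hy)).trans (dvd_of_eq (Cfsg.Lib.Coprime.card_conjMap _ _)))) h2)
  by_cases hqH : q ∣ Nat.card H
  · refine ⟨⊥, bot_le, (normalizer_eq_top (H := (⊥ : Subgroup G))).symm ▸ le_top, bot_inf_eq _, ?_⟩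
    obtain ⟨P, hP⟩ := exists_sylow_in_hall hH hHall hqH
    have hQP : Q ≤ H := by
      refine le_trans ?_ hP
      have hle := n.le_syl hG (P.2.map (Cfsg.sigmaCore M).subtype) (map_subtype_le _)
      refine (Cfsg.Lib.Coprime.eq_of_le_of_card_eq hle (le_antisymm (Nat.le_of_dvd Nat.card_pos (card_dvd_of_le hle)) ?_)).ge
      rw [card_map_of_injective (Cfsg.sigmaCore M).subtype_injective]
      refine Nat.le_of_dvd Nat.card_pos ?_
      obtain ⟨R, hR⟩ := ((n.syl_isPGroup).comap_subtype (K := Cfsg.sigmaCore M)).exists_le_sylow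
      refine ((dvd_of_eq (Nat.card_congr (subgroupOfEquivOfLe hQS).toEquiv).symm).trans (card_dvd_of_le hR)).trans ?_
      exact (dvd_of_eq (Sylow.card_eq_multiplicity R)).trans (dvd_of_eq (Sylow.card_eq_multiplicity P).symm)
    rwa [bot_sup_eq, ← sup_eq_right.mpr hQP]
  · refine ⟨Q, hQS, hQn, le_bot_iff.mp fun y hy => mem_bot.mpr ?_, hYn⟩
    refine Cfsg.Lib.Coprime.eq_one_of_coprime (coprime_card_of_disjoint fun r hr h1 h2 => ?_) hy.1 hy.2
    have he := eq_of_dvd_pgroup n.syl_isPGroup hr h1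
    exact hqH (by rw [hq, ← he]; exact h2)

/-- Elements of a Hall subgroup of the `σ`-core conjugate in `G` are conjugate in its normalizer. -/
theorem hall_fusion (hG : Cfsg.IsMinSimpleOddOrder G) (hM : IsCoatom M) (hH : H ≤ Cfsg.sigmaCore M)
    (hHall : (Nat.card H).Coprime (H.relIndex (Cfsg.sigmaCore M))) :
    ∀ x ∈ H, ∀ g : G, g * x * g⁻¹ ∈ H → ∃ n ∈ M ⊓ normalizer (H : Set G), n * x * n⁻¹ = g * x * g⁻¹ := by
  intro x hx g hy
  by_cases hx1 : x = 1
  · exact ⟨1, one_mem _, by rw [hx1]; group⟩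
  have hmem : x ∈ conjMap g⁻¹ M := by
    rw [Cfsg.Lib.Coprime.mem_conjMap, inv_inv]
    exact sigmaCore_le M (hH hy)
  obtain ⟨c, hc, hcM⟩ := exists_centralizer_conj hG hM (hH hx) hx1 hmem
  have hm : g * c ∈ M := by
    have h2 : conjMap (g * c) M = M := by
      rw [← Cfsg.Lib.Coprime.conjMap_mul, hcM, Cfsg.Lib.Coprime.conjMap_conjMap_inv]
    have hne : M ≠ ⊥ := fun e => sigmaCore_ne_bot hG hM (le_bot_iff.mp (e ▸ sigmaCore_le M))
    rw [← FittingUniqueness.normalizer_le_coatom hG hM hne hM.1 le_normalizer]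
    exact Cfsg.Lib.Coprime.conjMap_eq_self_iff.mp h2
  have hmx : g * c * x * (g * c)⁻¹ = g * x * g⁻¹ := by
    rw [mul_assoc g c x, mem_centralizer_singleton_iff.mp hc]; group
  set m := g * c with hmdef
  obtain ⟨N₀, hN₀S, hN₀n, hdis, hYn⟩ := exists_normal_split hG hM hH hHall
  set Y := N₀ ⊔ H with hY
  have hHN : H ≤ normalizer (N₀ : Set G) := (hH.trans (sigmaCore_le M)).trans hN₀n
  -- Frattini
  have hYS : Y ≤ Cfsg.sigmaCore M := sup_le hN₀S hH
  haveI : Group.IsSolvable Y := hG.2.2.2 Y (FittingUniqueness.ne_top_of_le_coatom hM (hYS.trans (sigmaCore_le M)))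
  have hHm : conjMap m H ≤ Y := (Cfsg.Lib.Coprime.conjMap_mono le_sup_right).trans
    (Cfsg.Lib.Coprime.conjMap_eq_self (hYn hm)).le
  have hcopY : (Nat.card H).Coprime (H.relIndex Y) :=
    hHall.coprime_dvd_right (dvd_of_mul_right_eq _ (relIndex_mul_relIndex H Y _ le_sup_right hYS))
  have hall : ∀ X : Subgroup G, X ≤ Y → Nat.card X = Nat.card H →
      Cfsg.IsPiHall {r | r ∣ Nat.card H} (X.subgroupOf Y) := fun X hX hXc => by
    refine ⟨fun r hr hd => ?_, fun r hr hrπ hd => hr.ne_one (Nat.eq_one_of_dvd_coprimes hcopY hrπ ?_)⟩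
    · rw [Nat.card_congr (subgroupOfEquivOfLe hX).toEquiv, hXc] at hd
      exact hd
    · have h1 : X.relIndex Y = H.relIndex Y := Nat.eq_of_mul_eq_mul_left Nat.card_pos
        ((card_mul_relIndex hX).trans ((card_mul_relIndex (le_sup_right : H ≤ Y)).symm.trans (by rw [hXc])))
      exact h1 ▸ hd
  obtain ⟨w, hw⟩ := Cfsg.Lib.Coprime.piHall_conj (hall H le_sup_right rfl)
    (hall _ hHm (Cfsg.Lib.Coprime.card_conjMap _ _))
  have hw' := congrArg (Subgroup.map Y.subtype) hw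
  rw [map_subgroupOf_eq_of_le hHm, Cfsg.Lib.Coprime.map_conjMap, map_subgroupOf_eq_of_le le_sup_right] at hw'
  obtain ⟨u, hu, h₁, hh₁, hwe⟩ := (Cfsg.Lib.Coprime.mem_sup_of_le_normalizer hHN).mp w.2
  have hnH : u⁻¹ * m ∈ normalizer (H : Set G) := by
    refine Cfsg.Lib.Coprime.conjMap_eq_self_iff.mp ?_
    rw [← Cfsg.Lib.Coprime.conjMap_mul, hw', show (Y.subtype w : G) = u * h₁ from hwe.symm,
      ← Cfsg.Lib.Coprime.conjMap_mul, Cfsg.Lib.Coprime.conjMap_eq_self (le_normalizer hh₁),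
      Cfsg.Lib.Coprime.conjMap_inv_conjMap]
  have huM : u ∈ M := sigmaCore_le M (hN₀S hu)
  refine ⟨u⁻¹ * m, ⟨M.mul_mem (M.inv_mem huM) hm, hnH⟩, ?_⟩
  set x' := u⁻¹ * m * x * (u⁻¹ * m)⁻¹ with hx'
  have hx'H : x' ∈ H := (mem_normalizer_iff.mp hnH x).mp hx
  have hux : u * x' * u⁻¹ = g * x * g⁻¹ := by rw [hx', ← hmx]; group
  have hmemN : u * x' * u⁻¹ * x'⁻¹ ∈ N₀ := by
    rw [show u * x' * u⁻¹ * x'⁻¹ = u * (x' * u⁻¹ * x'⁻¹) by group]
    exact mul_mem hu ((mem_normalizer_iff.mp (hHN hx'H) _).mp (inv_mem hu))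
  have h1 : u * x' * u⁻¹ * x'⁻¹ ∈ N₀ ⊓ H := mem_inf.mpr ⟨hmemN, H.mul_mem (hux.symm ▸ hy) (H.inv_mem hx'H)⟩
  rw [hdis, mem_bot, mul_inv_eq_one, hux] at h1
  exact h1.symm

theorem hall_theorem (hG : Cfsg.IsMinSimpleOddOrder G) (hM : IsCoatom M) (hH : H ≤ Cfsg.sigmaCore M) (hH1 : H ≠ ⊥)
    (hHall : (Nat.card H).Coprime (H.relIndex (Cfsg.sigmaCore M))) :
    (∃ X : Subgroup G, IsCyclic X ∧ (∀ p : ℕ, p.Prime → p ∣ Nat.card X → p ∈ Cfsg.tau2 M) ∧
        M ⊓ centralizer (H : Set G) = (Cfsg.sigmaCore M ⊓ centralizer (H : Set G)) ⊔ X) ∧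
      ∀ x ∈ H, ∀ g : G, g * x * g⁻¹ ∈ H → ∃ n ∈ M ⊓ normalizer (H : Set G), n * x * n⁻¹ = g * x * g⁻¹ :=
  ⟨hall_centralizer hG hM hH hH1 hHall, hall_fusion hG hM hH hHall⟩

/-- Fusion in a nilpotent Hall subgroup of `G`. -/
theorem nilpotent_hall_fusion (hG : Cfsg.IsMinSimpleOddOrder G) (hnil : Group.IsNilpotent H)
    (hHall : (Nat.card H).Coprime H.index) :
    ∀ x ∈ H, ∀ g : G, g * x * g⁻¹ ∈ H → ∃ n ∈ normalizer (H : Set G), n * x * n⁻¹ = g * x * g⁻¹ := by
  intro x hx g hy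
  by_cases hH1 : H = ⊥
  · subst hH1
    exact ⟨1, one_mem _, by rw [mem_bot.mp hx]; group⟩
  haveI := hnil
  obtain ⟨p, hp, hpd⟩ := Nat.exists_prime_and_dvd (mt card_eq_one.mp hH1)
  haveI := Fact.mk hp
  -- Sylow subgroups of `H` are Sylow subgroups of `G`
  have key : ∀ r : ℕ, r.Prime → r ∣ Nat.card H → ∀ S : Sylow r H,
      ¬ r ∣ ((S : Subgroup H).map H.subtype).index := fun r hr hd S h => by
    haveI := Fact.mk hr
    rw [← relIndex_mul_index (map_subtype_le (S : Subgroup H))] at h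
    rcases hr.dvd_mul.mp h with h | h
    · rw [relIndex, subgroupOf, comap_map_eq_self_of_injective H.subtype_injective] at h
      exact S.not_dvd_index h
    · exact hr.ne_one (Nat.eq_one_of_dvd_coprimes hHall hd h)
  obtain ⟨S₀⟩ : Nonempty (Sylow p H) := inferInstance
  set S := (S₀ : Subgroup H).map H.subtype with hSdef
  have hS1 : S ≠ ⊥ := by
    rw [hSdef, ne_eq, map_eq_bot_iff_of_injective _ H.subtype_injective]
    exact S₀.ne_bot_of_dvd_card hpd
  have hStop : S ≠ ⊤ := Cfsg.Lib.CN.ne_top_of_nilpotent hG (S₀.2.map H.subtype).isNilpotent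
  obtain ⟨M, hM, hSM⟩ := (eq_top_or_exists_le_coatom (normalizer (S : Set G))).resolve_left
    (MinSimpleTransitivity.normalizer_ne_top hG hS1 hStop)
  have hSM' : S ≤ M := le_normalizer.trans hSM
  have hpS : p ∣ Nat.card S := by
    rw [hSdef, card_map_of_injective H.subtype_injective]
    obtain ⟨k, hk⟩ := IsPGroup.iff_card.mp S₀.2
    rcases k with _ | k
    · exact absurd (card_eq_one.mp (hk.trans (pow_zero p))) (S₀.ne_bot_of_dvd_card hpd)
    · exact hk ▸ dvd_pow_self p k.succ_ne_zero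
  have hnd : ¬ p ∣ (S.subgroupOf M).index := fun h => key p hp hpd S₀
    (h.trans (dvd_of_mul_right_eq _ (relIndex_mul_index hSM')))
  set P : Sylow p M := ((S₀.2.map H.subtype).comap_subtype (K := M) : IsPGroup p (S.subgroupOf M)).toSylow hnd
    with hP
  have hPS : (P : Subgroup M).map M.subtype = S := map_subgroupOf_eq_of_le hSM'
  have hσ : p ∈ Cfsg.sigma M :=
    ⟨hp, hpS.trans (card_dvd_of_le hSM'), P, by rw [hPS]; exact hSM⟩
  have hSσ : S ≤ Cfsg.sigmaCore M := le_sigmaCore_of_pgroup hG hM hσ (S₀.2.map _) hSM'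
  have hScop : (Nat.card S).Coprime (S.relIndex (Cfsg.sigmaCore M)) := by
    obtain ⟨k, hk⟩ := IsPGroup.iff_card.mp (S₀.2.map H.subtype)
    rw [hk]
    refine (hp.coprime_iff_not_dvd.mpr fun h => hnd ?_).pow_left k
    exact h.trans (dvd_of_mul_right_eq _ (relIndex_mul_relIndex S _ M hSσ (sigmaCore_le M)))
  have hHσ : H ≤ Cfsg.sigmaCore M := Cfsg.Lib.Coprime.le_of_forall_sylow fun r hr => by
    haveI := Fact.mk hr
    obtain ⟨R₀⟩ : Nonempty (Sylow r H) := inferInstance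
    refine ⟨R₀, ?_⟩
    set R := (R₀ : Subgroup H).map H.subtype with hRdef
    by_cases hR1 : R = ⊥
    · rw [hR1]; exact bot_le
    have hRp : IsPGroup r R := R₀.2.map _
    have hrd : r ∣ Nat.card R := by
      obtain ⟨k, hk⟩ := IsPGroup.iff_card.mp hRp
      rcases k with _ | k
      · exact absurd (card_eq_one.mp (hk.trans (pow_zero r))) hR1
      · exact hk ▸ dvd_pow_self r k.succ_ne_zero
    have hrH : r ∣ Nat.card H := hrd.trans (card_dvd_of_le (map_subtype_le _))
    by_cases hrp : r = p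
    · subst hrp
      haveI := Sylow.normal_of_normalizerCondition Group.normalizerCondition_of_isNilpotent S₀
      haveI := Sylow.unique_of_normal S₀ inferInstance
      rw [hRdef, Subsingleton.elim R₀ S₀]
      exact hSσ
    have hRC : R ≤ centralizer (S : Set G) := by
      rintro _ ⟨a, ha, rfl⟩
      refine mem_centralizer_iff.mpr ?_
      rintro _ ⟨b, hb, rfl⟩
      obtain ⟨i, hi⟩ := IsPGroup.iff_orderOf.mp R₀.2 ⟨a, ha⟩
      obtain ⟨j, hj⟩ := IsPGroup.iff_orderOf.mp S₀.2 ⟨b, hb⟩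
      rw [orderOf_mk] at hi hj
      exact congrArg Subtype.val (Cfsg.Lib.FittingHall.commute_coprime (x := b) (y := a) (by
        rw [hi, hj]; exact Nat.coprime_pow_primes j i hp hr (Ne.symm hrp))).eq
    have hRM : R ≤ M := hRC.trans ((centralizer_le_normalizer _).trans hSM)
    by_cases hrσ : r ∈ Cfsg.sigma M
    · exact le_sigmaCore_of_pgroup hG hM hrσ hRp hRM
    exfalso
    obtain ⟨X, hXc, hXτ, hCX⟩ := hall_centralizer hG hM hSσ hS1 hScop
    set C := M ⊓ centralizer (S : Set G) with hC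
    set C₀ := Cfsg.sigmaCore M ⊓ centralizer (S : Set G) with hC₀
    have hRC' : R ≤ C := le_inf hRM hRC
    have hXC : X ≤ C := hCX ▸ le_sup_right
    have hCn : X ≤ normalizer (C₀ : Set G) := Cfsg.Lib.Coprime.le_normalizer_inf
      ((hXC.trans inf_le_left).trans (le_normalizer_sigmaCore M))
      ((hXC.trans inf_le_right).trans le_normalizer)
    have hrX : r ∣ Nat.card X := by
      rcases dvd_card_sup hCn hr (hrd.trans (card_dvd_of_le (hRC'.trans hCX.le))) with h | h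
      · exact absurd (sigmaCore_isPi r hr (h.trans (card_dvd_of_le inf_le_left))) hrσ
      · exact h
    obtain ⟨-, -, -, hτ⟩ := hXτ r hr hrX
    -- `R` is cyclic
    obtain ⟨T₀⟩ : Nonempty (Sylow r X) := inferInstance
    haveI := hXc
    have hTc : IsCyclic ((T₀ : Subgroup X).map X.subtype) :=
      isCyclic_of_injective (inclusion (map_subtype_le _)) (inclusion_injective _)
    set T := (T₀ : Subgroup X).map X.subtype with hT
    have hTC : ¬ r ∣ T.relIndex C := fun h => by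
      rw [← relIndex_mul_relIndex T X C (map_subtype_le _) hXC] at h
      rcases hr.dvd_mul.mp h with h | h
      · rw [hT, relIndex, subgroupOf, comap_map_eq_self_of_injective X.subtype_injective] at h
        exact T₀.not_dvd_index h
      · have h1 : X.relIndex C ∣ Nat.card C₀ := by
          rw [hCX]
          refine dvd_of_mul_right_eq (Nat.card ↥(C₀ ⊓ X)) (Nat.eq_of_mul_eq_mul_left (Nat.card_pos (α := X)) ?_)
          have h3 := Cfsg.Lib.Coprime.card_sup_mul_card_inf hCn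
          rw [← card_mul_relIndex (le_sup_right : X ≤ C₀ ⊔ X)] at h3
          rw [mul_comm (Nat.card X) (Nat.card C₀), ← h3]; ring
        exact hrσ (sigmaCore_isPi r hr ((h.trans h1).trans (card_dvd_of_le inf_le_left)))
    have hTp : IsPGroup r (T.subgroupOf C) := (T₀.2.map _).comap_subtype
    set T' : Sylow r C := hTp.toSylow hTC with hT'
    obtain ⟨R', hR'⟩ := (hRp.comap_subtype (K := C)).exists_le_sylow
    obtain ⟨c, hc⟩ := MulAction.exists_smul_eq C T' R'
    have hRT : R ≤ conjMap (c : G) T := by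
      have h1 : R.subgroupOf C ≤ ((c • T' : Sylow r C) : Subgroup C) := hc ▸ hR'
      have h2 := Subgroup.map_mono (f := C.subtype) h1
      rw [map_subgroupOf_eq_of_le hRC', Cfsg.Lib.Coprime.map_subtype_smul] at h2
      refine h2.trans (Cfsg.Lib.Coprime.conjMap_mono ?_)
      rw [show (T' : Subgroup C) = T.subgroupOf C from rfl]
      exact map_subgroupOf_eq_of_le ((map_subtype_le _).trans hXC) |>.le
    have hRc : IsCyclic R := by
      haveI : IsCyclic (conjMap (c : G) T) := by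
        haveI := hTc
        exact isCyclic_of_surjective (T.equivMapOfInjective _ (MulAut.conj (c : G)).injective).toMonoidHom
          (MulEquiv.surjective _)
      exact isCyclic_of_injective (inclusion hRT) (inclusion_injective _)
    have hnr : ¬ r ∣ (R.subgroupOf M).index := fun h => key r hr hrH R₀
      (h.trans (dvd_of_mul_right_eq _ (relIndex_mul_index hRM)))
    refine hτ (pRankLE_one_of_sylow_cyclic (S := R) ⟨hRM, hRp, fun Q hQp hQ hRQ => ?_⟩ hRc)
    refine (Cfsg.Lib.Coprime.eq_of_le_of_card_eq hRQ ?_).symm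
    have h1 : Nat.card Q = Nat.card R * R.relIndex Q := (card_mul_relIndex hRQ).symm
    have h2 : R.relIndex Q = 1 := by
      by_contra hne
      obtain ⟨s, hs, hsd⟩ := Nat.exists_prime_and_dvd hne
      refine hnr (?_ : r ∣ R.relIndex M)
      have hsr : s = r := eq_of_dvd_pgroup hQp hs (hsd.trans (dvd_of_mul_left_eq _ h1.symm))
      rw [← relIndex_mul_relIndex R Q M hRQ hQ]
      exact hsr ▸ dvd_mul_of_dvd_left hsd _
    rw [h1, h2, mul_one]
  obtain ⟨n, hn, hne⟩ := hall_fusion hG hM hHσ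
    (hHall.coprime_dvd_right (dvd_of_mul_right_eq _ (relIndex_mul_index hHσ))) x hx g hy
  exact ⟨n, hn.2, hne⟩

end Cfsg.Lib.OddLocal.RankTwoMax
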