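import Cfsg.Agent.OddLocal.TauTwoCore
import Cfsg.Agent.OddLocal.DecompositionBasic

/-!
# The standard factorisation `M = K U M_σ`
-/

set_option linter.unusedSectionVars false
set_option linter.unusedVariables false
set_option linter.style.haveILetI false

namespace Cfsg.Lib.OddLocal.RankTwoMax

open Subgroup Uniqueness Sigma
open Cfsg.Lib.Coprime (conjMap)
open scoped commutatorElement

universe u

variable {G : Type u} [Group G] [Finite G] {M K U E X : Subgroup G} {p : ℕ} [hp : Fact p.Prime]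

/-- A prime outside `σ(M)` of an element with fixed points in `M_σ` is in `τ₂(M)` or in `κ(M)`. -/
theorem prime_of_hat (hG : Cfsg.IsMinSimpleOddOrder G) (hM : IsCoatom M) {u : G}
    (hu : u ∈ Cfsg.sigmaHat M) (hd : p ∣ orderOf u) (hσ : p ∉ Cfsg.sigma M) :
    p ∈ Cfsg.tau2 M ∨ p ∈ Cfsg.kappa M := by
  obtain ⟨huM, z, hz, hz1, huz⟩ := hu
  by_cases hr : Cfsg.PRankLE p 1 M
  · exact .inr (kappa_intro hG hM hσ hr (pow_mem huM (orderOf u / p))
      (orderOf_pow_orderOf_div (orderOf_pos u).ne' hd) hz hz1 ((show Commute z u from huz.symm).pow_right _).eq)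
  · exact .inl ⟨hp.out, hσ, pRankLE_of_not_sigma hG hM hσ, hr⟩

theorem compl_card {A B M : Subgroup G} (h : Cfsg.IsComplIn A B M) :
    Nat.card M = Nat.card A * Nat.card B := by
  obtain ⟨hA, hB, hinf, hprod⟩ := h
  rw [← Nat.card_prod]
  refine (Nat.card_eq_of_bijective (fun x : A × B => (⟨x.1 * x.2, Subgroup.mul_mem _ (hA x.1.2) (hB x.2.2)⟩ : M))
    ⟨?_, ?_⟩).symm
  · rintro ⟨a, b⟩ ⟨a', b'⟩ he
    have he' : (a : G) * b = a' * b' := congrArg Subtype.val he
    have h1 : (a' : G)⁻¹ * a ∈ A ⊓ B := by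
      refine ⟨Subgroup.mul_mem _ (Subgroup.inv_mem _ a'.2) a.2, ?_⟩
      rw [show (a' : G)⁻¹ * a = b' * (b : G)⁻¹ by
        rw [eq_mul_inv_iff_mul_eq, mul_assoc, he', inv_mul_cancel_left]]
      exact Subgroup.mul_mem _ b'.2 (Subgroup.inv_mem _ b.2)
    rw [hinf, mem_bot, inv_mul_eq_one] at h1
    rw [← h1] at he'
    exact Prod.ext (Subtype.ext h1.symm) (Subtype.ext (mul_left_cancel he'))
  · rintro ⟨m, hm⟩
    obtain ⟨a, ha, b, hb, rfl⟩ := hprod m hm
    exact ⟨(⟨a, ha⟩, ⟨b, hb⟩), rfl⟩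

theorem KappaSplit.K_le_M (h : KappaSplit M K E U) : K ≤ M := h.memK.trans h.compl.1

/-- A split complement gives a standard factorisation. -/
theorem KappaSplit.decomposition (h : KappaSplit M K E U) (hK : Cfsg.IsPiHallOf (Cfsg.kappa M) K M)
    (hKc : IsCyclic K) : Cfsg.IsSigmaDecomposition M K U := by
  refine ⟨hKc, hK, ⟨h.hallU.1, sup_le hK.1 (sigmaCore_le M), le_bot_iff.mp ?_, ?_⟩, h.memK.trans h.normal⟩
  · rintro x ⟨hxU, hx⟩
    obtain ⟨s, hs, k, hk, rfl⟩ := (Cfsg.Lib.Coprime.mem_sup_of_le_normalizer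
      (h.K_le_M.trans (le_normalizer_sigmaCore M))).mp (sup_comm K _ ▸ hx)
    have hsE : s ∈ E := by
      have h1 := mul_mem (h.memU hxU) (inv_mem (h.memK hk))
      rwa [mul_inv_cancel_right] at h1
    have hs1 : s = 1 := mem_bot.mp (h.compl.2.2.1.le ⟨hsE, hs⟩)
    rw [hs1, one_mul] at hxU ⊢
    exact h.disjoint.le ⟨hxU, hk⟩
  · intro m hm
    obtain ⟨e, he, s, hs, rfl⟩ := h.compl.2.2.2 m hm
    obtain ⟨u, hu, k, hk, rfl⟩ := (Cfsg.Lib.Coprime.mem_sup_of_le_normalizer (h.memK.trans h.normal)).mp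
      (h.prod.ge he)
    exact ⟨u, hu, k * s, mul_mem (mem_sup_left hk) (mem_sup_right hs), by group⟩

/-- The normal subgroup `U M_σ` of a split complement. -/
theorem KappaSplit.sup_normal (h : KappaSplit M K E U) :
    M ≤ normalizer ((U ⊔ Cfsg.sigmaCore M : Subgroup G) : Set G) := by
  conv_lhs => rw [← complement_sup h.compl]
  exact sup_le (le_sup_right.trans Subgroup.le_normalizer)
    (Cfsg.Lib.Coprime.le_normalizer_sup h.normal (h.compl.1.trans (le_normalizer_sigmaCore M)))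

/-- The complement of a standard factorisation is a Hall subgroup for the primes outside `σ ∪ κ`. -/
theorem decomp_hall (hG : Cfsg.IsMinSimpleOddOrder G) (hM : IsCoatom M)
    (h : Cfsg.IsSigmaDecomposition M K U) :
    Cfsg.IsPiHallOf {r | r.Prime ∧ r ∉ Cfsg.kappa M ∧ r ∉ Cfsg.sigma M} U M := by
  have hd : K ⊓ Cfsg.sigmaCore M = ⊥ := Cfsg.Lib.Coprime.inf_eq_bot_of_coprime
    (coprime_card_of_disjoint fun t ht h1 h2 => (h.hall.2.1 t ht h1).2.2.1 (sigmaCore_isPi t ht h2))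
  have hN : Nat.card ↥(K ⊔ Cfsg.sigmaCore M) = Nat.card (Cfsg.sigmaCore M) * Nat.card K := by
    rw [sup_comm]
    exact Cfsg.Lib.Coprime.card_sup_of_inf_eq_bot (h.hall.1.trans (le_normalizer_sigmaCore M))
      (by rw [inf_comm]; exact hd)
  have hM' := compl_card h.compl
  rw [hN] at hM'
  have hrel : U.relIndex M = Nat.card (Cfsg.sigmaCore M) * Nat.card K := by
    refine Nat.eq_of_mul_eq_mul_left (Nat.card_pos (α := U)) ?_
    rw [card_mul_relIndex h.compl.1, hM']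
  refine ⟨h.compl.1, fun r hr hd => ?_, fun r hr hrπ hd => ?_⟩
  · haveI := Fact.mk hr
    refine ⟨hr, fun hκ => h.hall.2.2 r hr hκ ?_, not_sigma_of_dvd_decomp hG hM h hd⟩
    have h1 : K.relIndex M = Nat.card U * Nat.card (Cfsg.sigmaCore M) := by
      refine Nat.eq_of_mul_eq_mul_left (Nat.card_pos (α := K)) ?_
      rw [card_mul_relIndex h.hall.1, hM']; ring
    rw [h1]
    exact hd.mul_right _
  · rw [hrel] at hd
    rcases hr.dvd_mul.mp hd with hh | hh
    · exact hrπ.2.2 (sigmaCore_isPi r hr hh)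
    · exact hrπ.2.1 (h.hall.2.1 r hr hh)

/-- Every standard factorisation comes from a split complement. -/
theorem decomp_split (hG : Cfsg.IsMinSimpleOddOrder G) (hM : IsCoatom M)
    (h : Cfsg.IsSigmaDecomposition M K U) : ∃ E : Subgroup G, KappaSplit M K E U := by
  obtain ⟨E₀, U₀, h₀⟩ := exists_kappaSplit hG hM h.hall
  set N := U₀ ⊔ Cfsg.sigmaCore M with hNdef
  have hNM : N ≤ M := sup_le h₀.hallU.1 (sigmaCore_le M)
  set π := {r : ℕ | r.Prime ∧ r ∉ Cfsg.kappa M ∧ r ∉ Cfsg.sigma M} with hπ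
  have hU := decomp_hall hG hM h
  haveI hMs : Group.IsSolvable M := hG.2.2.2 M hM.1
  have hU₀N : Cfsg.IsPiHallOf π U₀ N := ⟨le_sup_left, h₀.hallU.2.1, fun r hr hrπ hd =>
    h₀.hallU.2.2 r hr hrπ (hd.trans (by rw [← relIndex_mul_relIndex U₀ N M le_sup_left hNM]; exact dvd_mul_right _ _))⟩
  -- `U` lies in the normal subgroup `N`
  have hUN : U ≤ N := by
    haveI : (N.subgroupOf M).Normal := (normal_subgroupOf_iff_le_normalizer hNM).mpr h₀.sup_normal
    have h1 : U.subgroupOf M ≤ N.subgroupOf M := by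
      intro x hx
      set f := QuotientGroup.mk' (N.subgroupOf M) with hf
      have hxn : (orderOf (f x)).Coprime (N.subgroupOf M).index → f x = 1 := fun hc =>
        orderOf_eq_one_iff.mp (Nat.eq_one_of_dvd_coprimes hc dvd_rfl (by
          rw [Subgroup.index_eq_card]; exact orderOf_dvd_natCard (f x)))
      refine (QuotientGroup.eq_one_iff x).mp (hxn ?_)
      refine Nat.coprime_of_dvd fun t ht h1 h2 => ?_
      have htU : t ∣ Nat.card U := h1.trans ((orderOf_map_dvd f x).trans (by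
        rw [← orderOf_coe, ← Nat.card_zpowers]; exact card_dvd_of_le (zpowers_le.mpr hx)))
      refine h₀.hallU.2.2 t ht (hU.2.1 t ht htU) (h2.trans ?_)
      show N.relIndex M ∣ _
      rw [← relIndex_mul_relIndex U₀ N M le_sup_left hNM]
      exact dvd_mul_left _ _
    intro x hx
    exact h1 (show (⟨x, h.compl.1 hx⟩ : M) ∈ U.subgroupOf M from hx)
  have hUN' : Cfsg.IsPiHallOf π U N := ⟨hUN, hU.2.1, fun r hr hrπ hd =>
    hU.2.2 r hr hrπ (hd.trans (by rw [← relIndex_mul_relIndex U N M hUN hNM]; exact dvd_mul_right _ _))⟩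
  have hKN : K ≤ normalizer (N : Set G) := h.hall.1.trans h₀.sup_normal
  obtain ⟨c, hc, hcU⟩ := Cfsg.Lib.Coprime.invariantHall_conj hKN
    (coprime_card_of_disjoint fun t ht h1 h2 => by
      rcases dvd_card_sup (X := Cfsg.sigmaCore M) (Y := U₀) (h₀.hallU.1.trans (le_normalizer_sigmaCore M))
        ht (sup_comm U₀ _ ▸ h2) with hh | hh
      · exact (h.hall.2.1 t ht h1).2.2.1 (sigmaCore_isPi t ht hh)
      · exact (h₀.hallU.2.1 t ht hh).2.1 (h.hall.2.1 t ht h1))
    (Cfsg.Lib.Coprime.isSolvable_of_le hNM hMs) hU₀N (h₀.memK.trans h₀.normal) hUN' h.normal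
  have hcM : c ∈ M := hNM hc.1
  have hKc : conjMap c K = K := Cfsg.Lib.Coprime.conjMap_eq_self (centralizer_le_normalizer _ hc.2)
  refine ⟨conjMap c E₀, isComplIn_conj h₀.compl hcM, hKc.ge.trans (Cfsg.Lib.Coprime.conjMap_mono h₀.memK),
    hcU.le.trans (Cfsg.Lib.Coprime.conjMap_mono h₀.memU), ?_, hU, ?_, ?_, ?_⟩
  · rw [hcU, Cfsg.Lib.Coprime.normalizer_conjMap]
    exact Cfsg.Lib.Coprime.conjMap_mono h₀.normal
  · rw [hcU, ← hKc, ← Cfsg.Lib.Coprime.conjMap_inf, h₀.disjoint]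
    exact Subgroup.map_bot _
  · rw [hcU]
    nth_rw 1 [← hKc]
    rw [← Cfsg.Lib.Coprime.conjMap_sup, h₀.prod]
  · intro k hk hk1
    have hck : c * k = k * c := (mem_centralizer_iff.mp hc.2 k hk).symm
    refine le_bot_iff.mp fun x hx => ?_
    obtain ⟨v, hv, rfl⟩ : x ∈ conjMap c U₀ := hcU ▸ hx.1
    have h2 : c * v * c⁻¹ * k = k * (c * v * c⁻¹) := mem_centralizer_singleton_iff.mp hx.2
    have h3 : v * k = k * v := by
      have h4 : c⁻¹ * k = k * c⁻¹ := ((show Commute c k from hck).inv_left).eq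
      have h5 : c * (v * k) * c⁻¹ = c * (k * v) * c⁻¹ :=
        calc c * (v * k) * c⁻¹ = c * v * (k * c⁻¹) := by group
          _ = c * v * (c⁻¹ * k) := by rw [h4]
          _ = c * v * c⁻¹ * k := by group
          _ = k * (c * v * c⁻¹) := h2
          _ = k * c * v * c⁻¹ := by group
          _ = c * k * v * c⁻¹ := by rw [hck]
          _ = c * (k * v) * c⁻¹ := by group
      exact mul_left_cancel (mul_right_cancel h5)
    have hv1 : v = 1 := mem_bot.mp ((h₀.free k hk hk1).le ⟨hv, mem_centralizer_singleton_iff.mpr h3⟩)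
    simp [hv1]

/-- `M_σ` is nilpotent when `M` has a prime outside `σ ∪ κ`. -/
theorem sigmaCore_nilpotent_of_prime (hG : Cfsg.IsMinSimpleOddOrder G) (hM : IsCoatom M)
    (hpM : p ∣ Nat.card M) (hσ : p ∉ Cfsg.sigma M) (hκ : p ∉ Cfsg.kappa M) :
    Group.IsNilpotent (Cfsg.sigmaCore M) := by
  obtain ⟨a, ha⟩ := exists_prime_orderOf_dvd_card' p hpM
  have hao : orderOf (a : G) = p := by rw [orderOf_coe, ha]
  by_cases hr : Cfsg.PRankLE p 1 M
  · refine nilpotent_of_fixed_free hao (le_normalizer_sigmaCore M a.2) (le_bot_iff.mp fun z hz => ?_)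
    rw [mem_bot]
    by_contra hz1
    exact hκ (kappa_intro hG hM hσ hr a.2 hao hz.1 hz1 (mem_centralizer_singleton_iff.mp hz.2))
  · obtain ⟨E, hE⟩ := exists_complement hG hM
    obtain ⟨A, hAE, hA, hAc⟩ :=
      exists_sq_complement hG hM hE ⟨hp.out, hσ, pRankLE_of_not_sigma hG hM hσ, hr⟩
    exact (tau_two_theorem hG hM hσ (hAE.trans hE.1) hA hAc).1

/-- `Ω₁` of a Sylow group for a prime outside `σ ∪ κ`. -/
theorem omega_of_not_kappa (hG : Cfsg.IsMinSimpleOddOrder G) (hM : IsCoatom M) (hpM : p ∣ Nat.card M)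
    (hp' : p ∉ Cfsg.sigma M ∪ Cfsg.kappa M) (S : Sylow p M) :
    Nat.card ↥(Subgroup.closure {x : G | x ∈ (S : Subgroup M).map M.subtype ∧ x ^ p = 1}) ≤ p ^ 2 ∧
      Cfsg.sigmaCore M ⊓ Subgroup.centralizer ((Subgroup.closure
        {x : G | x ∈ (S : Subgroup M).map M.subtype ∧ x ^ p = 1} : Subgroup G) : Set G) = ⊥ ∧
      Group.IsNilpotent (Cfsg.sigmaCore M) := by
  obtain ⟨hσ, hκ⟩ : p ∉ Cfsg.sigma M ∧ p ∉ Cfsg.kappa M := not_or.mp hp'
  refine and_assoc.mp ⟨?_, sigmaCore_nilpotent_of_prime hG hM hpM hσ hκ⟩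
  set R := (S : Subgroup M).map M.subtype with hR
  set Ω := Subgroup.closure {x : G | x ∈ R ∧ x ^ p = 1} with hΩ
  have hRS : IsSylowOf p R M := isSylowOf_sylow S
  have hR1 : R ≠ ⊥ := by
    intro (h0 : R = ⊥)
    have h1 : p ∣ Nat.card (S : Subgroup M) := S.dvd_card_of_dvd_card hpM
    rw [← card_map_of_injective M.subtype_injective (K := (S : Subgroup M))] at h1
    change p ∣ Nat.card R at h1
    rw [h0, card_bot] at h1
    exact hp.out.not_dvd_one h1
  obtain ⟨y, hy, hyo⟩ := ScnUniqueness.exists_orderOf hRS.2.1 hR1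
  have hyΩ : y ∈ Ω := subset_closure ⟨hy, hyo ▸ pow_orderOf_eq_one y⟩
  by_cases hr : Cfsg.PRankLE p 1 M
  · have hc := isCyclic_sylow_of_rank_one hG hRS.2.1 hRS.1 hr
    have hY : Nat.card (zpowers y) = p := by rw [Nat.card_zpowers, hyo]
    have hle : Ω ≤ zpowers y := (closure_le _).mpr fun x hx => by
      by_cases hx1 : x = 1
      · rw [hx1]; exact one_mem _
      exact (eq_of_cyclic hc (zpowers_le.mpr hx.1) (zpowers_le.mpr hy)
        (by rw [hY, Nat.card_zpowers, orderOf_eq_prime hx.2 hx1])).le (mem_zpowers x)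
    refine ⟨(Nat.le_of_dvd Nat.card_pos (card_dvd_of_le hle)).trans (by
      rw [hY]; exact le_self_pow₀ hp.out.one_le two_ne_zero), le_bot_iff.mp fun z hz => ?_⟩
    rw [mem_bot]
    by_contra hz1
    exact hκ (kappa_intro hG hM hσ hr (hRS.1 hy) hyo hz.1 hz1 (mem_centralizer_iff.mp hz.2 y hyΩ).symm)
  · obtain ⟨E, hE⟩ := exists_complement hG hM
    obtain ⟨A, hAE, hA, hAc⟩ :=
      exists_sq_complement hG hM hE ⟨hp.out, hσ, pRankLE_of_not_sigma hG hM hσ, hr⟩
    obtain ⟨A₁, hA₁, hAA₁⟩ := exists_sylowOf (isPGroup_of_pow hA.2) (hAE.trans hE.1)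
    obtain ⟨m, hm, hmR⟩ := card_eq_of_sylowOf hA₁ hRS
    set B := conjMap m A with hB
    have hBR : B ≤ R := (Cfsg.Lib.Coprime.conjMap_mono hAA₁).trans hmR.le
    have hBc : Nat.card B = p ^ 2 := by rw [hB, Cfsg.Lib.Coprime.card_conjMap, hAc]
    obtain ⟨-, hS, -, hfix, -⟩ := tau_two_theorem hG hM hσ (hBR.trans hRS.1)
      (Cfsg.Lib.OddP.isElementaryAbelian_map hA (MulAut.conj m).toMonoidHom) hBc
    have hΩB : Ω = B := le_antisymm ((closure_le _).mpr fun x hx => (((hS S).2 hBR).1 x hx.1).mp hx.2)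
      fun x hx => subset_closure ⟨hBR hx, (((hS S).2 hBR).1 x (hBR hx)).mpr hx⟩
    exact ⟨by rw [hΩB, hBc], by rw [hΩB]; exact hfix⟩

/-- The centralizer in `M` of a nontrivial element of the cyclic Hall `κ(M)`-subgroup. -/
theorem kappa_centralizer (hG : Cfsg.IsMinSimpleOddOrder G) (hM : IsCoatom M) (hKc : IsCyclic K)
    (hK : Cfsg.IsPiHallOf (Cfsg.kappa M) K M) :
    Cfsg.sigmaCore M ⊓ centralizer (K : Set G) ≠ ⊥ ∧
      (K ≠ ⊥ → ∀ k ∈ K, k ≠ 1 →
        M ⊓ centralizer ({k} : Set G) = K ⊔ (Cfsg.sigmaCore M ⊓ centralizer (K : Set G))) := by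
  refine ⟨kappa_group_fixed_ne hG hM hK.1 hK.2.1, fun _ k hk hk1 => ?_⟩
  obtain ⟨E, U, h⟩ := exists_kappaSplit hG hM hK
  haveI := hKc
  have hcomm : ∀ x ∈ K, x * k = k * x := fun x hx =>
    ThompsonTransitivity.mul_comm_of (inferInstance : IsMulCommutative K) hx hk
  refine le_antisymm ?_ (sup_le (le_inf hK.1 fun x hx => mem_centralizer_singleton_iff.mpr (hcomm x hx))
    (le_inf (inf_le_left.trans (sigmaCore_le M))
      (inf_le_right.trans (centralizer_le (Set.singleton_subset_iff.mpr hk)))))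
  rw [← h.normalizer_eq hG hM hK (Y := zpowers k) (fun h0 => hk1 (zpowers_eq_bot.mp h0)) (zpowers_le.mpr hk)
    (fun x hx => centralizer_le_normalizer _ (by
      rw [Cfsg.Lib.Coprime.centralizer_zpowers]; exact mem_centralizer_singleton_iff.mpr (hcomm x hx)))]
  exact inf_le_inf_left _ (Cfsg.Lib.Coprime.centralizer_zpowers k ▸ centralizer_le_normalizer _)

/-- The elements of `U` with fixed points in `M_σ` generate an abelian group, and are unique. -/
theorem decomp_hat (hG : Cfsg.IsMinSimpleOddOrder G) (hM : IsCoatom M)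
    (h : Cfsg.IsSigmaDecomposition M K U) :
    IsMulCommutative (Subgroup.closure ((U : Set G) ∩ Cfsg.sigmaHat M)) ∧
      ∀ X : Subgroup G, X ≤ U → X ≠ ⊥ → Cfsg.sigmaCore M ⊓ centralizer (X : Set G) ≠ ⊥ →
        centralizer (X : Set G) ≤ M ∧ ∀ L : Subgroup G, IsCoatom L → centralizer (X : Set G) ≤ L → L = M := by
  obtain ⟨E, hs⟩ := decomp_split hG hM h
  obtain ⟨B, hBE, hBn, hBc, hBA, hBu⟩ := exists_tau_two_core hG hM hs.compl
  have hτ : ∀ u ∈ U, u ∈ Cfsg.sigmaHat M → ∀ t : ℕ, t.Prime → t ∣ orderOf u → t ∈ Cfsg.tau2 M :=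
    fun u hu hhat t ht hd => by
      haveI := Fact.mk ht
      have hπ := hs.hallU.2.1 t ht (hd.trans (Nat.card_zpowers u ▸ card_dvd_of_le (zpowers_le.mpr hu)))
      exact (prime_of_hat hG hM hhat hd hπ.2.2).resolve_right hπ.2.1
  have hmem : ∀ u ∈ U, u ∈ Cfsg.sigmaHat M → u ∈ B := fun u hu hhat =>
    hBu u (hs.memU hu) (hτ u hu hhat) hhat
  constructor
  · have hle : Subgroup.closure ((U : Set G) ∩ Cfsg.sigmaHat M) ≤ B :=
      (closure_le _).mpr fun u hu => hmem u hu.1 hu.2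
    exact ⟨⟨fun a b => Subtype.ext (ThompsonTransitivity.mul_comm_of hBc (hle a.2) (hle b.2))⟩⟩
  intro X hXU hX1 hfix
  obtain ⟨z, hz, hz1⟩ : ∃ z ∈ Cfsg.sigmaCore M ⊓ centralizer (X : Set G), z ≠ (1 : G) := by
    by_contra hne
    push Not at hne
    exact hfix ((eq_bot_iff_forall _).mpr hne)
  have hhat : ∀ x ∈ X, x ∈ Cfsg.sigmaHat M := fun x hx =>
    ⟨hs.hallU.1 (hXU hx), z, hz.1, hz1, mem_centralizer_iff.mp hz.2 x hx⟩
  have hXB : X ≤ B := fun x hx => hmem x (hXU hx) (hhat x hx)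
  obtain ⟨t, ht, htd⟩ := Nat.exists_prime_and_dvd (mt card_eq_one.mp hX1)
  haveI := Fact.mk ht
  obtain ⟨x, hx⟩ := exists_prime_orderOf_dvd_card' t htd
  have hxo : orderOf (x : G) = t := by rw [orderOf_coe, hx]
  have htτ := hτ x (hXU x.2) (hhat x x.2) t ht (dvd_of_eq hxo.symm)
  have hxu := unique_centralizer_of_tau_two hG hM (hs.hallU.1 (hXU x.2))
    (fun h1 => ht.ne_one (by rw [← hxo, h1, orderOf_one])) (fun r hr hd => hτ x (hXU x.2) (hhat x x.2) r hr hd)
    hz.1 hz1 (mem_centralizer_iff.mp hz.2 x x.2)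
  have hCX : centralizer (X : Set G) ≤ M :=
    (centralizer_le (Set.singleton_subset_iff.mpr x.2)).trans hxu.1
  refine ⟨hCX, fun L hL hle => by_contra fun hne => hz1 (mem_bot.mp ?_)⟩
  obtain ⟨A, hAE, hA, hAc⟩ := exists_sq_complement hG hM hs.compl htτ
  obtain ⟨A₀, hexc⟩ := exists_exc hG hM htτ.2.1 (hAE.trans hs.compl.1) hA hAc
  have hAX : A ≤ centralizer (X : Set G) := fun a ha => mem_centralizer_iff.mpr fun y hy =>
    ThompsonTransitivity.mul_comm_of hBc (hXB hy) (hBA t htτ A hAE hA hAc ha)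
  exact (hexc.inf_other hG hL hne (hAX.trans hle)).le ⟨hz.1, hle hz.2⟩

end Cfsg.Lib.OddLocal.RankTwoMax
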