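import Cfsg.Agent.OddLocal.KappaDual

/-!
# Properties of a dual pair
-/

set_option linter.unusedSectionVars false
set_option linter.unusedVariables false
set_option linter.style.haveILetI false

namespace Cfsg.Lib.OddLocal.RankTwoMax

open Subgroup Uniqueness Sigma
open Cfsg.Lib.Coprime (conjMap)
open scoped commutatorElement

universe u

variable {G : Type u} [Group G] [Finite G] {M L K J U E : Subgroup G} {z x y g : G}

local notation "fix(" M ", " K ")" => Cfsg.sigmaCore M ⊓ centralizer (SetLike.coe K)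
local notation "hat(" M ", " K ")" =>
  ((SetLike.coe (K ⊔ (Cfsg.sigmaCore M ⊓ centralizer (SetLike.coe K)))) \
    ((SetLike.coe K) ∪ (SetLike.coe (Cfsg.sigmaCore M ⊓ centralizer (SetLike.coe K)))))
set_option quotPrecheck false in
local notation "hatConj(" M ", " K ")" =>
  {a : G | ∃ g : G, ∃ z ∈ ((SetLike.coe (K ⊔ (Cfsg.sigmaCore M ⊓ centralizer (SetLike.coe K)))) \
    ((SetLike.coe K) ∪ (SetLike.coe (Cfsg.sigmaCore M ⊓ centralizer (SetLike.coe K))))), a = g * z * g⁻¹}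

theorem KappaDual.sigma_disjoint (hG : Cfsg.IsMinSimpleOddOrder G) (d : KappaDual M K L) {t : ℕ}
    (hM : t ∈ Cfsg.sigma M) : t ∉ Cfsg.sigma L := fun hL =>
  d.ne (d.pair.eq_of_sigma hG d.pair' d.Z_eq ⟨t, hM, hL⟩)

theorem KappaDual.not_conj (hG : Cfsg.IsMinSimpleOddOrder G) (d : KappaDual M K L) (g : G) :
    L ≠ conjMap g M := fun e => by
  obtain ⟨X, hX, hXp⟩ := exists_line (d.pair.fix_ne hG)
  haveI := Fact.mk hXp
  have h : Nat.card X ∈ Cfsg.sigma M := sigmaCore_isPi _ hXp ((card_dvd_of_le (hX.trans inf_le_left)))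
  exact d.sigma_disjoint hG h (e ▸ (sigma_conj d.pair.max g).symm ▸ h)

/-- `M_σ ∩ L = C_{M_σ}(K)`. -/
theorem KappaDual.meet_fix (hG : Cfsg.IsMinSimpleOddOrder G) (d : KappaDual M K L) :
    Cfsg.sigmaCore M ⊓ L = fix(M, K) := by
  refine le_antisymm (fun z hz => ?_) (le_inf inf_le_left d.pair'.hall.1)
  obtain ⟨Y, hYK, hY⟩ := exists_line d.pair.ne
  haveI := Fact.mk hY
  obtain ⟨⟨b, hbY⟩, hb⟩ := exists_prime_orderOf_dvd_card' (G := Y) (Nat.card Y) dvd_rfl
  have hbo : orderOf b = Nat.card Y := by rw [← hb, orderOf_mk]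
  have hY1 : Y ≠ ⊥ := fun e => hY.ne_one (card_eq_one.mpr e)
  have hbe : zpowers b = Y := Cfsg.Lib.Coprime.eq_of_le_of_card_eq (zpowers_le.mpr hbY)
    (by rw [Nat.card_zpowers, hbo])
  have hYL : Y ≤ fix(L, fix(M, K)) := hYK.trans d.eq.le
  have hNY : normalizer (Y : Set G) ≤ L := normalizer_le_of_unique hG d.pair'.max hY1
    (hYL.trans (inf_le_left.trans (sigmaCore_le L)))
    (line_unique hG d.pair'.max d.pair'.hall d.pair'.ne hY hYL).2
  have hκ : Nat.card Y ∈ Cfsg.kappa M := d.pair.hall.2.1 _ hY (card_dvd_of_le hYK)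
  have hov : OverLine (Nat.card Y) M L Y := ⟨d.pair.max, d.pair'.max, hκ, rfl, hYK.trans d.pair.hall.1, hNY,
    d.not_conj hG, prime_of_mem_core (hYL hbY).1 hY (dvd_of_eq hbo.symm)⟩
  have hzC := hov.centralizes hG hz.1 hz.2
  obtain ⟨E, U, hEU⟩ := exists_kappaSplit hG d.pair.max d.pair.hall
  obtain ⟨hKY, -⟩ := kappa_group_lines (s := Nat.card Y) hG d.pair.max d.pair.hall.1 d.pair.hall.2.1 (hYK hbY) hbo
  rw [hbe] at hKY
  exact d.pair.mem_fix ((hEU.normalizer_eq hG d.pair.max d.pair.hall hY1 hYK hKY).le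
    ⟨sigmaCore_le M hz.1, centralizer_le_normalizer _ hzC⟩) fun t ht hd => prime_of_mem_core hz.1 ht hd

theorem KappaDual.meet_fix' (hG : Cfsg.IsMinSimpleOddOrder G) (d : KappaDual M K L) :
    Cfsg.sigmaCore L ⊓ M = K := (d.symm.meet_fix hG).trans d.fix_eq

/-- `M ∩ L = Z`. -/
theorem KappaDual.meet_eq (hG : Cfsg.IsMinSimpleOddOrder G) (d : KappaDual M K L) :
    M ⊓ L = K ⊔ fix(M, K) := by
  refine le_antisymm ?_ (le_inf d.pair.le_max (sup_le ?_ d.pair'.hall.1))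
  · intro x hx
    have hn : x ∈ normalizer (K : Set G) := by
      rw [← d.meet_fix' hG]
      exact Cfsg.Lib.Coprime.le_normalizer_inf (inf_le_right.trans (le_normalizer_sigmaCore L))
        (inf_le_left.trans le_normalizer) hx
    obtain ⟨E, U, hEU⟩ := exists_kappaSplit hG d.pair.max d.pair.hall
    exact (hEU.normalizer_eq hG d.pair.max d.pair.hall d.pair.ne le_rfl le_normalizer).le ⟨hx.1, hn⟩
  · exact d.eq.le.trans (inf_le_left.trans (sigmaCore_le L))

theorem KappaPair.cyclic (hG : Cfsg.IsMinSimpleOddOrder G) (h : KappaPair M K) : IsCyclic K :=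
  kappa_hall_cyclic hG h.max h.hall

/-- `Z` is cyclic. -/
theorem KappaDual.cyclic (hG : Cfsg.IsMinSimpleOddOrder G) (d : KappaDual M K L) :
    IsCyclic ↥(K ⊔ fix(M, K)) := by
  haveI := d.pair.cyclic hG
  haveI := d.pair'.cyclic hG
  obtain ⟨a, ha⟩ := IsCyclic.exists_ofOrder_eq_natCard (α := K)
  obtain ⟨b, hb⟩ := IsCyclic.exists_ofOrder_eq_natCard (α := ↥(fix(M, K)))
  refine isCyclic_of_orderOf_eq_card ⟨(a : G) * b, mul_mem_sup a.2 b.2⟩ ?_
  rw [orderOf_mk, (d.pair.commute a.2 b.2).orderOf_mul_eq_mul_orderOf_of_coprime (Nat.coprime_of_dvd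
    fun t ht h1 h2 => d.pair.not_sigma a.2 ht h1 (d.pair.sigma_fix b.2 ht h2)), orderOf_coe, orderOf_coe, ha, hb,
    d.pair.card_eq]

theorem KappaDual.comm (hG : Cfsg.IsMinSimpleOddOrder G) (d : KappaDual M K L) (hx : x ∈ K ⊔ fix(M, K))
    (hy : y ∈ K ⊔ fix(M, K)) : x * y = y * x := by
  haveI := d.cyclic hG
  exact congrArg Subtype.val ((IsCyclic.commGroup (α := ↥(K ⊔ fix(M, K)))).mul_comm ⟨x, hx⟩ ⟨y, hy⟩)

/-- Centralizers of elements of `K`, and of mixed elements of `Z`. -/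
theorem KappaDual.centralizers (hG : Cfsg.IsMinSimpleOddOrder G) (d : KappaDual M K L) (hx : x ∈ K) (hx1 : x ≠ 1) :
    M ⊓ centralizer ({x} : Set G) = K ⊔ fix(M, K) :=
  (kappa_centralizer hG d.pair.max (d.pair.cyclic hG) d.pair.hall).2 d.pair.ne x hx hx1

theorem KappaDual.centralizers' (hG : Cfsg.IsMinSimpleOddOrder G) (d : KappaDual M K L) (hy : y ∈ fix(M, K))
    (hy1 : y ≠ 1) : L ⊓ centralizer ({y} : Set G) = K ⊔ fix(M, K) :=
  (d.symm.centralizers hG hy hy1).trans d.Z_eq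

theorem KappaPair.mul_notMem (h : KappaPair M K) (hx : x ∈ K) (hx1 : x ≠ 1) (hy : y ∈ fix(M, K)) (hy1 : y ≠ 1) :
    x * y ∉ K ∧ x * y ∉ fix(M, K) := by
  refine ⟨fun hm => hy1 (mem_bot.mp (h.disjoint.le ⟨?_, hy⟩)), fun hm => hx1 (mem_bot.mp (h.disjoint.le ⟨hx, ?_⟩))⟩
  · simpa using mul_mem (inv_mem hx) hm
  · simpa [mul_assoc] using mul_mem hm (inv_mem hy)

theorem KappaDual.centralizer_mixed (hG : Cfsg.IsMinSimpleOddOrder G) (d : KappaDual M K L)
    (hz : z ∈ hat(M, K)) : centralizer ({z} : Set G) = K ⊔ fix(M, K) := by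
  refine le_antisymm (fun g hg => ?_) (fun g hg => mem_centralizer_singleton_iff.mpr (d.comm hG hg hz.1))
  refine d.pair.conj_mem hG hz.1 (fun h => hz.2 (Or.inl h)) (fun h => hz.2 (Or.inr h)) ?_
  rw [mem_centralizer_singleton_iff.mp hg, mul_inv_cancel_right]
  exact hz.1

/-- A mixed element of `Z` lies in no other conjugate of `M`. -/
theorem KappaPair.hat_notMem_conj (hG : Cfsg.IsMinSimpleOddOrder G) (h : KappaPair M K) (hg : g ∉ M)
    (hz : z ∈ hat(M, K)) : z ∉ conjMap g M := fun hzM => by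
  obtain ⟨k, hk, y, hy, rfl⟩ := h.exists_mul hz.1
  have hy1 : y ≠ 1 := fun e => hz.2 (Or.inl (by rw [e, mul_one]; exact hk))
  have hpow : (k * y) ^ orderOf k = y ^ orderOf k := by
    rw [(h.commute hk hy).mul_pow, pow_orderOf_eq_one, one_mul]
  have h1 : y ^ orderOf k = 1 := mem_bot.mp ((fixed_conj hG h.max h.hall h.ne hg).le
    ⟨pow_mem hy _, hpow ▸ pow_mem hzM _⟩)
  exact hy1 (orderOf_eq_one_iff.mp (Nat.eq_one_of_dvd_coprimes (Nat.coprime_of_dvd fun t ht a b =>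
    h.not_sigma hk ht a (h.sigma_fix hy ht b)) (orderOf_dvd_of_pow_eq_one h1) dvd_rfl))

theorem KappaPair.hat_ncard (hG : Cfsg.IsMinSimpleOddOrder G) (h : KappaPair M K) :
    (hat(M, K)).ncard =
      Nat.card K * Nat.card ↥(fix(M, K)) - Nat.card K - Nat.card ↥(fix(M, K)) + 1 ∧
    Nat.card K + Nat.card ↥(fix(M, K)) ≤ Nat.card K * Nat.card ↥(fix(M, K)) := by
  have hk : 1 < Nat.card K := (one_lt_card_iff_ne_bot _).mpr h.ne
  have hw : 1 < Nat.card ↥(fix(M, K)) := (one_lt_card_iff_ne_bot _).mpr (h.fix_ne hG)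
  have hkw : Nat.card K + Nat.card ↥(fix(M, K)) ≤ Nat.card K * Nat.card ↥(fix(M, K)) :=
    Nat.add_le_mul hk hw
  have hu := Set.ncard_union_add_ncard_inter (SetLike.coe K) (SetLike.coe (fix(M, K)))
  have hi : (SetLike.coe K) ∩ (SetLike.coe (fix(M, K))) = {1} := by
    rw [← Subgroup.coe_inf, h.disjoint, Subgroup.coe_bot]
  have e1 : (SetLike.coe K).ncard = Nat.card K := (Nat.card_coe_set_eq _).symm
  have e2 : (SetLike.coe (fix(M, K))).ncard = Nat.card ↥(fix(M, K)) := (Nat.card_coe_set_eq _).symm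
  rw [hi, Set.ncard_singleton, e1, e2] at hu
  have hsub : (SetLike.coe K) ∪ (SetLike.coe (fix(M, K))) ⊆ SetLike.coe (K ⊔ fix(M, K)) :=
    Set.union_subset (fun a ha => mem_sup_left ha) fun a ha => mem_sup_right ha
  have hle := Set.ncard_le_ncard hsub
  have hd := Set.ncard_diff hsub
  have hc : (SetLike.coe (K ⊔ fix(M, K))).ncard = Nat.card K * Nat.card ↥(fix(M, K)) := by
    exact (Nat.card_coe_set_eq _).symm.trans h.card_eq
  constructor <;> omega

theorem KappaPair.hat_normal (h : KappaPair M K) (hg : g ∈ K ⊔ fix(M, K))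
    (hc : ∀ x ∈ K ⊔ fix(M, K), ∀ y ∈ K ⊔ fix(M, K), x * y = y * x) :
    ∀ z ∈ hat(M, K), g * z * g⁻¹ ∈ hat(M, K) := fun z hz => by
  rw [hc g hg z hz.1, mul_inv_cancel_right]; exact hz

/-- The conjugates of `Ẑ`. -/
theorem KappaDual.hat_count (hG : Cfsg.IsMinSimpleOddOrder G) (d : KappaDual M K L) :
    Nat.card K * Nat.card ↥(fix(M, K)) * (hatConj(M, K)).ncard =
      (Nat.card K * Nat.card ↥(fix(M, K)) - Nat.card K - Nat.card ↥(fix(M, K)) + 1) * Nat.card G ∧
    Nat.card G < 2 * (hatConj(M, K)).ncard := by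
  have hcount := ncard_conj_image (K ⊔ fix(M, K)) (hat(M, K))
    (fun g hg z hz => d.pair.hat_normal hg (fun a ha b hb => d.comm hG ha hb) z hz)
    fun g z hz hgz => d.pair.conj_mem hG hz.1 (fun h => hz.2 (Or.inl h)) (fun h => hz.2 (Or.inr h)) hgz.1
  obtain ⟨hn, hle⟩ := d.pair.hat_ncard hG
  rw [hn] at hcount
  have hw : Nat.card K * Nat.card ↥(fix(M, K)) * (K ⊔ fix(M, K)).index = Nat.card G := by
    rw [← d.pair.card_eq]; exact card_mul_index _
  have h1 : Nat.card K * Nat.card ↥(fix(M, K)) * (hatConj(M, K)).ncard =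
      (Nat.card K * Nat.card ↥(fix(M, K)) - Nat.card K - Nat.card ↥(fix(M, K)) + 1) * Nat.card G := by
    rw [hcount, ← hw]; ring
  refine ⟨h1, ?_⟩
  obtain ⟨i, hi⟩ : Odd (Nat.card K) := hG.1.of_dvd_nat (card_subgroup_dvd_card _)
  obtain ⟨j, hj⟩ : Odd (Nat.card ↥(fix(M, K))) := hG.1.of_dvd_nat (card_subgroup_dvd_card _)
  have hi0 : i ≠ 0 := fun e => d.pair.ne (card_eq_one.mp (by omega))
  have hj0 : j ≠ 0 := fun e => d.pair.fix_ne hG (card_eq_one.mp (by omega))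
  have hij : ¬ (i = 1 ∧ j = 1) := fun ⟨e1, e2⟩ => by
    subst e1; subst e2
    exact (d.pair.hall.2.1 3 Nat.prime_three (dvd_of_eq hi.symm)).2.2.1
      (sigmaCore_isPi 3 Nat.prime_three ((dvd_of_eq hj.symm).trans (card_dvd_of_le inf_le_left)))
  have hpos : 0 < Nat.card G := Nat.card_pos
  set c := (hatConj(M, K)).ncard
  rw [hi, hj] at h1 hle
  have hij' : (i ≠ 1 ∨ j ≠ 1) := not_and_or.mp hij
  have h2 : (2 * i + 1) * (2 * j + 1) = 4 * (i * j) + 2 * i + 2 * j + 1 := by ring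
  have hsub : (2 * i + 1) * (2 * j + 1) - (2 * i + 1) - (2 * j + 1) + 1 = 4 * (i * j) := by
    rw [h2]
    have : 1 ≤ i * j := Nat.one_le_iff_ne_zero.mpr (mul_ne_zero hi0 hj0)
    omega
  rw [hsub, h2] at h1
  have hkey : 4 * (i * j) + 2 * i + 2 * j + 1 < 2 * (4 * (i * j)) := by
    rcases hij' with h3 | h3
    · nlinarith [Nat.one_le_iff_ne_zero.mpr hi0, Nat.one_le_iff_ne_zero.mpr hj0, (by omega : 2 ≤ i)]
    · nlinarith [Nat.one_le_iff_ne_zero.mpr hi0, Nat.one_le_iff_ne_zero.mpr hj0, (by omega : 2 ≤ j)]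
  nlinarith

/-- `κ(M) = τ₁(M)`. -/
theorem KappaPair.kappa_eq_tau_one (hG : Cfsg.IsMinSimpleOddOrder G) (h : KappaPair M K) :
    Cfsg.kappa M = Cfsg.tau1 M := by
  have hM := h.max
  ext s
  constructor
  · intro hκ
    haveI := Fact.mk hκ.1
    refine ⟨hκ.1, hκ.2.2.1, hκ.2.1, fun hd => ?_, kappa_rank hG hM hκ⟩
    have hτ := tau_three_of_kappa hG hM hκ hd
    obtain ⟨E, U, hEU⟩ := exists_kappaSplit hG hM h.hall
    have hU : U = ⊥ := card_eq_one.mp <| by
      by_contra hne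
      obtain ⟨t, ht, htd⟩ := Nat.exists_prime_and_dvd hne
      haveI := Fact.mk ht
      exact (hEU.hallU.2.1 t ht htd).2.1
        (kappa_all_of_tau_three hG hM hEU.compl hκ hτ (htd.trans (card_dvd_of_le hEU.memU)))
    have hEK : E = K := by rw [← hEU.prod, hU, bot_sup_eq]
    haveI := h.cyclic hG
    have hder : ⁅K, K⁆ = ⊥ := commutator_eq_bot_iff_le_centralizer.mpr fun a ha =>
      mem_centralizer_iff.mpr fun b hb =>
        congrArg Subtype.val ((IsCyclic.commGroup (α := K)).mul_comm ⟨b, hb⟩ ⟨a, ha⟩)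
    have hsE : s ∣ Nat.card E := by
      have h1 := hκ.2.1
      rw [card_eq_mul hEU.compl] at h1
      exact (hκ.1.dvd_mul.mp h1).resolve_left fun hh => hκ.2.2.1 (sigmaCore_isPi s hκ.1 hh)
    obtain ⟨a, ha⟩ := exists_prime_orderOf_dvd_card' s hsE
    have hao : orderOf (a : G) = s := by rw [orderOf_coe, ha]
    have h2 := mem_derived_of_tau_three hG hM hEU.compl hτ a.2 hao
    have h3 := mem_bot.mp (hder.le (commutator_mono hEK.le hEK.le h2))
    exact hκ.1.ne_one (by rw [← hao, h3, orderOf_one])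
  · intro hτ
    by_contra hκ
    haveI := Fact.mk hτ.1
    obtain ⟨E, U, hEU⟩ := exists_kappaSplit hG hM h.hall
    have hsE : s ∣ Nat.card E := by
      have h1 := hτ.2.2.1
      rw [card_eq_mul hEU.compl] at h1
      exact (hτ.1.dvd_mul.mp h1).resolve_left fun hh => hτ.2.1 (sigmaCore_isPi s hτ.1 hh)
    have hsU : s ∣ Nat.card U := by
      rw [← hEU.prod] at hsE
      exact (dvd_card_sup (hEU.memK.trans hEU.normal) hτ.1 hsE).resolve_right fun hh =>
        hκ (h.hall.2.1 s hτ.1 hh)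
    have hUc := hEU.comm hG hM h.ne
    obtain ⟨X, hX, hXp⟩ := exists_line h.ne
    obtain ⟨x, hx, hx1⟩ : ∃ x ∈ X, x ≠ (1 : G) := by
      by_contra hne
      push Not at hne
      exact hXp.ne_one (card_eq_one.mpr ((eq_bot_iff_forall X).mpr hne))
    haveI : IsMulCommutative U := hUc
    have hcop : (Nat.card K).Coprime (Nat.card U) := coprime_card_of_disjoint fun t ht h1 h2 =>
      (hEU.hallU.2.1 t ht h2).2.1 (h.hall.2.1 t ht h1)
    obtain ⟨-, hsum⟩ := Cfsg.Lib.Coprime.abelian_coprime_decomp (hEU.memK.trans hEU.normal) hcop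
    have hfix : U ⊓ centralizer (K : Set G) = ⊥ := le_bot_iff.mp
      ((inf_le_inf_left _ (centralizer_le (Set.singleton_subset_iff.mpr (hX hx)))).trans
        (hEU.free x (hX hx) hx1).le)
    have hUD : U ≤ ⁅M, M⁆ := by
      refine hsum.ge.trans (sup_le ?_ (commutator_mono hEU.hallU.1 h.hall.1))
      rw [hfix]; exact bot_le
    exact hτ.2.2.2.1 (hsU.trans (card_dvd_of_le hUD))

/-- `C_{M_σ}(K)` is a Hall `σ(M)`-subgroup of the dual. -/
theorem KappaDual.hall_sigma (hG : Cfsg.IsMinSimpleOddOrder G) (d : KappaDual M K L) :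
    Cfsg.IsPiHallOf (Cfsg.sigma M) (fix(M, K)) L := by
  refine ⟨d.pair'.hall.1, fun t ht hd => sigmaCore_isPi t ht (hd.trans (card_dvd_of_le inf_le_left)),
    fun t ht hσ hd => ?_⟩
  haveI := Fact.mk ht
  have htκ : t ∉ Cfsg.kappa L := fun hκ => d.pair'.hall.2.2 t ht hκ hd
  have htL := d.sigma_disjoint hG hσ
  obtain ⟨E, U, hEU⟩ := exists_kappaSplit hG d.pair'.max d.pair'.hall
  have htU : t ∣ Nat.card U := by
    have h1 : t ∣ Nat.card L := hd.trans (relIndex_dvd_card _ _)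
    rw [card_eq_mul hEU.compl] at h1
    have h2 := (ht.dvd_mul.mp h1).resolve_left fun hh => htL (sigmaCore_isPi t ht hh)
    rw [← hEU.prod] at h2
    exact (dvd_card_sup (hEU.memK.trans hEU.normal) ht h2).resolve_right fun hh =>
      htκ (d.pair'.hall.2.1 t ht hh)
  have hcop : (Nat.card ↥(fix(M, K))).Coprime (Nat.card U) := coprime_card_of_disjoint fun r hr h1 h2 =>
    (hEU.hallU.2.1 r hr h2).2.1 (d.pair'.hall.2.1 r hr h1)
  obtain ⟨T₀, hT₀⟩ := Cfsg.Lib.Coprime.exists_invariant_sylow (hEU.memK.trans hEU.normal) hcop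
    (Or.inl (hG.2.2.2 _ (FittingUniqueness.ne_top_of_le_coatom d.pair'.max d.pair'.hall.1))) t
  set T := (T₀ : Subgroup U).map U.subtype with hT
  have hTU : T ≤ U := map_subtype_le _
  have hle : T ⊔ fix(M, K) ≤ Cfsg.sigmaCore M := by
    refine kappa_star_intersections hG d.pair.max d.pair.hall d.pair.ne (fun r hr hrd => ?_) fun h0 =>
      d.pair.fix_ne hG (le_bot_iff.mp ((le_inf le_sup_right le_rfl).trans h0.le))
    rcases dvd_card_sup hT₀ hr hrd with hh | hh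
    · exact eq_of_dvd_pgroup (T₀.2.map _) hr hh ▸ hσ
    · exact sigmaCore_isPi r hr (hh.trans (card_dvd_of_le inf_le_left))
  have hTW : T ≤ fix(M, K) := (le_inf (le_sup_left.trans hle) (hTU.trans hEU.hallU.1)).trans (d.meet_fix hG).le
  have hT1 : T = ⊥ := le_bot_iff.mp ((le_inf hTU hTW).trans hEU.disjoint.le)
  exact T₀.ne_bot_of_dvd_card htU ((map_eq_bot_iff_of_injective _ U.subtype_injective).mp hT1)

/-- Every maximal subgroup with a nonempty `κ` is conjugate to one of a dual pair. -/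
theorem KappaDual.classes (hG : Cfsg.IsMinSimpleOddOrder G) (d : KappaDual M K L) {H : Subgroup G}
    (hH : IsCoatom H) (hne : (Cfsg.kappa H).Nonempty) :
    ∃ g : G, H = conjMap g M ∨ H = conjMap g L := by
  obtain ⟨s, hs⟩ := hne
  obtain ⟨J, hJ⟩ := exists_kappa_hall hG hH
  have hJ1 : J ≠ ⊥ := fun e => hJ.2.2 s hs.1 hs (by
    rw [e, relIndex_bot_left]; exact hs.2.1)
  obtain ⟨N, d'⟩ := (KappaPair.mk hH hJ hJ1).exists_dual hG
  have hnd : ¬ Disjoint (hatConj(M, K)) (hatConj(H, J)) := fun hdis => by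
    have h1 := Set.ncard_union_eq hdis
    have h2 := Set.ncard_le_ncard (Set.subset_univ (hatConj(M, K) ∪ hatConj(H, J)))
    rw [Set.ncard_univ] at h2
    have h3 := (d.hat_count hG).2
    have h4 := (d'.hat_count hG).2
    omega
  obtain ⟨a, ⟨g₁, z, hz, rfl⟩, g₂, w, hw, he⟩ := Set.not_disjoint_iff.mp hnd
  have hw' : w = g₂⁻¹ * g₁ * z * (g₂⁻¹ * g₁)⁻¹ := by
    calc w = g₂⁻¹ * (g₂ * w * g₂⁻¹) * g₂ := by group
      _ = _ := by rw [← he]; group
  have hcard : Nat.card ↥(J ⊔ fix(H, J)) = Nat.card ↥(K ⊔ fix(M, K)) := by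
    rw [← d'.centralizer_mixed hG hw, ← d.centralizer_mixed hG hz, hw', centralizer_singleton_conj,
      Cfsg.Lib.Coprime.card_conjMap]
  obtain ⟨X, hX, hXp⟩ := exists_line (d'.pair.fix_ne hG)
  have hXH : Nat.card X ∈ Cfsg.sigma H := sigmaCore_isPi _ hXp (card_dvd_of_le (hX.trans inf_le_left))
  have hdvd : Nat.card X ∣ Nat.card K * Nat.card ↥(fix(M, K)) := by
    rw [← d.pair.card_eq, ← hcard]
    exact card_dvd_of_le (hX.trans le_sup_right)
  rcases hXp.dvd_mul.mp hdvd with hh | hh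
  · obtain ⟨g, hg⟩ := (sigma_partition hG).2 L H d.pair'.max hH ⟨_, sigmaCore_isPi _ hXp
      (hh.trans (card_dvd_of_le (d.eq.le.trans inf_le_left))), hXH⟩
    exact ⟨g, Or.inr hg⟩
  · obtain ⟨g, hg⟩ := (sigma_partition hG).2 M H d.pair.max hH ⟨_, sigmaCore_isPi _ hXp
      (hh.trans (card_dvd_of_le inf_le_left)), hXH⟩
    exact ⟨g, Or.inl hg⟩

theorem trivial_card (hG : Cfsg.IsMinSimpleOddOrder G) (hM : IsCoatom M)
    (hd : Cfsg.IsSigmaDecomposition M K U) (hU : U = ⊥) :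
    Nat.card M = Nat.card (Cfsg.sigmaCore M) * Nat.card K := by
  obtain ⟨E, hE⟩ := decomp_split hG hM hd
  rw [card_eq_mul hE.compl, show E = K by rw [← hE.prod, hU, bot_sup_eq]]

/-- The normalizer of `Ẑ`. -/
theorem KappaDual.hat_ti (hG : Cfsg.IsMinSimpleOddOrder G) (d : KappaDual M K L) :
    Cfsg.IsTISubset (hat(M, K)) ∧ normalizer (hat(M, K)) = K ⊔ fix(M, K) := by
  have hmem : ∀ g z : G, z ∈ hat(M, K) → g * z * g⁻¹ ∈ hat(M, K) → g ∈ K ⊔ fix(M, K) := fun g z hz hgz =>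
    d.pair.conj_mem hG hz.1 (fun h => hz.2 (Or.inl h)) (fun h => hz.2 (Or.inr h)) hgz.1
  have hN : normalizer (hat(M, K)) = K ⊔ fix(M, K) := by
    refine le_antisymm (fun g hg => ?_) fun g hg => ?_
    · obtain ⟨a, ha, ha1⟩ := (Subgroup.bot_or_exists_ne_one K).resolve_left d.pair.ne
      obtain ⟨b, hb, hb1⟩ := (Subgroup.bot_or_exists_ne_one (fix(M, K))).resolve_left (d.pair.fix_ne hG)
      have hz : a * b ∈ hat(M, K) := ⟨mul_mem_sup ha hb, fun h => h.elim
        (d.pair.mul_notMem ha ha1 hb hb1).1 (d.pair.mul_notMem ha ha1 hb hb1).2⟩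
      exact hmem g _ hz ((Subgroup.mem_set_normalizer_iff.mp hg _).mp hz)
    · refine Subgroup.mem_set_normalizer_iff.mpr fun z => ⟨fun hz => ?_, fun hz => ?_⟩
      · exact d.pair.hat_normal hg (fun a ha b hb => d.comm hG ha hb) z hz
      · have := d.pair.hat_normal (inv_mem hg) (fun a ha b hb => d.comm hG ha hb) _ hz
        simpa [mul_assoc] using this
  exact ⟨fun g hg x hx hgx => absurd (hN.ge (hmem g x hx hgx)) hg, hN⟩

end Cfsg.Lib.OddLocal.RankTwoMax
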