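import Cfsg.Agent.OddLocal.CentralizerSplit
import Cfsg.Agent.Coprime.FrobeniusFixed

/-!
# The fixed points in `M_σ` of a Hall `κ(M)`-subgroup
-/

set_option linter.unusedSectionVars false
set_option linter.unusedVariables false
set_option linter.style.haveILetI false

namespace Cfsg.Lib.OddLocal.RankTwoMax

open Subgroup Uniqueness Sigma
open Cfsg.Lib.Coprime (conjMap)
open scoped commutatorElement

universe u

variable {G : Type u} [Group G] [Finite G] {M K E U X : Subgroup G} {p q : ℕ} [hp : Fact p.Prime]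
  [hq : Fact q.Prime] {g z : G}

/-- A Hall `κ(M)`-subgroup contains an element of prime order of `τ₁(M)`. -/
theorem exists_tau_one_kappa (hG : Cfsg.IsMinSimpleOddOrder G) (hM : IsCoatom M)
    (hK : Cfsg.IsPiHallOf (Cfsg.kappa M) K M) (hK1 : K ≠ ⊥) :
    ∃ s : ℕ, s.Prime ∧ s ∈ Cfsg.kappa M ∧ s ∈ Cfsg.tau1 M ∧ ∃ a ∈ K, orderOf a = s := by
  by_cases hex : ∃ s : ℕ, s ∈ Cfsg.kappa M ∧ ¬ s ∣ Nat.card ↥⁅M, M⁆
  · obtain ⟨s, hκ, hnd⟩ := hex
    haveI := Fact.mk hκ.1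
    have hsK : s ∣ Nat.card K := by
      have h := hκ.2.1
      rw [← card_mul_relIndex hK.1] at h
      exact (hκ.1.dvd_mul.mp h).resolve_right (hK.2.2 s hκ.1 hκ)
    obtain ⟨a, ha⟩ := exists_prime_orderOf_dvd_card' s hsK
    exact ⟨s, hκ.1, hκ, ⟨hκ.1, hκ.2.2.1, hκ.2.1, hnd, kappa_rank hG hM hκ⟩, a, a.2, by rw [orderOf_coe, ha]⟩
  push Not at hex
  exfalso
  obtain ⟨r, hr, hd⟩ := Nat.exists_prime_and_dvd (mt card_eq_one.mp hK1)
  haveI := Fact.mk hr
  have hrκ := hK.2.1 r hr hd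
  obtain ⟨E, hE, hKE⟩ := exists_complement_ge hG hM hK.1 fun t ht hd => (hK.2.1 t ht hd).2.2.1
  haveI : Group.IsSolvable E := hG.2.2.2 E (FittingUniqueness.ne_top_of_le_coatom hM hE.1)
  have hperf : E ≤ ⁅E, E⁆ := Cfsg.Lib.Coprime.le_of_forall_sylow fun t ht => by
    haveI := Fact.mk ht
    obtain ⟨S⟩ : Nonempty (Sylow t E) := inferInstance
    refine ⟨S, ?_⟩
    by_cases hdt : t ∣ Nat.card E
    · have hκt := kappa_all_of_tau_three hG hM hE hrκ (tau_three_of_kappa hG hM hrκ (hex r hrκ)) hdt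
      exact sylow_le_derived_tau3 hG hM hE (tau_three_of_kappa hG hM hκt (hex t hκt)) (isSylowOf_sylow S)
    · have h1 : (S : Subgroup E) = ⊥ := by
        refine card_eq_one.mp ?_
        obtain ⟨i, hi⟩ := IsPGroup.iff_card.mp S.2
        rcases i with _ | i
        · simpa using hi
        · exact absurd ((dvd_pow_self t i.succ_ne_zero).trans (hi ▸ card_subgroup_dvd_card _)) hdt
      rw [h1, Subgroup.map_bot]; exact bot_le
  haveI : Nontrivial E := (nontrivial_iff_ne_bot E).mpr fun h => hK1 (le_bot_iff.mp (hKE.trans h.le))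
  refine (Group.IsSolvable.commutator_lt_top_of_nontrivial E).ne (top_le_iff.mp fun e _ => ?_)
  have h1 : (e : G) ∈ (commutator E).map E.subtype := by rw [map_subtype_commutator]; exact hperf e.2
  obtain ⟨e', he', hee⟩ := h1
  exact E.subtype_injective hee ▸ he'

/-- A line of `C_{M_σ}(K)` has its centralizer in no maximal subgroup but `M`. -/
theorem line_unique (hG : Cfsg.IsMinSimpleOddOrder G) (hM : IsCoatom M)
    (hK : Cfsg.IsPiHallOf (Cfsg.kappa M) K M) (hK1 : K ≠ ⊥) (hX : (Nat.card X).Prime)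
    (hXK : X ≤ Cfsg.sigmaCore M ⊓ centralizer (K : Set G)) :
    centralizer (X : Set G) ≤ M ∧ ∀ L : Subgroup G, IsCoatom L → centralizer (X : Set G) ≤ L → L = M := by
  obtain ⟨s, hs, -, hτ, a, haK, hao⟩ := exists_tau_one_kappa hG hM hK hK1
  haveI := Fact.mk hs
  haveI := Fact.mk hX
  exact tau_one_unique (p := Nat.card X) (q := s) hG hM hτ (Q := zpowers a) (by rw [Nat.card_zpowers, hao])
    (zpowers_le.mpr (hK.1 haK)) rfl (hXK.trans inf_le_left)
    ((zpowers_le.mpr haK).trans (le_centralizer_iff.mp (hXK.trans inf_le_right)))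

/-- `C_{M_σ}(K)` meets no conjugate of `M` but `M`. -/
theorem fixed_conj (hG : Cfsg.IsMinSimpleOddOrder G) (hM : IsCoatom M)
    (hK : Cfsg.IsPiHallOf (Cfsg.kappa M) K M) (hK1 : K ≠ ⊥) (hgM : g ∉ M) :
    (Cfsg.sigmaCore M ⊓ centralizer (K : Set G)) ⊓ conjMap g M = ⊥ := by
  refine le_bot_iff.mp fun z hz => ?_
  rw [mem_bot]
  by_contra hz1
  obtain ⟨c, hc, hcg⟩ := exists_centralizer_conj hG hM hz.1.1 hz1 hz.2
  obtain ⟨s, hs, hκ, -, a, haK, hao⟩ := exists_tau_one_kappa hG hM hK hK1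
  haveI := Fact.mk hs
  have hcM : c ∈ M := centralizer_le_of_kappa hG hM hz.1.1 hz1 hκ (hK.1 haK) hao
    (mem_centralizer_iff.mp hz.1.2 a haK) hc
  exact hgM (eq_of_conj_fix hG hM (hcg ▸ Cfsg.Lib.Coprime.conjMap_eq_self (le_normalizer hcM)))

/-- Conjugates of `K` in `M` meet trivially outside the normalizer. -/
theorem kappa_hall_ti (hG : Cfsg.IsMinSimpleOddOrder G) (hM : IsCoatom M)
    (hK : Cfsg.IsPiHallOf (Cfsg.kappa M) K M) (hgM : g ∈ M)
    (hg : g ∉ K ⊔ (Cfsg.sigmaCore M ⊓ centralizer (K : Set G))) : K ⊓ conjMap g K = ⊥ := by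
  refine le_bot_iff.mp fun y hy => ?_
  rw [mem_bot]
  by_contra hy1
  obtain ⟨b, hby, hbp, -⟩ := exists_prime_pow_mem hy1
  haveI := Fact.mk hbp
  obtain ⟨k, hk, hkb⟩ : b ∈ conjMap g K := zpowers_le.mpr hy.2 hby
  have hbK : b ∈ K := zpowers_le.mpr hy.1 hby
  have hkb' : g * k * g⁻¹ = b := hkb
  have hko : orderOf k = orderOf b := by rw [← hkb']; exact (orderOf_injective (MulAut.conj g).toMonoidHom (MulEquiv.injective _) k).symm
  obtain ⟨hn, hcomm⟩ := kappa_group_lines (s := orderOf b) hG hM hK.1 hK.2.1 hbK rfl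
  have hκ : orderOf b ∈ Cfsg.kappa M := hK.2.1 _ hbp
    ((Nat.card_zpowers b).symm ▸ card_dvd_of_le (zpowers_le.mpr hbK))
  have hbc : Nat.card (zpowers b) = orderOf b := Nat.card_zpowers b
  have hkc : Nat.card (zpowers k) = orderOf b := by rw [Nat.card_zpowers, hko]
  have hcyc := isCyclic_sylow_of_rank_one hG
    ((isPGroup_of_card hbc).to_sup_of_normal_left' (isPGroup_of_card hkc) ((zpowers_le.mpr hk).trans hn))
    ((sup_le (zpowers_le.mpr hbK) (zpowers_le.mpr hk)).trans hK.1) (kappa_rank hG hM hκ)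
  have heq := eq_of_cyclic hcyc le_sup_right le_sup_left (hkc.trans hbc.symm)
  have hgn : g ∈ normalizer (zpowers b : Set G) := by
    refine Cfsg.Lib.Coprime.conjMap_eq_self_iff.mp ?_
    conv_lhs => rw [← heq]
    rw [show conjMap g (zpowers k) = zpowers (g * k * g⁻¹) from MonoidHom.map_zpowers _ _, hkb']
  obtain ⟨E, U, hEU⟩ := exists_kappaSplit hG hM hK
  exact hg ((hEU.normalizer_eq hG hM hK (fun h => hbp.ne_one (by rw [← hbc, h, card_bot]))
    (zpowers_le.mpr hbK) hn).le ⟨hgM, hgn⟩)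

/-- An abelian Sylow subgroup of `M_σ` for a prime outside `β(M)` meets `M_σ'` trivially. -/
theorem derived_free_of_comm (hG : Cfsg.IsMinSimpleOddOrder G) (hM : IsCoatom M) (hσ : p ∈ Cfsg.sigma M)
    (hβ : p ∉ Cfsg.beta M) (T₀ : Sylow p ↥(Cfsg.sigmaCore M))
    (hTc : IsMulCommutative ↥((T₀ : Subgroup ↥(Cfsg.sigmaCore M)).map (Cfsg.sigmaCore M).subtype))
    (hzo : orderOf z = p) : z ∉ ⁅Cfsg.sigmaCore M, Cfsg.sigmaCore M⁆ := fun hzd => by
  set T := (T₀ : Subgroup (Cfsg.sigmaCore M)).map (Cfsg.sigmaCore M).subtype with hT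
  have hTH : T ≤ Cfsg.sigmaCore M := map_subtype_le _
  have hTcomm : IsMulCommutative T := hTc
  set W := Op p (Cfsg.sigmaCore M) with hW
  have hHW : (Cfsg.sigmaCore M) ≤ normalizer (W : Set G) := le_normalizer.trans (PiCoreOf.normalizer_le _ _)
  have hpn : PNil p ↥(Cfsg.sigmaCore M) := pnil_of_le_derived hG hM hσ.2.1 hβ (sigmaCore_le_derived hG hM)
  have hcov : (Cfsg.sigmaCore M) ≤ W ⊔ T := by
    refine Cfsg.Lib.Coprime.le_of_forall_sylow fun t ht => ?_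
    haveI := Fact.mk ht
    by_cases htp : t = p
    · subst htp
      exact ⟨T₀, le_sup_right⟩
    · obtain ⟨S'⟩ : Nonempty (Sylow t (Cfsg.sigmaCore M)) := inferInstance
      refine ⟨S', ?_⟩
      rintro _ ⟨y, hy, rfl⟩
      refine mem_sup_left ?_
      rw [hW, Op_eq]
      refine mem_map_of_mem _ (hpn y ?_)
      obtain ⟨j, hj⟩ := IsPGroup.iff_card.mp (S'.2.to_le (zpowers_le.mpr hy))
      rw [← Nat.card_zpowers, hj]
      exact ((Nat.coprime_primes ht hp.out).mpr htp).pow_left j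
  have hder : ⁅(Cfsg.sigmaCore M), (Cfsg.sigmaCore M)⁆ ≤ W := by
    rw [commutator_le]
    intro u hu v hv
    obtain ⟨k, hk, t, ht, rfl⟩ := (Cfsg.Lib.Coprime.mem_sup_of_le_normalizer (hTH.trans hHW)).mp (hcov hu)
    obtain ⟨l, hl, t', ht', rfl⟩ := (Cfsg.Lib.Coprime.mem_sup_of_le_normalizer (hTH.trans hHW)).mp (hcov hv)
    rw [show ⁅k * t, l * t'⁆ = k * (t * l * t⁻¹) * ((t * t' * t⁻¹) * k⁻¹ * t'⁻¹) * l⁻¹ by
      simp only [commutatorElement_def]; group,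
      ThompsonTransitivity.mul_comm_of hTcomm ht ht', mul_inv_cancel_right]
    exact mul_mem (mul_mem (mul_mem hk ((mem_normalizer_iff.mp (hHW (hTH ht)) _).mp hl))
      ((mem_normalizer_iff.mp (hHW (hTH ht')) _).mp (inv_mem hk))) (inv_mem hl)
  have hz1 : z = 1 := Cfsg.Lib.Coprime.eq_one_of_coprime (N := W) (H := zpowers z)
    (by rw [Nat.card_zpowers, hzo]; exact coprime_Op (Cfsg.sigmaCore M)) (hder hzd) (mem_zpowers z)
  exact hp.out.ne_one (by rw [← hzo, hz1, orderOf_one])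

/-- A cyclic Sylow subgroup of `M_σ` for a prime outside `β(M)` meets `M_σ'` trivially. -/
theorem derived_free_of_cyclic (hG : Cfsg.IsMinSimpleOddOrder G) (hM : IsCoatom M) (hσ : p ∈ Cfsg.sigma M)
    (hβ : p ∉ Cfsg.beta M) (T₀ : Sylow p ↥(Cfsg.sigmaCore M))
    (hTc : IsCyclic ↥((T₀ : Subgroup ↥(Cfsg.sigmaCore M)).map (Cfsg.sigmaCore M).subtype))
    (hzo : orderOf z = p) : z ∉ ⁅Cfsg.sigmaCore M, Cfsg.sigmaCore M⁆ :=
  derived_free_of_comm hG hM hσ hβ T₀ ⟨⟨fun x y =>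
    (@IsCyclic.commGroup _ _ hTc).mul_comm x y⟩⟩ hzo

/-- Sylow subgroups of `M_σ` for the primes of `C_{M_σ}(K)`. -/
theorem fixed_sylow (hG : Cfsg.IsMinSimpleOddOrder G) (hM : IsCoatom M)
    (hK : Cfsg.IsPiHallOf (Cfsg.kappa M) K M) (hK1 : K ≠ ⊥)
    (hd : p ∣ Nat.card ↥(Cfsg.sigmaCore M ⊓ centralizer (K : Set G))) (S : Sylow p ↥(Cfsg.sigmaCore M)) :
    Cfsg.InUniqueMaximal ((S : Subgroup ↥(Cfsg.sigmaCore M)).map (Cfsg.sigmaCore M).subtype) ∧
      (S : Subgroup ↥(Cfsg.sigmaCore M)).map (Cfsg.sigmaCore M).subtype ≤ M ∧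
      ¬ (S : Subgroup ↥(Cfsg.sigmaCore M)).map (Cfsg.sigmaCore M).subtype ≤
        Cfsg.sigmaCore M ⊓ centralizer (K : Set G) := by
  obtain ⟨x, hx⟩ := exists_prime_orderOf_dvd_card' p hd
  have hxo : orderOf (x : G) = p := by rw [orderOf_coe, hx]
  have hσ : p ∈ Cfsg.sigma M := prime_of_mem_core x.2.1 hp.out (dvd_of_eq hxo.symm)
  obtain ⟨s, hs, hκ, hτ, a, haK, hao⟩ := exists_tau_one_kappa hG hM hK hK1
  haveI := Fact.mk hs
  have hac : Nat.card (zpowers a) = s := by rw [Nat.card_zpowers, hao]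
  have hX : Nat.card (zpowers (x : G)) = p := by rw [Nat.card_zpowers, hxo]
  have hXC : zpowers (x : G) ≤ centralizer (K : Set G) := zpowers_le.mpr x.2.2
  have hder : p ∈ Cfsg.beta M ∨ zpowers (x : G) ≤ ⁅Cfsg.sigmaCore M, Cfsg.sigmaCore M⁆ :=
    or_iff_not_imp_left.mpr fun hβ => tau_one_derived (p := p) (q := s) hG hM hτ hac
      (zpowers_le.mpr (hK.1 haK)) hX (zpowers_le.mpr x.2.1)
      ((zpowers_le.mpr haK).trans (le_centralizer_iff.mp hXC)) hβ
  obtain ⟨-, huniq, hSM⟩ := sigma_order_p_theorem hG hM hσ (zpowers_le.mpr (sigmaCore_le M x.2.1)) hX S hder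
  refine ⟨huniq, hSM, fun hle => ?_⟩
  obtain ⟨L, hL, hNL, hnc, hsL⟩ := exists_over_line hG hM hκ hac (zpowers_le.mpr (hK.1 haK))
  have hov : OverLine s M L (zpowers a) := ⟨hM, hL, hκ, hac, zpowers_le.mpr (hK.1 haK), hNL, hnc, hsL⟩
  have hWL : Cfsg.sigmaCore M ⊓ centralizer (K : Set G) ≤ L :=
    inf_le_right.trans ((centralizer_le (SetLike.coe_subset_coe.mpr (zpowers_le.mpr haK))).trans hov.cent)
  have hrL := (hov.rank_one (q := p) hG x.2.1 hxo (hWL x.2)).2.2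
  set T := (S : Subgroup ↥(Cfsg.sigmaCore M)).map (Cfsg.sigmaCore M).subtype with hT
  have hTc : IsCyclic T := isCyclic_sylow_of_rank_one hG (S.2.map _) (hle.trans hWL) hrL
  have hβ : p ∉ Cfsg.beta M := fun hb => by
    obtain ⟨B, hBM, hB, hBc⟩ := exists_elementary (p := p) hb.1.2
    obtain ⟨R, hR, hBR⟩ := exists_sylowOf (isPGroup_of_pow hB.2)
      (le_sigmaCore_of_pgroup hG hM hσ (isPGroup_of_pow hB.2) hBM)
    obtain ⟨m, -, hmR⟩ := card_eq_of_sylowOf hR (isSylowOf_sylow S)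
    refine not_pRankLE_of (k := 1) (Cfsg.Lib.OddP.isElementaryAbelian_map hB (MulAut.conj m).toMonoidHom)
      (X := L) ?_ ?_ hrL
    · exact ((Cfsg.Lib.Coprime.conjMap_mono hBR).trans hmR.le).trans (hle.trans hWL)
    · rw [show B.map (MulAut.conj m).toMonoidHom = conjMap m B from rfl, Cfsg.Lib.Coprime.card_conjMap]
      exact (Nat.pow_le_pow_right hp.out.pos (by norm_num)).trans hBc
  exact derived_free_of_cyclic hG hM hσ hβ S hTc hxo ((hder.resolve_left hβ) (mem_zpowers _))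

/-- Intersections with `C_{M_σ}(K)`. -/
theorem kappa_star_intersections (hG : Cfsg.IsMinSimpleOddOrder G) (hM : IsCoatom M)
    (hK : Cfsg.IsPiHallOf (Cfsg.kappa M) K M) (hK1 : K ≠ ⊥) {Y : Subgroup G}
    (hY : ∀ t : ℕ, t.Prime → t ∣ Nat.card Y → t ∈ Cfsg.sigma M)
    (hYK : Y ⊓ (Cfsg.sigmaCore M ⊓ centralizer (K : Set G)) ≠ ⊥) : Y ≤ Cfsg.sigmaCore M := by
  obtain ⟨g, hg⟩ := exists_conj_le_sigmaCore hG hM (fun h => hYK (by rw [h, bot_inf_eq])) hY
  have hgM : g⁻¹ ∈ M := by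
    by_contra hc
    refine hYK (le_bot_iff.mp fun z hz => (fixed_conj hG hM hK hK1 hc).le ⟨hz.2, ?_⟩)
    exact Cfsg.Lib.Coprime.mem_conjMap.mpr (by
      simpa using sigmaCore_le M (hg ⟨z, hz.1, rfl⟩))
  intro y hy
  have h := (mem_normalizer_iff.mp (le_normalizer_sigmaCore M hgM) _).mp (hg ⟨y, hy, rfl⟩)
  simpa [mul_assoc] using h

end Cfsg.Lib.OddLocal.RankTwoMax
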