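import Cfsg.Agent.OddLocal.KappaLines
import Cfsg.Agent.Thompson.FixedPointFree

/-!
# The Hall `κ(M)`-subgroup and its complement
-/

set_option linter.unusedSectionVars false
set_option linter.unusedVariables false
set_option linter.style.haveILetI false

namespace Cfsg.Lib.OddLocal.RankTwoMax

open Subgroup Uniqueness Sigma
open Cfsg.Lib.Coprime (conjMap)
open scoped commutatorElement

universe u

variable {G : Type u} [Group G] [Finite G] {M L E K U P : Subgroup G} {p q s : ℕ} [hp : Fact p.Prime]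
  [hq : Fact q.Prime] [hs : Fact s.Prime] {a b z : G}

/-- A group with an element of prime order acting without fixed points is nilpotent. -/
theorem nilpotent_of_fixed_free {U : Subgroup G} {a : G} (ha : orderOf a = p)
    (haU : a ∈ normalizer (U : Set G)) (hfix : U ⊓ centralizer ({a} : Set G) = ⊥) : Group.IsNilpotent U := by
  have hmem : ∀ x : U, a * x * a⁻¹ ∈ U := fun x => (mem_normalizer_iff.mp haU _).mp x.2
  let φ : U →* U := MonoidHom.mk' (fun x => ⟨a * x * a⁻¹, hmem x⟩) fun x y => Subtype.ext (by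
    simp only [Subgroup.coe_mul]; group)
  refine Cfsg.Lib.Thompson.isNilpotent_of_fpf φ (fun x hx => Subtype.ext ?_) hp.out (funext fun x => ?_)
  · refine mem_bot.mp (hfix.le ⟨x.2, mem_centralizer_singleton_iff.mpr ?_⟩)
    exact (mul_inv_eq_iff_eq_mul.mp (congrArg Subtype.val hx : a * (x : G) * a⁻¹ = x)).symm
  · have key : ∀ n : ℕ, (((φ : U → U)^[n] x : U) : G) = a ^ n * x * (a ^ n)⁻¹ := by
      intro n
      induction n with
      | zero => simp
      | succ n ih =>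
        rw [Function.iterate_succ_apply']
        show a * (((φ : U → U)^[n] x : U) : G) * a⁻¹ = _
        rw [ih, pow_succ']
        group
    refine Subtype.ext ?_
    rw [key, ← ha, pow_orderOf_eq_one]
    simp

/-- A line of `E'` of a rank one prime is normal in `E`. -/
theorem derived_line_normal (hG : Cfsg.IsMinSimpleOddOrder G) (hM : IsCoatom M)
    (hr : Cfsg.PRankLE p 1 M) (hE : Cfsg.IsComplIn E (Cfsg.sigmaCore M) M) (hPc : Nat.card P = p)
    (hPD : P ≤ ⁅E, E⁆) : E ≤ normalizer (P : Set G) := fun g hg => by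
  refine Cfsg.Lib.Coprime.conjMap_eq_self_iff.mp ?_
  have hgD : conjMap g P ≤ ⁅E, E⁆ := (Cfsg.Lib.Coprime.conjMap_mono hPD).trans
    (Cfsg.Lib.Coprime.conjMap_eq_self (commutator_normal E hg)).le
  have hc := (sigma_prime_corollary hG hM hE).2.1
  have hgc : Nat.card (conjMap g P) = p := by rw [Cfsg.Lib.Coprime.card_conjMap, hPc]
  have hn : conjMap g P ≤ normalizer (P : Set G) := fun w hw => centralizer_le_normalizer _
    (mem_centralizer_iff.mpr fun v hv => ThompsonTransitivity.mul_comm_of hc (hPD hv) (hgD hw))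
  have hcyc := isCyclic_sylow_of_rank_one hG
    ((isPGroup_of_card hPc).to_sup_of_normal_left' (isPGroup_of_card hgc) hn)
    ((sup_le (hPD.trans (commutator_le_self E)) (hgD.trans (commutator_le_self E))).trans hE.1) hr
  exact eq_of_cyclic hcyc le_sup_right le_sup_left (hgc.trans hPc.symm)

/-- A prime divisor of `|E'|` in `κ(M)` is in `τ₃(M)`. -/
theorem tau_three_of_kappa (hG : Cfsg.IsMinSimpleOddOrder G) (hM : IsCoatom M) (hκ : p ∈ Cfsg.kappa M)
    (hd : p ∣ Nat.card ↥⁅M, M⁆) : p ∈ Cfsg.tau3 M :=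
  ⟨hκ.1, hκ.2.2.1, hd, kappa_rank hG hM hκ⟩

theorem mem_derived_of_tau_three (hG : Cfsg.IsMinSimpleOddOrder G) (hM : IsCoatom M)
    (hE : Cfsg.IsComplIn E (Cfsg.sigmaCore M) M) (hτ : p ∈ Cfsg.tau3 M) (haE : a ∈ E) (hao : orderOf a = p) :
    a ∈ ⁅E, E⁆ := by
  obtain ⟨R, hR, haR⟩ := exists_sylowOf (isPGroup_of_card (p := p) (by rw [Nat.card_zpowers, hao]))
    (zpowers_le.mpr haE)
  exact sylow_le_derived_tau3 hG hM hE hτ hR (haR (mem_zpowers a))

/-- With a `κ`-prime in `τ₃(M)` every prime of a complement is in `κ(M)`. -/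
theorem kappa_all_of_tau_three (hG : Cfsg.IsMinSimpleOddOrder G) (hM : IsCoatom M)
    (hE : Cfsg.IsComplIn E (Cfsg.sigmaCore M) M) (hκ : p ∈ Cfsg.kappa M) (hτ : p ∈ Cfsg.tau3 M)
    (hd : s ∣ Nat.card E) : s ∈ Cfsg.kappa M := by
  have hpE : p ∣ Nat.card E := by
    have h1 := hκ.2.1
    rw [card_eq_mul hE] at h1
    exact (hp.out.dvd_mul.mp h1).resolve_left fun hh => hκ.2.2.1 (sigmaCore_isPi p hp.out hh)
  obtain ⟨u, hu⟩ := exists_prime_orderOf_dvd_card' p hpE
  obtain ⟨a, ha⟩ := exists_prime_orderOf_dvd_card' s hd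
  have huo : orderOf (u : G) = p := by rw [orderOf_coe, hu]
  have hao : orderOf (a : G) = s := by rw [orderOf_coe, ha]
  have hPc : Nat.card (zpowers (u : G)) = p := by rw [Nat.card_zpowers, huo]
  have hPM : zpowers (u : G) ≤ M := zpowers_le.mpr (hE.1 u.2)
  have hsσ := not_sigma_of_dvd hG hM hE hs.out hd
  have hn := derived_line_normal hG hM (kappa_rank hG hM hκ) hE hPc
    (zpowers_le.mpr (mem_derived_of_tau_three hG hM hE hτ u.2 huo))
  exact kappa_of_centralizes hG hM hκ hPc hPM hao (hE.1 a.2) hsσ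
    (kappa_line_central hG hM hκ hPc hPM hao (hE.1 a.2) hsσ (hn a.2))

/-- With a `κ`-prime in `τ₃(M)` the elements of prime order of a complement generate normal lines and
commute. -/
theorem tau_three_case_lines (hG : Cfsg.IsMinSimpleOddOrder G) (hM : IsCoatom M)
    (hE : Cfsg.IsComplIn E (Cfsg.sigmaCore M) M) (hκ : p ∈ Cfsg.kappa M) (hτ : p ∈ Cfsg.tau3 M)
    (haE : a ∈ E) (hao : orderOf a = s) :
    E ≤ normalizer (zpowers a : Set G) ∧ ∀ b ∈ E, (orderOf b).Prime → a * b = b * a := by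
  have hac : Nat.card (zpowers a) = s := by rw [Nat.card_zpowers, hao]
  have haM : a ∈ M := hE.1 haE
  have hall : ∀ t : ℕ, t.Prime → t ∣ Nat.card E → t ∈ Cfsg.kappa M := fun t ht hd => by
    haveI := Fact.mk ht
    exact kappa_all_of_tau_three hG hM hE hκ hτ hd
  have hsE : s ∣ Nat.card E := (dvd_of_eq hac.symm).trans (card_dvd_of_le (zpowers_le.mpr haE))
  have hκs := hall s hs.out hsE
  have hsr := kappa_rank hG hM hκs
  by_cases hsD : s ∣ Nat.card ↥⁅M, M⁆
  · have hn := derived_line_normal hG hM hsr hE hac (zpowers_le.mpr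
      (mem_derived_of_tau_three hG hM hE (tau_three_of_kappa hG hM hκs hsD) haE hao))
    refine ⟨hn, fun b hb hbp => ?_⟩
    haveI := Fact.mk hbp
    have hbd : orderOf b ∣ Nat.card E := (Nat.card_zpowers b).symm ▸ card_dvd_of_le (zpowers_le.mpr hb)
    have hbC := kappa_line_central (p := s) (s := orderOf b) hG hM hκs hac (zpowers_le.mpr haM) rfl (hE.1 hb)
      (hall _ hbp hbd).2.2.1 (hn hb)
    exact mem_centralizer_iff.mp hbC a (mem_zpowers a)
  -- `s ∈ τ₁(M)`: `a` centralizes `E'`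
  set D := ⁅E, E⁆ with hD
  have hDE : D ≤ E := commutator_le_self E
  have hcop : (Nat.card (zpowers a)).Coprime (Nat.card D) := by
    rw [hac]
    exact hs.out.coprime_iff_not_dvd.mpr fun hd =>
      hsD (hd.trans (card_dvd_of_le (commutator_mono hE.1 hE.1)))
  have haD : zpowers a ≤ normalizer (D : Set G) := (zpowers_le.mpr haE).trans (commutator_normal E)
  have hcent : D ≤ centralizer (zpowers a : Set G) := by
    refine Cfsg.Lib.Coprime.le_of_forall_sylow fun r hr => ?_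
    haveI := Fact.mk hr
    obtain ⟨T₀, hT₀⟩ := Cfsg.Lib.Coprime.exists_invariant_sylow haD hcop
      (Or.inl (hG.2.2.2 _ (FittingUniqueness.ne_top_of_le_coatom hM (zpowers_le.mpr haM)))) r
    refine ⟨T₀, ?_⟩
    set T := (T₀ : Subgroup D).map D.subtype with hT
    have hTD : T ≤ D := map_subtype_le _
    by_cases hT1 : T = ⊥
    · rw [hT1]; exact bot_le
    have hTp : IsPGroup r T := T₀.2.map _
    obtain ⟨y, hyT, hyo⟩ := ScnUniqueness.exists_orderOf hTp hT1
    have hκr := hall r hr (by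
      rw [← hyo, ← Nat.card_zpowers]; exact card_dvd_of_le (zpowers_le.mpr (hDE (hTD hyT))))
    have hrr := kappa_rank hG hM hκr
    have hTc : IsCyclic T := isCyclic_sylow_of_rank_one hG hTp ((hTD.trans hDE).trans hE.1) hrr
    have hY : Nat.card (zpowers y) = r := by rw [Nat.card_zpowers, hyo]
    have hn := derived_line_normal hG hM hrr hE hY (zpowers_le.mpr (hTD hyT))
    have hyC := kappa_line_central (p := r) (s := s) hG hM hκr hY (zpowers_le.mpr (hE.1 (hDE (hTD hyT)))) hao haM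
      hκs.2.2.1 (hn haE)
    exact ScnUniqueness.le_centralizer_of_cyclic hTp hTc hT₀ (Cfsg.Lib.Coprime.coprime_of_le hTD hcop) hyT
      (fun hh => hr.ne_one (by rw [← hyo, hh, orderOf_one]))
      (le_centralizer_iff.mp (zpowers_le.mpr hyC) (mem_zpowers y))
  have hcentral : ∀ k ∈ E, k * a = a * k := fun k hk => by
    set c := ⁅k, a⁆ with hc
    have hcD : c ∈ D := commutator_mem_commutator hk haE
    have hca : Commute c a := (mem_centralizer_iff.mp (hcent hcD) a (mem_zpowers a)).symm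
    have h1 : (c * a) ^ s = 1 := by
      rw [show c * a = k * a * k⁻¹ by rw [hc, commutatorElement_def]; group, conj_pow, ← hao,
        pow_orderOf_eq_one, mul_one, mul_inv_cancel]
    rw [hca.mul_pow, ← hao, pow_orderOf_eq_one, mul_one, hao] at h1
    refine commutatorElement_eq_one_iff_mul_comm.mp (?_ : c = 1)
    refine orderOf_eq_one_iff.mp (Nat.eq_one_of_dvd_coprimes (hac ▸ hcop) (orderOf_dvd_of_pow_eq_one h1) ?_)
    rw [← Nat.card_zpowers]; exact card_dvd_of_le (zpowers_le.mpr hcD)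
  refine ⟨fun k hk => centralizer_le_normalizer _ ?_, fun b hb _ => (hcentral b hb).symm⟩
  rw [Cfsg.Lib.Coprime.centralizer_zpowers]
  exact mem_centralizer_singleton_iff.mpr (hcentral k hk)

/-- A `κ(M)`-subgroup is commutative when no `κ`-prime is in `τ₃(M)`. -/
theorem kappa_group_commute (hG : Cfsg.IsMinSimpleOddOrder G) (hM : IsCoatom M) (hKM : K ≤ M)
    (hK : ∀ r : ℕ, r.Prime → r ∣ Nat.card K → r ∈ Cfsg.kappa M)
    (hno : ∀ r : ℕ, r ∈ Cfsg.kappa M → r ∉ Cfsg.tau3 M) : ∀ x ∈ K, ∀ y ∈ K, x * y = y * x := fun x hx y hy => by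
  refine commutatorElement_eq_one_iff_mul_comm.mp (Cfsg.Lib.Coprime.eq_one_of_coprime (N := K)
    (H := ⁅M, M⁆) ?_ ?_ (commutator_mem_commutator (hKM hx) (hKM hy)))
  · exact coprime_card_of_disjoint fun t ht h1 h2 =>
      hno t (hK t ht h1) (tau_three_of_kappa (hp := Fact.mk ht) hG hM (hK t ht h1) h2)
  · rw [commutatorElement_def]
    exact mul_mem (mul_mem (mul_mem hx hy) (inv_mem hx)) (inv_mem hy)

/-- Elements of prime order of a `κ(M)`-subgroup generate normal lines and commute. -/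
theorem kappa_group_lines (hG : Cfsg.IsMinSimpleOddOrder G) (hM : IsCoatom M) (hKM : K ≤ M)
    (hK : ∀ r : ℕ, r.Prime → r ∣ Nat.card K → r ∈ Cfsg.kappa M) (haK : a ∈ K) (hao : orderOf a = s) :
    K ≤ normalizer (zpowers a : Set G) ∧ ∀ b ∈ K, (orderOf b).Prime → a * b = b * a := by
  by_cases hno : ∀ r : ℕ, r ∈ Cfsg.kappa M → r ∉ Cfsg.tau3 M
  · have hc := kappa_group_commute hG hM hKM hK hno
    refine ⟨fun k hk => centralizer_le_normalizer _ ?_, fun b hb _ => hc a haK b hb⟩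
    rw [Cfsg.Lib.Coprime.centralizer_zpowers]
    exact mem_centralizer_singleton_iff.mpr (hc k hk a haK)
  push Not at hno
  obtain ⟨r, hrκ, hrτ⟩ := hno
  haveI := Fact.mk hrκ.1
  obtain ⟨E, hE, hKE⟩ := exists_complement_ge hG hM hKM fun t ht hd => (hK t ht hd).2.2.1
  obtain ⟨h1, h2⟩ := tau_three_case_lines (p := r) hG hM hE hrκ hrτ (hKE haK) hao
  exact ⟨hKE.trans h1, fun b hb hbp => h2 b (hKE hb) hbp⟩

theorem exists_prime_pow_mem {k : G} (hk1 : k ≠ 1) :
    ∃ b ∈ zpowers k, (orderOf b).Prime ∧ centralizer ({k} : Set G) ≤ centralizer ({b} : Set G) := by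
  obtain ⟨r, hr, hd⟩ := Nat.exists_prime_and_dvd (mt orderOf_eq_one_iff.mp hk1)
  refine ⟨k ^ (orderOf k / r), pow_mem (mem_zpowers k) _, ?_, fun x hx => ?_⟩
  · rw [orderOf_pow_orderOf_div (orderOf_pos k).ne' hd]; exact hr
  · exact mem_centralizer_singleton_iff.mpr
      ((Commute.pow_right (mem_centralizer_singleton_iff.mp hx : Commute x k) _).eq)

/-- All nontrivial elements of a `κ(M)`-subgroup have the same fixed points in `M_σ`. -/
theorem kappa_group_fixed (hG : Cfsg.IsMinSimpleOddOrder G) (hM : IsCoatom M) (hKM : K ≤ M)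
    (hK : ∀ r : ℕ, r.Prime → r ∣ Nat.card K → r ∈ Cfsg.kappa M) {k : G} (hk : k ∈ K) (hk1 : k ≠ 1) :
    Cfsg.sigmaCore M ⊓ centralizer ({k} : Set G) = Cfsg.sigmaCore M ⊓ centralizer (K : Set G) := by
  obtain ⟨b, hb, hbp, hbC⟩ := exists_prime_pow_mem hk1
  haveI := Fact.mk hbp
  have hbK : b ∈ K := zpowers_le.mpr hk hb
  have hbκ : orderOf b ∈ Cfsg.kappa M := hK _ hbp ((Nat.card_zpowers b).symm ▸
    card_dvd_of_le (zpowers_le.mpr hbK))
  refine le_antisymm ?_ (le_inf inf_le_left (inf_le_right.trans (centralizer_le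
    (Set.singleton_subset_iff.mpr hk))))
  refine le_inf inf_le_left ?_
  have hgen : K ≤ centralizer ((Cfsg.sigmaCore M ⊓ centralizer ({b} : Set G) : Subgroup G) : Set G) := by
    refine Cfsg.Lib.Coprime.le_of_forall_sylow fun r hr => ?_
    haveI := Fact.mk hr
    obtain ⟨T₀⟩ : Nonempty (Sylow r K) := inferInstance
    refine ⟨T₀, ?_⟩
    set T := (T₀ : Subgroup K).map K.subtype with hT
    have hTK : T ≤ K := map_subtype_le _
    by_cases hT1 : T = ⊥
    · rw [hT1]; exact bot_le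
    obtain ⟨y, hyT, hyo⟩ := ScnUniqueness.exists_orderOf (T₀.2.map _) hT1
    have hrκ : r ∈ Cfsg.kappa M := hK r hr (hyo ▸ (Nat.card_zpowers y).symm ▸
      card_dvd_of_le (zpowers_le.mpr (hTK hyT)))
    obtain ⟨S, hS, hTS⟩ := exists_sylowOf (T₀.2.map K.subtype) (hTK.trans hKM)
    have hfix := kappa_fixed_eq (p := orderOf b) (s := r) hG hM hbκ hrκ (hKM (hTK hyT)) hyo (hKM hbK) rfl
      ((kappa_group_lines hG hM hKM hK (hTK hyT) hyo).2 b hbK hbp)
    rw [← hfix]
    exact le_centralizer_iff.mp ((line_fixed_le hG hM hrκ.2.2.1 hS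
      (isCyclic_sylow_of_rank_one hG hS.2.1 hS.1 (kappa_rank hG hM hrκ)) (hTS hyT) hyo).trans
        (centralizer_le hTS))
  exact (le_inf inf_le_left (inf_le_right.trans hbC)).trans (le_centralizer_iff.mp hgen)

/-- The fixed points of a `κ(M)`-subgroup are nontrivial. -/
theorem kappa_group_fixed_ne (hG : Cfsg.IsMinSimpleOddOrder G) (hM : IsCoatom M) (hKM : K ≤ M)
    (hK : ∀ r : ℕ, r.Prime → r ∣ Nat.card K → r ∈ Cfsg.kappa M) :
    Cfsg.sigmaCore M ⊓ centralizer (K : Set G) ≠ ⊥ := by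
  by_cases hK1 : K = ⊥
  · have h0 : Cfsg.sigmaCore M ≤ centralizer (K : Set G) := fun x _ =>
      mem_centralizer_iff.mpr fun y hy => by
        rw [hK1] at hy
        rw [mem_bot.mp hy, one_mul, mul_one]
    rw [inf_eq_left.mpr h0]
    exact sigmaCore_ne_bot hG hM
  obtain ⟨r, hr, hd⟩ := Nat.exists_prime_and_dvd (mt card_eq_one.mp hK1)
  haveI := Fact.mk hr
  obtain ⟨k, hk⟩ := exists_prime_orderOf_dvd_card' r hd
  have hko : orderOf (k : G) = r := by rw [orderOf_coe, hk]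
  obtain ⟨z, hz, hz1, hzk⟩ := kappa_fixed_ne hG hM (hK r hr hd) (hKM k.2) hko
  rw [← kappa_group_fixed hG hM hKM hK k.2 (fun h => hr.ne_one (by rw [← hko, h, orderOf_one]))]
  exact fun h0 => hz1 (mem_bot.mp (h0.le ⟨hz, mem_centralizer_singleton_iff.mpr hzk⟩))

/-- A complement `E` of `M_σ` with its normal Hall subgroup `U` for the primes outside `κ(M)`. -/
structure KappaSplit (M K E U : Subgroup G) : Prop where
  compl : Cfsg.IsComplIn E (Cfsg.sigmaCore M) M
  memK : K ≤ E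
  memU : U ≤ E
  normal : E ≤ normalizer (U : Set G)
  hallU : Cfsg.IsPiHallOf {r | r.Prime ∧ r ∉ Cfsg.kappa M ∧ r ∉ Cfsg.sigma M} U M
  disjoint : U ⊓ K = ⊥
  prod : U ⊔ K = E
  free : ∀ k ∈ K, k ≠ 1 → U ⊓ centralizer ({k} : Set G) = ⊥

/-- The normal complement of a Hall `κ(M)`-subgroup in a given complement of `M_σ`. -/
theorem exists_kappaSplit_of (hG : Cfsg.IsMinSimpleOddOrder G) (hM : IsCoatom M)
    (hK : Cfsg.IsPiHallOf (Cfsg.kappa M) K M) (hE : Cfsg.IsComplIn E (Cfsg.sigmaCore M) M) (hKE : K ≤ E) :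
    ∃ U : Subgroup G, KappaSplit M K E U := by
  haveI : Group.IsSolvable E := hG.2.2.2 E (FittingUniqueness.ne_top_of_le_coatom hM hE.1)
  set π : Set ℕ := {r | r.Prime ∧ r ∉ Cfsg.kappa M ∧ r ∉ Cfsg.sigma M} with hπ
  obtain ⟨U₀, hU₀⟩ := Cfsg.Lib.Coprime.exists_piHall (G := E) π
  have hnormal : U₀.Normal := by
    by_cases hno : ∀ r : ℕ, r ∈ Cfsg.kappa M → r ∉ Cfsg.tau3 M
    · refine Cfsg.Lib.Coprime.normal_of_commutator_le ?_
      have hD : ∀ r : ℕ, r.Prime → r ∣ Nat.card (commutator E) → r ∈ π := fun r hr hd => by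
        rw [← card_map_of_injective E.subtype_injective, map_subtype_commutator] at hd
        have hσ := not_sigma_of_dvd hG hM hE hr (hd.trans (card_dvd_of_le (commutator_le_self E)))
        exact ⟨hr, fun hκ => hno r hκ (tau_three_of_kappa (hp := Fact.mk hr) hG hM hκ
          (hd.trans (card_dvd_of_le (commutator_mono hE.1 hE.1)))), hσ⟩
      have hsup : ∀ r : ℕ, r.Prime → r ∣ Nat.card ↥(commutator E ⊔ U₀) → r ∈ π := fun r hr hd => by
        rcases dvd_card_sup (X := commutator E) (Y := U₀) (fun x _ => by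
          rw [normalizer_eq_top]; exact mem_top x) hr hd with h | h
        exacts [hD r hr h, hU₀.1 r hr h]
      have h1 : U₀.relIndex (commutator E ⊔ U₀) = 1 := by
        by_contra hne
        obtain ⟨r, hr, hd⟩ := Nat.exists_prime_and_dvd hne
        exact hU₀.2 r hr (hsup r hr (hd.trans (relIndex_dvd_card _ _)))
          (hd.trans (relIndex_dvd_index_of_le le_sup_right))
      exact le_sup_left.trans (relIndex_eq_one.mp h1)
    · push Not at hno
      obtain ⟨r, hrκ, hrτ⟩ := hno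
      haveI := Fact.mk hrκ.1
      have h0 : U₀ = ⊥ := card_eq_one.mp <| by
        by_contra hne
        obtain ⟨t, ht, hd⟩ := Nat.exists_prime_and_dvd hne
        haveI := Fact.mk ht
        exact (hU₀.1 t ht hd).2.1 (kappa_all_of_tau_three hG hM hE hrκ hrτ
          (hd.trans (card_subgroup_dvd_card U₀)))
      rw [h0]; infer_instance
  set U := U₀.map E.subtype with hU
  have hUc : Nat.card U = Nat.card U₀ := card_map_of_injective E.subtype_injective
  have hUE : U ≤ E := map_subtype_le _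
  have hUn : E ≤ normalizer (U : Set G) := by
    intro e he
    refine mem_normalizer_iff.mpr fun x => ⟨?_, ?_⟩
    · rintro ⟨v, hv, rfl⟩
      exact ⟨_, hnormal.conj_mem v hv ⟨e, he⟩, rfl⟩
    · rintro ⟨v, hv, hve⟩
      refine ⟨_, hnormal.conj_mem v hv ⟨e, he⟩⁻¹, ?_⟩
      show e⁻¹ * (v : G) * e⁻¹⁻¹ = x
      rw [show (v : G) = e * x * e⁻¹ from hve]; group
  have hUrel : ∀ r : ℕ, r.Prime → r ∈ π → ¬ r ∣ U.relIndex E := fun r hr hrπ hd => by
    rw [relIndex, hU, subgroupOf, comap_map_eq_self_of_injective E.subtype_injective] at hd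
    exact hU₀.2 r hr hrπ hd
  refine ⟨U, hE, hKE, hUE, hUn, ⟨hUE.trans hE.1, fun r hr hd => hU₀.1 r hr (hUc ▸ hd), ?_⟩, ?_, ?_, ?_⟩
  · intro r hr hrπ hd
    rw [← relIndex_mul_relIndex U E M hUE hE.1] at hd
    rcases hr.dvd_mul.mp hd with h | h
    · exact hUrel r hr hrπ h
    · have h1 : E.relIndex M = Nat.card (Cfsg.sigmaCore M) := by
        refine Nat.eq_of_mul_eq_mul_left (Nat.card_pos (α := E)) ?_
        rw [card_mul_relIndex hE.1, card_eq_mul hE, mul_comm]
      exact hrπ.2.2 (sigmaCore_isPi r hr (h1 ▸ h))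
  · exact Cfsg.Lib.Coprime.inf_eq_bot_of_coprime (coprime_card_of_disjoint fun t ht h1 h2 =>
      (hU₀.1 t ht (hUc ▸ h1)).2.1 (hK.2.1 t ht h2))
  · refine le_antisymm (sup_le hUE hKE) (relIndex_eq_one.mp ?_)
    by_contra hne
    obtain ⟨r, hr, hd⟩ := Nat.exists_prime_and_dvd hne
    have hrσ := not_sigma_of_dvd hG hM hE hr (hd.trans (relIndex_dvd_card _ _))
    by_cases hκ : r ∈ Cfsg.kappa M
    · refine hK.2.2 r hr hκ (hd.trans ?_)
      rw [← relIndex_mul_relIndex K E M hKE hE.1,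
        ← relIndex_mul_relIndex K (U ⊔ K) E le_sup_right (sup_le hUE hKE)]
      exact (dvd_mul_left _ _).trans (dvd_mul_right _ _)
    · refine hUrel r hr ⟨hr, hκ, hrσ⟩ (hd.trans ?_)
      rw [← relIndex_mul_relIndex U (U ⊔ K) E le_sup_left (sup_le hUE hKE)]
      exact dvd_mul_left _ _
  · intro k hk hk1
    refine le_bot_iff.mp fun x hx => ?_
    rw [mem_bot]
    by_contra hx1
    obtain ⟨b, hb, hbp, hbC⟩ := exists_prime_pow_mem hk1
    obtain ⟨c, hc, hcp, hcC⟩ := exists_prime_pow_mem hx1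
    haveI := Fact.mk hbp
    haveI := Fact.mk hcp
    have hbK : b ∈ K := zpowers_le.mpr hk hb
    have hcU : c ∈ U := zpowers_le.mpr hx.1 hc
    have hbκ : orderOf b ∈ Cfsg.kappa M := hK.2.1 _ hbp ((Nat.card_zpowers b).symm ▸
      card_dvd_of_le (zpowers_le.mpr hbK))
    have hcπ : orderOf c ∈ π := hU₀.1 _ hcp (hUc ▸ (Nat.card_zpowers c).symm ▸
      card_dvd_of_le (zpowers_le.mpr hcU))
    have hbx : b * x = x * b := (mem_centralizer_singleton_iff.mp (hbC hx.2)).symm
    have hbc : b * c = c * b := mem_centralizer_singleton_iff.mp (hcC (mem_centralizer_singleton_iff.mpr hbx))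
    refine hcπ.2.1 (kappa_of_centralizes (p := orderOf b) (s := orderOf c) hG hM hbκ (Nat.card_zpowers b)
      (zpowers_le.mpr (hK.1 hbK)) rfl (hE.1 (hUE hcU)) hcπ.2.2 ?_)
    rw [Cfsg.Lib.Coprime.centralizer_zpowers]
    exact mem_centralizer_singleton_iff.mpr hbc.symm

/-- The complement of a Hall `κ(M)`-subgroup. -/
theorem exists_kappaSplit (hG : Cfsg.IsMinSimpleOddOrder G) (hM : IsCoatom M)
    (hK : Cfsg.IsPiHallOf (Cfsg.kappa M) K M) : ∃ E U : Subgroup G, KappaSplit M K E U := by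
  obtain ⟨E, hE, hKE⟩ := exists_complement_ge hG hM hK.1 fun t ht hd => (hK.2.1 t ht hd).2.2.1
  exact ⟨E, exists_kappaSplit_of hG hM hK hE hKE⟩

/-- The normal complement of a nontrivial Hall `κ(M)`-subgroup is abelian. -/
theorem KappaSplit.comm (hG : Cfsg.IsMinSimpleOddOrder G) (hM : IsCoatom M) (h : KappaSplit M K E U)
    (hK1 : K ≠ ⊥) : IsMulCommutative U := by
  obtain ⟨r, hr, hd⟩ := Nat.exists_prime_and_dvd (mt card_eq_one.mp hK1)
  haveI := Fact.mk hr
  obtain ⟨k, hk⟩ := exists_prime_orderOf_dvd_card' r hd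
  have hko : orderOf (k : G) = r := by rw [orderOf_coe, hk]
  have hnil : Group.IsNilpotent U := nilpotent_of_fixed_free (p := r) hko (h.normal (h.memK k.2))
    (h.free k k.2 fun hh => hr.ne_one (by rw [← hko, hh, orderOf_one]))
  exact comm_of_nilpotent hG hM h.hallU.1 hnil fun t ht hd => (h.hallU.2.1 t ht hd).2.2

/-- Normalizers in `M` of subgroups normal in the Hall `κ(M)`-subgroup. -/
theorem KappaSplit.normalizer_eq (hG : Cfsg.IsMinSimpleOddOrder G) (hM : IsCoatom M)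
    (hK : Cfsg.IsPiHallOf (Cfsg.kappa M) K M) (h : KappaSplit M K E U) {Y : Subgroup G} (hY1 : Y ≠ ⊥)
    (hYK : Y ≤ K) (hKY : K ≤ normalizer (Y : Set G)) :
    M ⊓ normalizer (Y : Set G) = K ⊔ (Cfsg.sigmaCore M ⊓ centralizer (K : Set G)) := by
  set W := Cfsg.sigmaCore M ⊓ centralizer (K : Set G) with hW
  refine le_antisymm ?_ (sup_le (le_inf hK.1 hKY) (le_inf (inf_le_left.trans (sigmaCore_le M))
    (inf_le_right.trans ((centralizer_le (SetLike.coe_subset_coe.mpr hYK)).trans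
      (centralizer_le_normalizer _)))))
  rintro m ⟨hmM, hmN⟩
  obtain ⟨e, he, z, hz, rfl⟩ := h.compl.2.2.2 m hmM
  have hzy : ∀ y ∈ Y, z * y = y * z ∧ e * y * e⁻¹ ∈ Y := fun y hy => by
    have h1 : e * z * y * (e * z)⁻¹ ∈ Y := (mem_normalizer_iff.mp hmN y).mp hy
    have hyE : y ∈ E := h.memK (hYK hy)
    have hcore : ⁅z, y⁆ ∈ Cfsg.sigmaCore M := by
      rw [commutatorElement_def, mul_assoc, mul_assoc, ← mul_assoc y]
      exact mul_mem hz ((mem_normalizer_iff.mp (le_normalizer_sigmaCore M (hK.1 (hYK hy))) _).mp (inv_mem hz))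
    have hE' : e * ⁅z, y⁆ * e⁻¹ ∈ E := by
      rw [show e * ⁅z, y⁆ * e⁻¹ = e * z * y * (e * z)⁻¹ * (e * y * e⁻¹)⁻¹ by
        rw [commutatorElement_def]; group]
      exact mul_mem (h.memK (hYK h1)) (inv_mem (mul_mem (mul_mem he hyE) (inv_mem he)))
    have h2 : e * ⁅z, y⁆ * e⁻¹ = 1 := mem_bot.mp (h.compl.2.2.1.le ⟨hE',
      (mem_normalizer_iff.mp (le_normalizer_sigmaCore M (h.compl.1 he)) _).mp hcore⟩)
    rw [conj_eq_one_iff] at h2
    have hc := commutatorElement_eq_one_iff_mul_comm.mp h2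
    refine ⟨hc, ?_⟩
    rwa [show e * y * e⁻¹ = e * z * y * (e * z)⁻¹ by
      rw [mul_assoc e z y, hc]; group]
  obtain ⟨y₀, hy₀, hy₀1⟩ : ∃ y ∈ Y, y ≠ (1 : G) := by
    by_contra hne
    push Not at hne
    exact hY1 ((eq_bot_iff_forall Y).mpr hne)
  have hzW : z ∈ W := by
    rw [hW, ← kappa_group_fixed hG hM hK.1 hK.2.1 (hYK hy₀) hy₀1]
    exact ⟨hz, mem_centralizer_singleton_iff.mpr (hzy y₀ hy₀).1⟩
  obtain ⟨u, hu, k, hk, rfl⟩ := (Cfsg.Lib.Coprime.mem_sup_of_le_normalizer (h.memK.trans h.normal)).mp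
    (h.prod.ge he)
  have hu1 : u = 1 := by
    refine mem_bot.mp ((h.free _ (hYK ((mem_normalizer_iff.mp (hKY hk) y₀).mp hy₀))
      (by rwa [Ne, conj_eq_one_iff])).le ⟨hu, mem_centralizer_singleton_iff.mpr ?_⟩)
    have h1 := (hzy y₀ hy₀).2
    set v := k * y₀ * k⁻¹ with hv
    have hvY : v ∈ Y := (mem_normalizer_iff.mp (hKY hk) y₀).mp hy₀
    rw [show u * k * y₀ * (u * k)⁻¹ = u * v * u⁻¹ by rw [hv]; group] at h1
    refine commutatorElement_eq_one_iff_mul_comm.mp (mem_bot.mp (h.disjoint.le ⟨?_, ?_⟩))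
    · show _ ∈ U
      rw [commutatorElement_def, mul_assoc, mul_assoc, ← mul_assoc v]
      exact mul_mem hu ((mem_normalizer_iff.mp (h.normal (h.memK (hYK hvY))) _).mp (inv_mem hu))
    · show _ ∈ K
      rw [commutatorElement_def]
      exact mul_mem (hYK h1) (inv_mem (hYK hvY))
  rw [hu1, one_mul]
  exact mul_mem (mem_sup_left hk) (mem_sup_right hzW)

end Cfsg.Lib.OddLocal.RankTwoMax

namespace Cfsg.Lib.OddLocal.RankTwoMax

open Subgroup Uniqueness Sigma

universe v

variable {G : Type v} [Group G] [Finite G] {M K X Mstar : Subgroup G}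

/-- The Hall `κ(M)`-subgroup: prime action, normal complement, normalizers of lines. -/
theorem kappa_hall_theorem (hG : Cfsg.IsMinSimpleOddOrder G) (hM : IsCoatom M)
    (hK : Cfsg.IsPiHallOf (Cfsg.kappa M) K M) (hK1 : K ≠ ⊥) :
    (∀ k ∈ K, k ≠ 1 → Cfsg.sigmaCore M ⊓ centralizer ({k} : Set G) =
        Cfsg.sigmaCore M ⊓ centralizer (K : Set G)) ∧
      (∃ U : Subgroup G, IsMulCommutative U ∧
        Cfsg.IsPiHallOf {r | r.Prime ∧ r ∉ Cfsg.kappa M ∧ r ∉ Cfsg.sigma M} U M ∧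
        K ≤ normalizer (U : Set G) ∧ ∀ k ∈ K, k ≠ 1 → U ⊓ centralizer ({k} : Set G) = ⊥) ∧
      ∀ X : Subgroup G, X ≤ K → (Nat.card X).Prime →
        M ⊓ normalizer (X : Set G) = K ⊔ (Cfsg.sigmaCore M ⊓ centralizer (K : Set G)) ∧
        M ⊓ normalizer (K : Set G) = K ⊔ (Cfsg.sigmaCore M ⊓ centralizer (K : Set G)) ∧
        ∀ Mstar : Subgroup G, IsCoatom Mstar → normalizer (X : Set G) ≤ Mstar →
          X ≤ Cfsg.sigmaCore Mstar := by
  obtain ⟨E, U, h⟩ := exists_kappaSplit hG hM hK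
  refine ⟨fun k hk hk1 => kappa_group_fixed hG hM hK.1 hK.2.1 hk hk1,
    ⟨U, h.comm hG hM hK1, h.hallU, h.memK.trans h.normal, h.free⟩, fun X hX hXp => ?_⟩
  haveI := Fact.mk hXp
  obtain ⟨u, hu, huo⟩ := ScnUniqueness.exists_orderOf (isPGroup_of_card (p := Nat.card X) rfl)
    (line_ne_bot (p := Nat.card X) rfl)
  have hu1 : u ≠ 1 := fun hh => hXp.ne_one (by rw [← huo, hh, orderOf_one])
  have hXn : K ≤ normalizer (X : Set G) :=
    line_eq_of_mem (p := Nat.card X) rfl hu hu1 ▸ (kappa_group_lines hG hM hK.1 hK.2.1 (hX hu) huo).1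
  refine ⟨h.normalizer_eq hG hM hK (line_ne_bot (p := Nat.card X) rfl) hX hXn,
    h.normalizer_eq hG hM hK hK1 le_rfl le_normalizer, fun Mstar hMs hNX => ?_⟩
  have hκ := hK.2.1 _ hXp (card_dvd_of_le hX)
  obtain ⟨z, hz, hz1, hzu⟩ := kappa_fixed_ne hG hM hκ (hK.1 (hX hu)) huo
  obtain ⟨q, hq, hqd⟩ := Nat.exists_prime_and_dvd (mt orderOf_eq_one_iff.mp hz1)
  haveI := Fact.mk hq
  have hσ := sigma_of_nonregular (p := Nat.card X) (q := q) hG hM hκ.2.2.1 (kappa_rank hG hM hκ) rfl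
    (hX.trans hK.1) (pow_mem hz (orderOf z / q)) (orderOf_pow_orderOf_div (orderOf_pos z).ne' hqd)
    (pow_mem (show z ∈ centralizer (X : Set G) by
      rw [centralizer_line rfl hu huo]; exact mem_centralizer_singleton_iff.mpr hzu) _) hMs hNX
  exact le_sigmaCore_of_pgroup hG hMs hσ (isPGroup_of_card (p := Nat.card X) rfl) (le_normalizer.trans hNX)

end Cfsg.Lib.OddLocal.RankTwoMax
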