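import Cfsg.Agent.OddLocal.NonregularLine

/-!
# Lines of the primes in `κ(M)`
-/

set_option linter.unusedSectionVars false
set_option linter.unusedVariables false
set_option linter.style.haveILetI false

namespace Cfsg.Lib.OddLocal.RankTwoMax

open Subgroup Uniqueness Sigma
open Cfsg.Lib.Coprime (conjMap)
open scoped commutatorElement

universe u

variable {G : Type u} [Group G] [Finite G] {M L P : Subgroup G} {p q s : ℕ} [hp : Fact p.Prime]
  [hq : Fact q.Prime] [hs : Fact s.Prime] {a z : G}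

theorem centralizer_line {X : Subgroup G} (hX : Nat.card X = p) {u : G} (hu : u ∈ X) (huo : orderOf u = p) :
    centralizer (X : Set G) = centralizer ({u} : Set G) := by
  rw [← line_eq_of_mem hX hu (fun h => hp.out.ne_one (by rw [← huo, h, orderOf_one])),
    Cfsg.Lib.Coprime.centralizer_zpowers]

/-- A fixed element of an element of order `p`, `p ∉ σ(M)` of rank one, puts `p` in `κ(M)`. -/
theorem kappa_intro (hG : Cfsg.IsMinSimpleOddOrder G) (hM : IsCoatom M) (hσ : p ∉ Cfsg.sigma M)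
    (hr : Cfsg.PRankLE p 1 M) (haM : a ∈ M) (hao : orderOf a = p) (hz : z ∈ Cfsg.sigmaCore M) (hz1 : z ≠ 1)
    (hza : z * a = a * z) : p ∈ Cfsg.kappa M := by
  have hA : Nat.card (zpowers a) = p := by rw [Nat.card_zpowers, hao]
  refine ⟨hp.out, (dvd_of_eq hA.symm).trans (card_dvd_of_le (zpowers_le.mpr haM)), hσ, fun S => ?_⟩
  have hS := isSylowOf_sylow S
  refine ⟨(S : Subgroup M).equivMapOfInjective M.subtype M.subtype_injective |>.isCyclic.mpr
    (isCyclic_sylow_of_rank_one hG hS.2.1 hS.1 hr), ?_⟩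
  obtain ⟨R, hR, haR⟩ := exists_sylowOf (isPGroup_of_card (p := p) hA) (zpowers_le.mpr haM)
  obtain ⟨m, hm, hmR⟩ := card_eq_of_sylowOf hR hS
  obtain ⟨x, hx, hxa⟩ : m * a * m⁻¹ ∈ (S : Subgroup M).map M.subtype :=
    hmR ▸ mem_map_of_mem _ (haR (mem_zpowers a))
  have hxa' : (x : G) = m * a * m⁻¹ := hxa
  refine ⟨x, hx, ?_, m * z * m⁻¹, (mem_normalizer_iff.mp (le_normalizer_sigmaCore M hm) _).mp hz, ?_, ?_⟩
  · rintro rfl
    have ha1 : a = 1 := conj_eq_one_iff.mp hxa'.symm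
    exact hp.out.ne_one (by rw [← hao, ha1, orderOf_one])
  · rwa [Ne, conj_eq_one_iff]
  · rw [hxa', show m * a * m⁻¹ * (m * z * m⁻¹) = m * (a * z) * m⁻¹ by group,
      show m * z * m⁻¹ * (m * a * m⁻¹) = m * (z * a) * m⁻¹ by group, hza]

theorem kappa_rank (hG : Cfsg.IsMinSimpleOddOrder G) (hM : IsCoatom M) (hκ : p ∈ Cfsg.kappa M) :
    Cfsg.PRankLE p 1 M := by
  obtain ⟨S⟩ : Nonempty (Sylow p M) := inferInstance
  exact pRankLE_one_of_sylow_cyclic (isSylowOf_sylow S)
    ((S : Subgroup M).equivMapOfInjective M.subtype M.subtype_injective |>.isCyclic.mp (hκ.2.2.2 S).1)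

/-- Every element of order `p ∈ κ(M)` of `M` has a nontrivial fixed element in `M_σ`. -/
theorem kappa_fixed_ne (hG : Cfsg.IsMinSimpleOddOrder G) (hM : IsCoatom M) (hκ : p ∈ Cfsg.kappa M)
    (haM : a ∈ M) (hao : orderOf a = p) : ∃ z ∈ Cfsg.sigmaCore M, z ≠ 1 ∧ z * a = a * z := by
  have hr := kappa_rank hG hM hκ
  obtain ⟨S⟩ : Nonempty (Sylow p M) := inferInstance
  obtain ⟨-, x, hxS, hx1, y, hy, hy1, hxy⟩ := hκ.2.2.2 S
  have hxp : IsPGroup p (zpowers (x : G)) :=
    (S.2.map M.subtype).to_le (zpowers_le.mpr (mem_map_of_mem _ hxS))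
  obtain ⟨c, hc, hco⟩ := ScnUniqueness.exists_orderOf hxp (fun h => hx1 (Subtype.ext (zpowers_eq_bot.mp h)))
  obtain ⟨m, hm, hmc⟩ := conj_of_rank_one hG (C := M) (zpowers_le.mpr (zpowers_le.mpr x.2 hc))
    (zpowers_le.mpr haM) (by rw [Nat.card_zpowers, hco]) (by rw [Nat.card_zpowers, hao]) le_rfl hr
  have hyc : y * c = c * y := mem_centralizer_singleton_iff.mp
    ((Cfsg.Lib.Coprime.centralizer_zpowers y ▸ le_centralizer_iff.mp (zpowers_le.mpr
      (Cfsg.Lib.Coprime.centralizer_zpowers (x : G) ▸ mem_centralizer_singleton_iff.mpr hxy.symm))) hc :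
        c ∈ centralizer ({y} : Set G)) |>.symm
  refine ⟨m * y * m⁻¹, (mem_normalizer_iff.mp (le_normalizer_sigmaCore M hm) _).mp hy,
    by rwa [Ne, conj_eq_one_iff], ?_⟩
  obtain ⟨w, hw, rfl⟩ : a ∈ conjMap m (zpowers c) := hmc ▸ mem_zpowers a
  obtain ⟨k, rfl⟩ := hw
  show m * y * m⁻¹ * (m * c ^ k * m⁻¹) = m * c ^ k * m⁻¹ * (m * y * m⁻¹)
  rw [show m * y * m⁻¹ * (m * c ^ k * m⁻¹) = m * (y * c ^ k) * m⁻¹ by group,
    show m * c ^ k * m⁻¹ * (m * y * m⁻¹) = m * (c ^ k * y) * m⁻¹ by group,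
    (Commute.zpow_right (hyc : Commute y c) k).eq]

/-- A maximal subgroup over the normalizer of a line of a prime in `κ(M)`. -/
theorem exists_over_line (hG : Cfsg.IsMinSimpleOddOrder G) (hM : IsCoatom M) (hκ : p ∈ Cfsg.kappa M)
    (hPc : Nat.card P = p) (hPM : P ≤ M) :
    ∃ L : Subgroup G, IsCoatom L ∧ normalizer (P : Set G) ≤ L ∧ (∀ g : G, L ≠ conjMap g M) ∧
      p ∈ Cfsg.sigma L := by
  have hr := kappa_rank hG hM hκ
  obtain ⟨L, hL, hNL⟩ := exists_coatom_ge (MinSimpleTransitivity.normalizer_ne_top hG (line_ne_bot hPc)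
    (FittingUniqueness.ne_top_of_le_coatom hM hPM))
  refine ⟨L, hL, hNL, not_conj_of_rank_one hG hM hκ.2.2.1 hr hκ.2.1 hL hPc hNL, ?_⟩
  obtain ⟨u, hu, huo⟩ := ScnUniqueness.exists_orderOf (isPGroup_of_card (p := p) hPc) (line_ne_bot hPc)
  obtain ⟨z, hz, hz1, hzu⟩ := kappa_fixed_ne hG hM hκ (hPM hu) huo
  obtain ⟨q, hq, hqd⟩ := Nat.exists_prime_and_dvd (mt orderOf_eq_one_iff.mp hz1)
  haveI := Fact.mk hq
  exact sigma_of_nonregular (q := q) hG hM hκ.2.2.1 hr hPc hPM (pow_mem hz (orderOf z / q))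
    (orderOf_pow_orderOf_div (orderOf_pos z).ne' hqd) (pow_mem (show z ∈ centralizer (P : Set G) by
      rw [centralizer_line hPc hu huo]; exact mem_centralizer_singleton_iff.mpr hzu) _) hL hNL

/-- A `κ`-line and a maximal subgroup over it. -/
structure OverLine (p : ℕ) (M L P : Subgroup G) : Prop where
  max : IsCoatom M
  maxL : IsCoatom L
  kappa : p ∈ Cfsg.kappa M
  cardP : Nat.card P = p
  memM : P ≤ M
  norm : normalizer (P : Set G) ≤ L
  not_conj : ∀ g : G, L ≠ conjMap g M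
  sigmaP : p ∈ Cfsg.sigma L

theorem OverLine.ne (h : OverLine p M L P) : L ≠ M := fun e =>
  h.not_conj 1 (by rw [Cfsg.Lib.Coprime.conjMap_one]; exact e)

theorem OverLine.cent (h : OverLine p M L P) : centralizer (P : Set G) ≤ L :=
  (centralizer_le_normalizer _).trans h.norm

theorem OverLine.memL (h : OverLine p M L P) : P ≤ L := le_normalizer.trans h.norm

theorem OverLine.le_core (hG : Cfsg.IsMinSimpleOddOrder G) (h : OverLine p M L P) : P ≤ Cfsg.sigmaCore L :=
  le_sigmaCore_of_pgroup hG h.maxL h.sigmaP (isPGroup_of_card h.cardP) h.memL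

theorem OverLine.centralizes (hG : Cfsg.IsMinSimpleOddOrder G) (h : OverLine p M L P)
    (hz : z ∈ Cfsg.sigmaCore M) (hzL : z ∈ L) : z ∈ centralizer (P : Set G) := by
  refine mem_centralizer_iff.mpr fun y hy => ?_
  have h1 : ⁅z, y⁆ ∈ Cfsg.sigmaCore M ⊓ Cfsg.sigmaCore L := by
    refine ⟨?_, ?_⟩
    · show _ ∈ Cfsg.sigmaCore M
      rw [commutatorElement_def, mul_assoc, mul_assoc, ← mul_assoc y]
      exact Subgroup.mul_mem _ hz ((mem_normalizer_iff.mp (le_normalizer_sigmaCore M (h.memM hy)) _).mp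
        (Subgroup.inv_mem _ hz))
    · show _ ∈ Cfsg.sigmaCore L
      rw [commutatorElement_def]
      exact Subgroup.mul_mem _ ((mem_normalizer_iff.mp (le_normalizer_sigmaCore L hzL) _).mp (h.le_core hG hy))
        (Subgroup.inv_mem _ (h.le_core hG hy))
  rw [sigmaCore_inf_eq_bot hG h.max h.maxL h.not_conj, mem_bot] at h1
  exact (commutatorElement_eq_one_iff_mul_comm.mp h1).symm

/-- An element of prime order of `M_σ ∩ L` has rank one in `L`, outside `σ(L)`. -/
theorem OverLine.rank_one (hG : Cfsg.IsMinSimpleOddOrder G) (h : OverLine p M L P)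
    (hz : z ∈ Cfsg.sigmaCore M) (hzo : orderOf z = q) (hzL : z ∈ L) :
    q ∈ Cfsg.sigma M ∧ q ∉ Cfsg.sigma L ∧ Cfsg.PRankLE q 1 L := by
  have hX : Nat.card (zpowers z) = q := by rw [Nat.card_zpowers, hzo]
  have hσ : q ∈ Cfsg.sigma M :=
    sigmaCore_isPi q hq.out ((dvd_of_eq hX.symm).trans (card_dvd_of_le (zpowers_le.mpr hz)))
  have hqL : q ∉ Cfsg.sigma L := fun hh => by
    obtain ⟨g, hg⟩ := (sigma_partition hG).2 M L h.max h.maxL ⟨q, hσ, hh⟩
    exact h.not_conj g hg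
  refine ⟨hσ, hqL, by_contra fun hr => ?_⟩
  have hPp : IsPGroup p P := isPGroup_of_card h.cardP
  obtain ⟨y, hy, hyo⟩ := ScnUniqueness.exists_orderOf hPp (line_ne_bot h.cardP)
  obtain ⟨-, huniq⟩ := unique_centralizer_of_tau_two hG h.maxL hzL
    (fun h1 => hq.out.ne_one (by rw [← hzo, h1, orderOf_one]))
    (fun t ht hd => by
      rw [hzo, Nat.prime_dvd_prime_iff_eq ht hq.out] at hd
      exact hd ▸ ⟨hq.out, hqL, pRankLE_of_not_sigma hG h.maxL hqL, hr⟩)
    (h.le_core hG hy) (fun h1 => hp.out.ne_one (by rw [← hyo, h1, orderOf_one]))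
    (mem_centralizer_iff.mp (h.centralizes hG hz hzL) y hy).symm
  exact other_core_false hG h.max h.maxL h.ne hσ hqL (isPGroup_of_card hX) (line_ne_bot hX)
    (zpowers_le.mpr (sigmaCore_le M hz))
    (normalizer_le_of_unique hG h.maxL (line_ne_bot hX) (zpowers_le.mpr hzL) fun N hN hle =>
      huniq N hN (by rwa [Cfsg.Lib.Coprime.centralizer_zpowers] at hle))
    h.sigmaP hPp (line_ne_bot h.cardP) h.memM h.memL

/-- An element of prime order outside `σ(M)` centralizing a `κ`-line centralizes its fixed points. -/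
theorem kappa_fixed_le (hG : Cfsg.IsMinSimpleOddOrder G) (hM : IsCoatom M) (hκ : p ∈ Cfsg.kappa M)
    (hPc : Nat.card P = p) (hPM : P ≤ M) (hao : orderOf a = s) (haM : a ∈ M) (hsσ : s ∉ Cfsg.sigma M)
    (haP : a ∈ centralizer (P : Set G)) :
    Cfsg.sigmaCore M ⊓ centralizer (P : Set G) ≤ centralizer ({a} : Set G) := by
  obtain ⟨L, hL, hNL, hnc, hpL⟩ := exists_over_line hG hM hκ hPc hPM
  have h : OverLine p M L P := ⟨hM, hL, hκ, hPc, hPM, hNL, hnc, hpL⟩
  obtain ⟨u, hu, huo⟩ := ScnUniqueness.exists_orderOf (isPGroup_of_card (p := p) hPc) (line_ne_bot hPc)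
  have hu1 : u ≠ 1 := fun hh => hp.out.ne_one (by rw [← huo, hh, orderOf_one])
  have haL : a ∈ L := h.cent haP
  have hac : Nat.card (zpowers a) = s := by rw [Nat.card_zpowers, hao]
  set D := Cfsg.sigmaCore M ⊓ centralizer (P : Set G) with hD
  have haD : zpowers a ≤ normalizer (D : Set G) := Cfsg.Lib.Coprime.le_normalizer_inf
    ((zpowers_le.mpr haM).trans (le_normalizer_sigmaCore M))
    ((zpowers_le.mpr haP).trans le_normalizer)
  have hcop : (Nat.card (zpowers a)).Coprime (Nat.card D) := by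
    rw [hac]
    exact hs.out.coprime_iff_not_dvd.mpr fun hd =>
      hsσ (sigmaCore_isPi s hs.out (hd.trans (card_dvd_of_le inf_le_left)))
  refine Cfsg.Lib.Coprime.le_of_forall_sylow fun q hq => ?_
  haveI := Fact.mk hq
  obtain ⟨T₀, hT₀⟩ := Cfsg.Lib.Coprime.exists_invariant_sylow haD hcop
    (Or.inl (hG.2.2.2 _ (FittingUniqueness.ne_top_of_le_coatom hM (zpowers_le.mpr haM)))) q
  refine ⟨T₀, ?_⟩
  set T := (T₀ : Subgroup D).map D.subtype with hT
  have hTD : T ≤ D := map_subtype_le _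
  by_cases hT1 : T = ⊥
  · rw [hT1]; exact bot_le
  have hTp : IsPGroup q T := T₀.2.map _
  obtain ⟨y, hyT, hyo⟩ := ScnUniqueness.exists_orderOf hTp hT1
  have hy1 : y ≠ 1 := fun hh => hq.ne_one (by rw [← hyo, hh, orderOf_one])
  have hyL : y ∈ L := h.cent (hTD hyT).2
  obtain ⟨hqσ, hqL, hqr⟩ := h.rank_one (q := q) hG (hTD hyT).1 hyo hyL
  have hTc : IsCyclic T := isCyclic_sylow_of_rank_one hG hTp (hTD.trans (inf_le_right.trans h.cent)) hqr
  have hyn : a ∈ normalizer (zpowers y : Set G) :=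
    normalizer_le_of_cyclic hTc (zpowers_le.mpr hyT) (hT₀ (mem_zpowers a))
  have hY : Nat.card (zpowers y) = q := by rw [Nat.card_zpowers, hyo]
  have hfix : y ∈ centralizer (zpowers a : Set G) := by
    rw [Cfsg.Lib.Coprime.centralizer_zpowers]
    refine mem_centralizer_singleton_iff.mpr ?_
    by_cases hsL : s ∈ Cfsg.sigma L
    · by_contra hne
      have h1 : ⁅a, y⁆ ∈ zpowers y := by
        rw [commutatorElement_def]
        exact mul_mem ((mem_normalizer_iff.mp hyn _).mp (mem_zpowers y)) (inv_mem (mem_zpowers y))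
      have h2 : ⁅a, y⁆ ∈ Cfsg.sigmaCore L := by
        have haσ : a ∈ Cfsg.sigmaCore L := le_sigmaCore_of_pgroup hG hL hsL
          (isPGroup_of_card (p := s) hac) (zpowers_le.mpr haL) (mem_zpowers a)
        rw [commutatorElement_def, mul_assoc, mul_assoc, ← mul_assoc y]
        exact mul_mem haσ ((mem_normalizer_iff.mp (le_normalizer_sigmaCore L hyL) _).mp (inv_mem haσ))
      have h3 : ⁅a, y⁆ ≠ 1 := fun hh => hne (commutatorElement_eq_one_iff_mul_comm.mp hh).symm
      exact hqL (sigmaCore_isPi q hq ((dvd_of_eq hY.symm).trans (card_dvd_of_le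
        (line_eq_of_mem hY h1 h3 ▸ zpowers_le.mpr h2))))
    · by_contra hne
      refine moved_nonregular_false (p := q) (s := s) hG hL hqL hqr hY (zpowers_le.mpr hyL)
        (h.le_core hG hu) hu1 ?_ hao haL hsL hyn fun hh => hne (mem_centralizer_iff.mp hh y (mem_zpowers y))
      exact le_centralizer_iff.mp (zpowers_le.mpr (hTD hyT).2) hu
  exact Cfsg.Lib.Coprime.centralizer_zpowers a ▸
    ScnUniqueness.le_centralizer_of_cyclic hTp hTc hT₀
      (Cfsg.Lib.Coprime.coprime_of_le hTD hcop) hyT hy1 hfix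

/-- An element of prime order outside `σ(M)` centralizing a `κ`-line has its prime in `κ(M)`. -/
theorem kappa_of_centralizes (hG : Cfsg.IsMinSimpleOddOrder G) (hM : IsCoatom M) (hκ : p ∈ Cfsg.kappa M)
    (hPc : Nat.card P = p) (hPM : P ≤ M) (hao : orderOf a = s) (haM : a ∈ M) (hsσ : s ∉ Cfsg.sigma M)
    (haP : a ∈ centralizer (P : Set G)) : s ∈ Cfsg.kappa M := by
  obtain ⟨L, hL, hNL, hnc, hpL⟩ := exists_over_line hG hM hκ hPc hPM
  have h : OverLine p M L P := ⟨hM, hL, hκ, hPc, hPM, hNL, hnc, hpL⟩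
  obtain ⟨u, hu, huo⟩ := ScnUniqueness.exists_orderOf (isPGroup_of_card (p := p) hPc) (line_ne_bot hPc)
  have hu1 : u ≠ 1 := fun hh => hp.out.ne_one (by rw [← huo, hh, orderOf_one])
  obtain ⟨z, hz, hz1, hzu⟩ := kappa_fixed_ne hG hM hκ (hPM hu) huo
  have hzP : z ∈ centralizer (P : Set G) := by
    rw [centralizer_line hPc hu huo]; exact mem_centralizer_singleton_iff.mpr hzu
  have hza : z * a = a * z := mem_centralizer_singleton_iff.mp
    (kappa_fixed_le hG hM hκ hPc hPM hao haM hsσ haP ⟨hz, hzP⟩)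
  refine kappa_intro hG hM hsσ (by_contra fun hr => ?_) haM hao hz hz1 hza
  have ha1 : a ≠ 1 := fun hh => hs.out.ne_one (by rw [← hao, hh, orderOf_one])
  have hac : Nat.card (zpowers a) = s := by rw [Nat.card_zpowers, hao]
  have haL : a ∈ L := h.cent haP
  obtain ⟨hCa, huniq⟩ := unique_centralizer_of_tau_two hG hM haM ha1 (fun t ht hd => by
    rw [hao, Nat.prime_dvd_prime_iff_eq ht hs.out] at hd
    exact hd ▸ ⟨hs.out, hsσ, pRankLE_of_not_sigma hG hM hsσ, hr⟩) hz hz1 hza.symm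
  have hNa : normalizer (zpowers a : Set G) ≤ M := normalizer_le_of_unique hG hM (line_ne_bot hac)
    (zpowers_le.mpr haM) fun N hN hle => huniq N hN (by rwa [Cfsg.Lib.Coprime.centralizer_zpowers] at hle)
  by_cases hsL : s ∈ Cfsg.sigma L
  · obtain ⟨hτ, -, E, hE, hEL⟩ := tau_two_other hG hL hM hsL hsσ (isPGroup_of_card hac) (line_ne_bot hac)
      (zpowers_le.mpr haL) hNa
    obtain ⟨B, hBE, hB, hBc⟩ := exists_sq_complement hG hM hE hτ
    obtain ⟨B₀, hexc⟩ := exists_exc hG hM hsσ (hBE.trans hE.1) hB hBc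
    exact hz1 (mem_bot.mp ((hexc.inf_other hG hL h.ne (hBE.trans hEL)).le ⟨hz, h.cent hzP⟩))
  · have hua : a * u = u * a := (mem_centralizer_iff.mp haP u hu).symm
    by_cases hrL : Cfsg.PRankLE s 1 L
    · exact hsσ (sigma_of_nonregular (p := s) (q := p) hG hL hsL hrL hac (zpowers_le.mpr haL)
        (h.le_core hG hu) huo (by
          rw [Cfsg.Lib.Coprime.centralizer_zpowers]; exact mem_centralizer_singleton_iff.mpr hua.symm) hM hNa)
    · obtain ⟨-, huniqL⟩ := unique_centralizer_of_tau_two hG hL haL ha1 (fun t ht hd => by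
        rw [hao, Nat.prime_dvd_prime_iff_eq ht hs.out] at hd
        exact hd ▸ ⟨hs.out, hsL, pRankLE_of_not_sigma hG hL hsL, hrL⟩) (h.le_core hG hu) hu1 hua
      exact h.ne (huniqL M hM hCa).symm

/-- An element of prime order outside `σ(M)` normalizing a `κ`-line centralizes it. -/
theorem kappa_line_central (hG : Cfsg.IsMinSimpleOddOrder G) (hM : IsCoatom M) (hκ : p ∈ Cfsg.kappa M)
    (hPc : Nat.card P = p) (hPM : P ≤ M) (hao : orderOf a = s) (haM : a ∈ M) (hsσ : s ∉ Cfsg.sigma M)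
    (haP : a ∈ normalizer (P : Set G)) : a ∈ centralizer (P : Set G) := by
  by_contra hmove
  obtain ⟨u, hu, huo⟩ := ScnUniqueness.exists_orderOf (isPGroup_of_card (p := p) hPc) (line_ne_bot hPc)
  obtain ⟨z, hz, hz1, hzu⟩ := kappa_fixed_ne hG hM hκ (hPM hu) huo
  exact moved_nonregular_false (p := p) (s := s) hG hM hκ.2.2.1 (kappa_rank hG hM hκ) hPc hPM hz hz1
    (by rw [centralizer_line hPc hu huo]; exact mem_centralizer_singleton_iff.mpr hzu) hao haM hsσ haP hmove

/-- Commuting elements of prime order of `κ`-primes have the same fixed points in `M_σ`. -/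
theorem kappa_fixed_eq (hG : Cfsg.IsMinSimpleOddOrder G) (hM : IsCoatom M) (hκ : p ∈ Cfsg.kappa M)
    (hκs : s ∈ Cfsg.kappa M) {b : G} (haM : a ∈ M) (hao : orderOf a = s) (hbM : b ∈ M) (hbo : orderOf b = p)
    (hab : a * b = b * a) :
    Cfsg.sigmaCore M ⊓ centralizer ({a} : Set G) = Cfsg.sigmaCore M ⊓ centralizer ({b} : Set G) := by
  have hb : Nat.card (zpowers b) = p := by rw [Nat.card_zpowers, hbo]
  have ha : Nat.card (zpowers a) = s := by rw [Nat.card_zpowers, hao]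
  refine le_antisymm (le_inf inf_le_left ?_) (le_inf inf_le_left ?_)
  · have h := kappa_fixed_le (p := s) (s := p) hG hM hκs ha (zpowers_le.mpr haM) hbo hbM hκ.2.2.1
      (by rw [Cfsg.Lib.Coprime.centralizer_zpowers]; exact mem_centralizer_singleton_iff.mpr hab.symm)
    rwa [Cfsg.Lib.Coprime.centralizer_zpowers] at h
  · have h := kappa_fixed_le (p := p) (s := s) hG hM hκ hb (zpowers_le.mpr hbM) hao haM hκs.2.2.1
      (by rw [Cfsg.Lib.Coprime.centralizer_zpowers]; exact mem_centralizer_singleton_iff.mpr hab)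
    rwa [Cfsg.Lib.Coprime.centralizer_zpowers] at h

end Cfsg.Lib.OddLocal.RankTwoMax
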