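import Cfsg.Agent.OddLocal.KappaPrime

/-!
# Pairs `(M, K)` with a common `Z = K × C_{M_σ}(K)`
-/

set_option linter.unusedSectionVars false
set_option linter.unusedVariables false
set_option linter.style.haveILetI false

namespace Cfsg.Lib.OddLocal.RankTwoMax

open Subgroup Uniqueness Sigma
open Cfsg.Lib.Coprime (conjMap)
open scoped commutatorElement

universe u

variable {G : Type u} [Group G] [Finite G] {M L K J X : Subgroup G} {g z k y : G}

local notation "fix(" M ", " K ")" => Cfsg.sigmaCore M ⊓ centralizer (SetLike.coe K)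

/-- A maximal subgroup with a nontrivial Hall `κ`-subgroup. -/
structure KappaPair (M K : Subgroup G) : Prop where
  max : IsCoatom M
  hall : Cfsg.IsPiHallOf (Cfsg.kappa M) K M
  ne : K ≠ ⊥

theorem KappaPair.commute (h : KappaPair M K) (hk : k ∈ K) (hy : y ∈ fix(M, K)) : Commute k y :=
  mem_centralizer_iff.mp hy.2 k hk

theorem KappaPair.not_sigma (h : KappaPair M K) (hk : k ∈ K) {t : ℕ} (ht : t.Prime) (hd : t ∣ orderOf k) :
    t ∉ Cfsg.sigma M :=
  (h.hall.2.1 t ht (hd.trans ((Nat.card_zpowers k).symm ▸ card_dvd_of_le (zpowers_le.mpr hk)))).2.2.1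

theorem KappaPair.sigma_fix (h : KappaPair M K) (hy : y ∈ fix(M, K)) {t : ℕ} (ht : t.Prime)
    (hd : t ∣ orderOf y) : t ∈ Cfsg.sigma M :=
  prime_of_mem_core hy.1 ht hd

theorem KappaPair.le_normalizer (h : KappaPair M K) : fix(M, K) ≤ normalizer (K : Set G) :=
  inf_le_right.trans (centralizer_le_normalizer _)

theorem KappaPair.disjoint (h : KappaPair M K) : K ⊓ fix(M, K) = ⊥ :=
  le_bot_iff.mp fun x hx => by
    rw [mem_bot]
    by_contra hx1
    obtain ⟨t, ht, hd⟩ := exists_pow_prime hx1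
    exact h.not_sigma hx.1 ht hd (h.sigma_fix hx.2 ht hd)

theorem KappaPair.card_eq (h : KappaPair M K) :
    Nat.card ↥(K ⊔ fix(M, K)) = Nat.card K * Nat.card ↥(fix(M, K)) :=
  Cfsg.Lib.Coprime.card_sup_of_inf_eq_bot h.le_normalizer h.disjoint

theorem KappaPair.exists_mul (h : KappaPair M K) (hz : z ∈ K ⊔ fix(M, K)) :
    ∃ k ∈ K, ∃ y ∈ fix(M, K), k * y = z :=
  (Cfsg.Lib.Coprime.mem_sup_of_le_normalizer h.le_normalizer).mp hz

theorem KappaPair.le_max (h : KappaPair M K) : K ⊔ fix(M, K) ≤ M :=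
  sup_le h.hall.1 (inf_le_left.trans (sigmaCore_le M))

/-- An element of `Z` with all primes in `σ(M)` lies in `C_{M_σ}(K)`. -/
theorem KappaPair.mem_fix (h : KappaPair M K) (hz : z ∈ K ⊔ fix(M, K))
    (hσ : ∀ t : ℕ, t.Prime → t ∣ orderOf z → t ∈ Cfsg.sigma M) : z ∈ fix(M, K) := by
  obtain ⟨k, hk, y, hy, rfl⟩ := h.exists_mul hz
  have he := eq_of_parts (a := y) (b := k) (c := k * y) (d := 1) (h.commute hk hy).symm
    (Commute.one_right _) (by rw [mul_one]; exact (h.commute hk hy).eq.symm) fun t ht h1 h2 => by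
      have hσt : t ∈ Cfsg.sigma M := h1.elim (h.sigma_fix hy ht) (hσ t ht)
      rcases h2 with h2 | h2
      · exact h.not_sigma hk ht h2 hσt
      · rw [orderOf_one] at h2; exact ht.not_dvd_one h2
  exact he.1 ▸ hy

/-- An element of `Z` with no prime in `σ(M)` lies in `K`. -/
theorem KappaPair.mem_hall (h : KappaPair M K) (hz : z ∈ K ⊔ fix(M, K))
    (hσ : ∀ t : ℕ, t.Prime → t ∣ orderOf z → t ∉ Cfsg.sigma M) : z ∈ K := by
  obtain ⟨k, hk, y, hy, rfl⟩ := h.exists_mul hz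
  have he := eq_of_parts (a := k) (b := y) (c := k * y) (d := 1) (h.commute hk hy) (Commute.one_right _)
      (mul_one _).symm fun t ht h1 h2 => by
    have hσt : t ∉ Cfsg.sigma M := h1.elim (h.not_sigma hk ht) (hσ t ht)
    rcases h2 with h2 | h2
    · exact hσt (h.sigma_fix hy ht h2)
    · rw [orderOf_one] at h2; exact ht.not_dvd_one h2
  exact he.1 ▸ hk

theorem KappaPair.fix_ne (hG : Cfsg.IsMinSimpleOddOrder G) (h : KappaPair M K) : fix(M, K) ≠ ⊥ :=
  kappa_group_fixed_ne hG h.max h.hall.1 h.hall.2.1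

theorem exists_line {H : Subgroup G} (hH : H ≠ ⊥) : ∃ X : Subgroup G, X ≤ H ∧ (Nat.card X).Prime := by
  obtain ⟨r, hr, hd⟩ := Nat.exists_prime_and_dvd (mt card_eq_one.mp hH)
  haveI := Fact.mk hr
  obtain ⟨a, ha⟩ := exists_prime_orderOf_dvd_card' r hd
  exact ⟨zpowers (a : G), zpowers_le.mpr a.2, by rw [Nat.card_zpowers, orderOf_coe, ha]; exact hr⟩

/-- Every line of `K` lies in the fixed points of a pair with the same `Z`. -/
theorem KappaPair.exists_member (hG : Cfsg.IsMinSimpleOddOrder G) (h : KappaPair M K) (hX : (Nat.card X).Prime)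
    (hXK : X ≤ K) :
    ∃ L J : Subgroup G, KappaPair L J ∧ J ⊔ fix(L, J) = K ⊔ fix(M, K) ∧ X ≤ fix(L, J) ∧ L ≠ M ∧
      normalizer (X : Set G) ≤ L := by
  set p := Nat.card X with hp
  haveI := Fact.mk hX
  have hM := h.max
  have hpκ : p ∈ Cfsg.kappa M := h.hall.2.1 p hX (card_dvd_of_le hXK)
  obtain ⟨L, hL, hNL, hnc, hpL⟩ := exists_over_line hG hM hpκ rfl (hXK.trans h.hall.1)
  have hov : OverLine p M L X := ⟨hM, hL, hpκ, rfl, hXK.trans h.hall.1, hNL, hnc, hpL⟩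
  have hWX : fix(M, K) ≤ centralizer (X : Set G) :=
    inf_le_right.trans (centralizer_le (SetLike.coe_subset_coe.mpr hXK))
  have hWL : fix(M, K) ≤ L := hWX.trans hov.cent
  obtain ⟨a, haX, ha1⟩ : ∃ a ∈ X, a ≠ (1 : G) := by
    by_contra hne
    push Not at hne
    exact hX.ne_one (hp.trans (card_eq_one.mpr ((eq_bot_iff_forall X).mpr hne)))
  have haXe : zpowers a = X := line_eq_of_mem rfl haX ha1
  -- the primes of `C_{M_σ}(K)` lie in `κ(L)`
  have hκL : ∀ t : ℕ, t.Prime → t ∣ Nat.card ↥(fix(M, K)) → t ∈ Cfsg.kappa L := fun t ht hd => by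
    haveI := Fact.mk ht
    obtain ⟨w, hw⟩ := exists_prime_orderOf_dvd_card' t hd
    have hwo : orderOf (w : G) = t := by rw [orderOf_coe, hw]
    obtain ⟨-, htL, htr⟩ := hov.rank_one (q := t) hG w.2.1 hwo (hWL w.2)
    exact kappa_intro hG hL htL htr (hWL w.2) hwo (hov.le_core hG haX) ha1
      (mem_centralizer_iff.mp (hWX w.2) a haX)
  haveI : Group.IsSolvable L := hG.2.2.2 L (FittingUniqueness.ne_top_of_le_coatom hL le_rfl)
  obtain ⟨J₀, hJ₀, hWJ₀⟩ := Cfsg.Lib.Coprime.exists_piHall_ge (G := L) (π := Cfsg.kappa L)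
    (K := (fix(M, K)).subgroupOf L) fun t ht hd => hκL t ht
      (hd.trans (dvd_of_eq (Nat.card_congr (subgroupOfEquivOfLe hWL).toEquiv)))
  set J := J₀.map L.subtype with hJdef
  have hJL : J ≤ L := map_subtype_le _
  have hJ : Cfsg.IsPiHallOf (Cfsg.kappa L) J L := by
    refine ⟨hJL, fun t ht hd => hJ₀.1 t ht (by rwa [hJdef, card_map_of_injective L.subtype_injective] at hd), ?_⟩
    intro t ht htκ
    rw [relIndex, hJdef, subgroupOf, comap_map_eq_self_of_injective L.subtype_injective]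
    exact hJ₀.2 t ht htκ
  have hWJ : fix(M, K) ≤ J := fun w hw => ⟨⟨w, hWL hw⟩, hWJ₀ hw, rfl⟩
  obtain ⟨Y, hYW, hY⟩ := exists_line (h.fix_ne hG)
  haveI := Fact.mk hY
  have hpair : KappaPair L J := ⟨hL, hJ, fun hJb => hY.ne_one
    (card_eq_one.mpr (le_bot_iff.mp ((hYW.trans hWJ).trans hJb.le)))⟩
  obtain ⟨x, hxY, hx1⟩ : ∃ x ∈ Y, x ≠ (1 : G) := by
    by_contra hne
    push Not at hne
    exact hY.ne_one (card_eq_one.mpr ((eq_bot_iff_forall Y).mpr hne))
  have hxYe : zpowers x = Y := line_eq_of_mem rfl hxY hx1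
  have hxW : x ∈ fix(M, K) := hYW hxY
  have hfixJ : Cfsg.sigmaCore L ⊓ centralizer ({x} : Set G) = fix(L, J) :=
    kappa_group_fixed hG hL hJL hJ.2.1 (hWJ hxW) hx1
  have hXJ : X ≤ fix(L, J) := fun b hb => hfixJ.le ⟨hov.le_core hG hb,
    mem_centralizer_singleton_iff.mpr (mem_centralizer_iff.mp (hWX hxW) b hb)⟩
  obtain ⟨-, huL⟩ := line_unique hG hL hJ hpair.ne hX hXJ
  obtain ⟨hCY, huM⟩ := line_unique hG hM h.hall h.ne hY hYW
  have hxo : orderOf x = Nat.card Y := by rw [← hxYe, Nat.card_zpowers]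
  obtain ⟨hJY, -⟩ := kappa_group_lines (s := Nat.card Y) hG hL hJL hJ.2.1 (hWJ hxW) hxo
  rw [hxYe] at hJY
  have hJM : J ≤ M := hJY.trans (normalizer_le_of_unique hG hM (fun e => hY.ne_one (card_eq_one.mpr e))
    (hYW.trans (inf_le_left.trans (sigmaCore_le M))) huM)
  obtain ⟨E, U, hEU⟩ := exists_kappaSplit hG hM h.hall
  have hao : orderOf a = p := by rw [← Nat.card_zpowers, haXe]
  obtain ⟨hKX, -⟩ := kappa_group_lines (s := p) hG hM h.hall.1 h.hall.2.1 (hXK haX) hao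
  rw [haXe] at hKX
  have hNX := hEU.normalizer_eq hG hM h.hall (fun e => hX.ne_one (card_eq_one.mpr e)) hXK hKX
  have hJZ : J ≤ K ⊔ fix(M, K) :=
    (le_inf hJM ((le_centralizer_iff.mp (hXJ.trans inf_le_right)).trans (centralizer_le_normalizer _))).trans
      hNX.le
  have hVM : fix(L, J) ≤ M :=
    (inf_le_right.trans (centralizer_le (SetLike.coe_subset_coe.mpr (hYW.trans hWJ)))).trans hCY
  have hVκ : ∀ t : ℕ, t.Prime → t ∣ Nat.card ↥(fix(L, J)) → t ∈ Cfsg.kappa M := fun t ht hd => by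
    haveI := Fact.mk ht
    obtain ⟨w, hw⟩ := exists_prime_orderOf_dvd_card' t hd
    have hwo : orderOf (w : G) = t := by rw [orderOf_coe, hw]
    have hw1 : (w : G) ≠ 1 := fun e => ht.ne_one (by rw [← hwo, e, orderOf_one])
    have htL : t ∈ Cfsg.sigma L := prime_of_mem_core w.2.1 ht (dvd_of_eq hwo.symm)
    have htM : t ∉ Cfsg.sigma M := fun htM => by
      obtain ⟨g, hg⟩ := (sigma_partition hG).2 M L hM hL ⟨t, htM, htL⟩
      exact hnc g hg
    rcases centralizer_split hG hM hxW.1 hx1 (y := (w : G)) ⟨hVM w.2, mem_centralizer_singleton_iff.mpr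
        (mem_centralizer_iff.mp w.2.2 x (hWJ hxW)).symm⟩ hw1
      (fun r hr hd => (Nat.prime_dvd_prime_iff_eq hr ht).mp (hwo ▸ hd) ▸ htM) with ⟨hh, -⟩ | ⟨-, -, hle, -⟩
    · exact hh t ht (dvd_of_eq hwo.symm)
    · refine absurd ?_ hov.ne
      refine ((line_unique hG hL hJ hpair.ne (X := zpowers (w : G)) (by rw [Nat.card_zpowers, hwo]; exact ht)
        (zpowers_le.mpr w.2)).2 M hM ?_).symm
      rw [Cfsg.Lib.Coprime.centralizer_zpowers]
      exact hle
  obtain ⟨hVX, -⟩ := kappa_group_lines (s := p) hG hM hVM hVκ (hXJ haX) hao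
  rw [haXe] at hVX
  have hVZ : fix(L, J) ≤ K ⊔ fix(M, K) := (le_inf hVM hVX).trans hNX.le
  obtain ⟨E', U', hEU'⟩ := exists_kappaSplit hG hL hJ
  have hNY := hEU'.normalizer_eq hG hL hJ (fun e => hY.ne_one (card_eq_one.mpr e)) (hYW.trans hWJ) hJY
  refine ⟨L, J, hpair, le_antisymm (sup_le hJZ hVZ) (sup_le ?_ (hWJ.trans le_sup_left)), hXJ, hov.ne, hNL⟩
  exact (le_inf (hKX.trans hNL)
    ((le_centralizer_iff.mp (hYW.trans inf_le_right)).trans (centralizer_le_normalizer _))).trans hNY.le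

/-- Pairs with the same `Z` and a common `σ`-prime coincide. -/
theorem KappaPair.eq_of_sigma (hG : Cfsg.IsMinSimpleOddOrder G) (h : KappaPair M K) (h' : KappaPair L J)
    (hZ : J ⊔ fix(L, J) = K ⊔ fix(M, K)) (hσ : (Cfsg.sigma M ∩ Cfsg.sigma L).Nonempty) : L = M := by
  obtain ⟨g, hg⟩ := (sigma_partition hG).2 M L h.max h'.max hσ
  have he : Cfsg.sigma L = Cfsg.sigma M := hg ▸ sigma_conj h.max g
  obtain ⟨X, hXW, hX⟩ := exists_line (h.fix_ne hG)
  have hXW' : X ≤ fix(L, J) := fun x hx => h'.mem_fix (hZ.ge (mem_sup_right (hXW hx)))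
    fun t ht hd => he ▸ h.sigma_fix (hXW hx) ht hd
  exact (line_unique hG h.max h.hall h.ne hX hXW).2 L h'.max (line_unique hG h'.max h'.hall h'.ne hX hXW').1

/-- The fixed points of one pair lie in the Hall subgroup of another with the same `Z`. -/
theorem KappaPair.fix_le (hG : Cfsg.IsMinSimpleOddOrder G) (h : KappaPair M K) (h' : KappaPair L J)
    (hZ : J ⊔ fix(L, J) = K ⊔ fix(M, K)) (hne : L ≠ M) : fix(M, K) ≤ J := fun x hx =>
  h'.mem_hall (hZ.ge (mem_sup_right hx)) fun t ht hd hσ =>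
    hne (h.eq_of_sigma hG h' hZ ⟨t, h.sigma_fix hx ht hd, hσ⟩)

/-- If `J` has prime order the two pairs are dual. -/
theorem KappaPair.dual_of_prime (hG : Cfsg.IsMinSimpleOddOrder G) (h : KappaPair M K) (h' : KappaPair L J)
    (hZ : J ⊔ fix(L, J) = K ⊔ fix(M, K)) (hne : L ≠ M) (hp : (Nat.card J).Prime) :
    J = fix(M, K) ∧ K = fix(L, J) := by
  have hle := h.fix_le hG h' hZ hne
  have hJ : J = fix(M, K) := by
    rcases (Nat.dvd_prime hp).mp (card_dvd_of_le hle) with he | he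
    · exact absurd (card_eq_one.mp he) (h.fix_ne hG)
    · exact (Cfsg.Lib.Coprime.eq_of_le_of_card_eq hle he).symm
  refine ⟨hJ, (Cfsg.Lib.Coprime.eq_of_le_of_card_eq (h'.fix_le hG h hZ.symm hne.symm) ?_).symm⟩
  have h1 := h'.card_eq
  rw [hZ, h.card_eq] at h1
  have h2 : Nat.card J = Nat.card ↥(fix(M, K)) := congrArg (fun H : Subgroup G => Nat.card H) hJ
  rw [h2, mul_comm] at h1
  exact (Nat.eq_of_mul_eq_mul_left Nat.card_pos h1).symm

/-- The elements of `Z` outside both factors form a TI-subset. -/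
theorem KappaPair.conj_mem (hG : Cfsg.IsMinSimpleOddOrder G) (h : KappaPair M K) (hz : z ∈ K ⊔ fix(M, K))
    (hzK : z ∉ K) (hzW : z ∉ fix(M, K)) (hgz : g * z * g⁻¹ ∈ K ⊔ fix(M, K)) :
    g ∈ K ⊔ fix(M, K) := by
  obtain ⟨k, hk, y, hy, rfl⟩ := h.exists_mul hz
  have hk1 : k ≠ 1 := fun e => hzW (by rw [e, one_mul]; exact hy)
  have hy1 : y ≠ 1 := fun e => hzK (by rw [e, mul_one]; exact hk)
  obtain ⟨k', hk', y', hy', he⟩ := h.exists_mul hgz
  have ho : ∀ v : G, orderOf (g * v * g⁻¹) = orderOf v := fun v =>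
    orderOf_injective (MulAut.conj g).toMonoidHom (MulEquiv.injective _) v
  have hparts := eq_of_parts (a := g * k * g⁻¹) (b := g * y * g⁻¹) (c := k') (d := y')
    ((h.commute hk hy).map (MulAut.conj g)) (h.commute hk' hy')
    (by rw [he]; group) fun t ht h1 h2 => by
      rw [ho] at h1 h2
      have hn : t ∉ Cfsg.sigma M := h1.elim (h.not_sigma hk ht) (h.not_sigma hk' ht)
      exact hn (h2.elim (h.sigma_fix hy ht) (h.sigma_fix hy' ht))
  obtain ⟨e1, e2⟩ := hparts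
  have hgM : g ∈ M := by
    by_contra hgM
    refine hy1 (conj_eq_one_iff.mp (mem_bot.mp ((fixed_conj hG h.max h.hall h.ne hgM).le
      (x := g * y * g⁻¹) ⟨e2.symm ▸ hy', ⟨y, sigmaCore_le M hy.1, rfl⟩⟩)))
  by_contra hgZ
  exact hk1 (conj_eq_one_iff.mp (mem_bot.mp ((kappa_hall_ti hG h.max h.hall hgM hgZ).le
    (x := g * k * g⁻¹) ⟨e1.symm ▸ hk', ⟨k, hk, rfl⟩⟩)))

end Cfsg.Lib.OddLocal.RankTwoMax
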