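import Cfsg.Agent.OddLocal.KappaFixedPoints

/-!
# A nontrivial complement `U` forces a Hall `κ(M)`-subgroup of prime order
-/

set_option linter.unusedSectionVars false
set_option linter.unusedVariables false
set_option linter.style.haveILetI false

namespace Cfsg.Lib.OddLocal.RankTwoMax

open Subgroup Uniqueness Sigma
open Cfsg.Lib.Coprime (conjMap)
open scoped commutatorElement

universe u

variable {G : Type u} [Group G] [Finite G] {M K E U : Subgroup G}

/-- The complement `U` has no fixed point in `M_σ`. -/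
theorem KappaSplit.fixed_U (hG : Cfsg.IsMinSimpleOddOrder G) (hM : IsCoatom M) (h : KappaSplit M K E U)
    (hU : U ≠ ⊥) : Cfsg.sigmaCore M ⊓ centralizer (U : Set G) = ⊥ := by
  obtain ⟨r, hr, hd⟩ := Nat.exists_prime_and_dvd (mt card_eq_one.mp hU)
  haveI := Fact.mk hr
  obtain ⟨-, hκ, hσ⟩ := h.hallU.2.1 r hr hd
  refine le_bot_iff.mp fun z hz => ?_
  rw [mem_bot]
  by_contra hz1
  by_cases hr1 : Cfsg.PRankLE r 1 M
  · obtain ⟨u, hu⟩ := exists_prime_orderOf_dvd_card' r hd
    have huo : orderOf (u : G) = r := by rw [orderOf_coe, hu]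
    exact hκ (kappa_intro hG hM hσ hr1 (h.hallU.1 u.2) huo hz.1 hz1
      (mem_centralizer_iff.mp hz.2 u u.2).symm)
  have hr2 : Cfsg.PRankLE r 2 M := by
    by_contra h2
    exact hσ (alpha_subset_sigma hG hM ⟨hr, h2⟩)
  obtain ⟨A, hAE, hA, hAc⟩ := exists_sq_complement hG hM h.compl ⟨hr, hσ, hr2, hr1⟩
  obtain ⟨A₀, hexc⟩ := exists_exc hG hM hσ (hAE.trans h.compl.1) hA hAc
  have hAn : A ≤ normalizer (U : Set G) := hAE.trans h.normal
  have h1 := Cfsg.Lib.Coprime.card_sup_mul_card_inf hAn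
  rw [← card_mul_relIndex (le_sup_left : U ≤ U ⊔ A), mul_assoc] at h1
  have h2 : U.relIndex (U ⊔ A) * Nat.card ↥(U ⊓ A) = r ^ 2 :=
    (Nat.eq_of_mul_eq_mul_left (Nat.card_pos (α := U)) h1).trans hAc
  have h3 : U.relIndex (U ⊔ A) = 1 := by
    obtain ⟨i, -, hi⟩ := (Nat.dvd_prime_pow hr).mp (Dvd.intro _ h2 : U.relIndex (U ⊔ A) ∣ r ^ 2)
    rcases i with _ | i
    · simpa using hi
    · refine absurd ?_ (h.hallU.2.2 r hr ⟨hr, hκ, hσ⟩)
      rw [← relIndex_mul_relIndex U (U ⊔ A) M le_sup_left (sup_le h.hallU.1 (hAE.trans h.compl.1))]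
      exact (hi ▸ dvd_pow_self r i.succ_ne_zero).mul_right _
  have hAU : A ≤ U := le_sup_right.trans (relIndex_eq_one.mp h3)
  exact hz1 (mem_bot.mp ((hexc.inf_centralizer_eq_bot hG).le ⟨hz.1,
    centralizer_le (SetLike.coe_subset_coe.mpr hAU) hz.2⟩))

/-- If `U ≠ 1` then `K` has prime order. -/
theorem KappaSplit.prime_card (hG : Cfsg.IsMinSimpleOddOrder G) (hM : IsCoatom M) (h : KappaSplit M K E U)
    (hK : Cfsg.IsPiHallOf (Cfsg.kappa M) K M) (hK1 : K ≠ ⊥) (hU : U ≠ ⊥) : (Nat.card K).Prime := by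
  set H := Cfsg.sigmaCore M with hH
  have hsol : Group.IsSolvable H :=
    hG.2.2.2 H (FittingUniqueness.ne_top_of_le_coatom hM (sigmaCore_le M))
  have hfU := h.fixed_U hG hM hU
  have key : ∀ Y : Subgroup G, Y ≤ K → (Nat.card H) =
      Nat.card ↥(H ⊓ centralizer (Y : Set G)) ^ Nat.card Y := fun Y hY => by
    have hYn : Y ≤ normalizer (U : Set G) := (hY.trans h.memK).trans h.normal
    have hle : U ⊔ Y ≤ E := sup_le h.memU (hY.trans h.memK)
    have h1 := Cfsg.Lib.FixedDim.frobenius_fixed_solvable U Y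
      (le_bot_iff.mp ((inf_le_inf_left _ hY).trans h.disjoint.le)) hYn
      (fun e he he1 u hu hc => mem_bot.mp ((h.free e (hY he) he1).le
        ⟨hu, mem_centralizer_singleton_iff.mpr hc.symm⟩)) (Nat.card H) H le_rfl
      ((hle.trans h.compl.1).trans (le_normalizer_sigmaCore M)) hsol
      (coprime_card_of_disjoint fun t ht h1 h2 => not_sigma_of_dvd hG hM h.compl ht
        (h2.trans (card_dvd_of_le hle)) (sigmaCore_isPi t ht h1))
    have hfUY : H ⊓ centralizer ((U ⊔ Y : Subgroup G) : Set G) = ⊥ :=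
      le_bot_iff.mp ((inf_le_inf_left _ (centralizer_le (SetLike.coe_subset_coe.mpr le_sup_left))).trans hfU.le)
    rw [hfUY, hfU, card_bot, one_pow, one_mul, mul_one] at h1
    exact h1
  obtain ⟨r, hr, hd⟩ := Nat.exists_prime_and_dvd (mt card_eq_one.mp hK1)
  haveI := Fact.mk hr
  obtain ⟨a, ha⟩ := exists_prime_orderOf_dvd_card' r hd
  have hao : orderOf (a : G) = r := by rw [orderOf_coe, ha]
  have hfix : H ⊓ centralizer (zpowers (a : G) : Set G) = H ⊓ centralizer (K : Set G) := by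
    rw [Cfsg.Lib.Coprime.centralizer_zpowers]
    exact kappa_group_fixed hG hM hK.1 hK.2.1 a.2 fun h0 => hr.ne_one (by rw [← hao, h0, orderOf_one])
  have h1 := key (zpowers (a : G)) (zpowers_le.mpr a.2)
  rw [hfix, Nat.card_zpowers, hao, key K le_rfl] at h1
  have hgt : 2 ≤ Nat.card ↥(H ⊓ centralizer (K : Set G)) := by
    have := (one_lt_card_iff_ne_bot _).mpr (kappa_group_fixed_ne hG hM hK.1 hK.2.1)
    exact this
  rw [Nat.pow_right_injective hgt h1]
  exact hr

end Cfsg.Lib.OddLocal.RankTwoMax
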