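import Cfsg.Agent.OddLocal.KappaTypeTwo

/-!
# Maximal subgroups over the complement `U K` of a pair with `U ≠ 1`
-/

set_option linter.unusedSectionVars false
set_option linter.unusedVariables false
set_option linter.style.haveILetI false

namespace Cfsg.Lib.OddLocal.RankTwoMax

open Subgroup Uniqueness Sigma
open Cfsg.Lib.Coprime (conjMap)
open scoped commutatorElement

universe u

variable {G : Type u} [Group G] [Finite G] {M L K E U H F : Subgroup G} {x g : G} {s : ℕ} [hs : Fact s.Prime]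

local notation "fix(" M ", " K ")" => Cfsg.sigmaCore M ⊓ centralizer (SetLike.coe K)

/-- `H` is a maximal subgroup over `U K`, not conjugate to `M`. -/
structure OverU (M K L E U H : Subgroup G) : Prop where
  dual : KappaDual M K L
  split : KappaSplit M K E U
  neU : U ≠ ⊥
  max : IsCoatom H
  le : E ≤ H
  not_conj : ∀ g : G, H ≠ conjMap g M

theorem OverU.prime_K (hG : Cfsg.IsMinSimpleOddOrder G) (o : OverU M K L E U H) : (Nat.card K).Prime :=
  o.split.prime_card hG o.dual.pair.max o.dual.pair.hall o.dual.pair.ne o.neU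

theorem OverU.K_le (o : OverU M K L E U H) : K ≤ H := o.split.memK.trans o.le

theorem OverU.U_le (o : OverU M K L E U H) : U ≤ H := o.split.memU.trans o.le

theorem OverU.not_conj_L (hG : Cfsg.IsMinSimpleOddOrder G) (o : OverU M K L E U H) (g : G) :
    H ≠ conjMap g L := fun e => by
  by_cases hgL : g ∈ L
  · rw [Cfsg.Lib.Coprime.conjMap_eq_self (le_normalizer hgL)] at e
    subst e
    obtain ⟨t, ht, hd⟩ := Nat.exists_prime_and_dvd (mt card_eq_one.mp o.neU)
    have hUZ : U ≤ K ⊔ fix(M, K) := (le_inf o.split.hallU.1 o.U_le).trans (o.dual.meet_eq hG).le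
    have h1 := hd.trans (card_dvd_of_le hUZ)
    rw [o.dual.pair.card_eq] at h1
    rcases ht.dvd_mul.mp h1 with hh | hh
    · exact (o.split.hallU.2.1 t ht hd).2.1 (o.dual.pair.hall.2.1 t ht hh)
    · exact (o.split.hallU.2.1 t ht hd).2.2 (sigmaCore_isPi t ht (hh.trans (card_dvd_of_le inf_le_left)))
  · refine o.dual.pair.ne (le_bot_iff.mp ?_)
    exact (le_inf o.dual.eq.le (o.K_le.trans e.le)).trans
      (fixed_conj hG o.dual.pair'.max o.dual.pair'.hall o.dual.pair'.ne hgL).le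

theorem OverU.kappa_empty (hG : Cfsg.IsMinSimpleOddOrder G) (o : OverU M K L E U H) : Cfsg.kappa H = ∅ := by
  refine Set.not_nonempty_iff_eq_empty.mp fun h => ?_
  obtain ⟨g, hg | hg⟩ := o.dual.classes hG o.max h
  exacts [o.not_conj g hg, o.not_conj_L hG g hg]

theorem OverU.prime_not_sigma (hG : Cfsg.IsMinSimpleOddOrder G) (o : OverU M K L E U H) :
    Nat.card K ∉ Cfsg.sigma H := fun h => by
  obtain ⟨g, hg⟩ := (sigma_partition hG).2 L H o.dual.pair'.max o.max ⟨_, sigmaCore_isPi _ (o.prime_K hG)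
    (card_dvd_of_le (o.dual.eq.le.trans inf_le_left)), h⟩
  exact o.not_conj_L hG g hg

theorem OverU.exists_gen (hG : Cfsg.IsMinSimpleOddOrder G) (o : OverU M K L E U H) :
    ∃ b ∈ K, orderOf b = Nat.card K ∧ zpowers b = K := by
  haveI := Fact.mk (o.prime_K hG)
  obtain ⟨b, hb, hb1⟩ := (Subgroup.bot_or_exists_ne_one K).resolve_left o.dual.pair.ne
  have he := line_eq_of_mem rfl hb hb1
  exact ⟨b, hb, by rw [← Nat.card_zpowers, he], he⟩

theorem OverU.line_L (hG : Cfsg.IsMinSimpleOddOrder G) (o : OverU M K L E U H) :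
    centralizer (K : Set G) ≤ L ∧ ∀ N : Subgroup G, IsCoatom N → centralizer (K : Set G) ≤ N → N = L :=
  line_unique hG o.dual.pair'.max o.dual.pair'.hall o.dual.pair'.ne (o.prime_K hG) o.dual.eq.le

theorem OverU.regular (hG : Cfsg.IsMinSimpleOddOrder G) (o : OverU M K L E U H) :
    Cfsg.sigmaCore H ⊓ centralizer (K : Set G) = ⊥ := by
  haveI := Fact.mk (o.prime_K hG)
  obtain ⟨b, hb, hbo, hbe⟩ := o.exists_gen hG
  refine le_bot_iff.mp fun z hz => ?_
  rw [mem_bot]
  by_contra hz1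
  have hzb : z * b = b * z := (mem_centralizer_iff.mp hz.2 b hb).symm
  by_cases hr : Cfsg.PRankLE (Nat.card K) 1 H
  · exact (o.kappa_empty hG).le (kappa_intro hG o.max (o.prime_not_sigma hG) hr (o.K_le hb) hbo hz.1 hz1 hzb)
  have hr2 : Cfsg.PRankLE (Nat.card K) 2 H := by
    by_contra h2
    exact o.prime_not_sigma hG (alpha_subset_sigma hG o.max ⟨o.prime_K hG, h2⟩)
  have hb1 : b ≠ 1 := fun e => (o.prime_K hG).ne_one (by rw [← hbo, e, orderOf_one])
  obtain ⟨hC, -⟩ := unique_centralizer_of_tau_two hG o.max (o.K_le hb) hb1 (fun r hr' hd =>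
    (Nat.prime_dvd_prime_iff_eq hr' (o.prime_K hG)).mp (hbo ▸ hd) ▸
      (⟨o.prime_K hG, o.prime_not_sigma hG, hr2, hr⟩ : Nat.card K ∈ Cfsg.tau2 H)) hz.1 hz1 hzb.symm
  exact o.not_conj_L hG 1 (by
    rw [Cfsg.Lib.Coprime.conjMap_eq_self (one_mem _)]
    exact (o.line_L hG).2 H o.max (by rw [← hbe, Cfsg.Lib.Coprime.centralizer_zpowers]; exact hC))

theorem OverU.nilpotent (hG : Cfsg.IsMinSimpleOddOrder G) (o : OverU M K L E U H) :
    Group.IsNilpotent (Cfsg.sigmaCore H) := by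
  haveI := Fact.mk (o.prime_K hG)
  obtain ⟨b, hb, hbo, hbe⟩ := o.exists_gen hG
  refine nilpotent_of_fixed_free hbo (le_normalizer_sigmaCore H (o.K_le hb)) ?_
  rw [← Cfsg.Lib.Coprime.centralizer_zpowers, hbe]
  exact o.regular hG

/-- A `K`-invariant `s`-group centralizing a fixed point of `K` is centralized by `K`. -/
theorem OverU.centralizes (hG : Cfsg.IsMinSimpleOddOrder G) (o : OverU M K L E U H) {X A : Subgroup G}
    (hA : MaxSq s A) (hXs : IsPGroup s X) {a : G} (hao : orderOf a = s) (haK : a ∈ centralizer (K : Set G))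
    (hXa : X ≤ centralizer ({a} : Set G)) (hKX : K ≤ normalizer (X : Set G)) (hsp : s ≠ Nat.card K) :
    X ≤ centralizer (K : Set G) := by
  haveI := Fact.mk (o.prime_K hG)
  have hM := o.dual.pair.max
  have hL := o.dual.pair'.max
  have hsM : s ∉ Cfsg.sigma M := fun hσ =>
    o.split.no_maxSq hG hM o.dual.pair.hall o.dual.pair.ne o.neU hσ hA
  obtain ⟨hCK, -⟩ := o.line_L hG
  have haL : a ∈ L := hCK haK
  have ha1 : a ≠ 1 := fun e => hs.out.ne_one (by rw [← hao, e, orderOf_one])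
  obtain ⟨b, hb, hbo, hbe⟩ := o.exists_gen hG
  have hb1 : b ≠ 1 := fun e => (o.prime_K hG).ne_one (by rw [← hbo, e, orderOf_one])
  have hbL : b ∈ Cfsg.sigmaCore L := (o.dual.eq.le hb).1
  have hXL : X ≤ L := by
    by_cases hle : centralizer ({a} : Set G) ≤ L
    · exact hXa.trans hle
    by_cases hσ : s ∈ Cfsg.sigma L
    · have haσ : a ∈ Cfsg.sigmaCore L := le_sigmaCore_of_pgroup hG hL hσ
        (isPGroup_of_card (p := s) (by rw [Nat.card_zpowers, hao])) (zpowers_le.mpr haL) (mem_zpowers a)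
      obtain ⟨N, hN⟩ := exists_supportPair hG hL haσ ha1 hle
      have hsN := hN.tau s hs.out (dvd_of_eq hao.symm)
      have hpN : Nat.card K ∉ Cfsg.sigma N := fun hh => by
        obtain ⟨g, hg⟩ := (sigma_partition hG).2 L N hL hN.maxN
          ⟨_, sigmaCore_isPi _ (o.prime_K hG) (card_dvd_of_le (o.dual.eq.le.trans inf_le_left)), hh⟩
        exact hN.not_conj g hg
      have hKN : K ≤ N := fun k hk => hN.le (mem_centralizer_singleton_iff.mpr (mem_centralizer_iff.mp haK k hk))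
      have hXN : X ≤ N := hXa.trans hN.le
      obtain ⟨c, hc, hcle⟩ := Cfsg.Lib.Coprime.exists_conj_le_of_coprime
        (hN.compl.1.trans (le_normalizer_sigmaCore N)) (coprime_complement hG hN.maxN hN.compl)
        (Or.inl (hG.2.2.2 _ (FittingUniqueness.ne_top_of_le_coatom hN.maxN (sigmaCore_le N))))
        ((complement_sup hN.compl).symm ▸ sup_le hXN hKN : X ⊔ K ≤ Cfsg.sigmaCore N ⊔ (L ⊓ N))
        (Nat.coprime_of_dvd fun r hr h1 h2 => by
          have h3 := sigmaCore_isPi r hr h1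
          rcases dvd_card_sup hKX hr h2 with hh | hh
          · exact hsN.2.1 (eq_of_dvd_pgroup hXs hr hh ▸ h3)
          · exact hpN ((Nat.prime_dvd_prime_iff_eq hr (o.prime_K hG)).mp hh ▸ h3))
      have hcL : c ∈ L := by
        by_contra hcL
        refine o.dual.pair.ne (le_bot_iff.mp ((le_inf o.dual.eq.le ?_).trans
          (fixed_conj hG hL o.dual.pair'.hall o.dual.pair'.ne hcL).le))
        exact (le_sup_right.trans hcle).trans (Cfsg.Lib.Coprime.conjMap_mono inf_le_left)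
      have hc1 : c = 1 := mem_bot.mp (hN.compl.2.2.1.le ⟨⟨hcL, sigmaCore_le N hc⟩, hc⟩)
      subst hc1
      rw [Cfsg.Lib.Coprime.conjMap_eq_self (one_mem _)] at hcle
      exact (le_sup_left.trans hcle).trans inf_le_left
    · rcases centralizer_split hG hL hbL hb1 (y := a)
        ⟨haL, mem_centralizer_singleton_iff.mpr (mem_centralizer_iff.mp haK b hb).symm⟩ ha1
        (fun r hr hd => (Nat.prime_dvd_prime_iff_eq hr hs.out).mp (hao ▸ hd) ▸ hσ) with ⟨hκ, -⟩ | ⟨-, -, hle', -⟩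
      · have hsκ := hκ s hs.out (dvd_of_eq hao.symm)
        refine absurd (sigmaCore_isPi s hs.out ?_) hsM
        have h1 := hsκ.2.1
        rw [← card_mul_relIndex o.dual.pair'.hall.1] at h1
        exact ((hs.out.dvd_mul.mp h1).resolve_right (o.dual.pair'.hall.2.2 s hs.out hsκ)).trans
          (card_dvd_of_le inf_le_left)
      · exact absurd hle' hle
  by_cases hσ : s ∈ Cfsg.sigma L
  · have hKL : K ≤ Cfsg.sigmaCore L := o.dual.eq.le.trans inf_le_left
    exact le_centralizer_iff.mp (centralizes_of_derived hG hL (hA.not_beta L)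
      ((le_sigmaCore_of_pgroup hG hL hσ hXs hXL).trans (sigmaCore_le_derived hG hL))
      (hKL.trans (sigmaCore_le_derived hG hL)) hXs
      ((Nat.coprime_primes (o.prime_K hG) hs.out).mpr (Ne.symm hsp)) hKX)
  · intro y hy
    refine mem_centralizer_iff.mpr fun k hk => ?_
    have h1 : ⁅k, y⁆ = 1 := by
      refine Cfsg.Lib.Coprime.eq_one_of_coprime (N := X) (H := Cfsg.sigmaCore L) ?_ ?_ ?_
      · exact coprime_card_of_disjoint fun t ht h1 h2 => hσ (eq_of_dvd_pgroup hXs ht h1 ▸ sigmaCore_isPi t ht h2)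
      · rw [commutatorElement_def]
        exact mul_mem ((mem_normalizer_iff.mp (hKX hk) y).mp hy) (inv_mem hy)
      · rw [commutatorElement_def, mul_assoc, mul_assoc, ← mul_assoc y]
        have hkL : k ∈ Cfsg.sigmaCore L := (o.dual.eq.le hk).1
        exact mul_mem hkL ((mem_normalizer_iff.mp (le_normalizer_sigmaCore L (hXL hy)) _).mp (inv_mem hkL))
    exact commutatorElement_eq_one_iff_mul_comm.mp h1

/-- The prime `|K|` is prime to every prime of `U`. -/
theorem OverU.ne_prime (hG : Cfsg.IsMinSimpleOddOrder G) (o : OverU M K L E U H) {t : ℕ} (ht : t.Prime)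
    (hd : t ∣ Nat.card U) : t ≠ Nat.card K := fun e =>
  (o.split.hallU.2.1 t ht hd).2.1 (o.dual.pair.hall.2.1 t ht (dvd_of_eq e))

/-- A group normalized by `K`, fixed point free under it and centralized in a complement, centralizes `H_σ`. -/
theorem OverU.free_centralizes (hG : Cfsg.IsMinSimpleOddOrder G) (o : OverU M K L E U H) {X : Subgroup G}
    (hXH : X ≤ H) (hXs : IsPGroup s X) (hKX : K ≤ normalizer (X : Set G)) (hsp : s ≠ Nat.card K)
    (hσ : s ∉ Cfsg.sigma H) (hfix : X ⊓ centralizer (K : Set G) = ⊥) :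
    X ≤ centralizer (Cfsg.sigmaCore H : Set G) := by
  haveI := Fact.mk (o.prime_K hG)
  obtain ⟨b, hb, hbo, hbe⟩ := o.exists_gen hG
  refine le_centralizer_of_fpf (p := Nat.card K) hbo
    (hG.2.2.2 _ (FittingUniqueness.ne_top_of_le_coatom o.max (sigmaCore_le H))) (hbe.symm ▸ hKX)
    (hXH.trans (le_normalizer_sigmaCore H)) (hbe.symm ▸ o.K_le.trans (le_normalizer_sigmaCore H))
    (coprime_of_ne hsp hXs)
    ((o.prime_K hG).coprime_iff_not_dvd.mpr fun hd => o.prime_not_sigma hG (sigmaCore_isPi _ (o.prime_K hG) hd)).symm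
    (coprime_card_of_disjoint fun t ht h1 h2 => hσ (eq_of_dvd_pgroup hXs ht h2 ▸ sigmaCore_isPi t ht h1)) ?_ ?_
  · rw [← Cfsg.Lib.Coprime.centralizer_zpowers, hbe]; exact hfix
  · rw [← Cfsg.Lib.Coprime.centralizer_zpowers, hbe]; exact o.regular hG

/-- An elementary subgroup of order `s²` of a complement containing `K` has a fixed point of `K`. -/
theorem OverU.exists_fixed (hG : Cfsg.IsMinSimpleOddOrder G) (o : OverU M K L E U H)
    (hF : Cfsg.IsComplIn F (Cfsg.sigmaCore H) H) (hKF : K ≤ F) {A : Subgroup G} (hAF : A ≤ F)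
    (hA : Cfsg.IsElementaryAbelian s A) (hAc : Nat.card A = s ^ 2) (hsp : s ≠ Nat.card K)
    (hσ : s ∉ Cfsg.sigma H) :
    MaxSq s A ∧ K ≤ normalizer (A : Set G) ∧ A ≤ centralizer (K : Set G) := by
  obtain ⟨A₀, hexc⟩ := exists_exc hG o.max hσ (hAF.trans hF.1) hA hAc
  have hKA : K ≤ normalizer (A : Set G) := hKF.trans (hexc.le_normalizer hG hF hAF)
  have hne : A ⊓ centralizer (K : Set G) ≠ ⊥ := fun h0 => by
    have h1 := o.free_centralizes hG (hAF.trans hF.1) (isPGroup_of_pow hA.2) hKA hsp hσ h0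
    exact sigmaCore_ne_bot hG o.max (le_bot_iff.mp
      ((le_inf le_rfl (le_centralizer_iff.mp h1)).trans (hexc.inf_centralizer_eq_bot hG).le))
  obtain ⟨a, ha, ha1⟩ := (Subgroup.bot_or_exists_ne_one _).resolve_left hne
  exact ⟨hexc.maxSq hG, hKA, o.centralizes hG (hexc.maxSq hG) (isPGroup_of_pow hA.2)
    (orderOf_eq_prime (hA.2 a ha.1) ha1) ha.2 (fun y hy => mem_centralizer_singleton_iff.mpr
      (ThompsonTransitivity.mul_comm_of hA.1 hy ha.1)) hKA hsp⟩

/-- The primes of `U` are in `σ(H)`. -/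
theorem OverU.sigma_U (hG : Cfsg.IsMinSimpleOddOrder G) (o : OverU M K L E U H) (hd : s ∣ Nat.card U) :
    s ∈ Cfsg.sigma H := by
  by_contra hσ
  haveI := Fact.mk (o.prime_K hG)
  have hM := o.dual.pair.max
  have hsp := o.ne_prime hG hs.out hd
  have hKU : K ≤ normalizer (U : Set G) := o.split.memK.trans o.split.normal
  obtain ⟨S₀, hS₀⟩ := Cfsg.Lib.Coprime.exists_invariant_sylow hKU
    (coprime_card_of_disjoint fun t ht h1 h2 =>
      (o.split.hallU.2.1 t ht h2).2.1 (o.dual.pair.hall.2.1 t ht h1))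
    (Or.inl (hG.2.2.2 _ (FittingUniqueness.ne_top_of_le_coatom hM o.dual.pair.hall.1))) s
  set S := (S₀ : Subgroup U).map U.subtype with hS
  have hSs : IsPGroup s S := S₀.2.map _
  have hSU : S ≤ U := map_subtype_le _
  obtain ⟨F, hF, hle⟩ := exists_complement_ge hG o.max (sup_le (hSU.trans o.U_le) o.K_le) (fun t ht htd => by
    rcases dvd_card_sup hS₀ ht htd with hh | hh
    · exact eq_of_dvd_pgroup hSs ht hh ▸ hσ
    · exact (Nat.prime_dvd_prime_iff_eq ht (o.prime_K hG)).mp hh ▸ o.prime_not_sigma hG)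
  have hS1 : S ≠ ⊥ := fun h0 => S₀.ne_bot_of_dvd_card hd
    ((map_eq_bot_iff_of_injective _ U.subtype_injective).mp h0)
  obtain ⟨x, hx, hxo⟩ := ScnUniqueness.exists_orderOf hSs hS1
  obtain ⟨b, hb, hbo, hbe⟩ := o.exists_gen hG
  have hx1 : x ≠ 1 := fun e => hs.out.ne_one (by rw [← hxo, e, orderOf_one])
  have hfree : ∀ y ∈ U, y ∈ centralizer (K : Set G) → y = 1 := fun y hy hyK =>
    mem_bot.mp ((o.split.free b hb fun e => (o.prime_K hG).ne_one (by rw [← hbo, e, orderOf_one])).le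
      ⟨hy, centralizer_le (Set.singleton_subset_iff.mpr hb) hyK⟩)
  have hxc : Nat.card (zpowers x) = s := by rw [Nat.card_zpowers, hxo]
  have hxF : x ∈ F := hle (mem_sup_left hx)
  by_cases hr : Cfsg.PRankLE s 1 H
  swap
  · have hr2 : Cfsg.PRankLE s 2 H := by
      by_contra h2
      exact hσ (alpha_subset_sigma hG o.max ⟨hs.out, h2⟩)
    obtain ⟨A, hAF, hA, hAc⟩ := exists_sq_complement hG o.max hF ⟨hs.out, hσ, hr2, hr⟩
    obtain ⟨A₀, hexc⟩ := exists_exc hG o.max hσ (hAF.trans hF.1) hA hAc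
    have hxA : x ∈ A := hexc.order_p_le hG hF hAF (zpowers_le.mpr hxF) hxc (mem_zpowers x)
    exact hx1 (hfree x (hSU hx) ((o.exists_fixed hG hF (le_sup_right.trans hle) hAF hA hAc hsp hσ).2.2 hxA))
  -- rank one: the line is normal in `H`
  have hScyc : IsCyclic S := isCyclic_sylow_of_rank_one hG hSs (hSU.trans o.U_le) hr
  set X := zpowers x with hX
  have hXS : X ≤ S := zpowers_le.mpr hx
  have hKX : K ≤ normalizer (X : Set G) := fun k hk => Cfsg.Lib.Coprime.conjMap_eq_self_iff.mp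
    (eq_of_cyclic hScyc ((Cfsg.Lib.Coprime.conjMap_mono hXS).trans
      (Cfsg.Lib.Coprime.conjMap_eq_self (hS₀ hk)).le) hXS (Cfsg.Lib.Coprime.card_conjMap _ _))
  have hfixX : X ⊓ centralizer (K : Set G) = ⊥ := le_bot_iff.mp fun y hy =>
    mem_bot.mpr (hfree y (hSU (hXS hy.1)) hy.2)
  have hXH := o.free_centralizes hG ((hXS.trans hSU).trans o.U_le) (hSs.to_le hXS) hKX hsp hσ hfixX
  have hc1 : ⁅b, x⁆ ≠ 1 := fun e => hx1 (hfree x (hSU hx) (by
    rw [← hbe, Cfsg.Lib.Coprime.centralizer_zpowers]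
    exact mem_centralizer_singleton_iff.mpr (commutatorElement_eq_one_iff_mul_comm.mp e).symm))
  have hcX : ⁅b, x⁆ ∈ X := by
    rw [commutatorElement_def]
    exact mul_mem ((mem_normalizer_iff.mp (hKX hb) x).mp (mem_zpowers x)) (inv_mem (mem_zpowers x))
  have hXD : X ≤ ⁅F, F⁆ := by
    rw [← line_eq_of_mem hxc hcX hc1, zpowers_le]
    exact commutator_mem_commutator (hle (mem_sup_right hb)) hxF
  have hFX := derived_line_normal hG o.max hr hF hxc hXD
  have hHX : H ≤ normalizer (X : Set G) := fun m hm => by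
    obtain ⟨e, he, z, hz, rfl⟩ := hF.2.2.2 m hm
    exact mul_mem (hFX he) (centralizer_le_normalizer _ (le_centralizer_iff.mp hXH hz))
  have hNX : normalizer (X : Set G) = H :=
    normalizer_eq hG o.max (line_ne_bot hxc) ((hXS.trans hSU).trans o.U_le) hHX
  obtain ⟨R, hR, hXR⟩ := exists_sylowOf (hSs.to_le hXS) (hXS.trans (le_sup_left.trans hle))
  obtain ⟨R₀, hR₀⟩ := hR.exists_sylow
  obtain ⟨T, hT⟩ := (hR₀ ▸ isSylowOf_complement hG o.max hF hσ R₀).exists_sylow
  refine hσ ⟨hs.out, hxo ▸ (Nat.card_zpowers x).symm ▸ card_dvd_of_le (zpowers_le.mpr (o.U_le (hSU hx))),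
    T, ?_⟩
  rw [hT]
  intro n hn
  rw [← hNX]
  have hRc : IsCyclic R := isCyclic_sylow_of_rank_one hG hR.2.1 (hR.1.trans hF.1) hr
  exact Cfsg.Lib.Coprime.conjMap_eq_self_iff.mp (eq_of_cyclic hRc
    ((Cfsg.Lib.Coprime.conjMap_mono hXR).trans (Cfsg.Lib.Coprime.conjMap_eq_self hn).le) hXR
    (Cfsg.Lib.Coprime.card_conjMap _ _))

theorem OverU.U_le_core (hG : Cfsg.IsMinSimpleOddOrder G) (o : OverU M K L E U H) :
    U ≤ Cfsg.sigmaCore H := Cfsg.Lib.Coprime.le_of_forall_sylow fun t ht => by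
  haveI := Fact.mk ht
  obtain ⟨T⟩ : Nonempty (Sylow t U) := inferInstance
  refine ⟨T, ?_⟩
  by_cases hd : t ∣ Nat.card U
  · exact le_sigmaCore_of_pgroup hG o.max (o.sigma_U hG hd) (T.2.map _) ((map_subtype_le _).trans o.U_le)
  · have h1 : (T : Subgroup U) = ⊥ := by
      refine card_eq_one.mp ?_
      obtain ⟨i, hi⟩ := IsPGroup.iff_card.mp T.2
      rcases i with _ | i
      · simpa using hi
      · exact absurd ((dvd_pow_self t i.succ_ne_zero).trans (hi ▸ card_subgroup_dvd_card _)) hd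
    rw [h1, Subgroup.map_bot]; exact bot_le

theorem OverU.core_disjoint (hG : Cfsg.IsMinSimpleOddOrder G) (o : OverU M K L E U H) :
    Cfsg.sigmaCore M ⊓ Cfsg.sigmaCore H = ⊥ :=
  sigmaCore_inf_eq_bot hG o.dual.pair.max o.max o.not_conj

/-- `M ∩ H = U K`. -/
theorem OverU.meet_eq (hG : Cfsg.IsMinSimpleOddOrder G) (o : OverU M K L E U H) : M ⊓ H = E := by
  refine le_antisymm (fun m hm => ?_) (le_inf o.split.compl.1 o.le)
  obtain ⟨e, he, z, hz, rfl⟩ := o.split.compl.2.2.2 m hm.1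
  have hzH : z ∈ H := by simpa using mul_mem (inv_mem (o.le he)) hm.2
  have hz1 : z = 1 := by
    refine mem_bot.mp ((o.split.fixed_U hG o.dual.pair.max o.neU).le ⟨hz, ?_⟩)
    refine mem_centralizer_iff.mpr fun u hu => ?_
    have huH := o.U_le_core hG hu
    have h1 : ⁅z, u⁆ = 1 := mem_bot.mp ((o.core_disjoint hG).le ⟨by
        rw [commutatorElement_def, mul_assoc, mul_assoc, ← mul_assoc u]
        exact Subgroup.mul_mem _ hz ((mem_normalizer_iff.mp (le_normalizer_sigmaCore M (o.split.hallU.1 hu)) _).mp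
          (inv_mem hz)), by
        rw [commutatorElement_def]
        exact Subgroup.mul_mem _ ((mem_normalizer_iff.mp (le_normalizer_sigmaCore H hzH) _).mp huH)
          (inv_mem huH)⟩)
    exact (commutatorElement_eq_one_iff_mul_comm.mp h1).symm
  rw [hz1, mul_one]; exact he

theorem OverU.normalizer_not_le (hG : Cfsg.IsMinSimpleOddOrder G) (o : OverU M K L E U H) :
    ¬ H ⊓ normalizer (U : Set G) ≤ M := fun hle => by
  set T := Cfsg.sigmaCore H with hT
  have hUT := o.U_le_core hG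
  have hinf : ∀ y ∈ T, y ∈ M → y ∈ U := fun y hy hyM => by
    have hyE : y ∈ E := (o.meet_eq hG).le ⟨hyM, sigmaCore_le H hy⟩
    rw [← o.split.prod] at hyE
    obtain ⟨u, hu, k, hk, rfl⟩ :=
      (Cfsg.Lib.Coprime.mem_sup_of_le_normalizer (o.split.memK.trans o.split.normal)).mp hyE
    have hkT : k ∈ T := by simpa using mul_mem (inv_mem (hUT hu)) hy
    have hk1 : k = 1 := Cfsg.Lib.Coprime.eq_one_of_coprime (N := T) (H := K)
      ((o.prime_K hG).coprime_iff_not_dvd.mpr fun hd =>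
        o.prime_not_sigma hG (sigmaCore_isPi _ (o.prime_K hG) hd)).symm hkT hk
    rw [hk1, mul_one]; exact hu
  have htop : U.subgroupOf T = ⊤ := by
    haveI : Group.IsNilpotent T := o.nilpotent hG
    by_contra hne
    obtain ⟨y, hyn, hyU⟩ := SetLike.exists_of_lt
      (Group.normalizerCondition_of_isNilpotent (G := T) _ (lt_top_iff_ne_top.mpr hne))
    refine hyU (mem_subgroupOf.mpr (hinf _ y.2 (hle ⟨sigmaCore_le H y.2, ?_⟩)))
    refine Subgroup.mem_normalizer_iff.mpr fun u => ⟨fun hu => ?_, fun hu => ?_⟩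
    · have h2 : (⟨u, hUT hu⟩ : T) ∈ U.subgroupOf T := mem_subgroupOf.mpr hu
      exact mem_subgroupOf.mp ((mem_normalizer_iff.mp hyn _).mp h2)
    · have huT : u ∈ T := by simpa [mul_assoc] using mul_mem (mul_mem (inv_mem y.2) (hUT hu)) y.2
      exact mem_subgroupOf.mp ((mem_normalizer_iff.mp hyn ⟨u, huT⟩).mpr (mem_subgroupOf.mpr hu))
  have hTU : T = U := le_antisymm (subgroupOf_eq_top.mp htop) hUT
  have hHM : H ≤ M := (le_inf le_rfl (hTU ▸ le_normalizer_sigmaCore H)).trans hle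
  rcases hHM.eq_or_lt with e | e
  · exact o.not_conj 1 (e.trans (Cfsg.Lib.Coprime.conjMap_eq_self (one_mem _)).symm)
  · exact o.dual.pair.max.1 (o.max.2 M e)

theorem OverU.core_inf_L (hG : Cfsg.IsMinSimpleOddOrder G) (o : OverU M K L E U H) :
    Cfsg.sigmaCore H ⊓ L = ⊥ := le_bot_iff.mp fun z hz => by
  refine (o.regular hG).le ⟨hz.1, mem_centralizer_iff.mpr fun k hk => ?_⟩
  have hkL : k ∈ Cfsg.sigmaCore L := (o.dual.eq.le hk).1
  have h1 : ⁅k, z⁆ = 1 := mem_bot.mp ((sigmaCore_inf_eq_bot hG o.dual.pair'.max o.max (o.not_conj_L hG)).le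
    ⟨by
      rw [commutatorElement_def, mul_assoc, mul_assoc, ← mul_assoc z]
      exact Subgroup.mul_mem _ hkL ((mem_normalizer_iff.mp (le_normalizer_sigmaCore L hz.2) _).mp (inv_mem hkL)),
    by
      rw [commutatorElement_def]
      exact Subgroup.mul_mem _ ((mem_normalizer_iff.mp (le_normalizer_sigmaCore H (o.K_le hk)) z).mp hz.1)
        (inv_mem hz.1)⟩)
  exact commutatorElement_eq_one_iff_mul_comm.mp h1

/-- `K` centralizes the derived group of a complement containing it. -/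
theorem OverU.centralizes_derived (hG : Cfsg.IsMinSimpleOddOrder G) (o : OverU M K L E U H)
    (hF : Cfsg.IsComplIn F (Cfsg.sigmaCore H) H) (hKF : K ≤ F) : ⁅F, F⁆ ≤ centralizer (K : Set G) := by
  haveI := Fact.mk (o.prime_K hG)
  set D := ⁅F, F⁆ with hD
  have hDF : D ≤ F := commutator_le_self F
  have hDc : IsMulCommutative D := (sigma_prime_corollary hG o.max hF).2.1
  refine Cfsg.Lib.Coprime.le_of_forall_sylow fun t ht => ?_
  haveI := Fact.mk ht
  obtain ⟨T₀⟩ : Nonempty (Sylow t D) := inferInstance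
  refine ⟨T₀, ?_⟩
  set T := (T₀ : Subgroup D).map D.subtype with hT
  have hTD : T ≤ D := map_subtype_le _
  have hTt : IsPGroup t T := T₀.2.map _
  by_cases hT1 : T = ⊥
  · rw [hT1]; exact bot_le
  obtain ⟨y₀, hy₀, hy₀o⟩ := ScnUniqueness.exists_orderOf hTt hT1
  have htσ : t ∉ Cfsg.sigma H := not_sigma_of_dvd hG o.max hF ht
    (hy₀o ▸ (Nat.card_zpowers y₀).symm ▸ card_dvd_of_le (zpowers_le.mpr (hDF (hTD hy₀))))
  have hTn : F ≤ normalizer (T : Set G) := fun f hf => by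
    refine Cfsg.Lib.Coprime.conjMap_eq_self_iff.mp (Cfsg.Lib.Coprime.eq_of_le_of_card_eq ?_
      (Cfsg.Lib.Coprime.card_conjMap _ _))
    intro w hw
    have hwD : w ∈ D := (Cfsg.Lib.Coprime.conjMap_eq_self (commutator_normal F hf)).le
      (Cfsg.Lib.Coprime.conjMap_mono hTD hw)
    haveI := hDc
    haveI : (T₀ : Subgroup D).Normal := ⟨fun n hn g => by
      rwa [show g * n * g⁻¹ = n from Subtype.ext (by
        show (g : G) * n * (g : G)⁻¹ = n
        rw [ThompsonTransitivity.mul_comm_of hDc g.2 n.2, mul_inv_cancel_right])]⟩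
    obtain ⟨R, hR⟩ := ((hTt.map (MulAut.conj f).toMonoidHom).comap_subtype (K := D)).exists_le_sylow
    haveI := Sylow.unique_of_normal T₀ ‹_›
    exact ⟨⟨w, hwD⟩, (Subsingleton.elim R T₀) ▸ hR hw, rfl⟩
  by_cases htp : t = Nat.card K
  · -- a `p`-group of `H` is abelian
    have hKp : IsPGroup t K := isPGroup_of_card htp.symm
    have hsup : IsPGroup t ↥(T ⊔ K) := hTt.to_sup_of_normal_left' hKp (hKF.trans hTn)
    obtain ⟨P, hP⟩ := (hsup.comap_subtype (K := H)).exists_le_sylow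
    have hle : T ⊔ K ≤ (P : Subgroup H).map H.subtype := fun w hw =>
      ⟨⟨w, (sup_le ((hTD.trans hDF).trans hF.1) o.K_le) hw⟩, hP hw, rfl⟩
    have hcomm : IsMulCommutative ↥((P : Subgroup H).map H.subtype) := by
      by_cases hr : Cfsg.PRankLE t 1 H
      · haveI := isCyclic_sylow_of_rank_one hG (P.2.map H.subtype) (map_subtype_le _) hr
        exact ⟨⟨fun x y => (IsCyclic.commGroup (α := ↥((P : Subgroup H).map H.subtype))).mul_comm x y⟩⟩
      · have hr2 : Cfsg.PRankLE t 2 H := by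
          by_contra h2
          exact htσ (alpha_subset_sigma hG o.max ⟨ht, h2⟩)
        obtain ⟨A, hAF, hA, hAc⟩ := exists_sq_complement hG o.max hF ⟨ht, htσ, hr2, hr⟩
        obtain ⟨hPc, -⟩ := (tau_two_theorem hG o.max htσ (hAF.trans hF.1) hA hAc).2.1 P
        haveI := hPc
        exact ⟨⟨fun x y => Subtype.ext (by
          obtain ⟨_, x₀, hx₀, rfl⟩ := x
          obtain ⟨_, y₀, hy₀, rfl⟩ := y
          exact congrArg H.subtype (ThompsonTransitivity.mul_comm_of hPc hx₀ hy₀))⟩⟩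
    exact fun w hw => mem_centralizer_iff.mpr fun k hk =>
      ThompsonTransitivity.mul_comm_of hcomm (hle (mem_sup_right hk)) (hle (mem_sup_left hw))
  by_contra hle
  haveI : IsMulCommutative T := ⟨⟨fun x y => Subtype.ext
    (ThompsonTransitivity.mul_comm_of hDc (hTD x.2) (hTD y.2))⟩⟩
  have hKT : K ≤ normalizer (T : Set G) := hKF.trans hTn
  obtain ⟨hdis, hsum⟩ := Cfsg.Lib.Coprime.abelian_coprime_decomp hKT
    (coprime_of_ne htp hTt).symm
  set V := ⁅T, K⁆ with hV
  have hVT : V ≤ T := Cfsg.Lib.Coprime.commutator_le_of_le_normalizer hKT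
  have hKV : K ≤ normalizer (V : Set G) := Cfsg.Lib.Coprime.le_normalizer_commutator_right _ T
  have hV1 : V ≠ ⊥ := fun h0 => hle (by
    refine hsum.ge.trans ?_
    rw [h0, sup_bot_eq]; exact inf_le_right)
  have hVfix : V ⊓ centralizer (K : Set G) = ⊥ := le_bot_iff.mp fun v hv =>
    hdis.le ⟨⟨hVT hv.1, hv.2⟩, hv.1⟩
  have hTH : T ≤ H := (hTD.trans hDF).trans hF.1
  have hVC := o.free_centralizes hG (hVT.trans hTH) (hTt.to_le hVT) hKV htp htσ hVfix
  obtain ⟨y, hy, hyo⟩ := ScnUniqueness.exists_orderOf (hTt.to_le hVT) hV1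
  set N := T ⊓ centralizer (Cfsg.sigmaCore H : Set G) with hN
  have hNn : H ≤ normalizer (N : Set G) := fun m hm => by
    obtain ⟨e, he, z, hz, rfl⟩ := hF.2.2.2 m hm
    refine mul_mem (Cfsg.Lib.Coprime.le_normalizer_inf hTn ((hF.1.trans (le_normalizer_sigmaCore H)).trans
      (FittingParts.normalizer_centralizer_le _)) he) (centralizer_le_normalizer _ ?_)
    exact le_centralizer_iff.mp (inf_le_right : N ≤ _) hz
  have hOt : FittingParts.O t H ≠ ⊥ := fun h0 => hV1 (le_bot_iff.mp ((le_inf hVT hVC).trans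
    ((FittingParts.le_of_isPGroup (inf_le_left.trans hTH) hNn (hTt.to_le inf_le_left)).trans h0.le)))
  obtain ⟨-, hτ⟩ := core_outside_sigma hG o.max htσ hOt
  obtain ⟨A, hAF, hA, hAc⟩ := exists_sq_complement hG o.max hF hτ
  obtain ⟨A₀, hexc⟩ := exists_exc hG o.max htσ (hAF.trans hF.1) hA hAc
  have hyA : y ∈ A := hexc.order_p_le hG hF hAF (zpowers_le.mpr (hDF (hTD (hVT hy))))
    (by rw [Nat.card_zpowers, hyo]) (mem_zpowers y)
  have hy1 : y ∈ centralizer (K : Set G) := (o.exists_fixed hG hF hKF hAF hA hAc htp htσ).2.2 hyA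
  exact ht.ne_one (by rw [← hyo, mem_bot.mp (hVfix.le ⟨hy, hy1⟩), orderOf_one])

/-- A line of `A` whose centralizer is in a unique maximal subgroup not conjugate to `H` is the exceptional
line, when the Sylow group is nonabelian. -/
theorem OverU.line_eq (hG : Cfsg.IsMinSimpleOddOrder G) (o : OverU M K L E U H)
    (hF : Cfsg.IsComplIn F (Cfsg.sigmaCore H) H) {A Z₀ Z Y : Subgroup G} (hAF : A ≤ F)
    (hA : Cfsg.IsElementaryAbelian s A) (hAc : Nat.card A = s ^ 2) (hσ : s ∉ Cfsg.sigma H)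
    (hZ₀A : Z₀ ≤ A) (hZ₀c : Nat.card Z₀ = s) (hZ₀ : Cfsg.sigmaCore H ≤ centralizer (Z₀ : Set G))
    (hZ : Cfsg.sigmaCore H ⊓ centralizer (Z : Set G) = ⊥)
    (hconj : ∀ X Y : Subgroup G, X ≤ A → Nat.card X = s → X ≠ Z → Y ≤ A → Nat.card Y = s → Y ≠ Z → X ≠ Y →
      ∃ g : G, g ∉ H ∧ conjMap g X = Y)
    (hYA : Y ≤ A) (hYc : Nat.card Y = s) (hYZ₀ : Y ≠ Z₀) {N : Subgroup G}
    (hu : ∀ N' : Subgroup G, IsCoatom N' → centralizer (Y : Set G) ≤ N' → N' = N)
    (hne : ∀ g : G, N ≠ conjMap g H) : Y = Z := by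
  by_contra hYZ
  have hne' : Cfsg.sigmaCore H ⊓ centralizer (Z₀ : Set G) ≠ ⊥ := by
    rw [inf_eq_left.mpr hZ₀]; exact sigmaCore_ne_bot hG o.max
  have hZ₀Z : Z₀ ≠ Z := fun e => hne' (e ▸ hZ)
  obtain ⟨g, -, hg⟩ := hconj Z₀ Y hZ₀A hZ₀c hZ₀Z hYA hYc hYZ hYZ₀.symm
  obtain ⟨hC, -⟩ := (tau_two_complement hG o.max hσ hF hAF hA hAc).2.2 Z₀ hZ₀A hZ₀c hne'
  refine hne g (hu _ (conjMap_coatom o.max g) ?_).symm
  intro y hy
  rw [← hg] at hy
  exact Cfsg.Lib.Coprime.conjMap_mono hC (mem_centralizer_conjMap.mp hy)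

/-- A complement containing `K` lies in `L`, and `K` is in its Fitting subgroup. -/
theorem OverU.complement_le (hG : Cfsg.IsMinSimpleOddOrder G) (o : OverU M K L E U H)
    (hF : Cfsg.IsComplIn F (Cfsg.sigmaCore H) H) (hKF : K ≤ F) :
    F ≤ L ∧ K ≤ Cfsg.fittingOf F := by
  haveI := Fact.mk (o.prime_K hG)
  set p := Nat.card K with hp
  have hL := o.dual.pair'.max
  obtain ⟨b, hb, hbo, hbe⟩ := o.exists_gen hG
  change orderOf b = p at hbo
  have hKp : IsPGroup p K := isPGroup_of_card rfl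
  obtain ⟨hCK, huK⟩ := o.line_L hG
  have hNK : normalizer (K : Set G) ≤ L := normalizer_le_of_unique hG hL o.dual.pair.ne
    (o.dual.eq.le.trans (inf_le_left.trans (sigmaCore_le L))) huK
  have hDC := o.centralizes_derived hG hF hKF
  have hfit : F ≤ normalizer (K : Set G) → K ≤ Cfsg.fittingOf F := fun h =>
    (FittingParts.le_of_isPGroup hKF h hKp).trans (FittingParts.le_fittingOf F)
  by_cases hpD : p ∣ Nat.card ↥⁅F, F⁆
  swap
  · have hFC : F ≤ centralizer (K : Set G) := fun f hf => by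
      rw [← hbe, Cfsg.Lib.Coprime.centralizer_zpowers]
      refine mem_centralizer_singleton_iff.mpr ?_
      set c := ⁅f, b⁆ with hc
      have hcD : c ∈ ⁅F, F⁆ := commutator_mem_commutator hf (hKF hb)
      have hcb : Commute c b := (mem_centralizer_iff.mp (hDC hcD) b hb).symm
      have h1 : (c * b) ^ p = 1 := by
        rw [show c * b = f * b * f⁻¹ by rw [hc, commutatorElement_def]; group, conj_pow, ← hbo,
          pow_orderOf_eq_one, mul_one, mul_inv_cancel]
      rw [hcb.mul_pow, ← hbo, pow_orderOf_eq_one, mul_one, hbo] at h1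
      refine commutatorElement_eq_one_iff_mul_comm.mp (?_ : c = 1)
      rcases (Nat.dvd_prime (o.prime_K hG)).mp (orderOf_dvd_of_pow_eq_one h1) with h2 | h2
      · exact orderOf_eq_one_iff.mp h2
      · exact absurd ((dvd_of_eq ((Nat.card_zpowers c).trans h2).symm).trans (card_dvd_of_le (zpowers_le.mpr hcD))) hpD
    exact ⟨hFC.trans hCK, hfit (hFC.trans (centralizer_le_normalizer _))⟩
  have hσ := o.prime_not_sigma hG
  by_cases hr : Cfsg.PRankLE p 1 H
  · have hτ : p ∈ Cfsg.tau3 H :=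
      ⟨o.prime_K hG, hσ, hpD.trans (card_dvd_of_le (commutator_mono hF.1 hF.1)), hr⟩
    have hKD : K ≤ ⁅F, F⁆ := hbe ▸ zpowers_le.mpr (mem_derived_of_tau_three hG o.max hF hτ (hKF hb) hbo)
    have hn := derived_line_normal hG o.max hr hF rfl hKD
    exact ⟨hn.trans hNK, hfit hn⟩
  have hr2 : Cfsg.PRankLE p 2 H := by
    by_contra h2
    exact hσ (alpha_subset_sigma hG o.max ⟨o.prime_K hG, h2⟩)
  have hτ : p ∈ Cfsg.tau2 H := ⟨o.prime_K hG, hσ, hr2, hr⟩
  obtain ⟨A, hAF, hA, hAc⟩ := exists_sq_complement hG o.max hF hτ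
  obtain ⟨A₀, hexc⟩ := exists_exc hG o.max hσ (hAF.trans hF.1) hA hAc
  have hKA : K ≤ A := hexc.order_p_le hG hF hAF hKF rfl
  have hAn : F ≤ normalizer (A : Set G) := hexc.le_normalizer hG hF hAF
  refine ⟨?_, hKA.trans ((FittingParts.le_of_isPGroup hAF hAn (isPGroup_of_pow hA.2)).trans
    (FittingParts.le_fittingOf F))⟩
  by_cases hab : ∃ T : Sylow p G, IsMulCommutative (T : Subgroup G)
  · obtain ⟨T₁, hT₁⟩ := hab
    obtain ⟨T, hAT⟩ := (isPGroup_of_pow hA.2 : IsPGroup p A).exists_le_sylow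
    have hTc : IsMulCommutative (T : Subgroup G) := sylow_comm_all hT₁
    obtain ⟨-, hFT⟩ := hexc.sylow_normal hG hF hAF T hTc hAT
    have hTL : (T : Subgroup G) ≤ L := fun y hy => hCK (mem_centralizer_iff.mpr fun k hk =>
      ThompsonTransitivity.mul_comm_of hTc (hAT (hKA hk)) hy)
    obtain ⟨P, hPL, hNP⟩ := exists_sylow_le (M := L)
      (sigmaCore_isPi p (o.prime_K hG) (card_dvd_of_le (o.dual.eq.le.trans inf_le_left)))
    obtain ⟨m, hm, hmT⟩ := card_eq_of_sylowOf (isSylowOf_coe P hPL) (isSylowOf_coe T hTL)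
    refine hFT.trans ?_
    rw [← hmT, Cfsg.Lib.Coprime.normalizer_conjMap]
    exact (Cfsg.Lib.Coprime.conjMap_mono hNP).trans (Cfsg.Lib.Coprime.conjMap_eq_self (le_normalizer hm)).le
  push Not at hab
  obtain ⟨S, hS, hAS⟩ := exists_sylowOf (isPGroup_of_pow hA.2) (hAF.trans hF.1)
  obtain ⟨P, hSP⟩ := hS.2.1.exists_le_sylow
  obtain ⟨Z, -, -, hZ1, -, hconj, -⟩ := hexc.nonabelian_data hG hS hAS P hSP (hab P)
  obtain ⟨-, ⟨hZ₀c, -⟩, -⟩ := tau_two_nonabelian hG o.max hF hτ hab hAF hA hAc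
  set Z₀ := A ⊓ centralizer (Cfsg.sigmaCore H : Set G) with hZ₀
  have hZ₀C : Cfsg.sigmaCore H ≤ centralizer (Z₀ : Set G) := le_centralizer_iff.mp inf_le_right
  have hKZ₀ : K ≠ Z₀ := fun e => sigmaCore_ne_bot hG o.max (le_bot_iff.mp
    ((le_inf le_rfl hZ₀C).trans (e ▸ o.regular hG).le))
  intro f hf
  refine hNK ?_
  have hKZ : K = Z := o.line_eq hG hF hAF hA hAc hσ inf_le_left hZ₀c hZ₀C hZ1 hconj hKA rfl hKZ₀
    (N := L) (fun N' h1 h2 => huK N' h1 h2) fun g e => o.not_conj_L hG g⁻¹ (by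
      rw [e, Cfsg.Lib.Coprime.conjMap_inv_conjMap])
  have hfZ₀ : conjMap f Z₀ = Z₀ := Cfsg.Lib.Coprime.conjMap_eq_self (Cfsg.Lib.Coprime.le_normalizer_inf hAn
    ((hF.1.trans (le_normalizer_sigmaCore H)).trans (FittingParts.normalizer_centralizer_le _)) hf)
  have hfKZ₀ : conjMap f K ≠ Z₀ := fun e => hKZ₀ (by
    refine (?_ : conjMap f⁻¹ (conjMap f K) = conjMap f⁻¹ (conjMap f Z₀)) |> fun h => by
      rwa [Cfsg.Lib.Coprime.conjMap_inv_conjMap, Cfsg.Lib.Coprime.conjMap_inv_conjMap] at h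
    rw [e, hfZ₀])
  have hfKZ : conjMap f K = Z := o.line_eq hG hF hAF hA hAc hσ inf_le_left hZ₀c hZ₀C hZ1 hconj
    ((Cfsg.Lib.Coprime.conjMap_mono hKA).trans (Cfsg.Lib.Coprime.conjMap_eq_self (hAn hf)).le)
    (Cfsg.Lib.Coprime.card_conjMap f K) hfKZ₀ (N := conjMap f L) (fun N' h1 h2 => by
      have h3 : centralizer (K : Set G) ≤ conjMap f⁻¹ N' := fun y hy => by
        rw [Cfsg.Lib.Coprime.mem_conjMap, inv_inv]
        exact h2 (mem_centralizer_conjMap.mpr ⟨y, hy, rfl⟩)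
      have h4 := huK _ (conjMap_coatom h1 _) h3
      rw [← h4, Cfsg.Lib.Coprime.conjMap_mul, mul_inv_cancel,
        Cfsg.Lib.Coprime.conjMap_eq_self (one_mem _)]) fun g e => o.not_conj_L hG (g⁻¹ * f) (by
      rw [← Cfsg.Lib.Coprime.conjMap_mul, e, Cfsg.Lib.Coprime.conjMap_inv_conjMap])
  exact Cfsg.Lib.Coprime.conjMap_eq_self_iff.mp (hfKZ.trans hKZ.symm)

/-- `H ∩ L` is a complement of `H_σ` with `K` in its Fitting subgroup. -/
theorem OverU.inter_L (hG : Cfsg.IsMinSimpleOddOrder G) (o : OverU M K L E U H) :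
    K ≤ Cfsg.fittingOf (H ⊓ L) ∧ Cfsg.IsComplIn (H ⊓ L) (Cfsg.sigmaCore H) H := by
  obtain ⟨F, hF, hKF⟩ := exists_complement_ge hG o.max o.K_le fun t ht hd =>
    (Nat.prime_dvd_prime_iff_eq ht (o.prime_K hG)).mp hd ▸ o.prime_not_sigma hG
  obtain ⟨hFL, hKfit⟩ := o.complement_le hG hF hKF
  have heq : H ⊓ L = F := le_antisymm (fun y hy => by
    obtain ⟨e, he, z, hz, rfl⟩ := hF.2.2.2 y hy.1
    have hzL : z ∈ L := by simpa using mul_mem (inv_mem (hFL he)) hy.2
    rw [mem_bot.mp ((o.core_inf_L hG).le ⟨hz, hzL⟩), mul_one]; exact he) (le_inf hF.1 hFL)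
  rw [heq]
  exact ⟨hKfit, hF⟩

/-- A maximal subgroup over the normalizer of a Sylow subgroup of `U` is over `U K`. -/
theorem overU_of_normalizer (hG : Cfsg.IsMinSimpleOddOrder G) (d : KappaDual M K L) (h : KappaSplit M K E U)
    (hU : U ≠ ⊥) (hd : s ∣ Nat.card U) (R : Sylow s U) (hH : IsCoatom H)
    (hNR : normalizer ((((R : Subgroup U).map U.subtype : Subgroup G)) : Set G) ≤ H) :
    OverU M K L E U H := by
  have hM := d.pair.max
  have hUc := h.comm hG hM d.pair.ne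
  set S := (R : Subgroup U).map U.subtype with hS
  have hUS : U ≤ normalizer (S : Set G) := fun u hu => centralizer_le_normalizer _
    (mem_centralizer_iff.mpr fun v hv => ThompsonTransitivity.mul_comm_of hUc ((map_subtype_le _) hv) hu)
  haveI : (R : Subgroup U).Normal := ⟨fun n hn g => by
    rwa [show g * n * g⁻¹ = n from Subtype.ext (by
      show (g : G) * n * (g : G)⁻¹ = n
      rw [ThompsonTransitivity.mul_comm_of hUc g.2 n.2, mul_inv_cancel_right])]⟩
  have hES : E ≤ normalizer (S : Set G) := fun e he => by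
    refine Cfsg.Lib.Coprime.conjMap_eq_self_iff.mp (Cfsg.Lib.Coprime.eq_of_le_of_card_eq ?_
      (Cfsg.Lib.Coprime.card_conjMap _ _))
    intro w hw
    have hwU : w ∈ U := Cfsg.Lib.Coprime.conjMap_eq_self (h.normal he) ▸
      Cfsg.Lib.Coprime.conjMap_mono (map_subtype_le _) hw
    obtain ⟨R', hR'⟩ := ((R.2.map U.subtype).map (MulAut.conj e).toMonoidHom).comap_subtype
      (K := U) |>.exists_le_sylow
    haveI := Sylow.unique_of_normal R ‹_›
    exact ⟨⟨w, hwU⟩, (Subsingleton.elim R' R) ▸ hR' hw, rfl⟩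
  refine ⟨d, h, hU, hH, hES.trans hNR, fun g e => ?_⟩
  have hsyl : IsSylowOf s S M := ⟨(map_subtype_le _).trans h.hallU.1, R.2.map _, fun W hW hWM hle => by
    refine (eq_of_le_of_card_ge hle ?_).symm
    obtain ⟨j, hj⟩ := IsPGroup.iff_card.mp hW
    rw [hj, hS, card_map_of_injective U.subtype_injective]
    refine Nat.le_of_dvd Nat.card_pos (R.pow_dvd_card_of_pow_dvd_card ?_)
    have h1 := hj ▸ card_dvd_of_le hWM
    rw [← card_mul_relIndex h.hallU.1] at h1
    refine Nat.Coprime.dvd_of_dvd_mul_right (Nat.Coprime.pow_left j ?_) h1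
    exact hs.out.coprime_iff_not_dvd.mpr (h.hallU.2.2 s hs.out (h.hallU.2.1 s hs.out hd))⟩
  obtain ⟨S₁, hS₁⟩ := hsyl.exists_sylow
  have hsM : ¬ normalizer (S : Set G) ≤ M := sylow_normalizer_not_le (h.hallU.2.1 s hs.out hd).2.2
    (hd.trans (card_dvd_of_le h.hallU.1)) hsyl
  have hSgM : S ≤ conjMap g M := (le_normalizer.trans hNR).trans e.le
  have hback : conjMap g⁻¹ S ≤ M := fun y hy => by
    have h1 : y ∈ conjMap g⁻¹ (conjMap g M) := Cfsg.Lib.Coprime.conjMap_mono hSgM hy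
    rwa [Cfsg.Lib.Coprime.conjMap_inv_conjMap] at h1
  obtain ⟨R₂, hR₂, hle₂⟩ := exists_sylowOf ((R.2.map U.subtype).map (MulAut.conj g⁻¹).toMonoidHom) hback
  obtain ⟨m, hm, hmS⟩ := card_eq_of_sylowOf hR₂ hsyl
  have hfix : g⁻¹ ∈ M → H = M := fun hg => by
    rw [e, Cfsg.Lib.Coprime.conjMap_eq_self (le_normalizer (by simpa using inv_mem hg))]
  have heq : conjMap (m * g⁻¹) S = S := Cfsg.Lib.Coprime.eq_of_le_of_card_eq (by
    rw [← Cfsg.Lib.Coprime.conjMap_mul]
    exact (Cfsg.Lib.Coprime.conjMap_mono hle₂).trans hmS.le) (Cfsg.Lib.Coprime.card_conjMap _ _)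
  have h1 : m * g⁻¹ ∈ conjMap g M := e ▸ hNR (Cfsg.Lib.Coprime.conjMap_eq_self_iff.mp heq)
  rw [Cfsg.Lib.Coprime.mem_conjMap] at h1
  have hgm : g⁻¹ * m ∈ M := by simpa [mul_assoc] using h1
  exact hsM ((hfix (by simpa using mul_mem hgm (inv_mem hm))) ▸ hNR)

end Cfsg.Lib.OddLocal.RankTwoMax

namespace Cfsg.Lib.OddLocal.RankTwoMax

open Subgroup Uniqueness Sigma

universe u

variable {G : Type u} [Group G] [Finite G] {M L K E U : Subgroup G}

theorem complement_normalizer_not_le (hG : Cfsg.IsMinSimpleOddOrder G) (d : KappaDual M K L)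
    (h : KappaSplit M K E U) : IsMulCommutative U ∧ ¬ normalizer (U : Set G) ≤ M := by
  refine ⟨h.comm hG d.pair.max d.pair.ne, fun hle => ?_⟩
  by_cases hU : U = ⊥
  · refine d.pair.max.1 (top_le_iff.mp (le_trans (fun g _ => ?_) hle))
    rw [hU]
    exact Subgroup.mem_normalizer_iff.mpr fun x => by simp [mem_bot]
  obtain ⟨r, hr, hd⟩ := Nat.exists_prime_and_dvd (mt card_eq_one.mp hU)
  haveI := Fact.mk hr
  obtain ⟨R⟩ : Nonempty (Sylow r U) := inferInstance
  have hR1 : (R : Subgroup U).map U.subtype ≠ ⊥ := fun h0 =>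
    R.ne_bot_of_dvd_card hd ((map_eq_bot_iff_of_injective _ U.subtype_injective).mp h0)
  obtain ⟨H, hH, hNR⟩ := exists_coatom_ge (MinSimpleTransitivity.normalizer_ne_top hG hR1
    (FittingUniqueness.ne_top_of_le_coatom d.pair.max ((map_subtype_le _).trans h.hallU.1)))
  exact (overU_of_normalizer hG d h hU hd R hH hNR).normalizer_not_le hG (inf_le_right.trans hle)

end Cfsg.Lib.OddLocal.RankTwoMax
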