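import Cfsg.Agent.OddLocal.Transitivity
import Cfsg.Agent.OddLocal.InvariantCore

/-!
# The relative `π`-core, and invariant coprime subgroups inside it
-/

set_option linter.unusedSectionVars false
set_option linter.style.haveILetI false

namespace Cfsg.Lib.OddLocal.PiCoreOf

open Subgroup
open Cfsg.Lib.Elementary (IsPiNat)
open scoped Pointwise

universe u

variable {G : Type u} [Group G] [Finite G] {π : Set ℕ} {X : Subgroup G}

theorem le (π : Set ℕ) (X : Subgroup G) : Cfsg.piCoreOf π X ≤ X := map_subtype_le _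

theorem isPi (π : Set ℕ) (X : Subgroup G) : IsPiNat π (Nat.card (Cfsg.piCoreOf π X)) := by
  rw [Cfsg.piCoreOf, Subgroup.card_map_of_injective X.subtype_injective]
  exact Cfsg.Lib.Elementary.piCore_isPi π

theorem le_piCoreOf {N : Subgroup G} (hN : N ≤ X) (hn : X ≤ normalizer (N : Set G))
    (h : IsPiNat π (Nat.card N)) : N ≤ Cfsg.piCoreOf π X := by
  haveI : (N.subgroupOf X).Normal := normal_subgroupOf_of_le_normalizer hn
  intro x hx
  exact ⟨⟨x, hN hx⟩, Cfsg.Lib.Elementary.le_piCore (N := N.subgroupOf X) (by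
    rw [Nat.card_congr (subgroupOfEquivOfLe hN).toEquiv]; exact h) hx, rfl⟩

theorem normalizer_le (π : Set ℕ) (X : Subgroup G) :
    normalizer (X : Set G) ≤ normalizer (Cfsg.piCoreOf π X : Set G) := by
  intro g hg
  refine Cfsg.Lib.Coprime.conjMap_eq_self_iff.mp (Cfsg.Lib.Coprime.eq_of_le_of_card_eq ?_
    (Cfsg.Lib.Coprime.card_conjMap _ _))
  have hgX := Cfsg.Lib.Coprime.conjMap_eq_self hg
  refine le_piCoreOf ?_ ?_ ?_
  · exact (Cfsg.Lib.Coprime.conjMap_mono (le π X)).trans hgX.le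
  · intro x hx
    have hy : g⁻¹ * x * g ∈ X := Cfsg.Lib.Coprime.mem_conjMap.mp (hgX.ge hx)
    haveI : (Cfsg.piCore π X).Normal := Cfsg.piCore_normal π X
    have h1 : g⁻¹ * x * g ∈ normalizer (Cfsg.piCoreOf π X : Set G) := by
      refine Subgroup.le_normalizer_map X.subtype ?_
      exact ⟨⟨_, hy⟩, by rw [normalizer_eq_top]; exact mem_top _, rfl⟩
    refine Cfsg.Lib.Coprime.conjMap_eq_self_iff.mp ?_
    rw [Cfsg.Lib.Coprime.conjMap_mul, show x * g = g * (g⁻¹ * x * g) by group,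
      ← Cfsg.Lib.Coprime.conjMap_mul, Cfsg.Lib.Coprime.conjMap_eq_self h1]
  · rw [Cfsg.Lib.Coprime.card_conjMap]
    exact isPi π X

theorem le_normalizer' (π : Set ℕ) (X : Subgroup G) :
    X ≤ normalizer (Cfsg.piCoreOf π X : Set G) := le_normalizer.trans (normalizer_le π X)

theorem coprime_of_isPiNat {n m : ℕ} (hm : IsPiNat (Cfsg.primesNotDvd n) m) : n.Coprime m :=
  Nat.coprime_of_dvd fun q hq hqn hqm => (hm q hq hqm).2 hqn

theorem isPiNat_of_coprime {n m : ℕ} (h : n.Coprime m) : IsPiNat (Cfsg.primesNotDvd n) m :=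
  fun q hq hqm => ⟨hq, fun hqn => hq.not_dvd_one (h ▸ Nat.dvd_gcd hqn hqm)⟩

theorem coprime_card (n : ℕ) (X : Subgroup G) :
    n.Coprime (Nat.card (Cfsg.piCoreOf (Cfsg.primesNotDvd n) X)) :=
  coprime_of_isPiNat (isPi _ _)

/-- A `p'`-core of a subgroup inside the relative core. -/
theorem map_pPrimeCore_le {p : ℕ} [hp : Fact p.Prime] {n : ℕ}
    (hn : ∀ q : ℕ, q.Prime → q ∣ n → q = p) (X : Subgroup G) :
    (Cfsg.pPrimeCore p X).map X.subtype ≤ Cfsg.piCoreOf (Cfsg.primesNotDvd n) X := by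
  refine map_mono (Cfsg.Lib.Elementary.le_piCore fun q hq hqd => ⟨hq, fun hqn => ?_⟩)
  obtain rfl := hn q hq hqn
  exact hq.not_dvd_one ((Cfsg.Lib.Components.coprime_card_pPrimeCore (G := X) q) ▸
    Nat.dvd_gcd hqd dvd_rfl)

/-- Invariant `p'`-subgroups of a constrained subgroup lie in its core. -/
theorem le_of_constrained {p : ℕ} [hp : Fact p.Prime] {n : ℕ}
    (hn : ∀ q : ℕ, q.Prime → q ∣ n → q = p) {X A Y : Subgroup G}
    (hc : InvariantCore.QuotientConstrained p X)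
    (h2 : p = 2 → ∀ S : Subgroup G, IsPGroup p S → ∀ x ∈ S, ∀ y ∈ S, ∀ z ∈ S,
      (x⁻¹ * (y * x * y⁻¹)) * z = z * (x⁻¹ * (y * x * y⁻¹)))
    (hAX : A ≤ X) (hYX : Y ≤ X) (hA : IsPGroup p A)
    (hAfull : ∀ x ∈ centralizer (A : Set G), IsPGroup p (zpowers x) → x ∈ A)
    (hY : (Nat.card Y).Coprime p) (hAY : A ≤ normalizer (Y : Set G)) :
    Y ≤ Cfsg.piCoreOf (Cfsg.primesNotDvd n) X := by
  have h := InvariantCore.le_pPrimeCore (p := p) hc (fun hp2 S hS x hx y hy z hz =>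
      Subtype.ext (by
        simpa using h2 hp2 (S.map X.subtype) (hS.map _) x ⟨x, hx, rfl⟩ y ⟨y, hy, rfl⟩ z ⟨z, hz, rfl⟩))
    (A := A.subgroupOf X) (Y := Y.subgroupOf X) (hA.comap_subtype)
    (fun x hx hxp => mem_subgroupOf.mpr (hAfull x (mem_centralizer_iff.mpr fun a ha =>
      congrArg Subtype.val (mem_centralizer_iff.mp hx ⟨a, hAX ha⟩ ha)) (by
        have h1 := hxp.map X.subtype
        rwa [MonoidHom.map_zpowers] at h1)))
    (by rwa [Nat.card_congr (subgroupOfEquivOfLe hYX).toEquiv])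
    (fun a ha => mem_normalizer_iff.mpr fun y => by
      simp only [mem_subgroupOf, Subgroup.coe_mul, Subgroup.coe_inv]
      exact mem_normalizer_iff.mp (hAY ha) y)
  refine le_trans ?_ (map_pPrimeCore_le hn X)
  intro y hy
  exact ⟨⟨y, hYX hy⟩, h hy, rfl⟩

/-- A self-centralizing normal abelian subgroup of a Sylow group contains the `p`-elements
centralizing it. -/
theorem mem_of_scn {p : ℕ} [hp : Fact p.Prime] (P : Sylow p G) {A : Subgroup G}
    (hn : (P : Subgroup G) ≤ normalizer (A : Set G))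
    (hc : (P : Subgroup G) ⊓ centralizer (A : Set G) = A) {x : G} (hx : x ∈ centralizer (A : Set G))
    (hxp : IsPGroup p (zpowers x)) : x ∈ A := by
  set N := normalizer (A : Set G) with hN
  have hxN : x ∈ N := centralizer_le_normalizer _ hx
  obtain ⟨S, hS⟩ := (hxp.comap_subtype (K := N)).exists_le_sylow
  obtain ⟨g, hg⟩ := MulAction.exists_smul_eq N (P.subtype hn) S
  have h1 : (⟨x, hxN⟩ : N) ∈ (g • P.subtype hn : Sylow p N) := hg ▸ hS (mem_zpowers x)
  have h2 : (⟨x, hxN⟩ : N) ∈ MulAut.conj g • ((P : Subgroup G).subgroupOf N) := h1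
  rw [mem_pointwise_smul_iff_inv_smul_mem, ← map_inv] at h2
  have h3 : (g : G)⁻¹ * x * g ∈ (P : Subgroup G) := by simpa [mem_subgroupOf, MulAut.smul_def] using h2
  have hgn : (g : G) ∈ normalizer (A : Set G) := g.2
  have h4 : (g : G)⁻¹ * x * g ∈ centralizer (A : Set G) := by
    refine mem_centralizer_iff.mpr fun a ha => ?_
    have h5 := mem_centralizer_iff.mp hx _ ((mem_normalizer_iff.mp hgn a).mp ha)
    calc a * ((g : G)⁻¹ * x * g) = (g : G)⁻¹ * (g * a * (g : G)⁻¹ * x) * g := by group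
      _ = (g : G)⁻¹ * (x * (g * a * (g : G)⁻¹)) * g := by rw [h5]
      _ = _ := by group
  have h6 : (g : G)⁻¹ * x * g ∈ A := hc ▸ ⟨h3, h4⟩
  simpa [mul_assoc] using (mem_normalizer_iff.mp hgn _).mp h6

end Cfsg.Lib.OddLocal.PiCoreOf
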