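import Cfsg.Agent.OddLocal.PLengthOne
import Cfsg.Agent.OddLocal.PiCoreOf
import Cfsg.Agent.OddLocal.FittingUniqueness
import Cfsg.Agent.S1450
import Cfsg.Agent.S1457

/-!
# Factorizations of subgroups containing a given Sylow group
-/

set_option linter.unusedSectionVars false
set_option linter.style.haveILetI false

namespace Cfsg.Lib.OddLocal.Uniqueness

open Subgroup

universe u

variable {G : Type u} [Group G] [Finite G] {p : ℕ} [hp : Fact p.Prime] {X R : Subgroup G}

/-- The `p'`-core of a subgroup. -/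
abbrev Op (p : ℕ) (X : Subgroup G) : Subgroup G := Cfsg.piCoreOf (Cfsg.primesNotDvd p) X

theorem Op_eq (X : Subgroup G) : Op p X = (Cfsg.pPrimeCore p X).map X.subtype := by
  refine le_antisymm (map_mono (Cfsg.Lib.Components.le_pPrimeCore ?_))
    (PiCoreOf.map_pPrimeCore_le (fun q hq hqp => (Nat.prime_dvd_prime_iff_eq hq hp.out).mp hqp) X)
  exact (PiCoreOf.coprime_of_isPiNat (Cfsg.Lib.Elementary.piCore_isPi _)).symm

theorem coprime_Op (X : Subgroup G) : (Nat.card (Op p X)).Coprime p :=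
  (PiCoreOf.coprime_card p X).symm

theorem le_Op {Y : Subgroup G} (hY : Y ≤ X) (hn : X ≤ normalizer (Y : Set G))
    (h : (Nat.card Y).Coprime p) : Y ≤ Op p X :=
  PiCoreOf.le_piCoreOf hY hn (PiCoreOf.isPiNat_of_coprime h.symm)

/-- `R` is a maximal `p`-subgroup of `X`. -/
def IsSylowOf (p : ℕ) (R X : Subgroup G) : Prop :=
  R ≤ X ∧ IsPGroup p R ∧ ∀ S : Subgroup G, IsPGroup p S → S ≤ X → R ≤ S → S = R

theorem IsSylowOf.exists_sylow (h : IsSylowOf p R X) :
    ∃ S : Sylow p X, (S : Subgroup X).map X.subtype = R := by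
  obtain ⟨S, hS⟩ := (h.2.1.comap_subtype (K := X)).exists_le_sylow
  exact ⟨S, h.2.2 _ (S.2.map _) (map_subtype_le _) fun x hx => ⟨⟨x, h.1 hx⟩, hS hx, rfl⟩⟩

theorem isSylowOf_sylow (S : Sylow p X) : IsSylowOf p ((S : Subgroup X).map X.subtype) X := by
  refine ⟨map_subtype_le _, S.2.map _, fun T hT hTX hST => ?_⟩
  have h1 : T.subgroupOf X = (S : Subgroup X) :=
    S.3 hT.comap_subtype fun x hx => mem_subgroupOf.mpr (hST (mem_map_of_mem _ hx))
  rw [← h1, subgroupOf_map_subtype, inf_eq_left.mpr hTX]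

theorem isSylowOf_coe (P : Sylow p G) (hPX : (P : Subgroup G) ≤ X) :
    IsSylowOf p (P : Subgroup G) X :=
  ⟨hPX, P.2, fun _ hS _ hPS => P.3 hS hPS⟩

theorem IsSylowOf.mem_of_centralizes (h : IsSylowOf p R X) {x : G} (hx : x ∈ X)
    (hn : x ∈ normalizer (R : Set G)) (hxp : IsPGroup p (zpowers x)) : x ∈ R := by
  have hp' : IsPGroup p (R ⊔ zpowers x : Subgroup G) :=
    h.2.1.to_sup_of_normal_left' hxp (zpowers_le.mpr hn)
  exact (h.2.2 _ hp' (sup_le h.1 (zpowers_le.mpr hx)) le_sup_left).le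
    (mem_sup_right (mem_zpowers x))

/-- An invariant `p'`-subgroup for a Sylow group of a solvable subgroup lies in the core. -/
theorem IsSylowOf.inv_le_Op (h : IsSylowOf p R X) [Group.IsSolvable X] (hp2 : p ≠ 2) {Y : Subgroup G}
    (hYX : Y ≤ X) (hY : (Nat.card Y).Coprime p) (hRY : R ≤ normalizer (Y : Set G)) : Y ≤ Op p X := by
  have hle := InvariantCore.le_pPrimeCore (p := p) (G := X) InvariantCore.quotientConstrained_of_solvable
    (fun h' => absurd h' hp2) (A := R.subgroupOf X) (Y := Y.subgroupOf X) h.2.1.comap_subtype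
    (fun x hx hxp => mem_subgroupOf.mpr (h.mem_of_centralizes x.2
      (centralizer_le_normalizer _ (mem_centralizer_iff.mpr fun a ha =>
        congrArg Subtype.val (mem_centralizer_iff.mp hx ⟨a, h.1 ha⟩ ha))) (by
        have h1 := hxp.map X.subtype
        rwa [MonoidHom.map_zpowers] at h1)))
    (by rwa [Nat.card_congr (subgroupOfEquivOfLe hYX).toEquiv])
    (fun a ha => mem_normalizer_iff.mpr fun y => by
      simp only [mem_subgroupOf, Subgroup.coe_mul, Subgroup.coe_inv]
      exact mem_normalizer_iff.mp (hRY ha) y)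
  rw [Op_eq]
  intro y hy
  exact ⟨⟨y, hYX hy⟩, hle hy, rfl⟩

theorem map_normalizer_le {N : Subgroup X} :
    (normalizer (N : Set X)).map X.subtype ≤ X ⊓ normalizer (N.map X.subtype : Set G) :=
  le_inf (map_subtype_le _) (le_normalizer_map _)

/-- Frattini's argument for `R ∩ O_{p',p}(X)`. -/
theorem IsSylowOf.factor (h : IsSylowOf p R X) [Group.IsSolvable X] (hodd : Odd (Nat.card X)) :
    ∃ T : Subgroup G, T ≤ R ∧ R ≤ normalizer (T : Set G) ∧
      X ≤ Op p X ⊔ (X ⊓ normalizer (T : Set G)) ∧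
      (∀ A : Subgroup G, A ≤ R → IsMulCommutative A → R ≤ normalizer (A : Set G) → A ≤ T) := by
  obtain ⟨S, rfl⟩ := h.exists_sylow
  set U := Cfsg.pPrimePCore p X with hU
  set N := Cfsg.pPrimeCore p X with hN
  refine ⟨((S : Subgroup X) ⊓ U).map X.subtype, map_mono inf_le_left, ?_, ?_, ?_⟩
  · refine (map_mono (fun x hx => ?_)).trans (le_normalizer_map X.subtype)
    exact Cfsg.Lib.Coprime.le_normalizer_inf le_normalizer le_normalizer_of_normal hx
  · have hsup : U ≤ N ⊔ ((S : Subgroup X) ⊓ U) := by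
      intro x hx
      set π := QuotientGroup.mk' N with hπ
      have h1 : π x ∈ (S : Subgroup X).map π :=
        Cfsg.Lib.Thompson.le_sylow_of_normal (Cfsg.Lib.Components.isPGroup_pCore p)
          (S.mapSurjective (QuotientGroup.mk'_surjective _)) (show π x ∈ Cfsg.pCore p _ from hx)
      have h2 : x ∈ ((S : Subgroup X).map π).comap π := h1
      rw [comap_map_eq, QuotientGroup.ker_mk', sup_comm] at h2
      obtain ⟨n, hn, s, hs, rfl⟩ := mem_sup_of_normal_left.mp h2
      refine mul_mem_sup hn ⟨hs, ?_⟩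
      have := mul_mem (inv_mem (Cfsg.Lib.OddP.pPrimeCore_le_pPrimePCore hn : n ∈ U)) hx
      simpa using this
    have hfr := Cfsg.Lib.ZJ.sup_normalizer_inf_eq_top U S
    have htop : N ⊔ normalizer (((S : Subgroup X) ⊓ U : Subgroup X) : Set X) = ⊤ := by
      refine top_le_iff.mp (hfr.ge.trans (sup_le (hsup.trans (sup_le le_sup_left ?_)) le_sup_right))
      exact le_normalizer.trans le_sup_right
    have h4 := map_mono (f := X.subtype) htop.ge
    rw [← MonoidHom.range_eq_map, range_subtype, Subgroup.map_sup] at h4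
    refine h4.trans (sup_le_sup ?_ map_normalizer_le)
    rw [Op_eq]
  · intro A hA hAc hAn
    have hAX : A ≤ X := hA.trans (map_subtype_le _)
    intro a ha
    refine ⟨⟨a, hAX ha⟩, ⟨?_, ?_⟩, rfl⟩
    · obtain ⟨s, hs, hsa⟩ := hA ha
      exact (show s = ⟨a, hAX ha⟩ from Subtype.ext hsa) ▸ hs
    · refine Cfsg.Agent.S1457.result hodd p S (A.subgroupOf X) ?_ ?_ ?_ ha
      · intro x hx
        obtain ⟨s, hs, hsa⟩ := hA hx
        exact (show s = x from Subtype.ext hsa) ▸ hs
      · exact ⟨⟨fun a b => Subtype.ext (Subtype.ext (ThompsonTransitivity.mul_comm_of hAc a.2 b.2))⟩⟩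
      · exact fun x hx => mem_normalizer_iff.mpr fun y => by
          simp only [mem_subgroupOf, Subgroup.coe_mul, Subgroup.coe_inv]
          exact mem_normalizer_iff.mp (hAn ⟨x, hx, rfl⟩) y

/-- In rank two the whole Sylow group is `R ∩ O_{p',p}(X)`. -/
theorem IsSylowOf.factor_rank_two (h : IsSylowOf p R X) [Group.IsSolvable X]
    (hodd : Odd (Nat.card X)) (hr : Cfsg.PRankLE p 2 R) :
    X ≤ Op p X ⊔ (X ⊓ normalizer (R : Set G)) := by
  obtain ⟨S, rfl⟩ := h.exists_sylow
  rcases em (p ∣ Nat.card X) with hpX | hpX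
  · have hrX : Cfsg.PRankLE p 2 X := by
      intro B hBc hBp
      obtain ⟨T, hT⟩ := (show IsPGroup p B from fun b => ⟨1, by
        rw [pow_one]; exact Subtype.ext (hBp b b.2)⟩).exists_le_sylow
      obtain ⟨g, hg⟩ := MulAction.exists_smul_eq X T S
      set f : G →* G := (MulAut.conj (g : G)).toMonoidHom with hf
      have hle : (B.map X.subtype).map f ≤ (S : Subgroup X).map X.subtype := by
        rintro _ ⟨_, ⟨b, hb, rfl⟩, rfl⟩
        refine ⟨g * b * g⁻¹, ?_, by simp [hf]⟩
        rw [← hg]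
        exact ⟨b, hT hb, rfl⟩
      have h1 := hr (((B.map X.subtype).map f).subgroupOf ((S : Subgroup X).map X.subtype))
        ⟨⟨fun a b => Subtype.ext (Subtype.ext (ThompsonTransitivity.mul_comm_of (G := G)
          (A := (B.map X.subtype).map f) inferInstance a.2 b.2))⟩⟩ ?_
      · rwa [Nat.card_congr (subgroupOfEquivOfLe hle).toEquiv,
          Subgroup.card_map_of_injective (MulAut.conj (g : G)).injective,
          Subgroup.card_map_of_injective X.subtype_injective] at h1
      · intro a ha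
        obtain ⟨_, ⟨b, hb, rfl⟩, hab⟩ := ha
        refine Subtype.ext ?_
        have h2 : ((a : ↥((S : Subgroup X).map X.subtype)) : G) = f (b : G) := hab.symm
        rw [SubgroupClass.coe_pow, h2, ← map_pow, ← SubgroupClass.coe_pow, hBp b hb, OneMemClass.coe_one,
          map_one, OneMemClass.coe_one]
    have hpl := Cfsg.Lib.OddP.pLengthLE_one_iff.mpr
      (Cfsg.Agent.S1450.result hodd p hpX hrX).2.2.2.2.2
    have h4 := map_mono (f := X.subtype) (Cfsg.Lib.OddP.pPrimeCore_sup_normalizer hpl S).ge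
    rw [← MonoidHom.range_eq_map, range_subtype, Subgroup.map_sup] at h4
    refine h4.trans (sup_le_sup ?_ map_normalizer_le)
    rw [Op_eq]
  · refine le_sup_of_le_left (le_Op le_rfl le_normalizer ?_)
    exact (hp.out.coprime_iff_not_dvd.mpr hpX).symm

/-- Factorization by the centre of the Puig subgroup. -/
theorem IsSylowOf.factor_puig (h : IsSylowOf p R X) [Group.IsSolvable X] (hodd : Odd (Nat.card X))
    (hp2 : p ≠ 2) :
    X ≤ Op p X ⊔ (X ⊓ normalizer (Cfsg.Lib.Puig.centerPuigIn R : Set G)) := by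
  obtain ⟨S, rfl⟩ := h.exists_sylow
  set N := Cfsg.pPrimeCore p X
  have hn := Cfsg.Lib.Puig.centerPuig_normal (Cfsg.Lib.OddP.odd_quotient hodd N) hp2
    Cfsg.Lib.OddP.quotient_pPrimeCore_eq_bot
    (S.mapSurjective (QuotientGroup.mk'_surjective N))
  change (Cfsg.Lib.Puig.centerPuigIn ((S : Subgroup X).map (QuotientGroup.mk' _))).Normal at hn
  rw [← Cfsg.Lib.Puig.map_centerPuigIn (Cfsg.Lib.OddP.injOn_pPrimeCore S.2)] at hn
  have htop := Cfsg.Lib.ZJ.sup_normalizer_of_map_normal
    (Cfsg.Lib.Components.coprime_card_pPrimeCore p) S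
    (inf_le_left.trans (Cfsg.Lib.Puig.puigIn_le _)) hn
  have h4 := map_mono (f := X.subtype) htop.ge
  rw [← MonoidHom.range_eq_map, range_subtype, Subgroup.map_sup] at h4
  refine h4.trans (sup_le_sup ?_ ?_)
  · rw [Op_eq]
  · rw [← Cfsg.Lib.Puig.map_centerPuigIn X.subtype_injective.injOn]
    exact map_normalizer_le

end Cfsg.Lib.OddLocal.Uniqueness
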