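import Cfsg.Agent.OddLocal.FittingDerived

/-!
# Elements of a nilpotent `σ`-core with centralizer outside `M`
-/

set_option linter.unusedSectionVars false
set_option linter.unusedVariables false
set_option linter.style.haveILetI false

namespace Cfsg.Lib.OddLocal.RankTwoMax

open Subgroup Uniqueness Sigma
open Cfsg.Lib.Coprime (conjMap)
open scoped commutatorElement

universe u

variable {G : Type u} [Group G] [Finite G] {M N A : Subgroup G} {p q : ℕ} {g x y : G}

theorem sigmaCore_le_fittingOf (hnil : Group.IsNilpotent (Cfsg.sigmaCore M)) :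
    Cfsg.sigmaCore M ≤ Cfsg.fittingOf M :=
  le_fittingOf_of_normal (sigmaCore_le M) (le_normalizer_sigmaCore M) hnil

theorem mem_sigmaCore_of_primes (hG : Cfsg.IsMinSimpleOddOrder G) (hM : IsCoatom M) (hy : y ∈ M)
    (h : ∀ r : ℕ, r.Prime → r ∣ orderOf y → r ∈ Cfsg.sigma M) : y ∈ Cfsg.sigmaCore M := by
  have hcop : ((Cfsg.piCore (Cfsg.sigma M) M).index).Coprime (orderOf (⟨y, hy⟩ : M)) := by
    refine Nat.coprime_of_dvd fun r hr h1 h2 => ?_
    rw [← Subgroup.orderOf_coe] at h2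
    have h3 := (sigmaCore_hall hG hM).2.2 r hr (h r hr h2)
    rw [relIndex, Cfsg.sigmaCore, subgroupOf,
      comap_map_eq_self_of_injective M.subtype_injective] at h3
    exact h3 h1
  obtain ⟨m, hm⟩ := exists_pow_eq_self_of_coprime hcop
  exact ⟨⟨y, hy⟩, hm ▸ pow_mem (pow_index_mem _ _) m, rfl⟩

theorem pgroup_le_O [hq : Fact q.Prime] (hG : Cfsg.IsMinSimpleOddOrder G) (hM : IsCoatom M)
    (hnil : Group.IsNilpotent (Cfsg.sigmaCore M)) (hσ : q ∈ Cfsg.sigma M) {T : Subgroup G}
    (hT : IsPGroup q T) (hTM : T ≤ M) : T ≤ FittingParts.O q M :=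
  le_O_of_le_fitting hT ((le_sigmaCore_of_pgroup hG hM hσ hT hTM).trans (sigmaCore_le_fittingOf hnil))

theorem exists_sylow_O [hq : Fact q.Prime] (hG : Cfsg.IsMinSimpleOddOrder G) (hM : IsCoatom M)
    (hnil : Group.IsNilpotent (Cfsg.sigmaCore M)) (hσ : q ∈ Cfsg.sigma M) :
    ∃ T : Sylow q G, (T : Subgroup G) = FittingParts.O q M := by
  obtain ⟨T, hTM, -⟩ := exists_sylow_le hσ
  exact ⟨T, (T.3 (FittingParts.isPGroup M) (pgroup_le_O hG hM hnil hσ T.2 hTM)).symm⟩

theorem O_le_sigmaCore [hq : Fact q.Prime] (hG : Cfsg.IsMinSimpleOddOrder G) (hM : IsCoatom M)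
    (hσ : q ∈ Cfsg.sigma M) : FittingParts.O q M ≤ Cfsg.sigmaCore M :=
  le_sigmaCore_of_pgroup hG hM hσ (FittingParts.isPGroup M) (PiCoreOf.le _ M)

/-- A subgroup centralizing every core of `M_σ` centralizes `M_σ`. -/
theorem le_centralizer_sigmaCore (hG : Cfsg.IsMinSimpleOddOrder G) (hM : IsCoatom M)
    (hnil : Group.IsNilpotent (Cfsg.sigmaCore M)) {W : Subgroup G}
    (h : ∀ r : ℕ, r.Prime → r ∈ Cfsg.sigma M → W ≤ centralizer (FittingParts.O r M : Set G)) :
    W ≤ centralizer (Cfsg.sigmaCore M : Set G) := by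
  rw [Subgroup.le_centralizer_iff]
  intro y hy
  suffices key : ∀ (n : ℕ) (y : G), orderOf y ≤ n → y ∈ Cfsg.sigmaCore M → y ∈ centralizer (W : Set G) from
    key _ y le_rfl hy
  intro n
  induction n with
  | zero => intro y hy; exact absurd (orderOf_pos y) (by omega)
  | succ n ih =>
    intro y hn hy
    by_cases hy1 : y = 1
    · rw [hy1]; exact one_mem _
    obtain ⟨r, hr, hry⟩ := exists_pow_prime hy1
    haveI := Fact.mk hr
    have hσ := prime_of_mem_core hy hr hry
    obtain ⟨a, b, ha, -, hab, hb, -⟩ := FittingParts.split (r := r) (sigmaCore_le_fittingOf hnil hy)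
    have hbH : b ∈ Cfsg.sigmaCore M := by
      have h1 := mul_mem (inv_mem (O_le_sigmaCore hG hM hσ ha)) hy
      rwa [← hab, inv_mul_cancel_left] at h1
    have hlt : orderOf b < orderOf y := by
      refine lt_of_le_of_ne ?_ fun he => ?_
      · refine Nat.le_of_dvd (orderOf_pos y) ?_
        have hc : Commute a b := by
          have h2 : Commute (⟨a, O_le_sigmaCore hG hM hσ ha⟩ : Cfsg.sigmaCore M) ⟨b, hbH⟩ := by
            haveI := hnil
            refine Cfsg.Lib.FittingHall.commute_coprime ?_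
            rw [← Subgroup.orderOf_coe, ← Subgroup.orderOf_coe]
            obtain ⟨k, hk⟩ := IsPGroup.iff_orderOf.mp (FittingParts.isPGroup (q := r) M) ⟨a, ha⟩
            rw [← Subgroup.orderOf_coe] at hk
            rw [hk]
            exact (Nat.Coprime.pow_right k hb).symm
          exact congrArg Subtype.val h2
        have hco : (orderOf a).Coprime (orderOf b) := by
          obtain ⟨k, hk⟩ := IsPGroup.iff_orderOf.mp (FittingParts.isPGroup (q := r) M) ⟨a, ha⟩
          rw [← Subgroup.orderOf_coe] at hk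
          rw [hk]
          exact (Nat.Coprime.pow_right k hb).symm
        rw [← hab, hc.orderOf_mul_eq_mul_orderOf_of_coprime hco]
        exact dvd_mul_left _ _
      · exact (Nat.Prime.coprime_iff_not_dvd hr).mp hb.symm (he ▸ hry)
    rw [← hab]
    exact mul_mem (Subgroup.le_centralizer_iff.mp (h r hr hσ) ha) (ih b (by omega) hbH)

theorem sigmaCore_comm (hG : Cfsg.IsMinSimpleOddOrder G) (hM : IsCoatom M)
    (hnil : Group.IsNilpotent (Cfsg.sigmaCore M))
    (h : ∀ r : ℕ, r.Prime → r ∈ Cfsg.sigma M → IsMulCommutative ↥(FittingParts.O r M)) :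
    IsMulCommutative ↥(Cfsg.sigmaCore M) := by
  have h1 : Cfsg.sigmaCore M ≤ centralizer (Cfsg.sigmaCore M : Set G) := by
    refine le_centralizer_sigmaCore hG hM hnil fun r hr hσ => ?_
    haveI := Fact.mk hr
    refine Subgroup.le_centralizer_iff.mpr (le_centralizer_sigmaCore hG hM hnil fun s hs _ => ?_)
    haveI := Fact.mk hs
    by_cases hrs : r = s
    · subst hrs
      intro a ha
      exact mem_centralizer_iff.mpr fun b hb => ThompsonTransitivity.mul_comm_of (h r hr hσ) hb ha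
    · exact FittingParts.commute hrs
  exact ⟨⟨fun a b => Subtype.ext (mem_centralizer_iff.mp (h1 b.2) a a.2)⟩⟩

/-- `x` of order `p` in a nilpotent `M_σ` with `C(x) ⊄ M`, with the subgroup `N` supporting it and
an elementary abelian subgroup of order `p²` of `M ∩ N` containing it. -/
structure MovedPoint (M N A : Subgroup G) (p : ℕ) (x : G) : Prop where
  nil : Group.IsNilpotent (Cfsg.sigmaCore M)
  pair : SupportPair M N x
  order : orderOf x = p
  sigma : p ∈ Cfsg.sigma M
  tau : p ∈ Cfsg.tau2 N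
  maxSq : MaxSq p A
  le : A ≤ M ⊓ N
  mem : x ∈ A

theorem exists_movedPoint [hp : Fact p.Prime] (hG : Cfsg.IsMinSimpleOddOrder G) (hM : IsCoatom M)
    (hnil : Group.IsNilpotent (Cfsg.sigmaCore M)) (hx : x ∈ Cfsg.sigmaCore M) (hxo : orderOf x = p)
    (hxM : ¬ centralizer ({x} : Set G) ≤ M) : ∃ N A : Subgroup G, MovedPoint M N A p x := by
  have hx1 : x ≠ 1 := fun h => by
    rw [h, orderOf_one] at hxo; exact hp.out.one_lt.ne hxo
  obtain ⟨N, h⟩ := exists_supportPair hG hM hx hx1 hxM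
  have hτ := h.tau p hp.out (hxo ▸ dvd_rfl)
  obtain ⟨A, hAE, hA, hAc⟩ := exists_sq_complement hG h.maxN h.compl hτ
  obtain ⟨A₀, hexc⟩ := exists_exc hG h.maxN hτ.2.1 (hAE.trans h.compl.1) hA hAc
  have hxN : x ∈ N := h.le (mem_centralizer_singleton_iff.mpr rfl)
  refine ⟨N, A, hnil, h, hxo, prime_of_mem_core hx hp.out (hxo ▸ dvd_rfl), hτ, hexc.maxSq hG, hAE, ?_⟩
  exact hexc.order_p_le hG h.compl hAE (zpowers_le.mpr (⟨sigmaCore_le M hx, hxN⟩ : x ∈ M ⊓ N))
    (by rw [Nat.card_zpowers, hxo]) (mem_zpowers x)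

namespace MovedPoint

theorem mem_core (d : MovedPoint M N A p x) [hp : Fact p.Prime] : x ∈ Cfsg.sigmaCore M := d.pair.mem

theorem not_beta (d : MovedPoint M N A p x) [hp : Fact p.Prime] : p ∉ Cfsg.beta M := d.maxSq.not_beta M

theorem sq_le (d : MovedPoint M N A p x) [hp : Fact p.Prime] (hG : Cfsg.IsMinSimpleOddOrder G) :
    A ≤ FittingParts.O p M :=
  pgroup_le_O hG d.pair.max d.nil d.sigma d.maxSq.isPGroup (d.le.trans inf_le_left)

theorem mem_O (d : MovedPoint M N A p x) [hp : Fact p.Prime] (hG : Cfsg.IsMinSimpleOddOrder G) :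
    x ∈ FittingParts.O p M := d.sq_le hG d.mem

theorem not_sigma (d : MovedPoint M N A p x) (hG : Cfsg.IsMinSimpleOddOrder G) (hσ : q ∈ Cfsg.sigma M) :
    q ∉ Cfsg.sigma N := fun h => by
  obtain ⟨g, hg⟩ := (sigma_partition hG).2 M N d.pair.max d.pair.maxN ⟨q, hσ, h⟩
  exact d.pair.not_conj g hg

theorem other_le (d : MovedPoint M N A p x) [hp : Fact p.Prime] [hq : Fact q.Prime]
    (hG : Cfsg.IsMinSimpleOddOrder G) (hne : q ≠ p) : FittingParts.O q M ≤ M ⊓ N := by
  refine le_inf (PiCoreOf.le _ M) (fun y hy => d.pair.le (mem_centralizer_singleton_iff.mpr ?_))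
  exact (mem_centralizer_iff.mp ((FittingParts.commute hne) hy) x (d.mem_O hG)).symm

theorem other_comm (d : MovedPoint M N A p x) [hp : Fact p.Prime] [hq : Fact q.Prime]
    (hG : Cfsg.IsMinSimpleOddOrder G) (hσ : q ∈ Cfsg.sigma M) (hne : q ≠ p) :
    IsMulCommutative ↥(FittingParts.O q M) :=
  comm_of_not_sigma hG d.pair.maxN (d.not_sigma hG hσ) (FittingParts.isPGroup M)
    ((d.other_le hG hne).trans inf_le_right)

theorem other_rank (d : MovedPoint M N A p x) [hp : Fact p.Prime] [hq : Fact q.Prime]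
    (hG : Cfsg.IsMinSimpleOddOrder G) (hσ : q ∈ Cfsg.sigma M) (hne : q ≠ p) :
    Cfsg.PRankLE q 2 M := by
  by_contra h
  obtain ⟨E, hEM, hE, hEc⟩ := exists_elementary h
  exact not_pRankLE_of hE ((pgroup_le_O hG d.pair.max d.nil hσ (isPGroup_of_pow hE.2) hEM).trans
    ((d.other_le hG hne).trans inf_le_right)) hEc
    (pRankLE_of_not_sigma hG d.pair.maxN (d.not_sigma hG hσ))

/-- No prime of `M_σ` lies in `β(M)`. -/
theorem not_beta_all (d : MovedPoint M N A p x) [hp : Fact p.Prime] [hq : Fact q.Prime]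
    (hG : Cfsg.IsMinSimpleOddOrder G) (hσ : q ∈ Cfsg.sigma M) : q ∉ Cfsg.beta M := by
  by_cases h : q = p
  · subst h; exact d.not_beta
  · exact fun hβ => hβ.1.2 (d.other_rank hG hσ h)

theorem rank_of_comm (d : MovedPoint M N A p x) [hp : Fact p.Prime] (hG : Cfsg.IsMinSimpleOddOrder G)
    (hc : IsMulCommutative ↥(FittingParts.O p M)) : Cfsg.PRankLE p 2 M := by
  by_contra h
  obtain ⟨E, hEM, hE, hEc⟩ := exists_elementary h
  have hEP := pgroup_le_O hG d.pair.max d.nil d.sigma (isPGroup_of_pow hE.2) hEM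
  have hEA : E ≤ A := fun e he => d.maxSq.mem_of_commute (mem_centralizer_iff.mpr fun a ha =>
    ThompsonTransitivity.mul_comm_of hc (d.sq_le hG ha) (hEP he)) (hE.2 e he)
  have h1 := hEc.trans (card_le_of_le hEA)
  rw [d.maxSq.card] at h1
  exact absurd h1 (not_le.mpr (Nat.pow_lt_pow_right hp.out.one_lt (by norm_num)))

/-- The first of the three cases: `M_σ` abelian. -/
theorem abelian_case (d : MovedPoint M N A p x) [hp : Fact p.Prime] (hG : Cfsg.IsMinSimpleOddOrder G)
    (hc : IsMulCommutative ↥(FittingParts.O p M)) :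
    IsMulCommutative ↥(Cfsg.sigmaCore M) ∧ Cfsg.RankLE 2 ↥(Cfsg.sigmaCore M) ∧
      ¬ Cfsg.RankLE 1 ↥(Cfsg.sigmaCore M) := by
  have hAH : A ≤ Cfsg.sigmaCore M := (d.sq_le hG).trans (O_le_sigmaCore hG d.pair.max d.sigma)
  refine ⟨sigmaCore_comm hG d.pair.max d.nil fun r hr hσ => ?_, fun r hr => ?_, fun h => ?_⟩
  · haveI := Fact.mk hr
    by_cases he : r = p
    · subst he; exact hc
    · exact d.other_comm hG hσ he
  · haveI := Fact.mk hr
    by_contra h
    obtain ⟨E, hE', hE, hEc⟩ := exists_elementary h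
    have hd : r ∣ Nat.card ↥(Cfsg.sigmaCore M) :=
      (dvd_card_of_isPGroup (isPGroup_of_pow hE.2) fun h0 => by
        rw [h0, Subgroup.card_bot] at hEc
        exact absurd hEc (not_le.mpr (Nat.one_lt_pow (by norm_num) hr.one_lt))).trans (card_dvd_of_le hE')
    refine not_pRankLE_of hE (hE'.trans (sigmaCore_le M)) hEc ?_
    by_cases he : r = p
    · subst he; exact d.rank_of_comm hG hc
    · exact d.other_rank hG (sigmaCore_isPi r hr hd) he
  · exact not_pRankLE_of d.maxSq.ea hAH d.maxSq.card.ge (h p hp.out)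

end MovedPoint

end Cfsg.Lib.OddLocal.RankTwoMax
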