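import Cfsg.Agent.OddLocal.TauTwoComplement
import Cfsg.Agent.OddLocal.FittingParts

/-!
# Primes of `τ₂` with nonabelian Sylow groups
-/

set_option linter.unusedSectionVars false
set_option linter.unusedVariables false
set_option linter.style.haveILetI false

namespace Cfsg.Lib.OddLocal.RankTwoMax

open Subgroup Uniqueness Sigma
open Cfsg.Lib.Coprime (conjMap)
open scoped commutatorElement

universe u

variable {G : Type u} [Group G] [Finite G] {M L A A₀ E S Z : Subgroup G} {p : ℕ} [hp : Fact p.Prime]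

theorem line_ne_bot {X : Subgroup G} (hX : Nat.card X = p) : X ≠ ⊥ := fun h0 =>
  hp.out.ne_one (by rw [← hX, h0, Subgroup.card_bot])

theorem line_eq_of_mem {X : Subgroup G} (hX : Nat.card X = p) {x : G} (hx : x ∈ X) (hx1 : x ≠ 1) :
    zpowers x = X := by
  refine Cfsg.Lib.Coprime.eq_of_le_of_card_eq (zpowers_le.mpr hx) ?_
  rcases (Nat.dvd_prime hp.out).mp (hX ▸ card_dvd_of_le (zpowers_le.mpr hx)) with h | h
  · rw [Nat.card_zpowers, orderOf_eq_one_iff] at h
    exact absurd h hx1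
  · rw [h, hX]

theorem line_eq_of_inf {X Y : Subgroup G} (hX : Nat.card X = p) (hY : Nat.card Y = p) {x : G} (hxX : x ∈ X)
    (hxY : x ∈ Y) (hx1 : x ≠ 1) : X = Y :=
  (line_eq_of_mem hX hxX hx1).symm.trans (line_eq_of_mem hY hxY hx1)

theorem card_line_sup (hA : MaxSq p A) {X Y : Subgroup G} (hX : X ≤ A) (hXc : Nat.card X = p) (hY : Y ≤ A)
    (hYc : Nat.card Y = p) (hne : X ≠ Y) : X ⊔ Y = A := by
  have hd : X ⊓ Y = ⊥ := by
    by_contra h0
    obtain ⟨x, hx, hxo⟩ := ScnUniqueness.exists_orderOf (hA.isPGroup.to_le (inf_le_left.trans hX)) h0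
    exact hne (line_eq_of_inf hXc hYc hx.1 hx.2 fun h1 => hp.out.ne_one (by rw [← hxo, h1, orderOf_one]))
  refine Cfsg.Lib.Coprime.eq_of_le_of_card_eq (sup_le hX hY) ?_
  rw [Cfsg.Lib.Coprime.card_sup_of_inf_eq_bot (fun y hy => centralizer_le_normalizer _
    (Subgroup.centralizer_le hX (hA.le_centralizer (hY hy)))) hd, hXc, hYc, hA.card, sq]

/-- A line normalized by an element of a `p`-group containing it is centralized. -/
theorem line_commute {P X : Subgroup G} (hP : IsPGroup p P) (hXP : X ≤ P) (hXc : Nat.card X = p) {g : G}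
    (hg : g ∈ P) (hgX : g ∈ normalizer (X : Set G)) : ∀ x ∈ X, x * g = g * x := by
  intro x hx
  set T := P ⊓ normalizer (X : Set G) with hT
  haveI : Group.IsNilpotent T := (hP.to_le inf_le_left).isNilpotent
  have h1 := Cfsg.Lib.Coprime.commutator_lt_of_isNilpotent (le_inf hXP le_normalizer) (line_ne_bot hXc)
    (inf_le_right : T ≤ normalizer (X : Set G))
  have h2 : ⁅X, T⁆ = ⊥ := by
    refine eq_bot_of_card_eq _ ?_
    rcases (Nat.dvd_prime hp.out).mp (hXc ▸ card_dvd_of_le h1.le) with h2 | h2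
    · exact h2
    · exact absurd (Cfsg.Lib.Coprime.eq_of_le_of_card_eq h1.le (h2.trans hXc.symm)) h1.ne
  have h3 : ⁅x, g⁆ ∈ ⁅X, T⁆ := commutator_mem_commutator hx ⟨hg, hgX⟩
  rw [h2, mem_bot] at h3
  exact commutatorElement_eq_one_iff_mul_comm.mp h3

/-- The action of a nonabelian Sylow group on the lines of `A`. -/
theorem Exc.nonabelian_data (hG : Cfsg.IsMinSimpleOddOrder G) (h : Exc p M A A₀) (hS : IsSylowOf p S M)
    (hAS : A ≤ S) (P : Sylow p G) (hSP : S ≤ (P : Subgroup G))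
    (hna : ¬ IsMulCommutative ↥(P : Subgroup G)) :
    ∃ Z : Subgroup G, Z ≤ A ∧ Nat.card Z = p ∧ Cfsg.sigmaCore M ⊓ centralizer (Z : Set G) = ⊥ ∧
      ¬ centralizer (Z : Set G) ≤ M ∧
      (∀ X Y : Subgroup G, X ≤ A → Nat.card X = p → X ≠ Z → Y ≤ A → Nat.card Y = p → Y ≠ Z → X ≠ Y →
        ∃ g : G, g ∉ M ∧ conjMap g X = Y) ∧
      ∃ g ∈ normalizer (S : Set G), g ∈ (P : Subgroup G) ∧ g ∉ M ∧
        ∀ X : Subgroup G, X ≤ A → Nat.card X = p → X ≠ Z → conjMap g X ≠ X := by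
  have hsq := h.maxSq hG
  have hPM : (P : Subgroup G) ⊓ M = S :=
    (hS.2.2 _ (P.2.to_le inf_le_left) inf_le_right (le_inf hSP hS.1))
  have hSC := h.central hG hS hAS
  have hlt : S < (P : Subgroup G) := lt_of_le_of_ne hSP fun e => hna (by
    haveI := h.comm hG hS hAS
    exact e ▸ inferInstance)
  obtain ⟨g, ⟨hgP, hgN⟩, hgS⟩ := SetLike.exists_of_lt (FittingUniqueness.lt_inf_normalizer P.2 hlt)
  have hgM : g ∉ M := fun hm => hgS (hPM.le ⟨hgP, hm⟩)
  have hgA : g ∈ normalizer (A : Set G) := h.normalizer_le_normalizer hG hS hAS hgN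
  have hgAM : A ≤ conjMap g M :=
    hAS.trans ((Cfsg.Lib.Coprime.conjMap_eq_self hgN).ge.trans (Cfsg.Lib.Coprime.conjMap_mono hS.1))
  have hAP : A ≤ (P : Subgroup G) := hAS.trans hSP
  obtain ⟨z, hz, hzo⟩ : ∃ z ∈ (P : Subgroup G) ⊓ centralizer ((P : Subgroup G) : Set G), orderOf z = p := by
    refine ScnUniqueness.exists_orderOf (P.2.to_le inf_le_left) fun h0 => ?_
    haveI : Nontrivial ↥(P : Subgroup G) :=
      (nontrivial_iff_ne_bot _).mpr fun h1 => hsq.ne_bot (le_bot_iff.mp (h1 ▸ hAP))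
    have := P.2.center_nontrivial
    obtain ⟨⟨c, hc⟩, hc1⟩ := exists_ne (1 : center ↥(P : Subgroup G))
    refine hc1 (Subtype.ext (Subtype.ext (mem_bot.mp (h0.le (show (c : G) ∈ (P : Subgroup G) ⊓
      centralizer ((P : Subgroup G) : Set G) from
      ⟨c.2, mem_centralizer_iff.mpr fun b hb => congrArg Subtype.val (mem_center_iff.mp hc ⟨b, hb⟩)⟩)))))
  have hzA : z ∈ A := hsq.mem_of_commute (Subgroup.centralizer_le hAP hz.2) (hzo ▸ pow_orderOf_eq_one z)
  have hz1 : z ≠ 1 := fun h0 => hp.out.ne_one (by rw [← hzo, h0, orderOf_one])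
  set Z := zpowers z with hZ
  have hZc : Nat.card Z = p := by rw [hZ, Nat.card_zpowers, hzo]
  have hPZ : (P : Subgroup G) ≤ centralizer (Z : Set G) := by
    rw [hZ, Cfsg.Lib.Coprime.centralizer_zpowers]
    exact fun y hy => mem_centralizer_singleton_iff.mpr (mem_centralizer_iff.mp hz.2 y hy)
  have hgZ : conjMap g Z = Z :=
    Cfsg.Lib.Coprime.conjMap_eq_self (centralizer_le_normalizer _ (hPZ hgP))
  have hmove : ∀ X : Subgroup G, X ≤ A → Nat.card X = p → X ≠ Z → conjMap g X ≠ X := by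
    intro X hXA hXc hXZ hfix
    have hc := line_commute P.2 (hXA.trans hAP) hXc hgP (Cfsg.Lib.Coprime.conjMap_eq_self_iff.mp hfix)
    refine hgM (h.centralizer_le ?_)
    rw [← card_line_sup hsq hXA hXc (zpowers_le.mpr hzA) hZc hXZ]
    refine mem_centralizer_iff.mpr fun a ha => ?_
    have hle : X ⊔ Z ≤ centralizer ({g} : Set G) := sup_le
      (fun x hx => mem_centralizer_singleton_iff.mpr (hc x hx))
      (fun x hx => mem_centralizer_singleton_iff.mpr (mem_centralizer_iff.mp (hPZ hgP) x hx))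
    exact mem_centralizer_singleton_iff.mp (hle ha)
  refine ⟨Z, zpowers_le.mpr hzA, hZc, ?_, fun hle => ?_, ?_, g, hgN, hgP, hgM, hmove⟩
  · rw [hZ, Cfsg.Lib.Coprime.centralizer_zpowers]
    exact h.fixed_line hG hgM hgAM hzA hz1 hgZ
  · exact hgM (hle (hPZ hgP))
  intro X Y hXA hXc hXZ hYA hYc hYZ hXY
  set T := (P : Subgroup G) ⊓ normalizer (A : Set G) with hT
  haveI : Group.IsNilpotent T := (P.2.to_le inf_le_left).isNilpotent
  set N := ⁅A, T⁆ with hN
  have hNA : N < A := Cfsg.Lib.Coprime.commutator_lt_of_isNilpotent (le_inf hAP Subgroup.le_normalizer) hsq.ne_bot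
    inf_le_right
  have hNn : T ≤ normalizer (N : Set G) := Cfsg.Lib.Coprime.le_normalizer_commutator_right T A
  obtain ⟨a, ha, hao⟩ := ScnUniqueness.exists_orderOf (hsq.isPGroup.to_le hXA) (line_ne_bot hXc)
  have ha1 : a ≠ 1 := fun h0 => hp.out.ne_one (by rw [← hao, h0, orderOf_one])
  have haA := hXA ha
  set c := g * a * g⁻¹ * a⁻¹ with hc
  have hcN : c ∈ N := by
    have h1 : ⁅a, g⁆⁻¹ ∈ N := inv_mem (commutator_mem_commutator haA ⟨hgP, hgA⟩)
    rwa [commutatorElement_inv, commutatorElement_def] at h1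
  have hc1 : c ≠ 1 := fun h0 => by
    refine hmove X hXA hXc hXZ ?_
    rw [← line_eq_of_mem hXc ha ha1]
    refine (MonoidHom.map_zpowers _ _).trans ?_
    show zpowers (g * a * g⁻¹) = zpowers a
    rw [mul_inv_eq_one.mp h0]
  have hNc : Nat.card N = p := by
    obtain ⟨i, hi, hic⟩ := (Nat.dvd_prime_pow hp.out).mp (h.card ▸ card_dvd_of_le hNA.le)
    rcases (show i = 0 ∨ i = 1 ∨ i = 2 by omega) with rfl | rfl | rfl
    · refine absurd ?_ hc1
      have h0 := eq_bot_of_card_eq _ (by rw [hic, pow_zero] : Nat.card N = 1)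
      exact mem_bot.mp (h0.le hcN)
    · rw [hic, pow_one]
    · exact absurd (Cfsg.Lib.Coprime.eq_of_le_of_card_eq hNA.le (hic.trans h.card.symm)) hNA.ne
  have hNZ : N = Z := by
    by_contra hne
    exact hmove N hNA.le hNc hne (Cfsg.Lib.Coprime.conjMap_eq_self (hNn ⟨hgP, hgA⟩))
  have hcg : Commute c g := mem_centralizer_iff.mp (hPZ hgP) c (hNZ.le hcN)
  have hca : Commute c a := hsq.comm_of_mem (hNA.le hcN) haA
  have hpow : ∀ i : ℕ, g ^ i * a * (g ^ i)⁻¹ = c ^ i * a := by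
    intro i
    induction i with
    | zero => simp
    | succ i ih =>
      calc g ^ (i + 1) * a * (g ^ (i + 1))⁻¹ = g * (g ^ i * a * (g ^ i)⁻¹) * g⁻¹ := by
            rw [pow_succ']; group
        _ = g * (c ^ i * a) * g⁻¹ := by rw [ih]
        _ = c ^ i * (g * a * g⁻¹) := by
            rw [← mul_assoc, ← (hcg.pow_left i).eq, mul_assoc, mul_assoc, mul_assoc]
        _ = c ^ i * (c * a) := by simp [c, mul_assoc]
        _ = _ := by rw [← mul_assoc, ← pow_succ]
  obtain ⟨b, hb, hbo⟩ := ScnUniqueness.exists_orderOf (hsq.isPGroup.to_le hYA) (line_ne_bot hYc)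
  have hb1 : b ≠ 1 := fun h0 => hp.out.ne_one (by rw [← hbo, h0, orderOf_one])
  obtain ⟨z', hz', x', hx', hbe⟩ := (Cfsg.Lib.Coprime.mem_sup_of_le_normalizer
    (fun y hy => centralizer_le_normalizer _ (Subgroup.centralizer_le (zpowers_le.mpr hzA)
      (hsq.le_centralizer (hXA hy))))).mp
    ((card_line_sup hsq (zpowers_le.mpr hzA) hZc hXA hXc hXZ.symm).ge (hYA hb))
  obtain ⟨k, rfl⟩ := (mem_powers_iff_mem_zpowers).mpr ((line_eq_of_mem hXc ha ha1).ge hx')
  have hak : a ^ k ≠ 1 := fun h0 => hYZ (by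
    have h2 : z' * a ^ k = b := hbe
    rw [h0, mul_one] at h2
    exact line_eq_of_inf hYc hZc hb (h2 ▸ hz') hb1)
  have hck : c ^ k ≠ 1 := fun h0 => hak (by
    have hd : p ∣ k := (orderOf_eq_prime (h.ea.2 c (hNA.le hcN)) hc1) ▸ orderOf_dvd_of_pow_eq_one h0
    obtain ⟨l, rfl⟩ := hd
    rw [pow_mul, h.ea.2 a haA, one_pow])
  obtain ⟨i, rfl⟩ := (mem_powers_iff_mem_zpowers).mpr
    ((line_eq_of_mem hZc (hNZ.le (pow_mem hcN k)) hck).ge hz')
  have hbi : b = (g ^ i * a * (g ^ i)⁻¹) ^ k := by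
    rw [← hbe, hpow, (hca.pow_left i).mul_pow]
    simp only [← pow_mul, mul_comm k i]
  have hYeq : conjMap (g ^ i) X = Y := by
    refine line_eq_of_inf (by rw [Cfsg.Lib.Coprime.card_conjMap, hXc]) hYc (x := b) ?_ hb hb1
    rw [hbi, conj_pow]
    exact ⟨a ^ k, pow_mem ha k, rfl⟩
  refine ⟨g ^ i, fun hm => hXY ?_, hYeq⟩
  have h1 : g ^ i ∈ centralizer (A : Set G) := hSC (hPM.le ⟨pow_mem hgP i, hm⟩)
  rw [← hYeq, Cfsg.Lib.Coprime.conjMap_eq_self
    (centralizer_le_normalizer _ (Subgroup.centralizer_le hXA h1))]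

/-- In a nonabelian Sylow group the `p`-th powers of the centralizer of `A` lie in a cyclic group. -/
theorem MaxSq.pow_cyclic (hG : Cfsg.IsMinSimpleOddOrder G) (h : MaxSq p A) (P : Sylow p G)
    (hAP : A ≤ (P : Subgroup G)) (hna : ¬ IsMulCommutative ↥(P : Subgroup G)) :
    ∃ D : Subgroup G, IsCyclic D ∧
      ∀ x ∈ (P : Subgroup G) ⊓ centralizer (A : Set G), x ^ p ∈ D := by
  have hp2 : p ≠ 2 := ne_two hG h.isPGroup h.ne_bot
  by_cases hr : Cfsg.PRankLE p 2 (P : Subgroup G)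
  · rcases Cfsg.Agent.S1412.result hG p P hr with hab | ⟨P₁, P₂, hsup, hcomm, -, -, hexp, hcyc, -⟩
    · exact absurd hab hna
    have hn : P₂ ≤ normalizer (P₁ : Set G) := fun b hb =>
      centralizer_le_normalizer _ (mem_centralizer_iff.mpr fun a ha => hcomm a ha b hb)
    refine ⟨P₂, hcyc, fun x hx => ?_⟩
    obtain ⟨u, hu, v, hv, rfl⟩ := (Cfsg.Lib.Coprime.mem_sup_of_le_normalizer hn).mp (hsup.ge hx.1)
    have h1 : u ^ p = 1 := by
      have h2 := Monoid.pow_exponent_eq_one (⟨u, hu⟩ : P₁)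
      rw [hexp] at h2
      exact congrArg Subtype.val h2
    rw [(show Commute u v from hcomm u hu v hv).mul_pow, h1, one_mul]
    exact pow_mem hv p
  set E := A.subgroupOf (P : Subgroup G) with hE
  have hEe : Cfsg.IsElementaryAbelian p E :=
    ⟨⟨⟨fun a b => Subtype.ext (Subtype.ext (h.comm_of_mem a.2 b.2))⟩⟩, fun a ha =>
      Subtype.ext (by simpa using h.ea.2 a ha)⟩
  have hEc : Nat.card E = p ^ 2 := by rw [Nat.card_congr (subgroupOfEquivOfLe hAP).toEquiv, h.card]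
  have hEmax : ∀ B : Subgroup ↥(P : Subgroup G), Cfsg.IsElementaryAbelian p B → E ≤ B → B = E := by
    intro B hB hEB
    have h1 : B.map (P : Subgroup G).subtype = A := h.max _ (Cfsg.Lib.OddP.isElementaryAbelian_map hB _)
      fun a ha => ⟨⟨a, hAP ha⟩, hEB ha, rfl⟩
    rw [hE, ← h1, subgroupOf, comap_map_eq_self_of_injective (P : Subgroup G).subtype_injective]
  obtain ⟨hnot, -, -, hTc, hTi⟩ := Cfsg.Lib.OddP.maximal_sq_structure hp2 P.2 hr E hEe hEc hEmax
  set T := centralizer ((closure {x : ↥(P : Subgroup G) | x ∈ Subgroup.upperCentralSeries _ 2 ∧ x ^ p = 1} :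
    Subgroup ↥(P : Subgroup G)) : Set ↥(P : Subgroup G)) with hT
  haveI := hTc
  set D := T ⊓ centralizer (E : Set ↥(P : Subgroup G)) with hD
  have hEmem : ∀ x ∈ centralizer (E : Set ↥(P : Subgroup G)), x ^ p = 1 → x ∈ E := fun x hx hxp => by
    refine mem_subgroupOf.mpr (h.mem_of_commute (mem_centralizer_iff.mpr fun a ha => ?_) (by
      simpa using congrArg Subtype.val hxp))
    exact congrArg Subtype.val (mem_centralizer_iff.mp hx ⟨a, hAP ha⟩ ha)
  haveI hDc : IsCyclic D := by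
    by_contra hnc
    obtain ⟨F, hFD, -, hF, hFc⟩ := exists_normal_sq hp2 (P.2.to_subgroup D) hnc
    have hFE : F ≤ E := fun x hx => hEmem x (hFD hx).2 (hF.2 x hx)
    have h1 : F = E := Cfsg.Lib.Coprime.eq_of_le_of_card_eq hFE (hFc.trans hEc.symm)
    exact hnot (h1 ▸ hFD.trans inf_le_left)
  haveI : T.Normal := inferInstance
  refine ⟨D.map (P : Subgroup G).subtype, isCyclic_of_surjective
    ((P : Subgroup G).subtype.subgroupMap D) ((P : Subgroup G).subtype.subgroupMap_surjective D), ?_⟩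
  intro x hx
  have hxC : (⟨x, hx.1⟩ : ↥(P : Subgroup G)) ∈ centralizer (E : Set ↥(P : Subgroup G)) :=
    mem_centralizer_iff.mpr fun e he => Subtype.ext (mem_centralizer_iff.mp hx.2 _ he)
  refine ⟨⟨x, hx.1⟩ ^ p, ⟨?_, pow_mem hxC p⟩, rfl⟩
  have h1 := pow_index_mem T (⟨x, hx.1⟩ : ↥(P : Subgroup G))
  rwa [hTi] at h1

/-- Fusion of a Sylow group of a second prime of `σ`. -/
theorem exists_centralized_sylow (hG : Cfsg.IsMinSimpleOddOrder G) (hL : IsCoatom L) {q : ℕ}
    [hq : Fact q.Prime] (hqp : q ≠ p) (hpσ : p ∈ Cfsg.sigma L) (hqσ : q ∈ Cfsg.sigma L)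
    (hpβ : p ∉ Cfsg.beta L) (hqβ : q ∉ Cfsg.beta L) {P : Subgroup G} (hP : IsPGroup p P) (hPL : P ≤ L) :
    ∃ Q : Subgroup G, IsSylowOf q Q L ∧ P ≤ centralizer (Q : Set G) := by
  set D := ⁅L, L⁆ with hD
  have hDL : D ≤ L := commutator_le_self L
  set K := Cfsg.piCoreOf (Cfsg.primesNotDvd p) D with hK
  have hKD : K ≤ D := PiCoreOf.le _ _
  have hpL : p ∣ Nat.card L := hpσ.2.1
  obtain ⟨R, N, hN, hNR⟩ := (beta_theorem hG hL hp.out hpL hpβ).1
  haveI := hN
  have hPD : P ≤ D := sylow_le_derived' hG hL hpσ hP hPL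
  have hqK : ∀ Y : Subgroup G, IsPGroup q Y → Y ≤ L → Y ≤ K := by
    intro Y hY hYL
    have hYD : Y ≤ D := sylow_le_derived' hG hL hqσ hY hYL
    obtain ⟨i, hi⟩ := IsPGroup.iff_card.mp R.2
    obtain ⟨j, hj⟩ := IsPGroup.iff_card.mp hY
    have hidx : N.index = p ^ i := by rw [hNR.symm.index_eq_card, ← hi]
    have h1 : Y.subgroupOf D ≤ N := le_of_coprime_index (by
      rw [Nat.card_congr (subgroupOfEquivOfLe hYD).toEquiv, hj, hidx]
      exact (((Nat.coprime_primes hq.out hp.out).mpr hqp).pow_left j).pow_right i)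
    have h2 : N.map D.subtype ≤ K := by
      refine PiCoreOf.le_piCoreOf (map_subtype_le _) (fun x hx => ?_) (PiCoreOf.isPiNat_of_coprime ?_)
      · refine Cfsg.Lib.Coprime.conjMap_eq_self_iff.mp
          (Cfsg.Lib.Coprime.eq_of_le_of_card_eq ?_ (Cfsg.Lib.Coprime.card_conjMap _ _))
        rintro _ ⟨_, ⟨y, hy, rfl⟩, rfl⟩
        exact ⟨⟨x, hx⟩ * y * ⟨x, hx⟩⁻¹, hN.conj_mem y hy _, rfl⟩
      rw [card_map_of_injective D.subtype_injective]
      refine hp.out.coprime_iff_not_dvd.mpr fun hd => R.not_dvd_index ?_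
      rwa [hNR.index_eq_card]
    exact fun y hy => h2 ⟨⟨y, hYD hy⟩, h1 hy, rfl⟩
  obtain ⟨k, hk⟩ := IsPGroup.iff_card.mp hP
  obtain ⟨T, hT⟩ := Cfsg.Lib.Coprime.exists_invariant_sylow (hPD.trans (PiCoreOf.le_normalizer' _ D))
    (show (Nat.card P).Coprime (Nat.card K) from hk ▸ (PiCoreOf.coprime_card p D).pow_left k)
    (Or.inl (hG.2.2.2 P (FittingUniqueness.ne_top_of_le_coatom hL hPL))) q
  have hTL : (T : Subgroup K).map K.subtype ≤ L := (map_subtype_le _).trans (hKD.trans hDL)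
  refine ⟨_, ⟨hTL, T.2.map _, fun W hW hWL hle => ?_⟩, centralizes_of_derived hG hL hqβ
    ((map_subtype_le _).trans hKD) hPD (T.2.map _) (coprime_of_ne hqp.symm hP) hT⟩
  have h1 : W.subgroupOf K = T :=
    T.3 hW.comap_subtype fun x hx => mem_subgroupOf.mpr (hle (mem_map_of_mem _ hx))
  rw [← h1, map_subgroupOf_eq_of_le (hqK W hW hWL)]

/-- Theorem 12.7, the part on the lines of `A`. -/
theorem Exc.nonabelian_lines (hG : Cfsg.IsMinSimpleOddOrder G) (h : Exc p M A A₀) (hS : IsSylowOf p S M)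
    (hAS : A ≤ S) (P : Sylow p G) (hSP : S ≤ (P : Subgroup G))
    (hna : ¬ IsMulCommutative ↥(P : Subgroup G)) :
    Nat.card ↥(A ⊓ centralizer (Cfsg.sigmaCore M : Set G)) = p ∧
      (∀ X : Subgroup G, X ≤ A → Nat.card X = p → X ≠ A ⊓ centralizer (Cfsg.sigmaCore M : Set G) →
        Cfsg.sigmaCore M ⊓ centralizer (X : Set G) = ⊥ ∧ ¬ centralizer (X : Set G) ≤ M) ∧
      ∃ g ∈ normalizer (S : Set G), g ∈ (P : Subgroup G) ∧
        conjMap g (A ⊓ centralizer (Cfsg.sigmaCore M : Set G)) ≠ A ⊓ centralizer (Cfsg.sigmaCore M : Set G) := by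
  have hsq := h.maxSq hG
  obtain ⟨Z, hZA, hZc, hZfix, hZC, hconj, g, hgN, hgP, hgM, hmove⟩ :=
    h.nonabelian_data hG hS hAS P hSP hna
  have hu : ∀ X : Subgroup G, X ≤ A → Nat.card X = p → Cfsg.sigmaCore M ⊓ centralizer (X : Set G) ≠ ⊥ →
      ∀ L : Subgroup G, IsCoatom L → centralizer (X : Set G) ≤ L → L = M := by
    intro X hXA hXc hfix L hL hle
    by_contra hne
    haveI : IsMulCommutative A := h.ea.1
    have hAC : A ≤ centralizer (X : Set G) := fun a ha => mem_centralizer_iff.mpr fun x hx =>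
      ThompsonTransitivity.mul_comm_of inferInstance (hXA hx) ha
    exact hfix (le_bot_iff.mp ((inf_le_inf_left _ hle).trans (h.inf_other hG hL hne (hAC.trans hle)).le))
  have huM : ∀ X : Subgroup G, X ≤ A → Nat.card X = p → Cfsg.sigmaCore M ⊓ centralizer (X : Set G) ≠ ⊥ →
      centralizer (X : Set G) ≤ M := by
    intro X hXA hXc hfix
    obtain ⟨L, hL, hle⟩ := exists_coatom_ge (MinSimpleTransitivity.normalizer_ne_top hG (line_ne_bot hXc)
      (FittingUniqueness.ne_top_of_le_coatom h.coatom (hXA.trans h.le)))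
    exact hu X hXA hXc hfix L hL ((centralizer_le_normalizer _).trans hle) ▸
      (centralizer_le_normalizer _).trans hle
  -- conjugates outside `M` of a line with fixed points
  have houts : ∀ (X : Subgroup G) (t : G), X ≤ A → Nat.card X = p →
      Cfsg.sigmaCore M ⊓ centralizer (X : Set G) ≠ ⊥ → t ∉ M →
      ¬ centralizer (conjMap t X : Set G) ≤ M := by
    intro X t hXA hXc hfix ht hle
    have h1 : centralizer (X : Set G) ≤ conjMap t⁻¹ M := by
      intro y hy
      rw [Cfsg.Lib.Coprime.mem_conjMap, inv_inv]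
      exact hle (mem_centralizer_conjMap.mpr (Cfsg.Lib.Coprime.mem_conjMap.mpr (by simpa [mul_assoc] using hy)))
    exact ht (inv_inv t ▸ inv_mem
      (eq_of_conj_fix hG h.coatom (hu X hXA hXc hfix _ (conjMap_coatom h.coatom _) h1)))
  haveI hsolS : Group.IsSolvable ↥(Cfsg.sigmaCore M) :=
    hG.2.2.2 _ (FittingUniqueness.ne_top_of_le_coatom h.coatom (sigmaCore_le M))
  haveI : IsMulCommutative A := h.ea.1
  obtain ⟨e, he, he1, hefix⟩ := Transitivity.exists_fixed_outside (D := (⊥ : Subgroup G)) hsq.not_isCyclic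
    (h.le.trans (le_normalizer_sigmaCore M)) h.coprime_sigmaCore
    (fun hle => sigmaCore_ne_bot hG h.coatom (le_bot_iff.mp hle))
  set L₀ := zpowers e with hL₀
  have hL₀A : L₀ ≤ A := zpowers_le.mpr he
  have hL₀c : Nat.card L₀ = p := by
    rw [hL₀, Nat.card_zpowers]; exact orderOf_eq_prime (h.ea.2 e he) he1
  have hL₀fix : Cfsg.sigmaCore M ⊓ centralizer (L₀ : Set G) ≠ ⊥ := fun h0 => hefix (by
    rw [hL₀, Cfsg.Lib.Coprime.centralizer_zpowers] at h0; exact h0.le)
  have hL₀Z : L₀ ≠ Z := fun h0 => hL₀fix (h0 ▸ hZfix)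
  have hother : ∀ X : Subgroup G, X ≤ A → Nat.card X = p → X ≠ L₀ →
      Cfsg.sigmaCore M ⊓ centralizer (X : Set G) = ⊥ ∧ ¬ centralizer (X : Set G) ≤ M := by
    intro X hXA hXc hne
    by_cases hXZ : X = Z
    · rw [hXZ]; exact ⟨hZfix, hZC⟩
    obtain ⟨t, ht, rfl⟩ := hconj L₀ X hL₀A hL₀c hL₀Z hXA hXc hXZ hne.symm
    have h2 := houts L₀ t hL₀A hL₀c hL₀fix ht
    refine ⟨by_contra fun h3 => h2 (huM _ hXA hXc h3), h2⟩
  have hA₀eq : A ⊓ centralizer (Cfsg.sigmaCore M : Set G) = L₀ := by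
    have hge : L₀ ≤ A ⊓ centralizer (Cfsg.sigmaCore M : Set G) := by
      refine le_inf hL₀A (le_centralizer_iff.mp ?_)
      haveI : IsMulCommutative A := h.ea.1
      rw [← Cfsg.Lib.Coprime.centralizerJoin_eq hsq.not_isCyclic
        (h.le.trans (le_normalizer_sigmaCore M)) h.coprime_sigmaCore]
      refine iSup₂_le fun x hx => ?_
      by_cases hxe : zpowers x = L₀
      · rw [← hxe, Cfsg.Lib.Coprime.centralizer_zpowers]
        exact inf_le_right
      have h1 := (hother (zpowers x) (zpowers_le.mpr hx.1) (by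
        rw [Nat.card_zpowers]; exact orderOf_eq_prime (h.ea.2 x hx.1) hx.2) hxe).1
      rw [Cfsg.Lib.Coprime.centralizer_zpowers] at h1
      exact h1.le.trans bot_le
    refine (Cfsg.Lib.Coprime.eq_of_le_of_card_eq hge ?_).symm
    obtain ⟨i, hi, hic⟩ := (Nat.dvd_prime_pow hp.out).mp
      (h.card ▸ card_dvd_of_le (inf_le_left : A ⊓ centralizer (Cfsg.sigmaCore M : Set G) ≤ A))
    have h1 := Nat.le_of_dvd Nat.card_pos (card_dvd_of_le hge)
    rcases (show i = 0 ∨ i = 1 ∨ i = 2 by omega) with rfl | rfl | rfl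
    · rw [hic, hL₀c, pow_zero] at h1
      exact absurd h1 (by have := hp.out.two_le; omega)
    · rw [hic, hL₀c, pow_one]
    · have h2 : A ≤ centralizer (Cfsg.sigmaCore M : Set G) := inf_eq_left.mp
        (Cfsg.Lib.Coprime.eq_of_le_of_card_eq inf_le_left (hic.trans h.card.symm))
      exact absurd (le_bot_iff.mp ((le_inf le_rfl (le_centralizer_iff.mp h2)).trans
        (h.inf_centralizer_eq_bot hG).le)) (sigmaCore_ne_bot hG h.coatom)
  rw [hA₀eq]
  exact ⟨hL₀c, hother, g, hgN, hgP, hmove L₀ hL₀A hL₀c hL₀Z⟩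

/-- Theorem 12.7. -/
theorem tau_two_nonabelian (hG : Cfsg.IsMinSimpleOddOrder G) (hM : IsCoatom M) (hE : Cfsg.IsComplIn E (Cfsg.sigmaCore M) M)
    (hτ : p ∈ Cfsg.tau2 M) (hna : ∀ T : Sylow p G, ¬ IsMulCommutative (T : Subgroup G))
    (hAE : A ≤ E) (hA : Cfsg.IsElementaryAbelian p A) (hAc : Nat.card A = p ^ 2) :
    Cfsg.tau2 M = {p} ∧
      (Nat.card ↥(A ⊓ centralizer (Cfsg.sigmaCore M : Set G)) = p ∧
        Cfsg.fittingOf M = Cfsg.sigmaCore M ⊔ (A ⊓ centralizer (Cfsg.sigmaCore M : Set G))) ∧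
      ∀ X : Subgroup G, X ≤ E → Nat.card X = p → X ≠ A ⊓ centralizer (Cfsg.sigmaCore M : Set G) →
        Cfsg.sigmaCore M ⊓ centralizer (X : Set G) = ⊥ ∧ ¬ centralizer (X : Set G) ≤ M := by
  obtain ⟨A₀, h⟩ := exists_exc hG hM hτ.2.1 (hAE.trans hE.1) hA hAc
  have hsq := h.maxSq hG
  obtain ⟨S, hS, hAS⟩ := exists_sylowOf hsq.isPGroup h.le
  obtain ⟨P, hSP⟩ := hS.2.1.exists_le_sylow
  obtain ⟨hA0c, hlines, g, hgN, hgP, hgmove⟩ := h.nonabelian_lines hG hS hAS P hSP (hna P)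
  have hAn := h.le_normalizer hG hE hAE
  -- a second prime of `τ₂`
  have htau : ∀ q : ℕ, q ∈ Cfsg.tau2 M → q = p := by
    intro q hq
    by_contra hqp
    haveI := Fact.mk hq.1
    obtain ⟨B₁, hB₁M, hB₁, hB₁c⟩ := exists_elementary (p := q) (k := 1) (X := M) hq.2.2.2
    have hB₁c' : Nat.card B₁ = q ^ 2 := by
      refine le_antisymm ?_ hB₁c
      have h2 := Cfsg.Lib.OddP.pRankLE_of_injective (inclusion hB₁M) (inclusion_injective _) hq.2.2.1 ⊤
        ⟨⟨fun a b => Subtype.ext (Subtype.ext (ThompsonTransitivity.mul_comm_of hB₁.1 a.1.2 b.1.2))⟩⟩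
        (fun a _ => Subtype.ext (hB₁.2 a a.2))
      rwa [card_top] at h2
    obtain ⟨S₁, hS₁, hBS₁⟩ := exists_sylowOf (isPGroup_of_pow hB₁.2 : IsPGroup q B₁) hB₁M
    obtain ⟨T⟩ : Nonempty (Sylow q E) := inferInstance
    have hT : IsSylowOf q ((T : Subgroup E).map E.subtype) M := by
      refine ⟨(map_subtype_le _).trans hE.1, T.2.map _, fun W hW hWM hle => ?_⟩
      refine (eq_of_le_of_card_ge hle ?_).symm
      obtain ⟨j, hj⟩ := IsPGroup.iff_card.mp hW
      rw [card_map_of_injective E.subtype_injective, hj]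
      refine Nat.le_of_dvd Nat.card_pos (T.pow_dvd_card_of_pow_dvd_card ?_)
      have h1 := hj ▸ card_dvd_of_le hWM
      rw [card_eq_mul hE] at h1
      refine Nat.Coprime.dvd_of_dvd_mul_left (Nat.Coprime.pow_left j ?_) h1
      exact hq.1.coprime_iff_not_dvd.mpr fun hd => hq.2.1 (sigmaCore_isPi q hq.1 hd)
    obtain ⟨m, -, hmS⟩ := card_eq_of_sylowOf hS₁ hT
    set B := conjMap m B₁ with hBdef
    have hBE : B ≤ E :=
      ((Cfsg.Lib.Coprime.conjMap_mono hBS₁).trans hmS.le).trans (map_subtype_le _)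
    have hB : Cfsg.IsElementaryAbelian q B := Cfsg.Lib.OddP.isElementaryAbelian_map hB₁ _
    have hBc : Nat.card B = q ^ 2 := by rw [hBdef, Cfsg.Lib.Coprime.card_conjMap, hB₁c']
    obtain ⟨B₀, hb⟩ := exists_exc hG hM hq.2.1 (hBE.trans hE.1) hB hBc
    have hBA : A ≤ centralizer (B : Set G) := FittingParts.le_centralizer_of_disjoint
      (hAE.trans (hb.le_normalizer hG hE hBE)) (hBE.trans hAn)
      (FittingParts.coprime (Ne.symm hqp) hsq.isPGroup (hb.maxSq hG).isPGroup)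
    obtain ⟨N, hN, hNA⟩ := exists_coatom_ge (MinSimpleTransitivity.normalizer_ne_top hG hsq.ne_bot
      (FittingUniqueness.ne_top_of_le_coatom hM h.le))
    have hAN : A ≤ N := le_normalizer.trans hNA
    have hBN : B ≤ N := (le_centralizer_iff.mp hBA).trans ((centralizer_le_normalizer _).trans hNA)
    have hpN : p ∈ Cfsg.sigma N := by
      by_contra hpN
      obtain ⟨A₁, hx⟩ := exists_exc hG hN hpN hAN hA hAc
      have hPA : (P : Subgroup G) ⊓ normalizer (A : Set G) ≤ S := by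
        obtain ⟨S₂, hS₂, hle⟩ := exists_sylowOf (P.2.to_le inf_le_left) (inf_le_right.trans hNA :
          (P : Subgroup G) ⊓ normalizer (A : Set G) ≤ N)
        haveI := hx.comm hG hS₂ (le_trans (le_inf (hAS.trans hSP) le_normalizer) hle)
        have hC : (P : Subgroup G) ⊓ normalizer (A : Set G) ≤ M := fun x hx' => h.centralizer_le
          (mem_centralizer_iff.mpr fun a ha => ThompsonTransitivity.mul_comm_of inferInstance
            (hle ⟨hSP (hAS ha), le_normalizer ha⟩) (hle hx'))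
        exact (hS.2.2 _ (P.2.to_le inf_le_left) hC
          (le_inf hSP ((h.central hG hS hAS).trans (centralizer_le_normalizer _)))).le
      refine hgmove (Cfsg.Lib.Coprime.conjMap_eq_self (centralizer_le_normalizer _
        (Subgroup.centralizer_le inf_le_left (h.central hG hS hAS ?_))))
      exact hPA ⟨hgP, h.normalizer_le_normalizer hG hS hAS hgN⟩
    have hqN : q ∈ Cfsg.sigma N := by
      by_contra hqN
      obtain ⟨B₂, hy⟩ := exists_exc hG hN hqN hBN hB hBc
      exact hsq.ne_bot (le_bot_iff.mp ((le_inf (le_sigmaCore_of_pgroup hG hN hpN hsq.isPGroup hAN) hBA).trans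
        (hy.inf_centralizer_eq_bot hG).le))
    obtain ⟨P', hP'N, -⟩ := exists_sylow_le hpN
    obtain ⟨Q, hQ, hPQ⟩ := exists_centralized_sylow hG hN hqp hpN hqN (hsq.not_beta N)
      ((hb.maxSq hG).not_beta N) P'.2 hP'N
    obtain ⟨Q', hQ', hBQ'⟩ := exists_sylowOf (hb.maxSq hG).isPGroup hBN
    obtain ⟨n, -, hnQ⟩ := card_eq_of_sylowOf hQ' hQ
    have hle : conjMap n⁻¹ (P' : Subgroup G) ≤ M := by
      refine le_trans ?_ hb.centralizer_le
      have h1 : (P' : Subgroup G) ≤ centralizer (conjMap n B : Set G) :=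
        hPQ.trans (Subgroup.centralizer_le ((Cfsg.Lib.Coprime.conjMap_mono hBQ').trans hnQ.le))
      rintro _ ⟨y, hy, rfl⟩
      have h2 := Cfsg.Lib.Coprime.mem_conjMap.mp (mem_centralizer_conjMap.mp (h1 hy))
      simpa using h2
    obtain ⟨S₃, hS₃, hle₃⟩ := exists_sylowOf (p := p) (P'.2.map _) hle
    obtain ⟨k, -, hk⟩ := card_eq_of_sylowOf hS hS₃
    haveI := h.comm hG hS hAS
    refine hna P' ⟨⟨fun a b => Subtype.ext ?_⟩⟩
    have h3 : ∀ y ∈ (P' : Subgroup G), ∃ s ∈ S, k * s * k⁻¹ = n⁻¹ * y * n⁻¹⁻¹ := fun y hy => by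
      obtain ⟨s, hs, hs'⟩ := hk.ge (hle₃ ⟨y, hy, rfl⟩)
      exact ⟨s, hs, hs'⟩
    obtain ⟨s, hs, hse⟩ := h3 a a.2
    obtain ⟨t, ht, hte⟩ := h3 b b.2
    have h4 : n⁻¹ * ((a : G) * b) * n⁻¹⁻¹ = n⁻¹ * ((b : G) * a) * n⁻¹⁻¹ := by
      rw [← conj_mul, ← conj_mul, ← hse, ← hte, conj_mul, conj_mul,
        ThompsonTransitivity.mul_comm_of inferInstance hs ht]
    simpa using h4
  refine ⟨Set.ext fun q => ⟨fun hq => htau q hq, fun hq => (Set.mem_singleton_iff.mp hq) ▸ hτ⟩,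
    ⟨hA0c, ?_⟩, fun X hX hXc hne => hlines X (h.order_p_le hG hE hAE hX hXc) hXc hne⟩
  -- the Fitting subgroup
  set L₀ := A ⊓ centralizer (Cfsg.sigmaCore M : Set G) with hL₀
  have hEM : M ≤ normalizer (L₀ : Set G) := by
    intro x hx
    obtain ⟨y, hy, s, hs, rfl⟩ := hE.2.2.2 x hx
    refine mul_mem ?_ (centralizer_le_normalizer _ (mem_centralizer_iff.mpr fun a ha =>
      (mem_centralizer_iff.mp ha.2 s hs).symm))
    exact Cfsg.Lib.Coprime.le_normalizer_inf hAn
      ((hE.1.trans (le_normalizer_sigmaCore M)).trans (FittingParts.normalizer_centralizer_le _)) hy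
  refine le_antisymm ?_ (sup_le ?_ ?_)
  · rw [FittingParts.fittingOf_eq]
    refine iSup_le fun r => ?_
    haveI := Fact.mk r.2
    set T := FittingParts.O r.1 M with hT
    have hTp : IsPGroup r.1 T := FittingParts.isPGroup M
    have hTM : T ≤ M := PiCoreOf.le _ M
    have hTn : M ≤ normalizer (T : Set G) := PiCoreOf.le_normalizer' _ M
    by_cases hrσ : r.1 ∈ Cfsg.sigma M
    · exact (le_sigmaCore_of_pgroup hG hM hrσ hTp hTM).trans le_sup_left
    by_cases hT1 : T = ⊥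
    · rw [hT1]; exact bot_le
    obtain ⟨X, hXM, hXc, hXn⟩ := exists_normal_line hG hM hrσ hTp hT1 hTM hTn
    have hrp : r.1 = p := htau r.1 ⟨r.2, hrσ, pRankLE_of_not_sigma hG hM hrσ,
      (exists_sq_ge hG hM hrσ hXc (normalizer_eq hG hM (line_ne_bot hXc) hXM hXn).le).1⟩
    have hTp' : IsPGroup p T := hrp ▸ hTp
    refine le_sup_of_le_right ?_
    have hTS : T ≤ S := le_of_normal_pgroup hS hTp' hTM hTn
    have hTC : T ≤ centralizer (Cfsg.sigmaCore M : Set G) := FittingParts.le_centralizer_of_disjoint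
      (hTM.trans (le_normalizer_sigmaCore M)) ((sigmaCore_le M).trans hTn) (by
        obtain ⟨j, hj⟩ := IsPGroup.iff_card.mp hTp'
        rw [hj]
        exact ((h.coprime_sigmaCore.coprime_dvd_left (hsq.dvd le_rfl))).pow_left j)
    have hT0 : ∀ x ∈ T, x ^ p = 1 → x ∈ L₀ := fun x hx hxp =>
      ⟨(h.mem_iff hG hS hAS (hTS hx)).mp hxp, hTC hx⟩
    by_contra hnle
    obtain ⟨x, hxT, hxL⟩ := SetLike.not_le_iff_exists.mp hnle
    obtain ⟨j, hj⟩ := IsPGroup.iff_orderOf.mp hTp' ⟨x, hxT⟩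
    rw [Subgroup.orderOf_mk] at hj
    obtain ⟨i, rfl⟩ : ∃ i, j = i + 2 := by
      refine ⟨j - 2, ?_⟩
      rcases j with _ | _ | j
      · exact absurd (hT0 x hxT (by rw [(orderOf_eq_one_iff (x := x)).mp (by simpa using hj), one_pow])) hxL
      · exact absurd (hT0 x hxT (by simpa [hj] using pow_orderOf_eq_one x)) hxL
      · omega
    set u := x ^ p ^ i with hu
    have hup : orderOf (u ^ p) = p := by
      rw [hu, ← pow_mul, ← pow_succ, orderOf_pow' _ (pow_ne_zero _ hp.out.ne_zero), hj,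
        Nat.gcd_eq_right (pow_dvd_pow p (by omega)), Nat.pow_div (by omega) hp.out.pos,
        show i + 2 - (i + 1) = 1 by omega, pow_one]
    have hu1 : u ^ p ≠ 1 := fun h0 => hp.out.ne_one (by rw [← hup, h0, orderOf_one])
    have huL : u ^ p ∈ L₀ := hT0 _ (pow_mem (pow_mem hxT _) _) (by
      have h1 := pow_orderOf_eq_one (u ^ p)
      rwa [hup] at h1)
    obtain ⟨D, hD, hpow⟩ := hsq.pow_cyclic hG P (hAS.trans hSP) (hna P)
    have huS : u ∈ S := hTS (pow_mem hxT _)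
    have hguS : g * u * g⁻¹ ∈ S := (mem_normalizer_iff.mp hgN u).mp huS
    have hd1 := hpow u ⟨hSP huS, h.central hG hS hAS huS⟩
    have hd2 := hpow _ ⟨hSP hguS, h.central hG hS hAS hguS⟩
    haveI := hD
    refine hgmove ?_
    have he : zpowers ((g * u * g⁻¹) ^ p) = zpowers (u ^ p) := by
      by_contra hne
      have ho : orderOf ((g * u * g⁻¹) ^ p) = p := by
        rw [conj_pow]
        exact (MulEquiv.orderOf_eq (MulAut.conj g) (u ^ p)).trans hup
      have hmem : (g * u * g⁻¹) ^ p ∈ A :=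
        (h.mem_iff hG hS hAS (pow_mem hguS p)).mp (by
          have h1 := pow_orderOf_eq_one ((g * u * g⁻¹) ^ p)
          rwa [ho] at h1)
      refine hsq.not_isCyclic ?_
      have hle : A ≤ D := (card_line_sup hsq (zpowers_le.mpr hmem) (by rw [Nat.card_zpowers, ho])
        (zpowers_le.mpr huL.1) (by rw [Nat.card_zpowers, hup]) hne).ge.trans
        (sup_le (zpowers_le.mpr hd2) (zpowers_le.mpr hd1))
      exact isCyclic_of_injective (inclusion hle) (inclusion_injective hle)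
    rw [← line_eq_of_mem hA0c huL hu1]
    refine (MonoidHom.map_zpowers _ _).trans ?_
    show zpowers (g * u ^ p * g⁻¹) = _
    rw [← conj_pow]
    exact he
  · refine Cfsg.Lib.Coprime.le_of_forall_sylow fun r hr => ?_
    haveI := Fact.mk hr
    obtain ⟨T⟩ : Nonempty (Sylow r ↥(Cfsg.sigmaCore M)) := inferInstance
    refine ⟨T, ?_⟩
    haveI : (T : Subgroup ↥(Cfsg.sigmaCore M)).Normal :=
      ((Group.isNilpotent_of_finite_tfae (G := ↥(Cfsg.sigmaCore M))).out 0 3 rfl rfl).mp (h.nilpotent hG)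
        r inferInstance T
    haveI := T.characteristic_of_normal inferInstance
    exact (FittingParts.le_of_isPGroup ((map_subtype_le _).trans (sigmaCore_le M))
      ((le_normalizer_sigmaCore M).trans
        (Cfsg.Lib.OddP.le_normalizer_map_of_char (T : Subgroup ↥(Cfsg.sigmaCore M)))) (T.2.map _)).trans
      (FittingParts.le_fittingOf M)
  · exact (FittingParts.le_of_isPGroup (inf_le_left.trans h.le) hEM (hsq.isPGroup.to_le inf_le_left)).trans
      (FittingParts.le_fittingOf M)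

end Cfsg.Lib.OddLocal.RankTwoMax
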