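import Cfsg.Agent.OddLocal.SigmaPrimeAbelian

/-!
# Nonabelian `p`-subgroups lie in one maximal subgroup
-/

set_option linter.unusedSectionVars false
set_option linter.unusedVariables false
set_option linter.style.haveILetI false

namespace Cfsg.Lib.OddLocal.RankTwoMax

open Subgroup Uniqueness Sigma
open Cfsg.Lib.Coprime (conjMap)
open scoped commutatorElement

universe u

variable {G : Type u} [Group G] [Finite G] {M H L A : Subgroup G} {p : ℕ} [hp : Fact p.Prime]

/-- Corollary 12.10 (c). -/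
theorem normalizer_le_of_noncyclic (hG : Cfsg.IsMinSimpleOddOrder G) (hM : IsCoatom M) (hσ : p ∈ Cfsg.sigma M)
    {P : Subgroup G} (hP : IsPGroup p P) (hPM : P ≤ M) (hnc : ¬ IsCyclic P) :
    normalizer (P : Set G) ≤ M := by
  obtain ⟨E, hE⟩ := exists_complement hG hM
  exact (sigma_prime_corollary hG hM hE).2.2.1 p P hσ hP hPM hnc

/-- Invariant groups for a prime of `β(M)` in another maximal subgroup are centralized. -/
theorem centralized_of_beta (hG : Cfsg.IsMinSimpleOddOrder G) (hM : IsCoatom M) (hL : IsCoatom L) (hne : M ≠ L)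
    (hA : MaxSq p A) (hAL : A ≤ L) {q : ℕ} [hq : Fact q.Prime] (hqp : q ≠ p)
    (hβ : q ∈ Cfsg.beta M) {R : Subgroup G} (hRq : IsPGroup q R) (hRM : R ≤ M) (hRL : R ≤ L)
    (hAR : A ≤ normalizer (R : Set G)) : A ≤ centralizer (R : Set G) := by
  by_contra hmove
  have hR1 : R ≠ ⊥ := fun h0 => hmove fun a _ => mem_centralizer_iff.mpr fun x hx => by
    rw [h0] at hx; rw [mem_bot.mp hx, one_mul, mul_one]
  have hpL := not_sigma_of_move hG hM hL hne hA hAL hqp (alpha_subset_sigma hG hM hβ.1) hRq hRM hRL hAR hmove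
  obtain ⟨A₀, hexc⟩ := exists_exc hG hL hpL hAL hA.ea hA.card
  by_cases hσ : q ∈ Cfsg.sigma L
  · exact hne (eq_of_beta hG hL hM hσ hβ hRq hR1 hRL hRM).symm
  · exact hmove (hexc.centralizes_outside hG hqp hσ hRq hRL hAR)

theorem maxSq_of_rank_two (hG : Cfsg.IsMinSimpleOddOrder G) (S : Sylow p G)
    (hr : Cfsg.PRankLE p 2 (S : Subgroup G)) (hA : Cfsg.IsElementaryAbelian p A) (hAc : Nat.card A = p ^ 2) :
    MaxSq p A := by
  refine ⟨hA, hAc, fun B hB hAB => ?_⟩
  obtain ⟨T, hBT⟩ := (isPGroup_of_pow hB.2 : IsPGroup p B).exists_le_sylow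
  obtain ⟨g, hg⟩ := MulAction.exists_smul_eq G T S
  have hle : conjMap g B ≤ (S : Subgroup G) := by
    rw [← hg, Sylow.coe_subgroup_smul, Cfsg.Lib.Coprime.conj_smul_eq]
    exact Cfsg.Lib.Coprime.conjMap_mono hBT
  have hB' : Cfsg.IsElementaryAbelian p (conjMap g B) := Cfsg.Lib.OddP.isElementaryAbelian_map hB _
  have h1 := Cfsg.Lib.OddP.pRankLE_of_injective (inclusion hle) (inclusion_injective _) hr ⊤
    ⟨⟨fun a b => Subtype.ext (Subtype.ext (ThompsonTransitivity.mul_comm_of hB'.1 a.1.2 b.1.2))⟩⟩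
    (fun a _ => Subtype.ext (hB'.2 a a.2))
  rw [card_top, Cfsg.Lib.Coprime.card_conjMap, ← hAc] at h1
  exact (eq_of_le_of_card_ge hAB h1).symm

/-- A maximal subgroup containing a Sylow group of rank two is `(β part) · N(S)`. -/
theorem le_of_beta_parts (hG : Cfsg.IsMinSimpleOddOrder G) (hM : IsCoatom M) (S : Sylow p G)
    (hr : Cfsg.PRankLE p 2 (S : Subgroup G)) (hσ : p ∈ Cfsg.sigma M) (hSM : (S : Subgroup G) ≤ M)
    (hNH : normalizer ((S : Subgroup G) : Set G) ≤ H)
    (hβ : ∀ (q : ℕ) [Fact q.Prime], q ≠ p → q ∈ Cfsg.beta M → ∀ Q : Subgroup G, IsPGroup q Q → Q ≤ M →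
      (S : Subgroup G) ≤ normalizer (Q : Set G) → Q ≤ H) : M ≤ H := by
  haveI := hG.2.2.2 M hM.1
  have hfac := (isSylowOf_coe S hSM).factor_rank_two (hG.1.of_dvd_nat (card_subgroup_dvd_card M)) hr
  refine hfac.trans (sup_le ?_ (inf_le_right.trans hNH))
  set D := Op p M with hD
  obtain ⟨j, hj⟩ := IsPGroup.iff_card.mp S.2
  have hSD : (S : Subgroup G) ≤ normalizer (D : Set G) := hSM.trans (PiCoreOf.le_normalizer' _ M)
  have hDM : D ≤ M := PiCoreOf.le _ M
  have hsolS : Group.IsSolvable ↥(S : Subgroup G) :=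
    hG.2.2.2 _ (FittingUniqueness.ne_top_of_le_coatom hM hSM)
  refine Cfsg.Lib.Coprime.le_of_forall_sylow fun q hq => ?_
  haveI := Fact.mk hq
  obtain ⟨T, hT⟩ := Cfsg.Lib.Coprime.exists_invariant_sylow hSD
    (show (Nat.card (S : Subgroup G)).Coprime (Nat.card D) from hj ▸ ((coprime_Op M).symm.pow_left j))
    (Or.inl hsolS) q
  refine ⟨T, ?_⟩
  set Q := (T : Subgroup D).map D.subtype with hQ
  have hQM : Q ≤ M := (map_subtype_le _).trans hDM
  by_cases hQ1 : Q = ⊥
  · rw [hQ1]; exact bot_le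
  have hqp : q ≠ p := fun e => by
    subst e
    have h1 := (dvd_card_of_isPGroup (T.2.map _) hQ1).trans (card_dvd_of_le (map_subtype_le _))
    exact (hp.out.coprime_iff_not_dvd.mp (coprime_Op M).symm) h1
  by_cases hb : q ∈ Cfsg.beta M
  · exact hβ q hqp hb Q (T.2.map _) hQM hT
  have hle : ⁅Q, (S : Subgroup G)⁆ ≤ Q := Cfsg.Lib.Coprime.commutator_le_of_le_normalizer hT
  have hc := centralizes_of_derived hG hM hb (X := ⁅Q, (S : Subgroup G)⁆) (Y := (S : Subgroup G))
    (commutator_mono hQM hSM) (sylow_le_derived' hG hM hσ S.2 hSM) ((T.2.map D.subtype).to_le hle)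
    (coprime_of_ne hqp.symm S.2) (Cfsg.Lib.Coprime.le_normalizer_commutator_right _ _)
  have hcop : (Nat.card (S : Subgroup G)).Coprime (Nat.card Q) := by
    obtain ⟨i, hi⟩ := IsPGroup.iff_card.mp (T.2.map D.subtype)
    rw [hi]
    exact (coprime_of_ne hqp.symm S.2).pow_right i
  have hbot : ⁅Q, (S : Subgroup G)⁆ = ⊥ := by
    rw [← Cfsg.Lib.Coprime.commutator_commutator_eq hT hcop (Or.inl hsolS),
      commutator_eq_bot_iff_le_centralizer]
    exact le_centralizer_iff.mp hc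
  exact ((commutator_eq_bot_iff_le_centralizer.mp hbot).trans (centralizer_le_normalizer _)).trans hNH

/-- A nonabelian Sylow group of rank two lies in one maximal subgroup. -/
theorem eq_of_center_le (hG : Cfsg.IsMinSimpleOddOrder G) (hM : IsCoatom M) (hH : IsCoatom H) (hne : M ≠ H)
    (S : Sylow p G) (hr : Cfsg.PRankLE p 2 (S : Subgroup G)) (hna : ¬ IsMulCommutative (S : Subgroup G))
    (hσM : p ∈ Cfsg.sigma M) (hσH : p ∈ Cfsg.sigma H) (hSM : (S : Subgroup G) ≤ M)
    {P₁ P₂ : Subgroup G} (hsup : P₁ ⊔ P₂ = (S : Subgroup G))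
    (hcomm : ∀ a ∈ P₁, ∀ b ∈ P₂, a * b = b * a) (hna1 : ¬ IsMulCommutative P₁)
    (hc1 : Nat.card P₁ = p ^ 3) (hexp : ∀ u ∈ P₁, u ^ p = 1)
    (hCH : centralizer ((P₁ ⊓ centralizer (P₁ : Set G) : Subgroup G) : Set G) ≤ H) : False := by
  set Z := P₁ ⊓ centralizer (P₁ : Set G) with hZ
  have hP1 : IsPGroup p P₁ := IsPGroup.of_card hc1
  have hP1S : P₁ ≤ (S : Subgroup G) := hsup ▸ le_sup_left
  have hP1M : P₁ ≤ M := hP1S.trans hSM
  have hZP : P₁ ≤ centralizer (Z : Set G) := le_centralizer_iff.mp inf_le_right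
  have hSC : (S : Subgroup G) ≤ centralizer (Z : Set G) := hsup ▸ sup_le hZP
    fun b hb => mem_centralizer_iff.mpr fun z hz => hcomm z hz.1 b hb
  have hSH : (S : Subgroup G) ≤ H := hSC.trans hCH
  have hZc : Nat.card Z = p := by
    obtain ⟨i, hi, hic⟩ := (Nat.dvd_prime_pow hp.out).mp (hc1 ▸ card_dvd_of_le (inf_le_left : Z ≤ P₁))
    have hi0 : i ≠ 0 := fun h0 => by
      haveI : Nontrivial P₁ := (nontrivial_iff_ne_bot _).mpr fun h1 => by
        rw [h1, Subgroup.card_bot] at hc1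
        exact absurd hc1 (Nat.one_lt_pow (by norm_num) hp.out.one_lt).ne
      have := hP1.center_nontrivial
      obtain ⟨⟨c, hc⟩, hc'⟩ := exists_ne (1 : center P₁)
      have h2 : (c : G) ∈ Z :=
        ⟨c.2, mem_centralizer_iff.mpr fun w hw => congrArg Subtype.val (mem_center_iff.mp hc ⟨w, hw⟩)⟩
      have h0' := eq_bot_of_card_eq _ (by rw [hic, h0, pow_zero] : Nat.card Z = 1)
      exact hc' (Subtype.ext (Subtype.ext (mem_bot.mp (h0'.le h2))))
    have hi3 : i ≠ 3 := fun h3 => hna1 ⟨⟨fun a b => Subtype.ext (mem_centralizer_iff.mp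
      (inf_eq_left.mp (Cfsg.Lib.Coprime.eq_of_le_of_card_eq (inf_le_left : Z ≤ P₁)
        (hic.trans (by rw [h3, hc1]))) b.2) a a.2)⟩⟩
    have hi2 : i ≠ 2 := fun h2 => by
      obtain ⟨x, hx, hxZ⟩ := SetLike.exists_of_lt (lt_of_le_of_ne (inf_le_left : Z ≤ P₁) fun e => by
        rw [e, hc1] at hic
        exact absurd (Nat.pow_right_injective hp.out.two_le hic) (by omega))
      have hlt : Z < Z ⊔ zpowers x := lt_of_le_of_ne le_sup_left fun e =>
        hxZ (e.ge (mem_sup_right (mem_zpowers x)))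
      have hle : Z ⊔ zpowers x ≤ P₁ := sup_le inf_le_left (zpowers_le.mpr hx)
      obtain ⟨k, hk, hkc⟩ := (Nat.dvd_prime_pow hp.out).mp (hc1 ▸ card_dvd_of_le hle)
      have h1 : Nat.card Z < Nat.card ↥(Z ⊔ zpowers x) := lt_of_le_of_ne
        (Nat.le_of_dvd Nat.card_pos (card_dvd_of_le hlt.le)) fun e => hlt.ne (eq_of_le_of_card_ge hlt.le e.ge)
      rw [hic, h2, hkc] at h1
      have hk3 : k = 3 := by
        have := (Nat.pow_lt_pow_iff_right hp.out.one_lt).mp h1
        omega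
      have htop : Z ⊔ zpowers x = P₁ :=
        Cfsg.Lib.Coprime.eq_of_le_of_card_eq hle (hkc.trans (by rw [hk3, hc1]))
      refine hxZ ⟨hx, (le_centralizer_iff.mp (?_ : P₁ ≤ centralizer (zpowers x : Set G))) (mem_zpowers x)⟩
      conv_lhs => rw [← htop]
      refine sup_le (fun z hz => mem_centralizer_iff.mpr fun w hw => ?_) (fun w hw => ?_)
      · exact mem_centralizer_iff.mp hz.2 w (zpowers_le.mpr hx hw)
      · refine mem_centralizer_iff.mpr fun v hv => ?_
        obtain ⟨i', rfl⟩ := mem_zpowers_iff.mp hv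
        obtain ⟨j', rfl⟩ := mem_zpowers_iff.mp hw
        exact (Commute.refl x).zpow_zpow i' j'
    rw [hic, show i = 1 by omega, pow_one]
  have hNM : normalizer ((S : Subgroup G) : Set G) ≤ M := normalizer_le hσM (isSylowOf_coe S hSM)
  have hNH : normalizer ((S : Subgroup G) : Set G) ≤ H := normalizer_le hσH (isSylowOf_coe S hSH)
  -- a pair with the centre
  have hpair : ∀ e ∈ P₁, e ∉ Z → MaxSq p (Z ⊔ zpowers e) ∧ Z ⊔ zpowers e ≤ P₁ := by
    intro e he heZ
    have hle : Z ⊔ zpowers e ≤ P₁ := sup_le inf_le_left (zpowers_le.mpr he)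
    have hcent : zpowers e ≤ centralizer (Z : Set G) := (zpowers_le.mpr he).trans hZP
    have hab : IsMulCommutative ↥(Z ⊔ zpowers e) := by
      refine ⟨⟨fun a b => Subtype.ext ?_⟩⟩
      have hB : Z ⊔ zpowers e ≤ centralizer ((Z ⊔ zpowers e : Subgroup G) : Set G) := by
        refine sup_le (le_centralizer_iff.mp (sup_le (fun z hz => mem_centralizer_iff.mpr fun w hw =>
          mem_centralizer_iff.mp hz.2 w hw.1) hcent)) (le_centralizer_iff.mp (sup_le ?_ ?_))
        · exact le_centralizer_iff.mp hcent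
        · rintro _ ⟨i, rfl⟩
          refine mem_centralizer_iff.mpr ?_
          rintro _ ⟨j, rfl⟩
          exact (Commute.refl e).zpow_zpow j i
      exact mem_centralizer_iff.mp (hB b.2) a a.2
    have hoe : orderOf e = p := orderOf_eq_prime (hexp e he) fun h1 => heZ (h1 ▸ one_mem Z)
    refine ⟨maxSq_of_rank_two hG S hr ⟨hab, fun a ha => hexp a (hle ha)⟩ ?_, hle⟩
    rw [Cfsg.Lib.Coprime.card_sup_of_inf_eq_bot (hcent.trans (centralizer_le_normalizer _)) ?_, hZc,
      Nat.card_zpowers, hoe, sq]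
    by_contra h0
    obtain ⟨v, hv, hvo⟩ := ScnUniqueness.exists_orderOf (hP1.to_le (inf_le_left.trans inf_le_left)) h0
    have hv1 : v ≠ 1 := fun h1 => hp.out.ne_one (by rw [← hvo, h1, orderOf_one])
    exact heZ ((line_eq_of_inf hZc (by rw [Nat.card_zpowers, hoe]) hv.1 hv.2 hv1).ge (mem_zpowers e))
  -- `M` is generated by parts centralizing lines
  obtain ⟨e₀, he₀, he₀Z⟩ := SetLike.not_le_iff_exists.mp (fun hle : P₁ ≤ Z => by
    have := Nat.le_of_dvd Nat.card_pos (card_dvd_of_le hle)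
    rw [hc1, hZc] at this
    exact absurd this (not_le.mpr (by simpa using Nat.pow_lt_pow_right hp.out.one_lt (show 1 < 3 by norm_num))))
  have hnle : ¬ M ≤ H := fun hle => (hle.lt_or_eq).elim (fun h1 => hH.1 (hM.2 H h1)) hne
  have hone : ∀ e ∈ P₁, e ∉ Z → ∃ f ∈ Z ⊔ zpowers e, f ∉ Z ∧ centralizer ({f} : Set G) ≤ M := by
    intro e he heZ
    by_contra hall
    push Not at hall
    obtain ⟨hB, hBP⟩ := hpair e he heZ
    haveI : IsMulCommutative ↥(Z ⊔ zpowers e) := hB.ea.1
    refine hnle (le_of_beta_parts hG hM S hr hσM hSM hNH fun q _ hqp hβ Q hQ hQM hSQ => ?_)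
    have hcop : (Nat.card ↥(Z ⊔ zpowers e)).Coprime (Nat.card Q) := by
      obtain ⟨j, hj⟩ := IsPGroup.iff_card.mp hQ
      rw [hB.card, hj]
      exact (((Nat.coprime_primes hp.out Fact.out).mpr hqp.symm).pow_left 2).pow_right j
    rw [← Cfsg.Lib.Coprime.centralizerJoin_eq hB.not_isCyclic ((hBP.trans hP1S).trans hSQ) hcop]
    refine iSup₂_le fun f hf => ?_
    by_cases hfZ : f ∈ Z
    · refine inf_le_right.trans (le_trans ?_ hCH)
      rw [← Cfsg.Lib.Coprime.centralizer_zpowers, line_eq_of_mem hZc hfZ hf.2]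
    obtain ⟨L, hL, hLe⟩ := exists_coatom_ge (MinSimpleTransitivity.normalizer_ne_top hG
      (fun h0 => hf.2 (zpowers_eq_bot.mp h0) : zpowers f ≠ ⊥)
      (FittingUniqueness.ne_top_of_le_coatom hM ((zpowers_le.mpr hf.1).trans (hBP.trans hP1M))))
    have hCL : centralizer ({f} : Set G) ≤ L := by
      rw [← Cfsg.Lib.Coprime.centralizer_zpowers]
      exact (centralizer_le_normalizer _).trans hLe
    have hBL : Z ⊔ zpowers e ≤ L := fun b hb =>
      hCL (mem_centralizer_singleton_iff.mpr (hB.comm_of_mem hb hf.1))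
    have hc := centralized_of_beta hG hM hL (fun h1 => hall f hf.1 hfZ (h1 ▸ hCL)) hB hBL hqp hβ
      (hQ.to_le inf_le_left) (inf_le_left.trans hQM) (inf_le_right.trans hCL)
      (Cfsg.Lib.Coprime.le_normalizer_inf ((hBP.trans hP1S).trans hSQ) fun b hb =>
        le_normalizer (mem_centralizer_singleton_iff.mpr (hB.comm_of_mem hb hf.1)))
    exact (le_centralizer_iff.mp hc).trans ((Subgroup.centralizer_le (le_sup_left : Z ≤ _)).trans hCH)
  -- all noncentral elements
  have hallM : ∀ e ∈ P₁, e ∉ Z → centralizer ({e} : Set G) ≤ M := by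
    intro e he heZ
    obtain ⟨f, hf, hfZ, hfM⟩ := hone e he heZ
    obtain ⟨hB, hBP⟩ := hpair e he heZ
    have hf1 : f ≠ 1 := fun h1 => hfZ (h1 ▸ one_mem Z)
    have hfP := hBP hf
    have hfc : Nat.card (zpowers f) = p := by
      rw [Nat.card_zpowers]; exact orderOf_eq_prime (hexp f hfP) hf1
    have hne' : Z ≠ zpowers f := fun h0 => hfZ (h0 ▸ mem_zpowers f)
    obtain ⟨z, hz, x, hx, hze⟩ := (Cfsg.Lib.Coprime.mem_sup_of_le_normalizer
      (((zpowers_le.mpr hfP).trans hZP).trans (centralizer_le_normalizer _))).mp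
      ((card_line_sup hB le_sup_left hZc (zpowers_le.mpr hf) hfc hne').ge (mem_sup_right (mem_zpowers e)))
    have hx1 : x ≠ 1 := fun h0 => heZ (hze ▸ h0 ▸ (mul_one z).symm ▸ hz)
    have hxM : centralizer ({x} : Set G) ≤ M := by
      rw [← Cfsg.Lib.Coprime.centralizer_zpowers, line_eq_of_mem hfc hx hx1,
        Cfsg.Lib.Coprime.centralizer_zpowers]
      exact hfM
    have hxP : x ∈ P₁ := (zpowers_le.mpr hfP) hx
    -- a conjugate
    obtain ⟨s, hs, hsx⟩ : ∃ s ∈ P₁, s * x * s⁻¹ * x⁻¹ ≠ 1 := by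
      by_contra hall'
      push Not at hall'
      have hxZ : x ∈ Z := ⟨hxP, mem_centralizer_iff.mpr fun s hs => mul_inv_eq_iff_eq_mul.mp
        (mul_inv_eq_one.mp (hall' s hs))⟩
      exact hne' ((line_eq_of_inf hfc hZc hx hxZ hx1).symm)
    set c := s * x * s⁻¹ * x⁻¹ with hc
    have hcZ : c ∈ Z := by
      set W := Z ⊔ zpowers x with hW
      obtain ⟨hBx, hWP⟩ := hpair x hxP fun hxZ => hne' ((line_eq_of_inf hfc hZc hx hxZ hx1).symm)
      haveI : Group.IsNilpotent P₁ := hP1.isNilpotent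
      have hWn : P₁ ≤ normalizer (W : Set G) := by
        have hlt : W < P₁ := lt_of_le_of_ne hWP fun e => by
          have h2 := hBx.card
          rw [← hW, e, hc1] at h2
          exact absurd (Nat.pow_right_injective hp.out.two_le h2) (by omega)
        have h3 := FittingUniqueness.lt_inf_normalizer hP1 hlt
        refine inf_eq_left.mp (eq_of_le_of_card_ge inf_le_left ?_)
        obtain ⟨i, hi⟩ := IsPGroup.iff_card.mp
          (hP1.to_le (inf_le_left : P₁ ⊓ normalizer (W : Set G) ≤ P₁))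
        have h2 : Nat.card W < Nat.card ↥(P₁ ⊓ normalizer (W : Set G)) :=
          lt_of_le_of_ne (Nat.le_of_dvd Nat.card_pos (card_dvd_of_le h3.le))
            fun e => h3.ne (eq_of_le_of_card_ge h3.le e.ge)
        rw [hW, hBx.card, hi] at h2
        rw [hc1, hi]
        exact Nat.pow_le_pow_right hp.out.pos ((Nat.pow_lt_pow_iff_right hp.out.one_lt).mp h2)
      set N := ⁅W, P₁⁆ with hN
      have hNW : N < W := Cfsg.Lib.Coprime.commutator_lt_of_isNilpotent hWP hBx.ne_bot hWn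
      have hcN : c ∈ N := by
        have h1 : ⁅x, s⁆⁻¹ ∈ N := inv_mem (commutator_mem_commutator (mem_sup_right (mem_zpowers x)) hs)
        rwa [commutatorElement_inv, commutatorElement_def] at h1
      have hNc : Nat.card N = p := by
        obtain ⟨i, hi, hic⟩ := (Nat.dvd_prime_pow hp.out).mp (hBx.card ▸ card_dvd_of_le hNW.le)
        rcases (show i = 0 ∨ i = 1 ∨ i = 2 by omega) with rfl | rfl | rfl
        · refine absurd ?_ hsx
          have h0 := eq_bot_of_card_eq _ (by rw [hic, pow_zero] : Nat.card N = 1)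
          exact mem_bot.mp (h0.le hcN)
        · rw [hic, pow_one]
        · exact absurd (Cfsg.Lib.Coprime.eq_of_le_of_card_eq hNW.le (hic.trans hBx.card.symm)) hNW.ne
      refine ⟨hWP (hNW.le hcN), mem_centralizer_iff.mpr fun t ht => ?_⟩
      exact (line_commute hP1 (hNW.le.trans hWP) hNc ht
        (Cfsg.Lib.Coprime.le_normalizer_commutator_right P₁ W ht) c hcN).symm
    obtain ⟨i, rfl⟩ := (mem_powers_iff_mem_zpowers).mpr ((line_eq_of_mem hZc hcZ hsx).ge hz)
    have hcs : Commute c s := mem_centralizer_iff.mp (hZP hs) c hcZ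
    have hpow : s ^ i * x * (s ^ i)⁻¹ = c ^ i * x := by
      clear hze hz
      induction i with
      | zero => simp
      | succ i ih =>
        calc s ^ (i + 1) * x * (s ^ (i + 1))⁻¹ = s * (s ^ i * x * (s ^ i)⁻¹) * s⁻¹ := by
              rw [pow_succ']; group
          _ = s * (c ^ i * x) * s⁻¹ := by rw [ih]
          _ = c ^ i * (s * x * s⁻¹) := by
              rw [← mul_assoc, ← (hcs.pow_left i).eq, mul_assoc, mul_assoc, mul_assoc]
          _ = c ^ i * (c * x) := by simp [c, mul_assoc]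
          _ = _ := by rw [← mul_assoc, ← pow_succ]
    have hee : e = s ^ i * x * (s ^ i)⁻¹ := by rw [hpow]; exact hze.symm
    intro y hy
    rw [hee, mem_centralizer_singleton_iff] at hy
    have hsM : s ^ i ∈ M := pow_mem (hP1M hs) _
    have h1 : (s ^ i)⁻¹ * y * s ^ i ∈ M := hxM (mem_centralizer_singleton_iff.mpr (by
      calc (s ^ i)⁻¹ * y * s ^ i * x = (s ^ i)⁻¹ * (y * (s ^ i * x * (s ^ i)⁻¹)) * s ^ i := by group
        _ = (s ^ i)⁻¹ * (s ^ i * x * (s ^ i)⁻¹ * y) * s ^ i := by rw [hy]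
        _ = _ := by group))
    have h3 := mul_mem (mul_mem hsM h1) (inv_mem hsM)
    simpa [mul_assoc] using h3
  -- hence `H ≤ M`
  have hle : H ≤ M := by
    refine le_of_beta_parts hG hH S hr hσH hSH hNM fun q _ hqp hβ Q hQ hQH hSQ => ?_
    obtain ⟨hB, hBP⟩ := hpair e₀ he₀ he₀Z
    haveI : IsMulCommutative ↥(Z ⊔ zpowers e₀) := hB.ea.1
    have hcopQ : ∀ X : Subgroup G, X ≤ Q → (Nat.card P₁).Coprime (Nat.card X) := fun X hX => by
      obtain ⟨j, hj⟩ := IsPGroup.iff_card.mp (hQ.to_le hX)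
      rw [hc1, hj]
      exact (((Nat.coprime_primes hp.out Fact.out).mpr hqp.symm).pow_left 3).pow_right j
    rw [← Cfsg.Lib.Coprime.centralizerJoin_eq hB.not_isCyclic ((hBP.trans hP1S).trans hSQ)
      ((hcopQ Q le_rfl).coprime_dvd_left (card_dvd_of_le hBP))]
    refine iSup₂_le fun f hf => ?_
    by_cases hfZ : f ∈ Z
    swap
    · exact inf_le_right.trans (hallM f (hBP hf.1) hfZ)
    rw [← Cfsg.Lib.Coprime.centralizer_zpowers, line_eq_of_mem hZc hfZ hf.2]
    -- the quotient by the centre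
    set W := Q ⊓ centralizer (Z : Set G) with hW
    have hPW : P₁ ≤ normalizer (W : Set G) :=
      Cfsg.Lib.Coprime.le_normalizer_inf (hP1S.trans hSQ) (hZP.trans le_normalizer)
    by_contra hWM
    set C := centralizer (Z : Set G) with hCdef
    have hZC : Z ≤ C := inf_le_left.trans hZP
    haveI hZn : (Z.subgroupOf C).Normal := normal_subgroupOf_of_le_normalizer
      (centralizer_le_normalizer _)
    set π := QuotientGroup.mk' (Z.subgroupOf C) with hπ
    set E := (P₁.subgroupOf C).map π with hEdef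
    have hEc : Nat.card E = p ^ 2 := by
      have hk : (Z.subgroupOf C) ≤ P₁.subgroupOf C := comap_mono inf_le_left
      have h2 := Cfsg.Lib.Coprime.card_comap_mk' (N := Z.subgroupOf C) E
      rw [hEdef, ← hπ, comap_map_eq, QuotientGroup.ker_mk', sup_of_le_left hk,
        Nat.card_congr (subgroupOfEquivOfLe hZP).toEquiv,
        Nat.card_congr (subgroupOfEquivOfLe hZC).toEquiv, hc1, hZc, ← hEdef] at h2
      exact (Nat.eq_of_mul_eq_mul_left hp.out.pos (by rw [← h2]; ring)).symm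
    haveI hEcomm : IsMulCommutative E := IsPGroup.isMulCommutative_of_card_eq_prime_sq hEc
    have hEnc : ¬ IsCyclic E := fun hc => by
      obtain ⟨g, hg⟩ := hc.exists_generator
      have h1 : orderOf g = p ^ 2 := by rw [orderOf_eq_card_of_forall_mem_zpowers hg, hEc]
      have h2 : g ^ p = 1 := by
        obtain ⟨y, hy, hyg⟩ := mem_map.mp g.2
        refine Subtype.ext ?_
        have h3 : y ^ p = 1 := Subtype.ext (by simpa using hexp y hy)
        rw [SubmonoidClass.coe_pow, ← hyg, ← map_pow, h3, map_one, OneMemClass.coe_one]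
      have h4 := Nat.le_of_dvd hp.out.pos (h1 ▸ orderOf_dvd_of_pow_eq_one h2)
      exact absurd h4 (not_le.mpr (by simpa using Nat.pow_lt_pow_right hp.out.one_lt (show 1 < 2 by norm_num)))
    have hWC : W ≤ C := inf_le_right
    set R := (W.subgroupOf C).map π with hRdef
    set D := ((W ⊓ M).subgroupOf C).map π with hDdef
    have hER : E ≤ normalizer (R : Set (C ⧸ Z.subgroupOf C)) := by
      refine (map_mono ?_).trans (le_normalizer_map π)
      intro y hy
      refine mem_normalizer_iff.mpr fun w => ?_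
      exact mem_normalizer_iff.mp (hPW hy) w
    have hcop : (Nat.card E).Coprime (Nat.card R) := by
      refine Nat.Coprime.coprime_dvd_right (card_map_dvd _ π) ?_
      rw [hEc, Nat.card_congr (subgroupOfEquivOfLe hWC).toEquiv]
      exact ((hcopQ W inf_le_left).coprime_dvd_left (by rw [hc1]; exact pow_dvd_pow p (by norm_num)))
    have hlift : ∀ w : C, (w : G) ∈ W → π w ∈ D → (w : G) ∈ M := by
      intro w hw hwD
      obtain ⟨v, hv, hvw⟩ := mem_map.mp hwD
      have h1 : v⁻¹ * w ∈ Z.subgroupOf C := QuotientGroup.eq.mp hvw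
      have h2 : ((v : G))⁻¹ * w = 1 := Cfsg.Lib.Coprime.eq_one_of_coprime
        ((hcopQ W inf_le_left).coprime_dvd_left (card_dvd_of_le (inf_le_left : Z ≤ P₁))) h1
        (mul_mem (inv_mem hv.1) hw)
      rw [inv_mul_eq_one] at h2
      exact h2 ▸ hv.2
    have hRD : ¬ R ≤ D := fun hle => hWM fun w hw =>
      hlift ⟨w, hWC hw⟩ hw (hle (mem_map_of_mem π (mem_subgroupOf.mpr hw)))
    obtain ⟨ε, hε, hε1, hεfix⟩ := Transitivity.exists_fixed_outside hEnc hER hcop hRD
    obtain ⟨y, hy, rfl⟩ := mem_map.mp hε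
    refine hεfix fun v hv => ?_
    obtain ⟨w, hw, rfl⟩ := mem_map.mp hv.1
    refine mem_map_of_mem π (mem_subgroupOf.mpr ⟨hw, ?_⟩)
    have hyZ : (y : G) ∉ Z := fun hz => hε1 ((QuotientGroup.eq_one_iff _).mpr hz)
    refine hallM (y : G) hy hyZ (mem_centralizer_singleton_iff.mpr ?_)
    have h1 : ⁅w, y⁆ ∈ Z.subgroupOf C := (QuotientGroup.eq_one_iff _).mp (by
      rw [← QuotientGroup.mk'_apply, map_commutatorElement, commutatorElement_eq_one_iff_mul_comm]
      exact (mem_centralizer_singleton_iff.mp hv.2))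
    have h2 : ⁅(w : G), (y : G)⁆ ∈ W := Cfsg.Lib.Coprime.commutator_le_of_le_normalizer hPW
      (commutator_mem_commutator hw hy)
    exact commutatorElement_eq_one_iff_mul_comm.mp (Cfsg.Lib.Coprime.eq_one_of_coprime
      ((hcopQ W inf_le_left).coprime_dvd_left (card_dvd_of_le (inf_le_left : Z ≤ P₁)))
      (show ⁅(w : G), (y : G)⁆ ∈ Z from h1) h2)
  exact hle.lt_or_eq.elim (fun h1 => hM.1 (hH.2 M h1)) fun h1 => hne h1.symm

/-- Theorem 12.13: a nonabelian `p`-subgroup lies in exactly one maximal subgroup. -/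
theorem nonabelian_unique (hG : Cfsg.IsMinSimpleOddOrder G) {P : Subgroup G} (hP : IsPGroup p P)
    (hna : ¬ IsMulCommutative P) : Cfsg.InUniqueMaximal P := by
  have hnc : ¬ IsCyclic P := fun h => hna inferInstance
  have hσ : ∀ M : Subgroup G, IsCoatom M → P ≤ M → p ∈ Cfsg.sigma M := fun M hM hle => by
    by_contra hσ
    exact hna (comm_of_not_sigma hG hM hσ hP hle)
  have hPt : P ≠ ⊤ := fun h0 => by
    have hGp : IsPGroup p G := (h0 ▸ hP : IsPGroup p (⊤ : Subgroup G)).of_equiv topEquiv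
    haveI : Nontrivial G := hG.2.1.1
    haveI := hG.2.1
    haveI := hGp.center_nontrivial
    rcases IsSimpleGroup.eq_bot_or_eq_top_of_normal (center G) inferInstance with h1 | h1
    · exact absurd h1 ((nontrivial_iff_ne_bot _).mp inferInstance)
    · exact hG.2.2.1 ⟨⟨fun a b => (mem_center_iff.mp (h1.symm ▸ mem_top b : b ∈ center G) a)⟩⟩
  obtain ⟨M, hM, hPM⟩ := exists_coatom_ge hPt
  refine ⟨M, ⟨hM, hPM⟩, ?_⟩
  rintro L ⟨hL, hPL⟩
  obtain ⟨T, hT, hPT⟩ := exists_sylowOf hP (le_inf hPM hPL : P ≤ M ⊓ L)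
  have hTnc : ¬ IsCyclic T := fun hc =>
    hnc (isCyclic_of_injective (inclusion hPT) (inclusion_injective hPT))
  have hTN : normalizer (T : Set G) ≤ M ⊓ L := le_inf
    (normalizer_le_of_noncyclic hG hM (hσ M hM hPM) hT.2.1 (hT.1.trans inf_le_left) hTnc)
    (normalizer_le_of_noncyclic hG hL (hσ L hL hPL) hT.2.1 (hT.1.trans inf_le_right) hTnc)
  obtain ⟨S, hTS⟩ := hT.2.1.exists_le_sylow
  have hTeq : T = (S : Subgroup G) := by
    by_contra hne
    obtain ⟨g, ⟨hgS, hgN⟩, hgT⟩ :=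
      SetLike.exists_of_lt (FittingUniqueness.lt_inf_normalizer S.2 (lt_of_le_of_ne hTS hne))
    refine hgT ?_
    have h1 := hT.2.2 (T ⊔ zpowers g) (S.2.to_le (sup_le hTS (zpowers_le.mpr hgS)))
      (sup_le hT.1 (zpowers_le.mpr (hTN hgN))) le_sup_left
    exact h1.le (mem_sup_right (mem_zpowers g))
  have hSM : (S : Subgroup G) ≤ M := hTeq ▸ hT.1.trans inf_le_left
  have hSL : (S : Subgroup G) ≤ L := hTeq ▸ hT.1.trans inf_le_right
  have hσM := hσ M hM hPM
  have hσL := hσ L hL hPL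
  by_cases hr : Cfsg.PRankLE p 2 (S : Subgroup G)
  swap
  · obtain ⟨E, hES, hE, hEc⟩ := exists_elementary hr
    obtain ⟨M₀, -, hu⟩ := ScnUniqueness.unique_of_abelian hG hE hEc
    rw [hu L ⟨hL, hES.trans hSL⟩, hu M ⟨hM, hES.trans hSM⟩]
  have hnaS : ¬ IsMulCommutative (S : Subgroup G) := fun h => hna ⟨⟨fun a b => Subtype.ext
    (ThompsonTransitivity.mul_comm_of h ((hPT.trans hTS) a.2) ((hPT.trans hTS) b.2))⟩⟩
  rcases Cfsg.Agent.S1412.result hG p S hr with hab | ⟨P₁, P₂, hsup, hcomm, hna1, hc1, hexp, -, -⟩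
  · exact absurd hab hnaS
  have hexp' : ∀ u ∈ P₁, u ^ p = 1 := fun u hu => by
    have h1 := Monoid.pow_exponent_eq_one (⟨u, hu⟩ : P₁)
    rw [hexp] at h1
    exact congrArg Subtype.val h1
  set Z := P₁ ⊓ centralizer (P₁ : Set G) with hZ
  have hSC : (S : Subgroup G) ≤ centralizer (Z : Set G) := hsup ▸ sup_le (le_centralizer_iff.mp inf_le_right)
    fun b hb => mem_centralizer_iff.mpr fun z hz => hcomm z hz.1 b hb
  have hZ1 : Z ≠ ⊥ := fun h0 => by
    haveI : Nontrivial P₁ := (nontrivial_iff_ne_bot _).mpr fun h1 => hna1 (h1 ▸ inferInstance)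
    have := (IsPGroup.of_card hc1).center_nontrivial
    obtain ⟨⟨c, hc⟩, hc'⟩ := exists_ne (1 : center P₁)
    exact hc' (Subtype.ext (Subtype.ext (mem_bot.mp (h0.le (show (c : G) ∈ Z from
      ⟨c.2, mem_centralizer_iff.mpr fun w hw => congrArg Subtype.val (mem_center_iff.mp hc ⟨w, hw⟩)⟩)))))
  obtain ⟨H, hH, hCH⟩ := exists_coatom_ge (MinSimpleTransitivity.normalizer_ne_top hG hZ1
    (FittingUniqueness.ne_top_of_le_coatom hM ((inf_le_left.trans (hsup ▸ le_sup_left)).trans hSM)))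
  have hCH' : centralizer (Z : Set G) ≤ H := (centralizer_le_normalizer _).trans hCH
  have hσH : p ∈ Cfsg.sigma H := hσ H hH ((hPT.trans hTS).trans (hSC.trans hCH'))
  have key : ∀ X : Subgroup G, IsCoatom X → p ∈ Cfsg.sigma X → (S : Subgroup G) ≤ X → X = H := by
    intro X hX hσX hSX
    by_contra hne
    exact eq_of_center_le hG hX hH hne S hr hnaS hσX hσH hSX hsup hcomm hna1 hc1 hexp' hCH'
  rw [key L hL hσL hSL, key M hM hσM hSM]

end Cfsg.Lib.OddLocal.RankTwoMax
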