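import Cfsg.Agent.OddLocal.SigmaUniqueness

/-!
# A nonregular line of rank one is not moved by an element of prime order
-/

set_option linter.unusedSectionVars false
set_option linter.unusedVariables false
set_option linter.style.haveILetI false

namespace Cfsg.Lib.OddLocal.RankTwoMax

open Subgroup Uniqueness Sigma
open Cfsg.Lib.Coprime (conjMap)
open scoped commutatorElement

universe u

variable {G : Type u} [Group G] [Finite G] {M L La P E : Subgroup G} {p q s : ℕ} [hp : Fact p.Prime]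
  [hq : Fact q.Prime] [hs : Fact s.Prime] {a : G}

/-- A moved line of a rank one prime is normal in a complement. -/
theorem complement_normalizes_moved (hG : Cfsg.IsMinSimpleOddOrder G) (hM : IsCoatom M)
    (hr : Cfsg.PRankLE p 1 M) (hE : Cfsg.IsComplIn E (Cfsg.sigmaCore M) M) (hPc : Nat.card P = p) (hPE : P ≤ E)
    (haE : a ∈ E) (haP : a ∈ normalizer (P : Set G)) (hmove : a ∉ centralizer (P : Set G)) :
    P ≤ ⁅E, E⁆ ∧ E ≤ normalizer (P : Set G) := by
  obtain ⟨y, hy, hya⟩ : ∃ y ∈ P, ⁅y, a⁆ ≠ 1 := by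
    by_contra h
    exact hmove (mem_centralizer_iff.mpr fun y hy => commutatorElement_eq_one_iff_mul_comm.mp
      (by_contra fun hne => h ⟨y, hy, hne⟩))
  have hyP : ⁅y, a⁆ ∈ P := by
    rw [commutatorElement_def, mul_assoc, mul_assoc, ← mul_assoc a]
    exact mul_mem hy ((mem_normalizer_iff.mp haP _).mp (inv_mem hy))
  have hPD : P ≤ ⁅E, E⁆ := line_eq_of_mem hPc hyP hya ▸
    zpowers_le.mpr (commutator_mem_commutator (hPE hy) haE)
  refine ⟨hPD, fun g hg => Cfsg.Lib.Coprime.conjMap_eq_self_iff.mp ?_⟩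
  have hgD : conjMap g P ≤ ⁅E, E⁆ := (Cfsg.Lib.Coprime.conjMap_mono hPD).trans
    (Cfsg.Lib.Coprime.conjMap_eq_self (commutator_normal E hg)).le
  have hc := (sigma_prime_corollary hG hM hE).2.1
  have hgc : Nat.card (conjMap g P) = p := by rw [Cfsg.Lib.Coprime.card_conjMap, hPc]
  have hn : conjMap g P ≤ normalizer (P : Set G) := fun w hw => centralizer_le_normalizer _
    (mem_centralizer_iff.mpr fun v hv => ThompsonTransitivity.mul_comm_of hc (hPD hv) (hgD hw))
  have hcyc := isCyclic_sylow_of_rank_one hG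
    ((isPGroup_of_card hPc).to_sup_of_normal_left' (isPGroup_of_card hgc) hn)
    ((sup_le (hPD.trans (commutator_le_self E)) (hgD.trans (commutator_le_self E))).trans hE.1) hr
  exact eq_of_cyclic hcyc le_sup_right le_sup_left (hgc.trans hPc.symm)

/-- The data of a moved nonregular line `P` of `M` with mover `a`, and `L` over `N(P)`. -/
structure MovedLine (p s : ℕ) (M L La P : Subgroup G) (a : G) : Prop where
  max : IsCoatom M
  maxL : IsCoatom L
  maxLa : IsCoatom La
  not_conj : ∀ g : G, L ≠ conjMap g M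
  centralizer : Subgroup.centralizer (P : Set G) ≤ L
  cardP : Nat.card P = p
  memM : P ≤ M
  memL : P ≤ L
  derived : P ≤ ⁅M, M⁆
  sigmaP : p ∈ Cfsg.sigma L
  notSigmaP : p ∉ Cfsg.sigma M
  tau : s ∈ Cfsg.tau1 M
  order : orderOf a = s
  memA : a ∈ M
  memA' : a ∈ L
  normalizes : a ∈ Subgroup.normalizer (P : Set G)
  moves : a ∉ Subgroup.centralizer (P : Set G)
  sigmaA : s ∈ Cfsg.sigma La
  centralizerA : Subgroup.centralizer ({a} : Set G) ≤ La
  normA : Subgroup.normalizer (Subgroup.zpowers a : Set G) ≤ La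

theorem MovedLine.ne (h : MovedLine p s M L La P a) : L ≠ M := fun e =>
  h.not_conj 1 (by rw [Cfsg.Lib.Coprime.conjMap_one]; exact e)

theorem MovedLine.ne_La (h : MovedLine p s M L La P a) : La ≠ M := fun e => h.tau.2.1 (e ▸ h.sigmaA)

theorem MovedLine.centralizes (hG : Cfsg.IsMinSimpleOddOrder G) (h : MovedLine p s M L La P a) {z : G}
    (hz : z ∈ Cfsg.sigmaCore M) (hzL : z ∈ L) : z ∈ Subgroup.centralizer (P : Set G) := by
  refine mem_centralizer_iff.mpr fun y hy => ?_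
  have hyL : y ∈ Cfsg.sigmaCore L :=
    le_sigmaCore_of_pgroup hG h.maxL h.sigmaP (isPGroup_of_card h.cardP) h.memL hy
  have h1 : ⁅z, y⁆ ∈ Cfsg.sigmaCore M ⊓ Cfsg.sigmaCore L := by
    refine ⟨?_, ?_⟩
    · show _ ∈ Cfsg.sigmaCore M
      rw [commutatorElement_def, mul_assoc, mul_assoc, ← mul_assoc y]
      exact Subgroup.mul_mem _ hz ((mem_normalizer_iff.mp (le_normalizer_sigmaCore M (h.memM hy)) _).mp
        (Subgroup.inv_mem _ hz))
    · show _ ∈ Cfsg.sigmaCore L
      rw [commutatorElement_def]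
      exact Subgroup.mul_mem _ ((mem_normalizer_iff.mp (le_normalizer_sigmaCore L hzL) _).mp hyL)
        (Subgroup.inv_mem _ hyL)
  rw [sigmaCore_inf_eq_bot hG h.max h.maxL h.not_conj, mem_bot] at h1
  exact (commutatorElement_eq_one_iff_mul_comm.mp h1).symm

/-- An element of prime order of `M_σ ∩ L` has rank one in `L`. -/
theorem MovedLine.rank_one (hG : Cfsg.IsMinSimpleOddOrder G) (h : MovedLine p s M L La P a) {z : G}
    (hz : z ∈ Cfsg.sigmaCore M) (hzo : orderOf z = q) (hzL : z ∈ L) :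
    q ∈ Cfsg.sigma M ∧ q ∉ Cfsg.sigma L ∧ Cfsg.PRankLE q 1 L := by
  have hX : Nat.card (zpowers z) = q := by rw [Nat.card_zpowers, hzo]
  have hσ : q ∈ Cfsg.sigma M :=
    sigmaCore_isPi q hq.out ((dvd_of_eq hX.symm).trans (card_dvd_of_le (zpowers_le.mpr hz)))
  have hqL : q ∉ Cfsg.sigma L := fun hh => by
    obtain ⟨g, hg⟩ := (sigma_partition hG).2 M L h.max h.maxL ⟨q, hσ, hh⟩
    exact h.not_conj g hg
  refine ⟨hσ, hqL, by_contra fun hr => ?_⟩
  have hPp : IsPGroup p P := isPGroup_of_card h.cardP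
  obtain ⟨y, hy, hyo⟩ := ScnUniqueness.exists_orderOf hPp (line_ne_bot h.cardP)
  obtain ⟨-, huniq⟩ := unique_centralizer_of_tau_two hG h.maxL hzL
    (fun h1 => hq.out.ne_one (by rw [← hzo, h1, orderOf_one]))
    (fun t ht hd => by
      rw [hzo, Nat.prime_dvd_prime_iff_eq ht hq.out] at hd
      exact hd ▸ ⟨hq.out, hqL, pRankLE_of_not_sigma hG h.maxL hqL, hr⟩)
    (le_sigmaCore_of_pgroup hG h.maxL h.sigmaP hPp h.memL hy)
    (fun h1 => hp.out.ne_one (by rw [← hyo, h1, orderOf_one]))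
    (mem_centralizer_iff.mp (h.centralizes hG hz hzL) y hy).symm
  exact other_core_false hG h.max h.maxL h.ne hσ hqL (isPGroup_of_card hX) (line_ne_bot hX)
    (zpowers_le.mpr (sigmaCore_le M hz))
    (normalizer_le_of_unique hG h.maxL (line_ne_bot hX) (zpowers_le.mpr hzL) fun N hN hle =>
      huniq N hN (by rwa [Cfsg.Lib.Coprime.centralizer_zpowers] at hle))
    h.sigmaP hPp (line_ne_bot h.cardP) h.memM h.memL

/-- The mover centralizes no element of prime order of `M_σ ∩ L`. -/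
theorem MovedLine.fixed_false (hG : Cfsg.IsMinSimpleOddOrder G) (h : MovedLine p s M L La P a) {z : G}
    (hz : z ∈ Cfsg.sigmaCore M) (hzo : orderOf z = q) (hzL : z ∈ L) (hza : z * a = a * z) : False := by
  obtain ⟨hσ, hqL, hqr⟩ := h.rank_one hG hz hzo hzL
  have hM := h.max
  have hzP := h.centralizes hG hz hzL
  have hPp : IsPGroup p P := isPGroup_of_card h.cardP
  have hX : Nat.card (zpowers z) = q := by rw [Nat.card_zpowers, hzo]
  have hac : Nat.card (zpowers a) = s := by rw [Nat.card_zpowers, h.order]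
  have haP : zpowers a ≤ normalizer (P : Set G) := zpowers_le.mpr h.normalizes
  have hqp : q ≠ p := fun e => h.notSigmaP (e ▸ hσ)
  have hsq : s ≠ q := fun e => h.tau.2.1 (e ▸ hσ)
  have hsp : s ≠ p := fun e => by
    subst e
    exact h.tau.2.2.2.1 ((dvd_of_eq h.cardP.symm).trans (card_dvd_of_le h.derived))
  have hzC : P ⊔ zpowers a ≤ normalizer (zpowers z : Set G) := by
    refine le_trans (sup_le ?_ (zpowers_le.mpr ?_)) (centralizer_le_normalizer _)
    · exact le_centralizer_iff.mp (zpowers_le.mpr hzP)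
    · rw [Cfsg.Lib.Coprime.centralizer_zpowers]; exact mem_centralizer_singleton_iff.mpr hza.symm
  have hPa : P ⊔ zpowers a ≤ M := sup_le h.memM (zpowers_le.mpr h.memA)
  have hcop : ∀ Y : Subgroup G, Y ≤ Cfsg.sigmaCore M → (Nat.card ↥(P ⊔ zpowers a)).Coprime (Nat.card Y) :=
    fun Y hY => coprime_card_of_disjoint fun t ht h1 h2 => by
      have h3 := sigmaCore_isPi t ht (h2.trans (card_dvd_of_le hY))
      rcases dvd_card_sup haP ht h1 with hh | hh
      · exact h.notSigmaP (eq_of_dvd_pgroup hPp ht hh ▸ h3)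
      · exact h.tau.2.1 (eq_of_dvd_pgroup (isPGroup_of_card (p := s) hac) ht hh ▸ h3)
  have hsol : Group.IsSolvable ↥(P ⊔ zpowers a) := hG.2.2.2 _ (FittingUniqueness.ne_top_of_le_coatom hM hPa)
  by_cases hβ : q ∈ Cfsg.beta M
  · set W := Cfsg.piCoreOf (Cfsg.beta M) M with hW
    have hWM : W ≤ M := PiCoreOf.le _ _
    have hWπ : ∀ t : ℕ, t.Prime → t ∣ Nat.card W → t ∈ Cfsg.beta M := (betaCore_hall hG hM).1.2.1
    have hqW : ∀ Y : Subgroup G, IsPGroup q Y → Y ≤ M → Y ≤ W := by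
      intro Y hY hYM y hy
      obtain ⟨R, hR⟩ := (hY.comap_subtype (K := M)).exists_le_sylow
      exact ⟨⟨y, hYM hy⟩, sylow_le_betaCore hG hM hβ R (hR hy), rfl⟩
    obtain ⟨T₀, hzT, hT₀⟩ := Cfsg.Lib.Coprime.exists_invariant_sylow_ge (A := P ⊔ zpowers a) (K := W)
      (hPa.trans (PiCoreOf.le_normalizer' _ _))
      (coprime_card_of_disjoint fun t ht h1 h2 => by
        have h3 := alpha_subset_sigma hG hM (hWπ t ht h2).1
        rcases dvd_card_sup haP ht h1 with hh | hh
        · exact h.notSigmaP (eq_of_dvd_pgroup hPp ht hh ▸ h3)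
        · exact h.tau.2.1 (eq_of_dvd_pgroup (isPGroup_of_card (p := s) hac) ht hh ▸ h3))
      (Or.inl hsol) q (hqW _ (isPGroup_of_card hX) (zpowers_le.mpr (sigmaCore_le M hz)))
      (isPGroup_of_card hX) hzC
    set T := (T₀ : Subgroup W).map W.subtype with hT
    have hTM : T ≤ M := (map_subtype_le _).trans hWM
    have hzLa : z ∈ La := h.centralizerA (mem_centralizer_singleton_iff.mpr hza)
    obtain ⟨-, hqLa⟩ := rank_one_of_ideal (p := q) hG hM h.maxLa h.ne_La hβ (isPGroup_of_card hX)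
      (line_ne_bot hX) (zpowers_le.mpr (sigmaCore_le M hz)) (zpowers_le.mpr hzLa)
    have hfix : P ⊓ Subgroup.centralizer ({a} : Set G) = ⊥ := le_bot_iff.mp fun y hy => by
      rw [mem_bot]
      by_contra hy1
      refine h.moves (le_centralizer_iff.mp (?_ : P ≤ Subgroup.centralizer (zpowers a : Set G)) (mem_zpowers a))
      rw [← line_eq_of_mem h.cardP hy.1 hy1, Cfsg.Lib.Coprime.centralizer_zpowers]
      exact zpowers_le.mpr hy.2
    have hPT : P ≤ Subgroup.centralizer (T : Set G) := centralizes_of_fixed_small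
      (ne_two hG (isPGroup_of_card hX) (line_ne_bot hX)) h.order haP
      (coprime_of_ne hsp.symm hPp) (coprime_of_ne hqp.symm hPp) hsq hfix _ T le_rfl (T₀.2.map _)
      (le_sup_left.trans hT₀) (le_sup_right.trans hT₀) fun y hy hyq hya => by
        by_cases hy1 : y = 1
        · rw [hy1]; exact one_mem _
        have hcyc := isCyclic_sylow_of_rank_one hG
          ((T₀.2.map W.subtype).to_le (inf_le_left : T ⊓ La ≤ T)) inf_le_right hqLa
        have heq := eq_of_cyclic hcyc (H := zpowers y) (K := zpowers z)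
          (zpowers_le.mpr ⟨hy, h.centralizerA (mem_centralizer_singleton_iff.mpr hya)⟩)
          (zpowers_le.mpr ⟨hzT (mem_zpowers z), hzLa⟩)
          (by rw [hX, Nat.card_zpowers, orderOf_eq_prime hyq hy1])
        exact (zpowers_le.mpr hzP) (heq.le (mem_zpowers y))
    obtain ⟨B, hBM, hB, hBc⟩ := exists_elementary (p := q) hβ.1.2
    obtain ⟨R, hR, hBR⟩ := exists_sylowOf (isPGroup_of_pow hB.2) (hqW B (isPGroup_of_pow hB.2) hBM)
    obtain ⟨m, -, hmR⟩ := card_eq_of_sylowOf hR (isSylowOf_sylow T₀)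
    refine not_pRankLE_of (Cfsg.Lib.OddP.isElementaryAbelian_map hB (MulAut.conj m).toMonoidHom)
      (X := L) ?_ ?_ hqr
    · exact ((Cfsg.Lib.Coprime.conjMap_mono hBR).trans hmR.le).trans
        ((le_centralizer_iff.mp hPT).trans h.centralizer)
    · rw [show B.map (MulAut.conj m).toMonoidHom = conjMap m B from rfl, Cfsg.Lib.Coprime.card_conjMap]
      exact (Nat.pow_le_pow_right hq.out.pos (by norm_num)).trans hBc
  -- `q ∉ β(M)`: the Sylow group is cyclic, so meets `M_σ'` trivially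
  set H := Cfsg.sigmaCore M with hH
  have hzP' : P ≤ normalizer (zpowers z : Set G) := le_sup_left.trans hzC
  obtain ⟨T₀, hzT, hT₀⟩ := Cfsg.Lib.Coprime.exists_invariant_sylow_ge (A := P) (K := H)
    (h.memM.trans (le_normalizer_sigmaCore M))
    ((hcop H le_rfl).coprime_dvd_left (card_dvd_of_le le_sup_left))
    (Or.inl (hG.2.2.2 _ (FittingUniqueness.ne_top_of_le_coatom hM h.memM))) q
    (zpowers_le.mpr hz) (isPGroup_of_card hX) hzP'
  set T := (T₀ : Subgroup H).map H.subtype with hT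
  have hTH : T ≤ H := map_subtype_le _
  have hTp : IsPGroup q T := T₀.2.map _
  have hPT : P ≤ Subgroup.centralizer (T : Set G) := centralizes_of_derived hG hM hβ
    (hTH.trans (sigmaCore_le_derived hG hM)) h.derived hTp (coprime_of_ne hqp.symm hPp) hT₀
  have hTL : T ≤ L := (le_centralizer_iff.mp hPT).trans h.centralizer
  have hTc : IsCyclic T := isCyclic_sylow_of_rank_one hG hTp hTL hqr
  haveI := hTc
  have hzd : zpowers z ≤ ⁅H, H⁆ := tau_one_derived hG hM h.tau hac (zpowers_le.mpr h.memA) hX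
    (zpowers_le.mpr hz) (zpowers_le.mpr (by
      rw [Cfsg.Lib.Coprime.centralizer_zpowers]; exact mem_centralizer_singleton_iff.mpr hza.symm)) hβ
  set K := Op q H with hK
  have hHK : H ≤ normalizer (K : Set G) := le_normalizer.trans (PiCoreOf.normalizer_le _ _)
  have hpn : PNil q H := pnil_of_le_derived hG hM hσ.2.1 hβ (sigmaCore_le_derived hG hM)
  have hcov : H ≤ K ⊔ T := by
    refine Cfsg.Lib.Coprime.le_of_forall_sylow fun t ht => ?_
    haveI := Fact.mk ht
    by_cases htq : t = q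
    · subst htq
      exact ⟨T₀, le_sup_right⟩
    · obtain ⟨S'⟩ : Nonempty (Sylow t H) := inferInstance
      refine ⟨S', ?_⟩
      rintro _ ⟨y, hy, rfl⟩
      refine mem_sup_left ?_
      rw [hK, Op_eq]
      refine mem_map_of_mem _ (hpn y ?_)
      obtain ⟨j, hj⟩ := IsPGroup.iff_card.mp (S'.2.to_le (zpowers_le.mpr hy))
      rw [← Nat.card_zpowers, hj]
      exact ((Nat.coprime_primes ht hq.out).mpr htq).pow_left j
  have hder : ⁅H, H⁆ ≤ K := by
    rw [commutator_le]
    intro u hu v hv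
    obtain ⟨k, hk, t, ht, rfl⟩ := (Cfsg.Lib.Coprime.mem_sup_of_le_normalizer (hTH.trans hHK)).mp (hcov hu)
    obtain ⟨l, hl, t', ht', rfl⟩ := (Cfsg.Lib.Coprime.mem_sup_of_le_normalizer (hTH.trans hHK)).mp (hcov hv)
    rw [show ⁅k * t, l * t'⁆ = k * (t * l * t⁻¹) * ((t * t' * t⁻¹) * k⁻¹ * t'⁻¹) * l⁻¹ by
      simp only [commutatorElement_def]; group,
      ThompsonTransitivity.mul_comm_of (inferInstance : IsMulCommutative T) ht ht', mul_inv_cancel_right]
    exact mul_mem (mul_mem (mul_mem hk ((mem_normalizer_iff.mp (hHK (hTH ht)) _).mp hl))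
      ((mem_normalizer_iff.mp (hHK (hTH ht')) _).mp (inv_mem hk))) (inv_mem hl)
  have hz1 : z = 1 := Cfsg.Lib.Coprime.eq_one_of_coprime (N := K) (H := zpowers z)
    (by rw [hX]; exact coprime_Op H) (hder (hzd (mem_zpowers z))) (mem_zpowers z)
  exact hq.out.ne_one (by rw [← hzo, hz1, orderOf_one])

/-- An element of order `q` of `M_σ` commuting with the mover, whose prime divides `|L|`, is impossible. -/
theorem MovedLine.cross_false (hG : Cfsg.IsMinSimpleOddOrder G) (h : MovedLine p s M L La P a)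
    (hsL : s ∉ Cfsg.sigma L) {F : Subgroup G} (hF : Cfsg.IsComplIn F (Cfsg.sigmaCore L) L) (hFM : F ≤ M)
    (hσ : q ∈ Cfsg.sigma M) {z₁ : G} (hz₁L : z₁ ∈ L) (hz₁o : orderOf z₁ = q) (hz₁a : z₁ * a = a * z₁) :
    False := by
  have hqL : q ∉ Cfsg.sigma L := fun hh => by
    obtain ⟨g, hg⟩ := (sigma_partition hG).2 M L h.max h.maxL ⟨q, hσ, hh⟩
    exact h.not_conj g hg
  have hqF : q ∣ Nat.card F := by
    have h1 : q ∣ Nat.card L := by
      rw [← hz₁o, ← Nat.card_zpowers]; exact card_dvd_of_le (zpowers_le.mpr hz₁L)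
    rw [card_eq_mul hF] at h1
    exact (hq.out.dvd_mul.mp h1).resolve_left fun hh => hqL (sigmaCore_isPi q hq.out hh)
  set D := Cfsg.sigmaCore M ⊓ L with hD
  have hqD : q ∣ Nat.card D := by
    obtain ⟨y, hy⟩ := exists_prime_orderOf_dvd_card' q hqF
    have hyc : Nat.card (zpowers (y : G)) = q := by rw [Nat.card_zpowers, orderOf_coe, hy]
    have hyD : zpowers (y : G) ≤ D := le_inf
      (le_sigmaCore_of_pgroup hG h.max hσ (isPGroup_of_card hyc) (zpowers_le.mpr (hFM y.2)))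
      (zpowers_le.mpr (hF.1 y.2))
    exact (dvd_of_eq hyc.symm).trans (card_dvd_of_le hyD)
  have hac : Nat.card (zpowers a) = s := by rw [Nat.card_zpowers, h.order]
  have haD : zpowers a ≤ normalizer (D : Set G) := Cfsg.Lib.Coprime.le_normalizer_inf
    ((zpowers_le.mpr h.memA).trans (le_normalizer_sigmaCore M)) ((zpowers_le.mpr h.memA').trans le_normalizer)
  obtain ⟨T₀, hT₀⟩ := Cfsg.Lib.Coprime.exists_invariant_sylow haD
    (by rw [hac]; exact hs.out.coprime_iff_not_dvd.mpr fun hd =>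
      h.tau.2.1 (sigmaCore_isPi s hs.out (hd.trans (card_dvd_of_le inf_le_left))))
    (Or.inl (hG.2.2.2 _ (FittingUniqueness.ne_top_of_le_coatom h.max (zpowers_le.mpr h.memA)))) q
  set T := (T₀ : Subgroup D).map D.subtype with hT
  have hTp : IsPGroup q T := T₀.2.map _
  have hT1 : T ≠ ⊥ := by
    intro (h0 : T = ⊥)
    have h1 : q ∣ Nat.card (T₀ : Subgroup D) := T₀.dvd_card_of_dvd_card hqD
    rw [← card_map_of_injective D.subtype_injective (K := (T₀ : Subgroup D))] at h1
    change q ∣ Nat.card T at h1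
    rw [h0, card_bot] at h1
    exact hq.out.not_dvd_one h1
  obtain ⟨z, hzT, hzo⟩ := ScnUniqueness.exists_orderOf hTp hT1
  have hzD : z ∈ D := map_subtype_le _ hzT
  obtain ⟨-, -, hqr⟩ := h.rank_one hG hzD.1 hzo hzD.2
  have hTc : IsCyclic T := isCyclic_sylow_of_rank_one hG hTp ((map_subtype_le _).trans inf_le_right) hqr
  refine h.fixed_false hG hzD.1 hzo hzD.2 (commute_of_fixed hG h.maxL hqL hsL hqr h.memA' h.order hzD.2 hzo
    ?_ hz₁L hz₁o hz₁a)
  exact normalizer_le_of_cyclic hTc (zpowers_le.mpr hzT) (hT₀ (mem_zpowers a))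

/-- The two fixed elements of the mover cross over. -/
theorem moved_cross {r : ℕ} [hr : Fact r.Prime] {P' E F : Subgroup G} {p' : ℕ} [hp' : Fact p'.Prime]
    (hG : Cfsg.IsMinSimpleOddOrder G) (h : MovedLine p s M L La P a) (h' : MovedLine p' s L M La P' a)
    (hsL : s ∉ Cfsg.sigma L) (hsM : s ∉ Cfsg.sigma M) (hE : Cfsg.IsComplIn E (Cfsg.sigmaCore M) M) (hEL : E ≤ L)
    (hF : Cfsg.IsComplIn F (Cfsg.sigmaCore L) L) (hFM : F ≤ M) {z w : G} (hz : z ∈ Cfsg.sigmaCore M)
    (hzo : orderOf z = q) (hza : z * a = a * z) (hw : w ∈ Cfsg.sigmaCore L) (hwo : orderOf w = r)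
    (hwa : w * a = a * w) : False := by
  have hLa := h.maxLa
  set C := Subgroup.centralizer ({a} : Set G) with hC
  have hzC : z ∈ C := mem_centralizer_singleton_iff.mpr hza
  have hwC : w ∈ C := mem_centralizer_singleton_iff.mpr hwa
  have hac : Nat.card (zpowers a) = s := by rw [Nat.card_zpowers, h.order]
  -- data of a fixed element
  have side : ∀ (M' : Subgroup G) (q' : ℕ) [Fact q'.Prime] (y : G), IsCoatom M' → s ∈ Cfsg.tau1 M' → a ∈ M' →
      La ≠ M' → y ∈ Cfsg.sigmaCore M' → orderOf y = q' → y ∈ C →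
      q' ∈ Cfsg.sigma M' ∧ normalizer (zpowers y : Set G) ≤ M' ∧ Cfsg.PRankLE q' 1 La := by
    intro M' q' _ y hM' hτ haM' hne hy hyo hyC
    have hyc : Nat.card (zpowers y) = q' := by rw [Nat.card_zpowers, hyo]
    have hσ : q' ∈ Cfsg.sigma M' := sigmaCore_isPi q' (Fact.out : q'.Prime)
      ((dvd_of_eq hyc.symm).trans (card_dvd_of_le (zpowers_le.mpr hy)))
    obtain ⟨-, huniq⟩ := tau_one_unique hG hM' hτ hac (zpowers_le.mpr haM') hyc (zpowers_le.mpr hy)
      (zpowers_le.mpr (by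
        rw [Cfsg.Lib.Coprime.centralizer_zpowers]
        exact mem_centralizer_singleton_iff.mpr (mem_centralizer_singleton_iff.mp hyC).symm))
    refine ⟨hσ, normalizer_le_of_unique hG hM' (line_ne_bot hyc) (zpowers_le.mpr (sigmaCore_le M' hy)) huniq,
      by_contra fun hr1 => hne ?_⟩
    have hqLa : q' ∉ Cfsg.sigma La := fun hh => by
      obtain ⟨g, hg⟩ := (sigma_partition hG).2 La M' hLa hM' ⟨q', hh, hσ⟩
      exact not_conj_of_rank_one (p := s) hG hM' hτ.2.1 hτ.2.2.2.2 hτ.2.2.1 hLa hac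
        h.normA g⁻¹
        (by rw [show M' = conjMap g La from hg, Cfsg.Lib.Coprime.conjMap_inv_conjMap])
    obtain ⟨hle, -⟩ := unique_centralizer_of_tau_two hG hLa (h.centralizerA hyC)
      (fun hh => (Fact.out : q'.Prime).ne_one (by rw [← hyo, hh, orderOf_one]))
      (fun t ht hd => by
        rw [hyo, Nat.prime_dvd_prime_iff_eq ht (Fact.out : q'.Prime)] at hd
        exact hd ▸ ⟨(Fact.out : q'.Prime), hqLa, pRankLE_of_not_sigma hG hLa hqLa, hr1⟩)
      (le_sigmaCore_of_pgroup (p := s) hG hLa h.sigmaA (isPGroup_of_card hac)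
        (zpowers_le.mpr (h.centralizerA (mem_centralizer_singleton_iff.mpr rfl))) (mem_zpowers a))
      (fun hh => hs.out.ne_one (by rw [← h.order, hh, orderOf_one])) (mem_centralizer_singleton_iff.mp hyC)
    exact huniq La hLa (by rw [Cfsg.Lib.Coprime.centralizer_zpowers]; exact hle)
  have hLaL : La ≠ L := fun e => hsL (e ▸ h.sigmaA)
  obtain ⟨hqσ, hNz, hqLa⟩ := side M q z h.max h.tau h.memA h.ne_La hz hzo hzC
  obtain ⟨hrσ, hNw, hrLa⟩ := side L r w h.maxL h'.tau h.memA' hLaL hw hwo hwC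
  -- a Hall group for the two primes
  haveI : Group.IsSolvable C := hG.2.2.2 C (FittingUniqueness.ne_top_of_le_coatom hLa h.centralizerA)
  obtain ⟨H, hH⟩ := Cfsg.Lib.Coprime.exists_piHall (G := C) {t : ℕ | t = q ∨ t = r}
  have hdiv : ∀ t : ℕ, t.Prime → (t = q ∨ t = r) → t ∣ Nat.card C → t ∣ Nat.card H := fun t ht htπ hd => by
    rw [← H.index_mul_card] at hd
    exact (ht.dvd_mul.mp hd).resolve_left (hH.2 t ht htπ)
  have hqH : q ∣ Nat.card H := hdiv q hq.out (Or.inl rfl) (by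
    rw [← hzo, ← Nat.card_zpowers]; exact card_dvd_of_le (zpowers_le.mpr hzC))
  have hrH : r ∣ Nat.card H := hdiv r hr.out (Or.inr rfl) (by
    rw [← hwo, ← Nat.card_zpowers]; exact card_dvd_of_le (zpowers_le.mpr hwC))
  have hHne : (⊤ : Subgroup H) ≠ ⊥ := fun h0 => by
    have h1 := card_top (G := H)
    rw [h0, card_bot] at h1
    exact hq.out.not_dvd_one (h1 ▸ hqH)
  obtain ⟨V, -, hVn, hV1, hVmin⟩ := Cfsg.Lib.Coprime.exists_minimal_normal (G := H) inferInstance hHne
  haveI := hVn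
  obtain ⟨-, t, ht, hVt, -⟩ := Cfsg.Lib.Coprime.minimal_normal_solvable (N := V) inferInstance hV1 hVmin
  haveI := Fact.mk ht
  set V' := (V.map H.subtype).map C.subtype with hV'
  have hV'p : IsPGroup t V' := (hVt.map _).map _
  have hV'C : V' ≤ C := map_subtype_le _
  have htπ : t = q ∨ t = r := hH.1 t ht ((dvd_card_of_isPGroup hVt hV1).trans (card_subgroup_dvd_card V))
  have hHn : ∀ g : H, ((g : C) : G) ∈ normalizer (V' : Set G) := fun g => by
    refine mem_normalizer_iff.mpr fun y => ⟨?_, ?_⟩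
    · rintro ⟨v, ⟨v', hv', rfl⟩, rfl⟩
      exact ⟨_, mem_map_of_mem _ (hVn.conj_mem v' hv' g), by simp⟩
    · rintro ⟨v, ⟨v', hv', rfl⟩, he⟩
      refine ⟨_, mem_map_of_mem _ (hVn.conj_mem v' hv' g⁻¹), ?_⟩
      have h2 : (((g⁻¹ * v' * g⁻¹⁻¹ : H) : C) : G) =
          ((g : C) : G)⁻¹ * ((v' : C) : G) * ((g : C) : G) := by simp
      show (((g⁻¹ * v' * g⁻¹⁻¹ : H) : C) : G) = y
      rw [h2, show ((v' : C) : G) = _ from he]
      group
  have key : ∀ (N' : Subgroup G) (q' r' : ℕ) [Fact q'.Prime] [Fact r'.Prime] (w' : G),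
      normalizer (zpowers w' : Set G) ≤ N' → Cfsg.PRankLE r' 1 La → orderOf w' = r' → w' ∈ C →
      t = r' → q' ∣ Nat.card H → ∃ z₁ ∈ N', orderOf z₁ = q' ∧ z₁ * a = a * z₁ := by
    intro N' q' r' _ _ w' hN' hr' hwo' hwC' htr hq'H
    subst htr
    have hV'1 : V' ≠ ⊥ := fun h0 => hV1 ((map_eq_bot_iff_of_injective _ H.subtype_injective).mp
      ((map_eq_bot_iff_of_injective _ C.subtype_injective).mp h0))
    obtain ⟨v, hv, hvo⟩ := ScnUniqueness.exists_orderOf hV'p hV'1
    have hcyc : IsCyclic V' := isCyclic_sylow_of_rank_one hG hV'p (hV'C.trans h.centralizerA) hr'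
    obtain ⟨c, hc, hcv⟩ := conj_of_rank_one hG (zpowers_le.mpr hwC') (zpowers_le.mpr (hV'C hv))
      (by rw [Nat.card_zpowers, hwo']) (by rw [Nat.card_zpowers, hvo]) h.centralizerA hr'
    obtain ⟨y, hy⟩ := exists_prime_orderOf_dvd_card' q' hq'H
    have hyn : ((y : C) : G) ∈ normalizer (zpowers v : Set G) :=
      normalizer_le_of_cyclic hcyc (zpowers_le.mpr hv) (hHn y)
    rw [← hcv, Cfsg.Lib.Coprime.normalizer_conjMap] at hyn
    obtain ⟨y', hy', hye⟩ := hyn
    refine ⟨y', hN' hy', ?_, ?_⟩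
    · have h1 := orderOf_injective (MulAut.conj c).toMonoidHom (MulAut.conj c).injective y'
      rw [hye, orderOf_coe, orderOf_coe, hy] at h1
      exact h1.symm
    · refine mem_centralizer_singleton_iff.mp (?_ : y' ∈ C)
      rw [show y' = c⁻¹ * ((MulAut.conj c).toMonoidHom y') * c by simp [mul_assoc], hye]
      exact mul_mem (mul_mem (inv_mem hc) (y : C).2) hc
  rcases htπ with htq | htr
  · obtain ⟨z₁, hz₁, hz₁o, hz₁a⟩ := key M r q z hNz hqLa hzo hzC htq hrH
    exact h'.cross_false (q := r) hG hsM hE hEL hrσ hz₁ hz₁o hz₁a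
  · obtain ⟨z₁, hz₁, hz₁o, hz₁a⟩ := key L q r w hNw hrLa hwo hwC htr hqH
    exact h.cross_false (q := q) hG hsL hF hFM hqσ hz₁ hz₁o hz₁a

/-- One side of the configuration: rank one outside `σ`, a fixed element of the mover. -/
theorem moved_side (hG : Cfsg.IsMinSimpleOddOrder G) (hM : IsCoatom M) (hL : IsCoatom L) (hne : L ≠ M)
    (hE : Cfsg.IsComplIn E (Cfsg.sigmaCore M) M) (hEL : E ≤ L) {x : G} (hx : x ∈ Cfsg.sigmaCore M)
    (hx1 : x ≠ 1) (hxL : x ∈ L) (hσ : p ∉ Cfsg.sigma M) (hr : Cfsg.PRankLE p 1 M) (hPc : Nat.card P = p)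
    (hPE : P ≤ E) (hCP : centralizer (P : Set G) ≤ L) (hao : orderOf a = s) (haE : a ∈ E)
    (haP : a ∈ normalizer (P : Set G)) (hmove : a ∉ centralizer (P : Set G)) :
    s ∈ Cfsg.tau1 M ∧ ∃ z ∈ Cfsg.sigmaCore M, (orderOf z).Prime ∧ z * a = a * z := by
  have hsσ := not_sigma_of_dvd hG hM hE hs.out (by
    rw [← hao, ← Nat.card_zpowers]; exact card_dvd_of_le (zpowers_le.mpr haE))
  have hrank : Cfsg.PRankLE s 1 M := by
    by_contra hh
    obtain ⟨B, hBE, hB, hBc⟩ := exists_sq_complement hG hM hE ⟨hs.out, hsσ, pRankLE_of_not_sigma hG hM hsσ, hh⟩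
    obtain ⟨B₀, hexc⟩ := exists_exc hG hM hsσ (hBE.trans hE.1) hB hBc
    exact hx1 (mem_bot.mp ((hexc.inf_other hG hL hne (hBE.trans hEL)).le ⟨hx, hxL⟩))
  obtain ⟨hPD, -⟩ := complement_normalizes_moved hG hM hr hE hPc hPE haE haP hmove
  have hac : Nat.card (zpowers a) = s := by rw [Nat.card_zpowers, hao]
  have hτ : s ∈ Cfsg.tau1 M := by
    refine ⟨hs.out, hsσ, (dvd_of_eq hac.symm).trans (card_dvd_of_le ((zpowers_le.mpr haE).trans hE.1)),
      fun hd => hmove ?_, hrank⟩
    obtain ⟨R, hR, haR⟩ := exists_sylowOf (isPGroup_of_card (p := s) hac) (zpowers_le.mpr haE)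
    have haD := sylow_le_derived_tau3 hG hM hE ⟨hs.out, hsσ, hd, hrank⟩ hR (haR (mem_zpowers a))
    exact mem_centralizer_iff.mpr fun y hy =>
      ThompsonTransitivity.mul_comm_of (sigma_prime_corollary hG hM hE).2.1 (hPD hy) haD
  refine ⟨hτ, ?_⟩
  by_contra hno
  set H := Cfsg.sigmaCore M with hH
  have hfix : H ⊓ centralizer ({a} : Set G) = ⊥ := by
    by_contra h1
    obtain ⟨t, ht, htd⟩ := Nat.exists_prime_and_dvd (fun hh => h1 (card_eq_one.mp hh))
    haveI := Fact.mk ht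
    obtain ⟨z, hz⟩ := exists_prime_orderOf_dvd_card' t htd
    exact hno ⟨z, z.2.1, by rw [orderOf_coe, hz]; exact ht, mem_centralizer_singleton_iff.mp z.2.2⟩
  have hHM : H ≤ M := sigmaCore_le M
  have hEH : E ≤ normalizer (H : Set G) := hE.1.trans (le_normalizer_sigmaCore M)
  have hcop := coprime_complement hG hM hE
  have hfixP : P ⊓ centralizer ({a} : Set G) = ⊥ := le_bot_iff.mp fun y hy => by
    rw [mem_bot]
    by_contra hy1
    refine hmove (le_centralizer_iff.mp (?_ : P ≤ centralizer (zpowers a : Set G)) (mem_zpowers a))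
    rw [← line_eq_of_mem hPc hy.1 hy1, Cfsg.Lib.Coprime.centralizer_zpowers]
    exact zpowers_le.mpr hy.2
  have hsp : s ≠ p := fun e => by
    subst e
    exact hτ.2.2.2.1 ((dvd_of_eq hPc.symm).trans (card_dvd_of_le (hPD.trans (commutator_mono hE.1 hE.1))))
  have hPH : P ≤ centralizer (H : Set G) := le_centralizer_of_fpf (p := s) hao
    (hG.2.2.2 _ (FittingUniqueness.ne_top_of_le_coatom hM hHM)) (zpowers_le.mpr haP) (hPE.trans hEH)
    ((zpowers_le.mpr haE).trans hEH) (coprime_of_ne hsp.symm (isPGroup_of_card hPc))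
    (hs.out.coprime_iff_not_dvd.mpr fun hd => hsσ (sigmaCore_isPi s hs.out hd)).symm
    (hcop.coprime_dvd_right (card_dvd_of_le hPE)) hfixP hfix
  rcases hM.le_iff.mp ((complement_sup hE).ge.trans (sup_le ((le_centralizer_iff.mp hPH).trans hCP) hEL)) with
    h1 | h1
  · exact hL.1 h1
  · exact hne h1

/-- A nonregular line of a rank one prime is not moved by an element of prime order of a complement. -/
theorem moved_nonregular_false (hG : Cfsg.IsMinSimpleOddOrder G) (hM : IsCoatom M)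
    (hσp : p ∉ Cfsg.sigma M) (hr : Cfsg.PRankLE p 1 M) (hPc : Nat.card P = p) (hPM : P ≤ M) {x : G}
    (hx : x ∈ Cfsg.sigmaCore M) (hx1 : x ≠ 1) (hxP : x ∈ centralizer (P : Set G)) (hao : orderOf a = s)
    (haM : a ∈ M) (hsσ : s ∉ Cfsg.sigma M) (haP : a ∈ normalizer (P : Set G))
    (hmove : a ∉ centralizer (P : Set G)) : False := by
  have hPp : IsPGroup p P := isPGroup_of_card hPc
  have hac : Nat.card (zpowers a) = s := by rw [Nat.card_zpowers, hao]
  obtain ⟨E, hE, hle⟩ := exists_complement_ge hG hM (X := P ⊔ zpowers a) (sup_le hPM (zpowers_le.mpr haM))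
    fun t ht hd => by
      rcases dvd_card_sup (zpowers_le.mpr haP) ht hd with h | h
      · exact eq_of_dvd_pgroup hPp ht h ▸ hσp
      · exact eq_of_dvd_pgroup (isPGroup_of_card (p := s) hac) ht h ▸ hsσ
  have hPE : P ≤ E := le_sup_left.trans hle
  have haE : a ∈ E := hle (mem_sup_right (mem_zpowers a))
  obtain ⟨hPD, hEN⟩ := complement_normalizes_moved hG hM hr hE hPc hPE haE haP hmove
  obtain ⟨L, hL, hNL⟩ := exists_coatom_ge (MinSimpleTransitivity.normalizer_ne_top hG (line_ne_bot hPc)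
    (FittingUniqueness.ne_top_of_le_coatom hM hPM))
  have hnc := not_conj_of_rank_one hG hM hσp hr ((dvd_of_eq hPc.symm).trans (card_dvd_of_le hPM)) hL hPc hNL
  have hne : L ≠ M := fun e => hnc 1 (by rw [Cfsg.Lib.Coprime.conjMap_one]; exact e)
  have hCP : centralizer (P : Set G) ≤ L := (centralizer_le_normalizer _).trans hNL
  -- an element of prime order of `C_{M_σ}(P)`
  obtain ⟨q, hq', hqd⟩ := Nat.exists_prime_and_dvd
    (fun h => hx1 (mem_bot.mp (zpowers_eq_bot.mpr (orderOf_eq_one_iff.mp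
      ((Nat.card_zpowers x).symm.trans h)) ▸ mem_zpowers x)))
  haveI := Fact.mk hq'
  obtain ⟨x₁, hx₁⟩ := exists_prime_orderOf_dvd_card' q hqd
  have hx₁o : orderOf (x₁ : G) = q := by rw [orderOf_coe, hx₁]
  have hx₁' : (x₁ : G) ∈ Cfsg.sigmaCore M := zpowers_le.mpr hx x₁.2
  have hx₁P : (x₁ : G) ∈ centralizer (P : Set G) := zpowers_le.mpr hxP x₁.2
  have hx₁1 : (x₁ : G) ≠ 1 := fun h => hq'.ne_one (by rw [← hx₁o, h, orderOf_one])
  have hpL := sigma_of_nonregular (q := q) hG hM hσp hr hPc hPM hx₁' hx₁o hx₁P hL hNL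
  obtain ⟨hτ, z, hz, hzp, hza⟩ := moved_side hG hM hL hne hE (hEN.trans hNL) hx₁' hx₁1 (hCP hx₁P) hσp hr hPc
    hPE hCP hao haE haP hmove
  haveI hqz : Fact (orderOf z).Prime := ⟨hzp⟩
  have haC : zpowers a ≤ centralizer (zpowers z : Set G) := zpowers_le.mpr (by
    rw [Cfsg.Lib.Coprime.centralizer_zpowers]; exact mem_centralizer_singleton_iff.mpr hza.symm)
  obtain ⟨La, hLa, hNa⟩ := exists_coatom_ge (MinSimpleTransitivity.normalizer_ne_top hG (line_ne_bot hac)
    (FittingUniqueness.ne_top_of_le_coatom hM (zpowers_le.mpr haM)))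
  have hCa : centralizer ({a} : Set G) ≤ La := by
    rw [← Cfsg.Lib.Coprime.centralizer_zpowers]; exact (centralizer_le_normalizer _).trans hNa
  have hsLa : s ∈ Cfsg.sigma La := sigma_of_nonregular (p := s) (q := orderOf z) hG hM hsσ hτ.2.2.2.2 hac
    (zpowers_le.mpr haM) hz rfl (by
      rw [Cfsg.Lib.Coprime.centralizer_zpowers]; exact mem_centralizer_singleton_iff.mpr hza) hLa hNa
  have h : MovedLine p s M L La P a := ⟨hM, hL, hLa, hnc, hCP, hPc, hPM, le_normalizer.trans hNL,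
    hPD.trans (commutator_mono hE.1 hE.1), hpL, hσp, hτ, hao, haM, (hEN haE |> fun hh => hNL hh), haP, hmove,
    hsLa, hCa, hNa⟩
  have hsL : s ∉ Cfsg.sigma L := fun hh => by
    have he : La = L := eq_of_sigma_centralizer hG hL hLa hh hsLa (isPGroup_of_card hac) (line_ne_bot hac)
      (zpowers_le.mpr h.memA') (le_normalizer.trans hNa) (by
        rw [Cfsg.Lib.Coprime.centralizer_zpowers]; exact hCa)
    exact h.fixed_false (q := orderOf z) hG hz rfl (he ▸ hCa (mem_centralizer_singleton_iff.mpr hza)) hza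
  -- the other side
  set D := Cfsg.sigmaCore M ⊓ L with hD
  have hx₁c : Nat.card (zpowers (x₁ : G)) = q := by rw [Nat.card_zpowers, hx₁o]
  have hqD : q ∣ Nat.card D := (dvd_of_eq hx₁c.symm).trans
    (card_dvd_of_le (zpowers_le.mpr ⟨hx₁', hCP hx₁P⟩))
  obtain ⟨hqσ, hqL, hqr⟩ := h.rank_one (q := q) hG hx₁' hx₁o (hCP hx₁P)
  have haD : zpowers a ≤ normalizer (D : Set G) := Cfsg.Lib.Coprime.le_normalizer_inf
    ((zpowers_le.mpr haM).trans (le_normalizer_sigmaCore M)) ((zpowers_le.mpr h.memA').trans le_normalizer)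
  obtain ⟨T₀, hT₀⟩ := Cfsg.Lib.Coprime.exists_invariant_sylow haD
    (by rw [hac]; exact hs.out.coprime_iff_not_dvd.mpr fun hd =>
      hsσ (sigmaCore_isPi s hs.out (hd.trans (card_dvd_of_le inf_le_left))))
    (Or.inl (hG.2.2.2 _ (FittingUniqueness.ne_top_of_le_coatom hM (zpowers_le.mpr haM)))) q
  set T := (T₀ : Subgroup D).map D.subtype with hT
  have hTp : IsPGroup q T := T₀.2.map _
  have hT1 : T ≠ ⊥ := by
    intro (h0 : T = ⊥)
    have h1 : q ∣ Nat.card (T₀ : Subgroup D) := T₀.dvd_card_of_dvd_card hqD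
    rw [← card_map_of_injective D.subtype_injective (K := (T₀ : Subgroup D))] at h1
    change q ∣ Nat.card T at h1
    rw [h0, card_bot] at h1
    exact hq'.not_dvd_one h1
  obtain ⟨y, hyT, hyo⟩ := ScnUniqueness.exists_orderOf hTp hT1
  have hyD : y ∈ D := map_subtype_le _ hyT
  have hY : Nat.card (zpowers y) = q := by rw [Nat.card_zpowers, hyo]
  have hay : a ∈ normalizer (zpowers y : Set G) := normalizer_le_of_cyclic
    (isCyclic_sylow_of_rank_one hG hTp ((map_subtype_le _).trans inf_le_right) hqr) (zpowers_le.mpr hyT)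
    (hT₀ (mem_zpowers a))
  have hmovey : a ∉ centralizer (zpowers y : Set G) := fun hh => h.fixed_false (q := q) hG hyD.1 hyo hyD.2
    (mem_centralizer_iff.mp hh y (mem_zpowers y))
  obtain ⟨u, hu, huo⟩ := ScnUniqueness.exists_orderOf hPp (line_ne_bot hPc)
  have huL : u ∈ Cfsg.sigmaCore L := le_sigmaCore_of_pgroup hG hL hpL hPp h.memL hu
  have huy : u ∈ centralizer (zpowers y : Set G) :=
    le_centralizer_iff.mp (zpowers_le.mpr (h.centralizes hG hyD.1 hyD.2)) hu
  have hu1 : u ≠ 1 := fun hh => hp.out.ne_one (by rw [← huo, hh, orderOf_one])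
  obtain ⟨L₁, hL₁, hNy'⟩ := exists_coatom_ge (MinSimpleTransitivity.normalizer_ne_top hG (line_ne_bot hY)
    (FittingUniqueness.ne_top_of_le_coatom hL (zpowers_le.mpr hyD.2)))
  have hNy : normalizer (zpowers y : Set G) ≤ M := by
    have hq₁ := sigma_of_nonregular (p := q) (q := p) hG hL hqL hqr hY (zpowers_le.mpr hyD.2) huL huo huy hL₁
      hNy'
    have he : L₁ = M := eq_of_sigma_centralizer hG hM hL₁ hqσ hq₁ (isPGroup_of_card hY) (line_ne_bot hY)
      (zpowers_le.mpr (sigmaCore_le M hyD.1)) (le_normalizer.trans hNy') ((centralizer_le_normalizer _).trans hNy')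
    exact he ▸ hNy'
  have hCy : centralizer (zpowers y : Set G) ≤ M := (centralizer_le_normalizer _).trans hNy
  obtain ⟨F, hF, hleF⟩ := exists_complement_ge hG hL (X := zpowers y ⊔ zpowers a)
    (sup_le (zpowers_le.mpr hyD.2) (zpowers_le.mpr h.memA')) fun t ht hd => by
      rcases dvd_card_sup (zpowers_le.mpr hay) ht hd with hh | hh
      · exact eq_of_dvd_pgroup (isPGroup_of_card (p := q) hY) ht hh ▸ hqL
      · exact eq_of_dvd_pgroup (isPGroup_of_card (p := s) hac) ht hh ▸ hsL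
  have hyF : zpowers y ≤ F := le_sup_left.trans hleF
  have haF : a ∈ F := hleF (mem_sup_right (mem_zpowers a))
  obtain ⟨hYD, hFN⟩ := complement_normalizes_moved hG hL hqr hF hY hyF haF hay hmovey
  have hFM : F ≤ M := hFN.trans hNy
  obtain ⟨hτL, w, hw, hwp, hwa⟩ := moved_side hG hL hM hne.symm hF hFM huL hu1 (hPM hu) hqL hqr hY hyF hCy hao
    haF hay hmovey
  haveI hrw : Fact (orderOf w).Prime := ⟨hwp⟩
  have hnc' : ∀ g : G, M ≠ conjMap g L := fun g hg => hnc g⁻¹ (by
    rw [hg, Cfsg.Lib.Coprime.conjMap_inv_conjMap])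
  have h' : MovedLine q s L M La (zpowers y) a := ⟨hL, hM, hLa, hnc', hCy, hY, zpowers_le.mpr hyD.2,
    zpowers_le.mpr (sigmaCore_le M hyD.1), hYD.trans (commutator_mono hF.1 hF.1), hqσ, hqL, hτL, hao, h.memA',
    haM, hay, hmovey, hsLa, hCa, hNa⟩
  exact moved_cross (q := orderOf z) (r := orderOf w) hG h h' hsL hsσ hE (hEN.trans hNL) hF hFM hz rfl hza hw rfl
    hwa

end Cfsg.Lib.OddLocal.RankTwoMax
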