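import Cfsg.Agent.OddLocal.FixedPointFreeGroup

/-!
# Operators whose fixed space is at most a line
-/

set_option linter.unusedSectionVars false
set_option linter.style.haveILetI false

namespace Cfsg.Lib.OddP

open Subgroup Module
open scoped commutatorElement

universe u v w

variable {K : Type u} [Field K] [IsAlgClosed K] {V : Type v} [AddCommGroup V] [Module K V]
  [FiniteDimensional K V] {Γ : Type w} [Group Γ] [Finite Γ]

/-- `v ≠ 0` is a common eigenvector of `Z` with character `χ` -/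
def IsWeight (ρ : Γ →* Module.End K V) (Z : Subgroup Γ) (χ : Z → K) : Prop :=
  ∃ v : V, v ≠ 0 ∧ ∀ a : Z, ρ a v = χ a • v

theorem IsWeight.one {ρ : Γ →* Module.End K V} {Z : Subgroup Γ} {χ : Z → K} (h : IsWeight ρ Z χ) :
    χ 1 = 1 := by
  obtain ⟨v, hv, h⟩ := h
  exact smul_left_injective K hv
    (show χ 1 • v = (1 : K) • v by rw [← h, OneMemClass.coe_one, map_one, one_smul]; rfl)

theorem IsWeight.mul {ρ : Γ →* Module.End K V} {Z : Subgroup Γ} {χ : Z → K} (h : IsWeight ρ Z χ)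
    (a b : Z) : χ (a * b) = χ a * χ b := by
  obtain ⟨v, hv, h⟩ := h
  refine smul_left_injective K hv ?_
  show χ (a * b) • v = (χ a * χ b) • v
  rw [← h, Subgroup.coe_mul, map_mul, Module.End.mul_apply, h, map_smul, h, smul_smul, mul_comm]

theorem IsWeight.ne_zero {ρ : Γ →* Module.End K V} {Z : Subgroup Γ} {χ : Z → K} (h : IsWeight ρ Z χ)
    (a : Z) : χ a ≠ 0 := fun h0 => by
  have := h.mul a a⁻¹
  rw [mul_inv_cancel, h.one, h0, zero_mul] at this
  exact one_ne_zero this

/-- the kernel of a weight -/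
def weightKer {ρ : Γ →* Module.End K V} {Z : Subgroup Γ} {χ : Z → K} (h : IsWeight ρ Z χ) :
    Subgroup Γ where
  carrier := {g | ∃ hg : g ∈ Z, χ ⟨g, hg⟩ = 1}
  one_mem' := ⟨one_mem Z, h.one⟩
  mul_mem' := fun {g g'} hg hg' => ⟨mul_mem hg.1 hg'.1, by
    show χ (⟨g, hg.1⟩ * ⟨g', hg'.1⟩) = 1
    rw [h.mul, hg.2, hg'.2, one_mul]⟩
  inv_mem' := fun {g} hg => ⟨inv_mem hg.1, by
    have := h.mul ⟨g, hg.1⟩ ⟨g, hg.1⟩⁻¹
    rw [mul_inv_cancel, h.one, hg.2, one_mul] at this
    exact this.symm⟩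

open Classical in
/-- the conjugate of a function on `Z` by `g` -/
noncomputable def conjFn (Z : Subgroup Γ) (g : Γ) (χ : Z → K) : Z → K := fun a =>
  if h : g⁻¹ * a * g ∈ Z then χ ⟨_, h⟩ else 0

theorem conjFn_apply {Z : Subgroup Γ} {g : Γ} (hg : g ∈ normalizer (Z : Set Γ)) (χ : Z → K) (a : Z) :
    conjFn Z g χ a = χ ⟨g⁻¹ * a * g, (mem_normalizer_iff''.mp hg _).mp a.2⟩ := by
  rw [conjFn, dif_pos]

theorem conjFn_one (Z : Subgroup Γ) (χ : Z → K) : conjFn Z 1 χ = χ := by
  funext a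
  rw [conjFn_apply (one_mem _)]
  exact congrArg χ (Subtype.ext (by simp))

theorem conjFn_mul {Z : Subgroup Γ} {g h : Γ} (hg : g ∈ normalizer (Z : Set Γ))
    (hh : h ∈ normalizer (Z : Set Γ)) (χ : Z → K) :
    conjFn Z (g * h) χ = conjFn Z g (conjFn Z h χ) := by
  funext a
  rw [conjFn_apply (mul_mem hg hh), conjFn_apply hg, conjFn_apply hh]
  exact congrArg χ (Subtype.ext (by simp [mul_assoc]))

theorem weight_conj_apply (ρ : Γ →* Module.End K V) {Z : Subgroup Γ} {χ : Z → K} {v : V}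
    (hv : ∀ a : Z, ρ a v = χ a • v) {g : Γ} (hg : g ∈ normalizer (Z : Set Γ)) (a : Z) :
    ρ a (ρ g v) = conjFn Z g χ a • ρ g v := by
  have e : (a : Γ) * g = g * (g⁻¹ * a * g) := by group
  rw [conjFn_apply hg, ← Module.End.mul_apply, ← map_mul, e, map_mul, Module.End.mul_apply,
    hv ⟨g⁻¹ * a * g, (mem_normalizer_iff''.mp hg _).mp a.2⟩, map_smul]

theorem IsWeight.conj {ρ : Γ →* Module.End K V} {Z : Subgroup Γ} {χ : Z → K} (h : IsWeight ρ Z χ)
    {g : Γ} (hg : g ∈ normalizer (Z : Set Γ)) : IsWeight ρ Z (conjFn Z g χ) := by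
  obtain ⟨v, hv, h⟩ := h
  refine ⟨ρ g v, fun h0 => hv ?_, weight_conj_apply ρ h hg⟩
  have h2 := congrArg (ρ g⁻¹) h0
  rwa [map_zero, ← Module.End.mul_apply, ← map_mul, inv_mul_cancel, map_one] at h2

theorem IsWeight.eq_one_of_fixed {ρ : Γ →* Module.End K V} {Z : Subgroup Γ} {χ : Z → K}
    (h : IsWeight ρ Z χ) {B : Subgroup Γ} (hB : B ≤ normalizer (Z : Set Γ))
    (hfix : ∀ g ∈ B, conjFn Z g χ = χ) (hZB : ⁅Z, B⁆ = Z) (a : Z) : χ a = 1 := by
  have hle : ⁅Z, B⁆ ≤ weightKer h := by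
    rw [commutator_le]
    intro c hc b hb
    have h1 : b * c⁻¹ * b⁻¹ ∈ Z := (mem_normalizer_iff.mp (hB hb) _).mp (inv_mem hc)
    have hmem : ⁅c, b⁆ ∈ Z := by
      rw [commutatorElement_def, mul_assoc, mul_assoc, ← mul_assoc b]
      exact mul_mem hc h1
    refine ⟨hmem, ?_⟩
    have e : (⟨⁅c, b⁆, hmem⟩ : Z) = ⟨c, hc⟩ * ⟨_, h1⟩ :=
      Subtype.ext (by simp [commutatorElement_def, mul_assoc])
    have h2 := congrFun (hfix b hb) ⟨_, h1⟩
    rw [conjFn_apply (hB hb)] at h2
    rw [e, h.mul, ← h2, ← h.mul, ← h.one]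
    exact congrArg χ (Subtype.ext (by simp [mul_assoc]))
  obtain ⟨_, h1⟩ := hle (hZB.ge a.2)
  exact h1

variable [Fintype Γ]

open Classical in
/-- projection onto a weight -/
noncomputable def weightProj (ρ : Γ →* Module.End K V) (Z : Subgroup Γ) (χ : Z → K) :
    Module.End K V :=
  ∑ a : Z, (χ a)⁻¹ • ρ a

theorem weightProj_self (ρ : Γ →* Module.End K V) {Z : Subgroup Γ} {χ : Z → K}
    (h : IsWeight ρ Z χ) {v : V} (hv : ∀ a : Z, ρ a v = χ a • v) :
    weightProj ρ Z χ v = (Nat.card Z : K) • v := by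
  classical
  simp only [weightProj, LinearMap.sum_apply, LinearMap.smul_apply, hv, smul_smul]
  rw [Finset.sum_congr rfl fun a _ => by rw [inv_mul_cancel₀ (h.ne_zero a), one_smul],
    Finset.sum_const, Finset.card_univ, ← Nat.card_eq_fintype_card, ← Nat.cast_smul_eq_nsmul K]

theorem weightProj_other (ρ : Γ →* Module.End K V) {Z : Subgroup Γ} {χ ψ : Z → K}
    (h : IsWeight ρ Z χ) (h' : IsWeight ρ Z ψ) (hne : χ ≠ ψ) {v : V}
    (hv : ∀ a : Z, ρ a v = ψ a • v) : weightProj ρ Z χ v = 0 := by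
  classical
  simp only [weightProj, LinearMap.sum_apply, LinearMap.smul_apply, hv, smul_smul]
  rw [← Finset.sum_smul]
  obtain ⟨b, hb⟩ := Function.ne_iff.mp hne
  have h2 : ((χ b)⁻¹ * ψ b) * ∑ a : Z, (χ a)⁻¹ * ψ a = ∑ a : Z, (χ a)⁻¹ * ψ a := by
    rw [Finset.mul_sum]
    refine Fintype.sum_equiv (Equiv.mulLeft b) _ _ fun a => ?_
    simp only [Equiv.coe_mulLeft, h.mul, h'.mul]
    field_simp
  have h3 : (∑ a : Z, (χ a)⁻¹ * ψ a) = 0 :=
    (mul_eq_zero.mp (show ((χ b)⁻¹ * ψ b - 1) * (∑ a : Z, (χ a)⁻¹ * ψ a) = 0 by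
      rw [sub_mul, h2, one_mul, sub_self])).resolve_left fun h0 =>
        hb ((inv_mul_eq_one₀ (h.ne_zero b)).mp (sub_eq_zero.mp h0))
  rw [h3, zero_smul]

theorem conjFn_pow_fixed {Z : Subgroup Γ} {g : Γ} (hg : g ∈ normalizer (Z : Set Γ)) {χ : Z → K}
    (h : conjFn Z g χ = χ) (n : ℕ) : conjFn Z (g ^ n) χ = χ := by
  induction n with
  | zero => rw [pow_zero, conjFn_one]
  | succ n ih => rw [pow_succ', conjFn_mul hg (pow_mem hg n), ih, h]

/-- the orbit sum of an eigenvector whose weight is moved -/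
theorem orbit_sum (ρ : Γ →* Module.End K V) {Z : Subgroup Γ} {χ : Z → K} {x : Γ} {r : ℕ}
    (hr : r.Prime) (hxr : x ^ r = 1) (hxN : x ∈ normalizer (Z : Set Γ)) (h : IsWeight ρ Z χ)
    (hmove : conjFn Z x χ ≠ χ) {v : V} (hv : ∀ a : Z, ρ a v = χ a • v) :
    ρ x (∑ k ∈ Finset.range r, ρ (x ^ k) v) = ∑ k ∈ Finset.range r, ρ (x ^ k) v ∧
      weightProj ρ Z χ (∑ k ∈ Finset.range r, ρ (x ^ k) v) = (Nat.card Z : K) • v := by
  classical
  constructor
  · obtain ⟨s, hs⟩ : ∃ s, r = s + 1 := ⟨r - 1, by have := hr.one_le; omega⟩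
    subst hs
    rw [map_sum]
    simp only [← Module.End.mul_apply, ← map_mul, ← pow_succ']
    conv_lhs => rw [Finset.sum_range_succ, hxr]
    conv_rhs => rw [Finset.sum_range_succ', pow_zero]
  · rw [map_sum, Finset.sum_eq_single 0]
    · rw [pow_zero, map_one, Module.End.one_apply, weightProj_self ρ h hv]
    · intro k hk hk0
      refine weightProj_other ρ h (h.conj (pow_mem hxN k)) (fun he => ?_)
        (weight_conj_apply ρ hv (pow_mem hxN k))
      have hord : orderOf x = r := by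
        haveI := Fact.mk hr
        refine orderOf_eq_prime hxr fun hx1 => hmove ?_
        rw [hx1, conjFn_one]
      obtain ⟨m, hm⟩ := exists_pow_eq_self_of_coprime (x := x) (n := k) (by
        rw [hord]
        exact ((hr.coprime_iff_not_dvd).mpr fun hd => absurd
          (Nat.le_of_dvd (Nat.pos_of_ne_zero hk0) hd) (by simpa using Finset.mem_range.mp hk)).symm)
      apply hmove
      rw [← hm]
      exact conjFn_pow_fixed (pow_mem hxN k) he.symm m
    · exact fun h0 => absurd (Finset.mem_range.mpr hr.pos) h0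

/-- A `p`-group on which `x` acts without fixed points centralizes the odd `q`-groups `Q` with
`C_Q(x)` cyclic, when `x` fixes at most a line. -/
theorem centralizes_of_fixed_line (ρ : Γ →* Module.End K V) (hρ : Function.Injective ρ) {x : Γ}
    {r q p : ℕ} (hr : r.Prime) (hr2 : r ≠ 2) (hp : p.Prime) (hp2 : p ≠ 2) (hq : q.Prime)
    (hq2 : q ≠ 2) (hrq : r ≠ q) (hpq : p ≠ q) (hrp : r ≠ p) (hqK : (q : K) ≠ 0)
    (hxr : x ^ r = 1) (P : Subgroup Γ) (hP : IsPGroup p P) (hxP : x ∈ normalizer (P : Set Γ))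
    (hPfix : P ⊓ centralizer ({x} : Set Γ) = ⊥) {v₀ : V}
    (hline : ∀ v : V, ρ x v = v → v ∈ Submodule.span K {v₀}) (n : ℕ) :
    ∀ Q : Subgroup Γ, Nat.card Q = n → IsPGroup q Q → x ∈ normalizer (Q : Set Γ) →
      P ≤ normalizer (Q : Set Γ) → IsCyclic ↥(Q ⊓ centralizer ({x} : Set Γ)) →
      P ≤ centralizer (Q : Set Γ) := by
  classical
  haveI := Fact.mk hq
  haveI := Fact.mk hp
  induction n using Nat.strong_induction_on with
  | _ n ih =>
  intro Q hn hQ hxQ hPQ hcyc
  obtain ⟨j, hj⟩ := IsPGroup.iff_card.mp hQ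
  obtain ⟨i, hi⟩ := IsPGroup.iff_card.mp hP
  set X := zpowers x
  have hXQ : X ≤ normalizer (Q : Set Γ) := zpowers_le.mpr hxQ
  have hXP : X ≤ normalizer (P : Set Γ) := zpowers_le.mpr hxP
  have hcopPQ : (Nat.card P).Coprime (Nat.card Q) := by
    rw [hi, hj]; exact Nat.Coprime.pow i j ((Nat.coprime_primes hp hq).mpr hpq)
  have hcopX : ∀ s : ℕ, s.Prime → r ≠ s → ∀ m, (Nat.card X).Coprime (s ^ m) := fun s hs hne m => by
    rw [Nat.card_zpowers]
    exact Nat.Coprime.coprime_dvd_left (orderOf_dvd_of_pow_eq_one hxr)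
      (((Nat.coprime_primes hr hs).mpr hne).pow_right m)
  haveI := hQ.isNilpotent
  haveI := hP.isNilpotent
  have hsol : Group.IsSolvable Q := inferInstance
  have hsolP : Group.IsSolvable P := inferInstance
  have hPX : ⁅P, X⁆ = P := by
    have h := Cfsg.Lib.Coprime.commutator_sup_centralizer hXP (hi ▸ hcopX p hp hrp i) (Or.inr hsolP)
    have hb : P ⊓ centralizer (X : Set Γ) = ⊥ := eq_bot_iff.mpr fun y hy => hPfix.le ⟨hy.1,
      mem_centralizer_singleton_iff.mpr (mem_centralizer_iff.mp hy.2 x (mem_zpowers x)).symm⟩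
    rwa [hb, sup_bot_eq] at h
  by_contra hnc
  have hmax : ∀ R : Subgroup Γ, R ≤ Q → R ≠ Q → x ∈ normalizer (R : Set Γ) →
      P ≤ normalizer (R : Set Γ) → P ≤ centralizer (R : Set Γ) := fun R hR hne hxR hPR => by
    haveI := hcyc
    exact ih _ (hn ▸ lt_of_le_of_ne (Nat.le_of_dvd Nat.card_pos (card_dvd_of_le hR))
      fun e => hne (eq_of_le_of_card_ge hR e.ge)) R rfl (hQ.to_le hR) hxR hPR
      (isCyclic_of_injective (Subgroup.inclusion (inf_le_inf_right _ hR :
        R ⊓ centralizer ({x} : Set Γ) ≤ _)) (inclusion_injective _))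
  have hQP : ⁅Q, P⁆ = Q := by
    by_contra hne
    have hxn : x ∈ normalizer ((⁅Q, P⁆ : Subgroup Γ) : Set Γ) := by
      rw [← Cfsg.Lib.Coprime.conjMap_eq_self_iff, Cfsg.Lib.Coprime.conjMap, map_commutator]
      congr 1
      · exact Cfsg.Lib.Coprime.conjMap_eq_self hxQ
      · exact Cfsg.Lib.Coprime.conjMap_eq_self hxP
    have h1 := hmax _ (Cfsg.Lib.Coprime.commutator_le_of_le_normalizer hPQ) hne hxn
      (Cfsg.Lib.Coprime.le_normalizer_commutator_right P Q)
    apply hnc
    rw [le_centralizer_iff, ← commutator_eq_bot_iff_le_centralizer,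
      ← Cfsg.Lib.Coprime.commutator_commutator_eq hPQ hcopPQ (Or.inr hsol),
      commutator_eq_bot_iff_le_centralizer]
    exact le_centralizer_iff.mp h1
  have hQne : Q ≠ ⊥ := by
    rintro rfl
    exact hnc fun a _ => mem_centralizer_iff.mpr fun y hy => by rw [mem_bot.mp hy, one_mul, mul_one]
  haveI : Nontrivial Q := (nontrivial_iff_ne_bot Q).mpr hQne
  set Φ := (frattini Q).map Q.subtype with hΦdef
  have hΦne : Φ ≠ Q := fun h => by
    have h3 : frattini Q = ⊤ := eq_top_iff.mpr fun b _ => by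
      obtain ⟨b', hb', he⟩ := h.ge b.2
      rwa [← Subtype.ext he]
    exact bot_ne_top (frattini_nongenerating (K := (⊥ : Subgroup Q)) (by rw [h3, sup_top_eq]))
  have hΦN : normalizer (Q : Set Γ) ≤ normalizer (Φ : Set Γ) := by
    have hchar : ∀ g ∈ normalizer (Q : Set Γ), ∀ y ∈ Φ, g * y * g⁻¹ ∈ Φ := by
      rintro g hg - ⟨y, hy, rfl⟩
      exact ⟨Q.normalizerMonoidHom ⟨g, hg⟩ y,
        characteristic_iff_le_comap.mp frattini_characteristic _ hy, rfl⟩
    exact fun g hg => Cfsg.Lib.Coprime.mem_normalizer_of_conj_mem (hchar g hg)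
      fun y hy => by simpa using hchar g⁻¹ (inv_mem hg) y hy
  have hQΦ : ∀ a ∈ Q, a ^ q ∈ Φ := fun a ha =>
    ⟨(⟨a, ha⟩ : Q) ^ q, Cfsg.Lib.PGroups.pow_mem_frattini hQ _, rfl⟩
  have hΦP : P ≤ centralizer (Φ : Set Γ) :=
    hmax Φ (map_subtype_le _) hΦne (hΦN hxQ) (hPQ.trans hΦN)
  have hΦbot : ⁅Φ, P⁆ = ⊥ :=
    commutator_eq_bot_iff_le_centralizer.mpr (le_centralizer_iff.mp hΦP)
  have hQQ : ⁅Q, Q⁆ ≤ Φ := by
    rw [← map_subtype_commutator]
    exact map_mono (Cfsg.Lib.PGroups.commutator_le_frattini hQ)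
  have hΦc : Φ ≤ centralizer (Q : Set Γ) := by
    have h1 : ⁅⁅Φ, P⁆, Q⁆ = ⊥ := by rw [hΦbot, commutator_bot_left]
    have h2 : ⁅⁅Q, Φ⁆, P⁆ = ⊥ := eq_bot_iff.mpr
      ((commutator_mono ((commutator_mono le_rfl (map_subtype_le _)).trans hQQ) le_rfl).trans hΦbot.le)
    have h3 : ⁅⁅P, Q⁆, Φ⁆ = ⊥ := commutator_commutator_eq_bot_of_rotate h2 h1
    rw [commutator_comm P Q, hQP, commutator_comm] at h3
    exact commutator_eq_bot_iff_le_centralizer.mp h3
  have hcom : ∀ a ∈ Q, ∀ b ∈ Q, ∀ c ∈ Q, ⁅a, b⁆ * c = c * ⁅a, b⁆ := fun a ha b hb c hc =>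
    (mem_centralizer_iff.mp (hΦc (hQQ (commutator_mem_commutator ha hb))) c hc).symm
  have hQK : ∀ Z : Subgroup Γ, Z ≤ Q → ((Nat.card Z : ℕ) : K) ≠ 0 := fun Z hZ => by
    obtain ⟨l, hl⟩ := IsPGroup.iff_card.mp (hQ.to_le hZ)
    rw [hl, Nat.cast_pow]
    exact pow_ne_zero l hqK
  have hzK : ∀ z ∈ Q, ((orderOf z : ℕ) : K) ≠ 0 := fun z hz h => by
    obtain ⟨c, hc⟩ := Subgroup.orderOf_dvd_natCard Q hz
    exact hQK Q le_rfl (by rw [hc, Nat.cast_mul, h, zero_mul])
  have hne1 : ∀ z ≠ (1 : Γ), ρ z ≠ 1 := fun z hz h => hz (hρ (h.trans (map_one ρ).symm))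
  by_cases hab : ∀ a ∈ Q, ∀ b ∈ Q, a * b = b * a
  · -- abelian: weights
    have hweight : ∀ z ∈ Q, z ≠ 1 → ∃ χ : Q → K, IsWeight ρ Q χ ∧ ∀ hz : z ∈ Q, χ ⟨z, hz⟩ ≠ 1 := by
      intro z hzQ hz1
      obtain ⟨W, ρ0, hW, hρ0, hirr, hzfix⟩ :=
        exists_irreducible_moved ρ Q hzQ (fun u hu => hab z hzQ u hu) (hne1 z hz1) (hzK z hzQ)
      have hscal : ∀ a : Q, ∃ c : K, ρ0 a = c • 1 := fun a => schur ρ0 hirr _ fun g => by
        rw [← map_mul, ← map_mul, show a * g = g * a from Subtype.ext (hab a a.2 g g.2)]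
      choose χ hχ using hscal
      obtain ⟨w, hw⟩ := exists_ne (0 : W)
      have hχv : ∀ a : Q, ρ a (w : V) = χ a • (w : V) := fun a => by rw [← hρ0, hχ]; rfl
      exact ⟨χ, ⟨w, fun h => hw (Subtype.ext h), hχv⟩, fun hz h =>
        hw (hzfix w (by rw [hχv ⟨z, hz⟩, h, one_smul]))⟩
    -- at most one moved orbit
    have horbit : ∀ χ ψ : Q → K, IsWeight ρ Q χ → conjFn Q x χ ≠ χ → IsWeight ρ Q ψ →
        conjFn Q x ψ ≠ ψ → ∃ k < r, conjFn Q (x ^ k) ψ = χ := by
      intro χ ψ hχ hχx hψ hψx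
      by_contra hno
      push Not at hno
      obtain ⟨v, hv0, hv⟩ := id hχ
      obtain ⟨w, hw0, hw⟩ := id hψ
      obtain ⟨hvfix, hve⟩ := orbit_sum ρ hr hxr hxQ hχ hχx hv
      obtain ⟨hwfix, hwe⟩ := orbit_sum ρ hr hxr hxQ hψ hψx hw
      have hw0' : weightProj ρ Q χ (∑ k ∈ Finset.range r, ρ (x ^ k) w) = 0 := by
        rw [map_sum]
        refine Finset.sum_eq_zero fun k hk => ?_
        exact weightProj_other ρ hχ (hψ.conj (pow_mem hxQ k)) (Ne.symm (hno k (Finset.mem_range.mp hk)))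
          (weight_conj_apply ρ hw (pow_mem hxQ k))
      obtain ⟨a, ha⟩ := Submodule.mem_span_singleton.mp (hline _ hvfix)
      obtain ⟨b, hb⟩ := Submodule.mem_span_singleton.mp (hline _ hwfix)
      have hb0 : b ≠ 0 := fun h => by
        rw [h, zero_smul] at hb
        rw [← hb, map_zero] at hwe
        exact hw0 ((smul_eq_zero.mp hwe.symm).resolve_left (hQK Q le_rfl))
      rw [← hb, map_smul] at hw0'
      rw [← ha, map_smul, (smul_eq_zero.mp hw0').resolve_left hb0, smul_zero] at hve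
      exact hv0 ((smul_eq_zero.mp hve.symm).resolve_left (hQK Q le_rfl))
    by_cases hmv : ∃ χ : Q → K, IsWeight ρ Q χ ∧ conjFn Q x χ ≠ χ
    swap
    · -- `x` centralizes `Q`
      push Not at hmv
      have hxc : ⁅Q, X⁆ = ⊥ := by
        rw [eq_bot_iff, commutator_le]
        intro a ha b hb
        obtain ⟨m, rfl⟩ := mem_powers_iff_mem_zpowers.mpr hb
        by_contra hne
        rw [mem_bot] at hne
        have h1 : ⁅a, x ^ m⁆ ∈ Q := Cfsg.Lib.Coprime.commutator_le_of_le_normalizer hXQ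
          (commutator_mem_commutator ha hb)
        obtain ⟨χ, hχ, hχne⟩ := hweight _ h1 hne
        refine hχne h1 ?_
        have h2 : x ^ m * a⁻¹ * (x ^ m)⁻¹ ∈ Q :=
          (mem_normalizer_iff.mp (pow_mem hxQ m) _).mp (inv_mem ha)
        have e : (⟨_, h1⟩ : Q) = ⟨a, ha⟩ * ⟨_, h2⟩ :=
          Subtype.ext (by simp [commutatorElement_def, mul_assoc])
        have h3 := congrFun (conjFn_pow_fixed hxQ (hmv χ hχ) m) ⟨_, h2⟩
        rw [conjFn_apply (pow_mem hxQ m)] at h3
        rw [e, hχ.mul, ← h3, ← hχ.mul, ← hχ.one]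
        exact congrArg χ (Subtype.ext (by simp [mul_assoc]))
      apply hnc
      have h1 : ⁅⁅Q, X⁆, P⁆ = ⊥ := by rw [hxc, commutator_bot_left]
      have h2 : ⁅⁅P, Q⁆, X⁆ = ⊥ := by rw [commutator_comm P Q, hQP, hxc]
      have h3 : ⁅⁅X, P⁆, Q⁆ = ⊥ := commutator_commutator_eq_bot_of_rotate h2 h1
      rwa [commutator_comm X P, hPX, commutator_eq_bot_iff_le_centralizer] at h3
    obtain ⟨χ₀, hχ₀, hχ₀x⟩ := hmv
    -- the orbit map of a weight under `P`
    let orbitP : (Q → K) → Set (Q → K) := fun α => {β | ∃ g ∈ P, conjFn Q g α = β}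
    let stab : (Q → K) → Subgroup Γ := fun α =>
      { carrier := {g | g ∈ P ∧ conjFn Q g α = α}
        one_mem' := ⟨one_mem P, conjFn_one Q α⟩
        mul_mem' := fun {g h} hg hh => ⟨mul_mem hg.1 hh.1, by
          rw [conjFn_mul (hPQ hg.1) (hPQ hh.1), hh.2, hg.2]⟩
        inv_mem' := fun {g} hg => ⟨inv_mem hg.1, by
          conv_lhs => rw [← hg.2]
          rw [← conjFn_mul (hPQ (inv_mem hg.1)) (hPQ hg.1), inv_mul_cancel, conjFn_one]⟩ }
    have horbcard : ∀ α, ∃ a : ℕ, Nat.card (orbitP α) = p ^ a := by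
      intro α
      have e : Nat.card (orbitP α) = ((stab α).subgroupOf P).index := by
        refine (Nat.card_congr (Equiv.ofBijective (fun t : P ⧸ (stab α).subgroupOf P =>
          (⟨conjFn Q (t.out : P) α, _, (t.out : P).2, rfl⟩ : orbitP α)) ⟨?_, ?_⟩)).symm
        · intro s t hst
          have h1 : conjFn Q ((s.out : P) : Γ) α = conjFn Q ((t.out : P) : Γ) α := congrArg Subtype.val hst
          rw [← QuotientGroup.out_eq' s, ← QuotientGroup.out_eq' t, QuotientGroup.eq]
          refine ⟨((s.out)⁻¹ * t.out).2, ?_⟩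
          show conjFn Q (((s.out)⁻¹ * t.out : P) : Γ) α = α
          rw [Subgroup.coe_mul, conjFn_mul (hPQ ((s.out)⁻¹).2) (hPQ (t.out).2), ← h1,
            ← conjFn_mul (hPQ ((s.out)⁻¹).2) (hPQ (s.out).2), Subgroup.coe_inv, inv_mul_cancel,
            conjFn_one]
        · rintro ⟨β, g, hg, rfl⟩
          refine ⟨QuotientGroup.mk (⟨g, hg⟩ : P), Subtype.ext ?_⟩
          obtain ⟨⟨c, hc⟩, hcg⟩ := QuotientGroup.mk_out_eq_mul ((stab α).subgroupOf P) ⟨g, hg⟩
          show conjFn Q ((Quotient.out (QuotientGroup.mk (⟨g, hg⟩ : P)) : P) : Γ) α = conjFn Q g α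
          rw [hcg, Subgroup.coe_mul, conjFn_mul (hPQ hg) (hPQ c.2), show conjFn Q (c : Γ) α = α from hc.2]
      obtain ⟨a, -, ha⟩ := (Nat.dvd_prime_pow hp).mp
        (hi ▸ ((stab α).subgroupOf P).index_dvd_card)
      exact ⟨a, e.trans ha⟩
    have hfixP : ∀ α, IsWeight ρ Q α → (∀ g ∈ P, conjFn Q g α = α) → ∀ a : Q, α a = 1 :=
      fun α hα h a => hα.eq_one_of_fixed hPQ h hQP a
    -- the moved weights
    have hpow : ∀ k, x ^ k ∈ normalizer (Q : Set Γ) := fun k => pow_mem hxQ k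
    have hmoved : ∀ k, conjFn Q x (conjFn Q (x ^ k) χ₀) ≠ conjFn Q (x ^ k) χ₀ := by
      intro k hk
      apply hχ₀x
      rw [← conjFn_mul hxQ (hpow k), ← pow_succ', pow_succ, conjFn_mul (hpow k) hxQ] at hk
      have h2 := congrArg (conjFn Q (x ^ k)⁻¹) hk
      rwa [← conjFn_mul (inv_mem (hpow k)) (hpow k), ← conjFn_mul (inv_mem (hpow k)) (hpow k),
        inv_mul_cancel, conjFn_one, conjFn_one] at h2
    let orb := (Finset.range r).image fun k => conjFn Q (x ^ k) χ₀
    have horbr : orb.card = r := by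
      rw [Finset.card_image_of_injOn, Finset.card_range]
      intro k hk l hl hkl
      have hord : orderOf x = r := by
        haveI := Fact.mk hr
        exact orderOf_eq_prime hxr fun hx1 => hχ₀x (by rw [hx1, conjFn_one])
      by_contra hne
      wlog hlt : k < l generalizing k l
      · exact this hl hk hkl.symm (Ne.symm hne) (lt_of_le_of_ne (not_lt.mp hlt) (Ne.symm hne))
      have h2 : conjFn Q (x ^ (l - k)) χ₀ = χ₀ := by
        have h3 : conjFn Q (x ^ k) χ₀ = conjFn Q (x ^ l) χ₀ := hkl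
        have h4 := congrArg (conjFn Q (x ^ k)⁻¹) h3
        rw [← conjFn_mul (inv_mem (hpow k)) (hpow k), ← conjFn_mul (inv_mem (hpow k)) (hpow l),
          inv_mul_cancel, conjFn_one, show (x ^ k)⁻¹ * x ^ l = x ^ (l - k) by
            rw [inv_mul_eq_iff_eq_mul, ← pow_add, Nat.add_sub_cancel' hlt.le]] at h4
        exact h4.symm
      obtain ⟨m, hm⟩ := exists_pow_eq_self_of_coprime (x := x) (n := l - k) (by
        rw [hord]
        exact ((hr.coprime_iff_not_dvd).mpr fun hd => absurd (Nat.le_of_dvd (by omega) hd) (by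
          have := Finset.mem_range.mp (Finset.mem_coe.mp hl); omega)).symm)
      apply hχ₀x
      rw [← hm]
      exact conjFn_pow_fixed (hpow (l - k)) h2 m
    have hmem : ∀ ψ, IsWeight ρ Q ψ → conjFn Q x ψ ≠ ψ → ψ ∈ orb := by
      intro ψ hψ hψx
      obtain ⟨k, hk, he⟩ := horbit ψ χ₀ hψ hψx hχ₀ hχ₀x
      exact Finset.mem_image.mpr ⟨k, Finset.mem_range.mpr hk, he⟩
    have hxorbit : ∀ α β, β ∈ orbitP α → conjFn Q x β ∈ orbitP (conjFn Q x α) := by
      rintro α β ⟨g, hg, rfl⟩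
      refine ⟨x * g * x⁻¹, (mem_normalizer_iff.mp hxP g).mp hg, ?_⟩
      rw [← conjFn_mul (hPQ ((mem_normalizer_iff.mp hxP g).mp hg)) hxQ, inv_mul_cancel_right,
        conjFn_mul hxQ (hPQ hg)]
    -- weights fixed by `x` are fixed by `P`
    have hfixed : ∀ α, IsWeight ρ Q α → conjFn Q x α = α → ∀ g ∈ P, conjFn Q g α = α := by
      intro α hα hαx
      by_contra hex
      push Not at hex
      obtain ⟨g, hg, hgne⟩ := hex
      have hmovedP : ∀ β ∈ orbitP α, β ≠ α → conjFn Q x β ≠ β := by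
        rintro β ⟨u, hu, rfl⟩ hne hβx
        set A := stab α
        have hxA : X ≤ normalizer (A : Set Γ) := by
          rw [zpowers_le]
          refine Cfsg.Lib.Coprime.mem_normalizer_of_conj_mem ?_ ?_
          · rintro c ⟨hcP, hc⟩
            refine ⟨(mem_normalizer_iff.mp hxP c).mp hcP, ?_⟩
            have hxinv : conjFn Q x⁻¹ α = α := by
              conv_lhs => rw [← hαx]
              rw [← conjFn_mul (inv_mem hxQ) hxQ, inv_mul_cancel, conjFn_one]
            rw [conjFn_mul (mul_mem hxQ (hPQ hcP)) (inv_mem hxQ), hxinv, conjFn_mul hxQ (hPQ hcP), hc, hαx]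
          · rintro c ⟨hcP, hc⟩
            refine ⟨(mem_normalizer_iff''.mp hxP c).mp hcP, ?_⟩
            have hxinv : conjFn Q x⁻¹ α = α := by
              conv_lhs => rw [← hαx]
              rw [← conjFn_mul (inv_mem hxQ) hxQ, inv_mul_cancel, conjFn_one]
            rw [conjFn_mul (mul_mem (inv_mem hxQ) (hPQ hcP)) hxQ, hαx,
              conjFn_mul (inv_mem hxQ) (hPQ hcP), hc, hxinv]
        have hk : ∀ a ∈ X, u⁻¹ * a * u * a⁻¹ ∈ A := by
          intro a ha
          obtain ⟨m, rfl⟩ := mem_powers_iff_mem_zpowers.mpr ha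
          have hmP : x ^ m * u * (x ^ m)⁻¹ ∈ P := (mem_normalizer_iff.mp (hXP ha) u).mp hu
          refine ⟨?_, ?_⟩
          · rw [show u⁻¹ * x ^ m * u * (x ^ m)⁻¹ = u⁻¹ * (x ^ m * u * (x ^ m)⁻¹) by group]
            exact mul_mem (inv_mem hu) hmP
          · have hαm := conjFn_pow_fixed hxQ hαx m
            have hβm := conjFn_pow_fixed hxQ hβx m
            rw [conjFn_mul (mul_mem (mul_mem (hPQ (inv_mem hu)) (hpow m)) (hPQ hu)) (inv_mem (hpow m))]
            have h1 : conjFn Q (x ^ m)⁻¹ α = α := by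
              conv_lhs => rw [← hαm]
              rw [← conjFn_mul (inv_mem (hpow m)) (hpow m), inv_mul_cancel, conjFn_one]
            rw [h1, conjFn_mul (mul_mem (hPQ (inv_mem hu)) (hpow m)) (hPQ hu),
              conjFn_mul (hPQ (inv_mem hu)) (hpow m), hβm, ← conjFn_mul (hPQ (inv_mem hu)) (hPQ hu),
              inv_mul_cancel, conjFn_one]
        have hAP : A ≤ P := fun c hc => hc.1
        obtain ⟨d, hd, hdc⟩ := Cfsg.Lib.Coprime.exists_fixed_in_coset hxA
          ((hi ▸ hcopX p hp hrp i : (Nat.card X).Coprime (Nat.card P)).coprime_dvd_right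
            (card_dvd_of_le hAP))
          (Or.inr (Cfsg.Lib.Coprime.isSolvable_of_le hAP hsolP)) hk
        have h2 : u * d ∈ P ⊓ centralizer ({x} : Set Γ) := ⟨mul_mem hu (hAP hd),
          mem_centralizer_singleton_iff.mpr (mem_centralizer_iff.mp hdc x (mem_zpowers x)).symm⟩
        rw [hPfix, mem_bot, mul_eq_one_iff_eq_inv] at h2
        exact hne (h2 ▸ (inv_mem hd : d⁻¹ ∈ A).2)
      -- the orbit is `α` and the whole moved orbit
      have hsub : orbitP α = insert α (orb : Set (Q → K)) := by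
        refine Set.Subset.antisymm (fun β hβ => ?_) ?_
        · by_cases hβα : β = α
          · exact Set.mem_insert_iff.mpr (Or.inl hβα)
          · obtain ⟨u, hu, hu'⟩ := id hβ
            exact Set.mem_insert_iff.mpr (Or.inr (hmem β (hu' ▸ hα.conj (hPQ hu)) (hmovedP β hβ hβα)))
        · rintro β (rfl | hβ)
          · exact ⟨1, one_mem P, conjFn_one Q _⟩
          · obtain ⟨k, hk, rfl⟩ := Finset.mem_image.mp hβ
            have hγ : conjFn Q g α ∈ orbitP α := ⟨g, hg, rfl⟩
            obtain ⟨l, hl, hle⟩ := Finset.mem_image.mp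
              (hmem _ (hα.conj (hPQ hg)) (hmovedP _ hγ hgne))
            have hshift : ∀ m, conjFn Q (x ^ m) (conjFn Q g α) ∈ orbitP α := by
              intro m
              induction m with
              | zero => rw [pow_zero, conjFn_one]; exact hγ
              | succ m ihm =>
                rw [pow_succ', conjFn_mul hxQ (hpow m)]
                have := hxorbit _ _ ihm
                rwa [hαx] at this
            have h3 := hshift (k + (r - l))
            rw [← hle, ← conjFn_mul (hpow _) (hpow l), ← pow_add,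
              show k + (r - l) + l = k + r by have := Finset.mem_range.mp hl; omega, pow_add, hxr,
              mul_one] at h3
            exact h3
      obtain ⟨a, ha⟩ := horbcard α
      have hnot : α ∉ (orb : Set (Q → K)) := by
        intro h
        obtain ⟨k, hk, rfl⟩ := Finset.mem_image.mp h
        exact hmoved k hαx
      rw [hsub, Nat.card_coe_set_eq, Set.ncard_insert_of_notMem hnot, Set.ncard_coe_finset, horbr] at ha
      have h1 : Odd (p ^ a) := (hp.odd_of_ne_two hp2).pow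
      rw [← ha] at h1
      exact (Nat.not_even_iff_odd.mpr h1) (Odd.add_odd (hr.odd_of_ne_two hr2) odd_one)
    -- every weight is fixed by `P`
    have hall : ∀ α, IsWeight ρ Q α → ∀ a : Q, α a = 1 := by
      intro α hα
      by_cases hαx : conjFn Q x α = α
      · exact hfixP α hα (hfixed α hα hαx)
      refine hfixP α hα fun g hg => ?_
      have hnofix : ∀ β ∈ orbitP α, conjFn Q x β ≠ β := by
        rintro β ⟨u, hu, rfl⟩ hβx
        have h1 := hfixed _ (hα.conj (hPQ hu)) hβx u⁻¹ (inv_mem hu)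
        rw [← conjFn_mul (hPQ (inv_mem hu)) (hPQ hu), inv_mul_cancel, conjFn_one] at h1
        exact hαx (h1 ▸ hβx)
      -- the `P`-orbits in the moved orbit are permuted by `x`
      have hsub : ∀ β, IsWeight ρ Q β → (∀ γ ∈ orbitP β, conjFn Q x γ ≠ γ) →
          orbitP β ⊆ (orb : Set (Q → K)) := by
        rintro β hβ hb γ hγ
        obtain ⟨u, hu, hu'⟩ := id hγ
        exact hmem γ (hu' ▸ hβ.conj (hPQ hu)) (hb γ hγ)
      -- every orbit has the same size `p ^ a`, which divides `r`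
      obtain ⟨a, ha⟩ := horbcard α
      let t : (Q → K) → Finset (Q → K) := fun β => orb.filter fun γ => γ ∈ orbitP β
      have hcard : ∀ β ∈ orb, (t β).card = p ^ a := by
        have hbase : ∀ k, (t (conjFn Q (x ^ k) α)).card = p ^ a := by
          intro k
          induction k with
          | zero =>
            rw [pow_zero, conjFn_one, ← ha, Nat.card_coe_set_eq, ← Set.ncard_coe_finset]
            congr 1
            ext γ
            simp only [t, Finset.coe_filter, Set.mem_setOf_eq]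
            exact ⟨fun h => h.2, fun h => ⟨hsub α hα hnofix h, h⟩⟩
          | succ k ihk =>
            rw [← ihk, pow_succ', conjFn_mul hxQ (hpow k)]
            set β := conjFn Q (x ^ k) α
            have hinvQ : x⁻¹ ∈ normalizer (Q : Set Γ) := inv_mem hxQ
            refine (Finset.card_bij (fun γ _ => conjFn Q x γ) (fun γ hγ => ?_) ?_ ?_).symm
            · simp only [t, Finset.mem_filter] at hγ ⊢
              refine ⟨?_, hxorbit β γ hγ.2⟩
              obtain ⟨l, hl, rfl⟩ := Finset.mem_image.mp hγ.1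
              rw [← conjFn_mul hxQ (hpow l), ← pow_succ']
              refine Finset.mem_image.mpr ⟨(l + 1) % r, Finset.mem_range.mpr (Nat.mod_lt _ hr.pos), ?_⟩
              rw [pow_eq_pow_mod (l + 1) hxr]
            · intro γ _ δ _ h
              have h2 := congrArg (conjFn Q x⁻¹) h
              rwa [← conjFn_mul hinvQ hxQ, ← conjFn_mul hinvQ hxQ, inv_mul_cancel, conjFn_one,
                conjFn_one] at h2
            · intro δ hδ
              simp only [t, Finset.mem_filter] at hδ ⊢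
              refine ⟨conjFn Q x⁻¹ δ, ⟨?_, ?_⟩, ?_⟩
              · obtain ⟨l, hl, rfl⟩ := Finset.mem_image.mp hδ.1
                refine Finset.mem_image.mpr ⟨(l + (r - 1)) % r, Finset.mem_range.mpr (Nat.mod_lt _ hr.pos), ?_⟩
                rw [← conjFn_mul hinvQ (hpow l), ← pow_eq_pow_mod _ hxr]
                congr 1
                rw [eq_inv_mul_iff_mul_eq, ← pow_succ',
                  show l + (r - 1) + 1 = l + r by have := hr.pos; omega, pow_add, hxr, mul_one]
              · obtain ⟨u, hu, hu'⟩ := hδ.2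
                refine ⟨x⁻¹ * u * x, (mem_normalizer_iff''.mp hxP u).mp hu, ?_⟩
                rw [← hu', conjFn_mul (mul_mem hinvQ (hPQ hu)) hxQ, conjFn_mul hinvQ (hPQ hu)]
              · rw [← conjFn_mul hxQ hinvQ, mul_inv_cancel, conjFn_one]
        intro β hβ
        obtain ⟨k, hk, rfl⟩ := Finset.mem_image.mp hβ
        obtain ⟨l, hl, hle⟩ := horbit α χ₀ hα hαx hχ₀ hχ₀x
        rw [show conjFn Q (x ^ k) χ₀ = conjFn Q (x ^ (k + (r - l))) α by
          rw [← hle, ← conjFn_mul (hpow _) (hpow l), ← pow_add,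
            show k + (r - l) + l = k + r by omega, pow_add, hxr, mul_one]]
        exact hbase _
      have hdvd : p ^ a ∣ orb.card := by
        rw [Finset.card_eq_sum_card_fiberwise (f := t) (s := orb) (t := orb.image t)
          (fun γ hγ => Finset.mem_image_of_mem t hγ)]
        refine Finset.dvd_sum fun T hT => dvd_of_eq ?_
        obtain ⟨β, hβ, rfl⟩ := Finset.mem_image.mp hT
        rw [← hcard β hβ]
        congr 1
        ext γ
        simp only [t, Finset.mem_filter]
        constructor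
        · rintro ⟨hγ, u, hu, hu'⟩
          refine ⟨hγ, ?_⟩
          ext δ
          simp only [Finset.mem_filter, and_congr_right_iff]
          intro _
          constructor
          · rintro ⟨w, hw, hw'⟩
            exact ⟨w * u, mul_mem hw hu, by rw [conjFn_mul (hPQ hw) (hPQ hu), hu', hw']⟩
          · rintro ⟨w, hw, hw'⟩
            refine ⟨w * u⁻¹, mul_mem hw (inv_mem hu), ?_⟩
            rw [← hu', ← conjFn_mul (hPQ (mul_mem hw (inv_mem hu))) (hPQ hu), inv_mul_cancel_right, hw']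
        · rintro ⟨hγ, hγt⟩
          have h1 : γ ∈ orb.filter (fun δ => δ ∈ orbitP γ) :=
            Finset.mem_filter.mpr ⟨hγ, 1, one_mem P, conjFn_one Q γ⟩
          rw [hγt] at h1
          exact ⟨hγ, (Finset.mem_filter.mp h1).2⟩
      rw [horbr] at hdvd
      have ha0 : a = 0 := by
        by_contra ha0
        exact hrp ((Nat.prime_dvd_prime_iff_eq hp hr).mp ((dvd_pow_self p ha0).trans hdvd)).symm
      rw [ha0, pow_zero, Nat.card_coe_set_eq, Set.ncard_eq_one] at ha
      obtain ⟨γ, hγ⟩ := ha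
      have h1 : conjFn Q g α ∈ orbitP α := ⟨g, hg, rfl⟩
      have h2 : α ∈ orbitP α := ⟨1, one_mem P, conjFn_one Q α⟩
      rw [hγ, Set.mem_singleton_iff] at h1 h2
      rw [h1, h2]
    obtain ⟨z, hz, hz1⟩ := (bot_or_exists_ne_one Q).resolve_left hQne
    obtain ⟨χ, hχ, hχz⟩ := hweight z hz hz1
    exact hχz hz (hall χ hχ _)
  · -- nonabelian
    push Not at hab
    obtain ⟨a₀, ha₀, b₀, hb₀, hne⟩ := hab
    set z := ⁅a₀, b₀⁆ with hzdef
    have hz1 : z ≠ 1 := fun h => hne (commutatorElement_eq_one_iff_mul_comm.mp h)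
    have hzΦ : z ∈ Φ := hQQ (commutator_mem_commutator ha₀ hb₀)
    have hzQ : z ∈ Q := map_subtype_le _ hzΦ
    -- `Q` has exponent `q`
    have hexp : ∀ u ∈ Q, u ^ q = 1 := by
      have hqmul : ∀ u ∈ Q, ∀ w ∈ Q, (u * w) ^ q = u ^ q * w ^ q := by
        intro u hu w hw
        have h1 : Commute ⁅w, u⁆ u := hcom w hw u hu u hu
        have h2 : Commute ⁅w, u⁆ w := hcom w hw u hu w hw
        have h3 : ⁅w, u⁆ ^ q = 1 := by
          rw [← Cfsg.Lib.PGroups.commutator_pow_left_of_commute h2,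
            commutatorElement_eq_one_iff_mul_comm]
          exact (mem_centralizer_iff.mp (hΦc (hQΦ w hw)) u hu).symm
        rw [Cfsg.Lib.PGroups.mul_pow_of_commute_commutator h1 h2]
        obtain ⟨m, hm⟩ := Cfsg.Lib.PGroups.dvd_choose_two hq hq2
        rw [hm, pow_mul, h3, one_pow, mul_one]
      let E : Subgroup Γ :=
        { carrier := {u | u ∈ Q ∧ u ^ q = 1}
          one_mem' := ⟨one_mem Q, one_pow q⟩
          mul_mem' := fun {u w} hu hw =>
            ⟨mul_mem hu.1 hw.1, by rw [hqmul u hu.1 w hw.1, hu.2, hw.2, mul_one]⟩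
          inv_mem' := fun {u} hu => ⟨inv_mem hu.1, by rw [inv_pow, hu.2, inv_one]⟩ }
      have hle : ⁅Q, P⁆ ≤ E := by
        rw [commutator_le]
        intro u hu g hg
        have h1 : g * u⁻¹ * g⁻¹ ∈ Q := (mem_normalizer_iff.mp (hPQ hg) _).mp (inv_mem hu)
        have e : ⁅u, g⁆ = u * (g * u⁻¹ * g⁻¹) := by rw [commutatorElement_def]; group
        refine ⟨e ▸ mul_mem hu h1, ?_⟩
        rw [e, hqmul u hu _ h1, conj_pow, inv_pow,
          ← mem_centralizer_iff.mp (hΦP hg) _ (inv_mem (hQΦ u hu)), mul_inv_cancel_right, mul_inv_cancel]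
      intro u hu
      exact (hle (hQP.symm ▸ hu)).2
    haveI := hcyc
    set C := Q ⊓ centralizer ({x} : Set Γ)
    have hCq : Nat.card C ≤ q := by
      obtain ⟨g, hg⟩ := IsCyclic.exists_ofOrder_eq_natCard (α := C)
      rw [← hg]
      exact orderOf_le_of_pow_eq_one hq.pos (Subtype.ext (hexp _ g.2.1))
    -- `x` has no fixed points in `Φ`
    have hCΦ : Φ ⊓ centralizer ({x} : Set Γ) = ⊥ := by
      by_contra hne'
      have hCle : C ≤ Φ := by
        have h1 : Φ ⊓ centralizer ({x} : Set Γ) ≤ C := inf_le_inf_right _ (map_subtype_le _)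
        have h2 := eq_of_le_of_card_ge h1 (hCq.trans (by
          rcases ((hQ.to_le (map_subtype_le _)).to_le
            (inf_le_left : Φ ⊓ centralizer ({x} : Set Γ) ≤ Φ)).card_eq_or_dvd with h | h
          · exact absurd (card_eq_one.mp h) hne'
          · exact Nat.le_of_dvd Nat.card_pos h))
        exact h2 ▸ inf_le_left
      -- then `x` would be fixed-point-free on `Q/Φ`, so `P` would centralize it
      apply hnc
      set N := normalizer (Q : Set Γ)
      haveI := Cfsg.Lib.PGroups.isMulCommutative_quotient_frattini hQ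
      letI : CommGroup (Q ⧸ frattini Q) :=
        { (inferInstance : Group (Q ⧸ frattini Q)) with mul_comm := mul_comm' }
      have hchar : (frattini Q).Characteristic := frattini_characteristic
      let φ : N →* MulAut (Q ⧸ frattini Q) :=
        { toFun := fun a => QuotientGroup.congr (frattini Q) (frattini Q) (Q.normalizerMonoidHom a)
            (characteristic_iff_map_eq.mp hchar (Q.normalizerMonoidHom a))
          map_one' := by
            ext y
            obtain ⟨y, rfl⟩ := QuotientGroup.mk'_surjective (frattini Q) y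
            show QuotientGroup.mk' _ (Q.normalizerMonoidHom 1 y) = QuotientGroup.mk' _ y
            rw [map_one]; rfl
          map_mul' := fun a b => by
            ext y
            obtain ⟨y, rfl⟩ := QuotientGroup.mk'_surjective (frattini Q) y
            show QuotientGroup.mk' _ (Q.normalizerMonoidHom (a * b) y) =
              QuotientGroup.mk' _ (Q.normalizerMonoidHom a (Q.normalizerMonoidHom b y))
            rw [map_mul]; rfl }
      have hφ : ∀ (a : N) (y : Q), φ a (QuotientGroup.mk y) = QuotientGroup.mk (Q.normalizerMonoidHom a y) :=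
        fun a y => rfl
      have hnofix : ∀ m : Q ⧸ frattini Q, φ ⟨x, hxQ⟩ m = m → m = 1 := by
        intro m hm
        obtain ⟨y, rfl⟩ := QuotientGroup.mk_surjective m
        rw [hφ, QuotientGroup.eq] at hm
        have h1 : ∀ a ∈ X, (y : Γ)⁻¹ * a * y * a⁻¹ ∈ Φ := by
          intro a ha
          obtain ⟨n, rfl⟩ := mem_powers_iff_mem_zpowers.mpr ha
          clear ha
          induction n with
          | zero => simp
          | succ n ihn =>
            have h2 : x * ((y : Γ)⁻¹ * x ^ n * y * (x ^ n)⁻¹) * x⁻¹ ∈ Φ :=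
              (mem_normalizer_iff.mp (hΦN hxQ) _).mp ihn
            have h3 : (y : Γ)⁻¹ * (x * y * x⁻¹) ∈ Φ := ⟨_, Subgroup.inv_mem _ hm, by simp [mul_assoc]⟩
            have := mul_mem h3 h2
            simpa [pow_succ', mul_assoc] using this
        obtain ⟨d, hd, hdc⟩ := Cfsg.Lib.Coprime.exists_fixed_in_coset (A := X) (D := Φ)
          (hXQ.trans hΦN) (Cfsg.Lib.Coprime.coprime_of_le (map_subtype_le _) (hj ▸ hcopX q hq hrq j))
          (Or.inr (Cfsg.Lib.Coprime.isSolvable_of_le (map_subtype_le _) hsol)) h1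
        have h5 : (y : Γ) * d ∈ C := ⟨mul_mem y.2 (map_subtype_le _ hd),
          mem_centralizer_singleton_iff.mpr (mem_centralizer_iff.mp hdc x (mem_zpowers x)).symm⟩
        have h6 : (y : Γ) ∈ Φ := by
          have := mul_mem (hCle h5) (inv_mem hd)
          rwa [mul_inv_cancel_right] at this
        obtain ⟨y', hy', he⟩ := h6
        exact (QuotientGroup.eq_one_iff _).mpr ((Subtype.ext he : y' = y) ▸ hy')
      have hPN : P ≤ N := hPQ
      have hcomm := commute_of_no_fixed_elementary (Cfsg.Lib.PGroups.pow_prime_quotient_frattini hQ) φ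
        ⟨x, hxQ⟩ hr hp hrp hp2 hrq hpq (Subtype.ext hxr) hnofix (P.subgroupOf N)
        (hP.comap_of_injective N.subtype N.subtype_injective) (by
          rw [mem_normalizer_iff]
          exact fun a => mem_normalizer_iff.mp hxP (a : Γ))
      have hker : P ≤ φ.ker.map N.subtype := by
        rw [← hPX, commutator_le]
        intro g hg a ha
        obtain ⟨n, rfl⟩ := mem_powers_iff_mem_zpowers.mpr ha
        refine ⟨⁅(⟨g, hPN hg⟩ : N), (⟨x, hxQ⟩ : N) ^ n⁆, ?_, rfl⟩
        rw [SetLike.mem_coe, MonoidHom.mem_ker, map_commutatorElement,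
          commutatorElement_eq_one_iff_commute, map_pow]
        exact Commute.pow_right (hcomm ⟨g, hPN hg⟩ hg).symm n
      refine Cfsg.Lib.Coprime.le_centralizer_of_frattini hPQ
        (hcopPQ.coprime_dvd_right (card_subgroup_dvd_card _)) fun a ha k hk => ?_
      obtain ⟨a', ha', rfl⟩ := hker ha
      have h1 : φ a' (QuotientGroup.mk (⟨k, hk⟩ : Q)) = QuotientGroup.mk (⟨k, hk⟩ : Q) :=
        DFunLike.congr_fun (MonoidHom.mem_ker.mp ha') _
      rw [hφ, eq_comm, QuotientGroup.eq] at h1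
      exact ⟨_, ((inferInstance : (frattini Q).Normal).mem_comm_iff).mp h1, rfl⟩
    have hΦX : ⁅Φ, X⁆ = Φ := by
      have h := Cfsg.Lib.Coprime.commutator_sup_centralizer (hXQ.trans hΦN)
        (Cfsg.Lib.Coprime.coprime_of_le (map_subtype_le (frattini Q)) (hj ▸ hcopX q hq hrq j))
        (Or.inr (Cfsg.Lib.Coprime.isSolvable_of_le (map_subtype_le _) hsol))
      have hb : Φ ⊓ centralizer (X : Set Γ) = ⊥ := eq_bot_iff.mpr fun y hy => hCΦ.le ⟨hy.1,
        mem_centralizer_singleton_iff.mpr (mem_centralizer_iff.mp hy.2 x (mem_zpowers x)).symm⟩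
      rwa [hb, sup_bot_eq] at h
    obtain ⟨W, ρ0, hW, hρ0, hirr, hzfix⟩ := exists_irreducible_moved ρ Q hzQ
      (fun u hu => hcom a₀ ha₀ b₀ hb₀ u hu) (hne1 z hz1) (hzK z hzQ)
    have hscal : ∀ a : Φ, ∃ c : K, ρ0 ⟨a, map_subtype_le _ a.2⟩ = c • 1 := fun a =>
      schur ρ0 hirr _ fun g => by
        rw [← map_mul, ← map_mul]
        exact congrArg ρ0 (Subtype.ext (mem_centralizer_iff.mp (hΦc a.2) g g.2).symm)
    choose lam hlam using hscal
    have hlamv : ∀ (w : W) (a : Φ), ρ a (w : V) = lam a • (w : V) := fun w a => by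
      rw [← hρ0 ⟨a, map_subtype_le _ a.2⟩, hlam]; rfl
    obtain ⟨w, hw⟩ := exists_ne (0 : W)
    have hlw : IsWeight ρ Φ lam := ⟨w, fun h => hw (Subtype.ext h), hlamv w⟩
    have hlam1 : lam ⟨z, hzΦ⟩ ≠ 1 := fun h => hw (hzfix w (by rw [hlamv w ⟨z, hzΦ⟩, h, one_smul]))
    have hxΦ : x ∈ normalizer (Φ : Set Γ) := hΦN hxQ
    have hmove : conjFn Φ x lam ≠ lam := fun h => hlam1 (hlw.eq_one_of_fixed
      (zpowers_le.mpr hxΦ) (fun g hg => by
        obtain ⟨m, rfl⟩ := mem_powers_iff_mem_zpowers.mpr hg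
        exact conjFn_pow_fixed hxΦ h m) hΦX _)
    -- the orbit sum is injective on `W`
    let T : W →ₗ[K] V := (∑ k ∈ Finset.range r, ρ (x ^ k)).comp W.subtype
    have hT : ∀ w : W, ρ x (T w) = T w ∧ weightProj ρ Φ lam (T w) = (Nat.card Φ : K) • (w : V) := by
      intro w
      have h := orbit_sum ρ hr hxr hxΦ hlw hmove (hlamv w)
      simpa [T, LinearMap.sum_apply] using h
    have hTinj : Function.Injective T := by
      rw [injective_iff_map_eq_zero]
      intro w h0
      have h := (hT w).2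
      rw [h0, map_zero] at h
      exact Subtype.ext ((smul_eq_zero.mp h.symm).resolve_left (hQK Φ (map_subtype_le _)))
    have hle : LinearMap.range T ≤ Submodule.span K {v₀} := by
      rintro _ ⟨w, rfl⟩
      exact hline _ (hT w).1
    have hrank : finrank K W ≤ 1 := by
      rw [← LinearMap.finrank_range_of_inj hTinj]
      exact (Submodule.finrank_mono hle).trans ((finrank_span_le_card ({v₀} : Set V)).trans (by simp))
    -- a line carries a commutative group
    have hcommW : ∀ a b : Module.End K W, a * b = b * a := by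
      intro a b
      have hr1 : finrank K W = 1 := le_antisymm hrank Module.finrank_pos
      obtain ⟨e, he, hgen⟩ := finrank_eq_one_iff'.mp hr1
      obtain ⟨ca, hca⟩ := hgen (a e)
      obtain ⟨cb, hcb⟩ := hgen (b e)
      refine LinearMap.ext fun w => ?_
      obtain ⟨c, rfl⟩ := hgen w
      simp only [map_smul, Module.End.mul_apply]
      rw [← hcb, ← hca, map_smul, map_smul, ← hca, ← hcb, smul_comm cb]
    apply hlam1
    have h1 : ρ0 ⟨z, hzQ⟩ = 1 := by
      rw [show (⟨z, hzQ⟩ : Q) = ⁅(⟨a₀, ha₀⟩ : Q), ⟨b₀, hb₀⟩⁆ from rfl, commutatorElement_def,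
        map_mul, map_mul, map_mul, hcommW (ρ0 ⟨a₀, ha₀⟩) (ρ0 ⟨b₀, hb₀⟩), mul_assoc (ρ0 ⟨b₀, hb₀⟩),
        ← map_mul, mul_inv_cancel, map_one, mul_one, ← map_mul, mul_inv_cancel, map_one]
    have h2 := hlamv w ⟨z, hzΦ⟩
    rw [← hρ0 ⟨z, hzQ⟩, h1, Module.End.one_apply] at h2
    exact smul_left_injective K (show (w : V) ≠ 0 from fun h => hw (Subtype.ext h))
      (h2.symm.trans (one_smul K (w : V)).symm)

end Cfsg.Lib.OddP
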