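import Cfsg.Agent.OddLocal.SigmaNormalizer

/-!
# Cyclic Sylow groups of a complement act in a prime manner
-/

set_option linter.unusedSectionVars false
set_option linter.unusedVariables false
set_option linter.style.haveILetI false

namespace Cfsg.Lib.OddLocal.RankTwoMax

open Subgroup Uniqueness Sigma
open Cfsg.Lib.Coprime (conjMap)
open scoped commutatorElement

universe u

variable {G : Type u} [Group G] [Finite G] {M L A E : Subgroup G} {p : ℕ} [hp : Fact p.Prime]

theorem pRankLE_one_of_sylow_cyclic {S : Subgroup G} (hS : IsSylowOf p S M) (hc : IsCyclic S) :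
    Cfsg.PRankLE p 1 M := by
  intro B hBc hBp
  by_contra hgt
  push Not at hgt
  set B' := B.map M.subtype with hB'
  have hp' : ∀ b ∈ B', b ^ p = 1 := by
    rintro _ ⟨b, hb, rfl⟩
    rw [← map_pow, hBp b hb, map_one]
  obtain ⟨R, hR, hBR⟩ := exists_sylowOf (isPGroup_of_pow hp' : IsPGroup p B') (map_subtype_le B)
  obtain ⟨m, -, hm⟩ := card_eq_of_sylowOf hS hR
  haveI : IsCyclic R := hm ▸ isCyclic_of_surjective ((MulAut.conj m).toMonoidHom.subgroupMap S)
    ((MulAut.conj m).toMonoidHom.subgroupMap_surjective S)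
  haveI : IsCyclic B' := isCyclic_of_injective (inclusion hBR) (inclusion_injective hBR)
  refine not_isCyclic_of_card hp' ?_ inferInstance
  rw [hB', card_map_of_injective M.subtype_injective]
  obtain ⟨j, hj⟩ := IsPGroup.iff_card.mp (isPGroup_of_pow hBp : IsPGroup p B)
  rw [hj] at hgt ⊢
  exact Nat.pow_le_pow_right hp.out.pos ((Nat.pow_lt_pow_iff_right hp.out.one_lt).mp hgt)

theorem not_le_of_rank_one (hr : Cfsg.PRankLE p 1 M) (hA : Cfsg.IsElementaryAbelian p A)
    (hAc : Nat.card A = p ^ 2) : ¬ A ≤ M := by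
  intro hle
  have h1 := hr (A.subgroupOf M)
    ⟨⟨fun a b => Subtype.ext (Subtype.ext (ThompsonTransitivity.mul_comm_of hA.1 a.2 b.2))⟩⟩
    (fun a ha => Subtype.ext (by simpa using hA.2 a ha))
  rw [Nat.card_congr (subgroupOfEquivOfLe hle).toEquiv, hAc] at h1
  exact absurd ((Nat.pow_le_pow_iff_right hp.out.one_lt).mp h1) (by norm_num)

theorem not_conj_of_rank (hr : Cfsg.PRankLE p 1 M) (hA : Cfsg.IsElementaryAbelian p A)
    (hAc : Nat.card A = p ^ 2) (hAL : A ≤ L) (g : G) : L ≠ conjMap g M := by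
  intro h
  refine not_le_of_rank_one hr (A := conjMap g⁻¹ A) (Cfsg.Lib.OddP.isElementaryAbelian_map hA _)
    (by rw [Cfsg.Lib.Coprime.card_conjMap, hAc]) ?_
  refine (Cfsg.Lib.Coprime.conjMap_mono hAL).trans (le_of_eq ?_)
  rw [h, Cfsg.Lib.Coprime.conjMap_inv_conjMap]

/-- A group inside `N(V)` with `V` in a maximal subgroup where `V`'s prime is not in `σ`. -/
theorem conj_le_complement (hG : Cfsg.IsMinSimpleOddOrder G) (hL : IsCoatom L)
    (hE : Cfsg.IsComplIn E (Cfsg.sigmaCore L) L) (hσ : p ∉ Cfsg.sigma L) (hA : IsPGroup p A) (hAL : A ≤ L) :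
    ∃ m ∈ L, conjMap m A ≤ E := by
  obtain ⟨R, hR, hAR⟩ := exists_sylowOf hA hAL
  obtain ⟨T⟩ : Nonempty (Sylow p E) := inferInstance
  obtain ⟨m, hm, hmR⟩ := card_eq_of_sylowOf hR (isSylowOf_complement hG hL hE hσ T)
  exact ⟨m, hm, ((Cfsg.Lib.Coprime.conjMap_mono hAR).trans hmR.le).trans (map_subtype_le _)⟩

/-- Proposition: a line and a cyclic Sylow group of a complement have equal fixed points in `M_σ`. -/
theorem line_fixed_le (hG : Cfsg.IsMinSimpleOddOrder G) (hM : IsCoatom M) (hσ : p ∉ Cfsg.sigma M)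
    {S : Subgroup G} (hS : IsSylowOf p S M) (hc : IsCyclic S) {y : G} (hy : y ∈ S) (hyo : orderOf y = p) :
    Cfsg.sigmaCore M ⊓ centralizer ({y} : Set G) ≤ centralizer (S : Set G) := by
  have hr1 := pRankLE_one_of_sylow_cyclic hS hc
  set X := zpowers y with hX
  have hXc : Nat.card X = p := by rw [hX, Nat.card_zpowers, hyo]
  have hXS : X ≤ S := zpowers_le.mpr hy
  haveI := hc
  obtain ⟨L, hL, hNL⟩ := exists_coatom_ge (MinSimpleTransitivity.normalizer_ne_top hG (line_ne_bot hXc)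
    (FittingUniqueness.ne_top_of_le_coatom hM (hXS.trans hS.1)))
  have hne : M ≠ L := fun h => (exists_sq_ge hG hM hσ hXc (h ▸ hNL)).1 hr1
  have hCL : centralizer ({y} : Set G) ≤ L := by
    rw [← Cfsg.Lib.Coprime.centralizer_zpowers]
    exact (centralizer_le_normalizer _).trans hNL
  have hSy : S ≤ centralizer ({y} : Set G) := fun s hs =>
    mem_centralizer_singleton_iff.mpr (ThompsonTransitivity.mul_comm_of inferInstance hs hy)
  have hSL : S ≤ L := hSy.trans hCL
  have hyL : y ∈ L := hSL hy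
  set K := Cfsg.sigmaCore M ⊓ centralizer ({y} : Set G) with hK
  have hSK : S ≤ normalizer (K : Set G) := Cfsg.Lib.Coprime.le_normalizer_inf
    (hS.1.trans (le_normalizer_sigmaCore M)) (hSy.trans Subgroup.le_normalizer)
  obtain ⟨j, hj⟩ := IsPGroup.iff_card.mp hS.2.1
  have hpK : ∀ X : Subgroup G, X ≤ K → (Nat.card S).Coprime (Nat.card X) := fun X hX => by
    rw [hj]
    refine ((hp.out.coprime_iff_not_dvd.mpr fun hd => hσ ?_).pow_left j)
    exact sigmaCore_isPi p hp.out (hd.trans (card_dvd_of_le (hX.trans inf_le_left)))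
  have hsolS : Group.IsSolvable S := hG.2.2.2 S (FittingUniqueness.ne_top_of_le_coatom hM hS.1)
  refine Cfsg.Lib.Coprime.le_of_forall_sylow fun q hq => ?_
  haveI := Fact.mk hq
  obtain ⟨T, hT⟩ := Cfsg.Lib.Coprime.exists_invariant_sylow hSK (hpK K le_rfl) (Or.inl hsolS) q
  refine ⟨T, ?_⟩
  set Q := (T : Subgroup K).map K.subtype with hQ
  rw [le_centralizer_iff]
  by_contra hmove
  have hQK : Q ≤ K := map_subtype_le _
  have hQM : Q ≤ M := hQK.trans (inf_le_left.trans (sigmaCore_le M))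
  have hQL : Q ≤ L := hQK.trans (inf_le_right.trans hCL)
  set V := ⁅Q, S⁆ with hV
  have hVQ : V ≤ Q := Cfsg.Lib.Coprime.commutator_le_of_le_normalizer hT
  have hVq : IsPGroup q V := (T.2.map _).to_le hVQ
  have hV1 : V ≠ ⊥ := fun h0 => hmove (le_centralizer_iff.mp (commutator_eq_bot_iff_le_centralizer.mp h0))
  have hqσ : q ∈ Cfsg.sigma M := sigmaCore_isPi q hq
    ((dvd_card_of_isPGroup hVq hV1).trans (card_dvd_of_le (hVQ.trans (hQK.trans inf_le_left))))
  have hqp : q ≠ p := fun e => hσ (e ▸ hqσ)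
  have hSV : S ≤ normalizer (V : Set G) := Cfsg.Lib.Coprime.le_normalizer_commutator_right _ _
  have hVV : ⁅V, S⁆ = V := Cfsg.Lib.Coprime.commutator_commutator_eq hT (hpK Q hQK) (Or.inl hsolS)
  -- derived subgroups containing `S` kill `V`
  have hkill : ∀ N : Subgroup G, IsCoatom N → M ≠ N → V ≤ N → S ≤ N → p ∈ Cfsg.sigma N → False := by
    intro N hN hneN hVN hSN hpN
    by_cases hβ : q ∈ Cfsg.beta N
    · exact hneN (eq_of_beta hG hM hN hqσ hβ hVq hV1 (hVQ.trans hQM) hVN)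
    have hVN' : V ≤ ⁅N, N⁆ := hVV ▸ commutator_mono hVN hSN
    have h1 := centralizes_of_derived hG hN hβ hVN' (sylow_le_derived' hG hN hpN hS.2.1 hSN) hVq
      (coprime_of_ne hqp.symm hS.2.1) hSV
    exact hV1 (hVV ▸ commutator_eq_bot_iff_le_centralizer.mpr (le_centralizer_iff.mp h1))
  by_cases hpL : p ∈ Cfsg.sigma L
  · exact hkill L hL hne (hVQ.trans hQL) hSL hpL
  have hτ : p ∈ Cfsg.tau2 L :=
    ⟨hp.out, hpL, pRankLE_of_not_sigma hG hL hpL, (exists_sq_ge hG hL hpL hXc hNL).1⟩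
  obtain ⟨E₀, hE₀⟩ := exists_complement hG hL
  obtain ⟨A₁, hA₁E, hA₁, hA₁c⟩ := exists_sq_complement hG hL hE₀ hτ
  have hqL : q ∉ Cfsg.sigma L := fun h => by
    obtain ⟨A₂, hx⟩ := exists_exc hG hL hpL (hA₁E.trans hE₀.1) hA₁ hA₁c
    obtain ⟨g, hg⟩ := conj_of_nilpotent_left hG hM hL (hx.nilpotent hG) hqσ h
    exact not_conj_of_rank hr1 hA₁ hA₁c (hA₁E.trans hE₀.1) g hg
  obtain ⟨E, hE, hle⟩ := exists_complement_ge hG hL (X := Q ⊔ S) (sup_le hQL hSL) fun r hr hd => by
    rw [sup_comm, ← sup_comm Q S] at hd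
    have h1 := Cfsg.Lib.Coprime.card_sup_mul_card_inf (N := Q) (H := S) hT
    have h2 : r ∣ Nat.card Q * Nat.card S := h1 ▸ hd.mul_right _
    obtain ⟨i, hi⟩ := IsPGroup.iff_card.mp (T.2.map K.subtype)
    rw [hi, hj] at h2
    rcases hr.dvd_mul.mp h2 with h3 | h3
    · rw [(Nat.prime_dvd_prime_iff_eq hr hq).mp (hr.dvd_of_dvd_pow h3)]; exact hqL
    · rw [(Nat.prime_dvd_prime_iff_eq hr hp.out).mp (hr.dvd_of_dvd_pow h3)]; exact hpL
  obtain ⟨A, hAE, hA, hAc⟩ := exists_sq_complement hG hL hE hτ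
  obtain ⟨A₂, h⟩ := exists_exc hG hL hpL (hAE.trans hE.1) hA hAc
  have hsq := h.maxSq hG
  have hn := h.le_normalizer hG hE hAE
  have hSE : S ≤ E := le_sup_right.trans hle
  have hSA : S ≤ centralizer (A : Set G) := by
    haveI := comm_of_not_sigma hG hL hpL (hS.2.1.to_sup_of_normal_right' hsq.isPGroup (hSE.trans hn))
      (sup_le hSL h.le)
    exact fun s hs => mem_centralizer_iff.mpr fun a ha =>
      ThompsonTransitivity.mul_comm_of inferInstance (mem_sup_right ha : a ∈ S ⊔ A) (mem_sup_left hs)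
  have hVA : V ≤ centralizer (A : Set G) := by
    rw [hV, commutator_le]
    intro a ha s hs
    have han : a ∈ normalizer (A : Set G) := hn (hle (mem_sup_left ha))
    rw [commutatorElement_def]
    exact mul_mem ((mem_normalizer_iff.mp (FittingParts.normalizer_centralizer_le A han) s).mp (hSA hs))
      (inv_mem (hSA hs))
  obtain ⟨N, hN, hNV⟩ := exists_coatom_ge (MinSimpleTransitivity.normalizer_ne_top hG hV1
    (FittingUniqueness.ne_top_of_le_coatom hM (hVQ.trans hQM)))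
  have hAN : A ≤ N := ((le_centralizer_iff.mp hVA).trans (centralizer_le_normalizer _)).trans hNV
  have hneN : M ≠ N := fun e => not_le_of_rank_one hr1 hA hAc (e ▸ hAN)
  have hVN : V ≤ N := Subgroup.le_normalizer.trans hNV
  by_cases hpN : p ∈ Cfsg.sigma N
  · exact hkill N hN hneN hVN (hSV.trans hNV) hpN
  obtain ⟨A₃, h₃⟩ := exists_exc hG hN hpN hAN hA hAc
  by_cases hqN : q ∈ Cfsg.sigma N
  · exact hV1 (le_bot_iff.mp ((le_inf (le_sigmaCore_of_pgroup hG hN hqN hVq hVN) hVA).trans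
      (h₃.inf_centralizer_eq_bot hG).le))
  · obtain ⟨-, -, E₂, hE₂, hE₂M⟩ := tau_two_other hG hM hN hqσ hqN hVq hV1 (hVQ.trans hQM) hNV
    obtain ⟨m, -, hm⟩ := conj_le_complement hG hN hE₂ hpN hsq.isPGroup hAN
    exact not_le_of_rank_one hr1 (Cfsg.Lib.OddP.isElementaryAbelian_map hA _)
      (by rw [Cfsg.Lib.Coprime.card_conjMap, hAc]) (hm.trans hE₂M)

/-- Lemma: prime action of cyclic Sylow groups. -/
theorem prime_action (hG : Cfsg.IsMinSimpleOddOrder G) (hM : IsCoatom M) (hσ : p ∉ Cfsg.sigma M)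
    {S : Subgroup G} (hS : IsSylowOf p S M) (hc : IsCyclic S) {x : G} (hx : x ∈ S) (hx1 : x ≠ 1) :
    Cfsg.sigmaCore M ⊓ centralizer ({x} : Set G) = Cfsg.sigmaCore M ⊓ centralizer (S : Set G) := by
  refine le_antisymm (le_inf inf_le_left ?_)
    (inf_le_inf_left _ (Subgroup.centralizer_le (by simpa using hx)))
  obtain ⟨y, hy, hyo⟩ := ScnUniqueness.exists_orderOf (hS.2.1.to_le (zpowers_le.mpr hx))
    (fun h0 => hx1 (zpowers_eq_bot.mp h0))
  refine le_trans (inf_le_inf_left _ ?_) (line_fixed_le hG hM hσ hS hc (zpowers_le.mpr hx hy) hyo)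
  rw [← Cfsg.Lib.Coprime.centralizer_zpowers x]
  exact Subgroup.centralizer_le (by simpa using hy)

end Cfsg.Lib.OddLocal.RankTwoMax
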