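import Cfsg.Prelude.Def_OddOrderLocal
import Cfsg.Agent.Coprime.SolvableBasics

/-!
# Basic properties of the Puig series
-/

namespace Cfsg.Lib.Puig

universe u

variable {G : Type u} [Group G]

theorem puigStep_anti : Antitone (Cfsg.puigStep (G := G)) := fun _ _ hXY =>
  sSup_le_sSup fun _ hA => ⟨hA.1, hXY.trans hA.2⟩

theorem puigSeq_one : Cfsg.puigSeq G 1 = ⊤ := by
  refine top_unique fun g _ => ?_
  exact (le_sSup (s := {A : Subgroup G | IsMulCommutative A ∧
      (⊥ : Subgroup G) ≤ Subgroup.normalizer (A : Set G)})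
    ⟨(inferInstance : IsMulCommutative (Subgroup.zpowers g)), bot_le⟩ :
    Subgroup.zpowers g ≤ Cfsg.puigStep (⊥ : Subgroup G)) (Subgroup.mem_zpowers g)

theorem puigSeq_succ (n : ℕ) :
    Cfsg.puigSeq G (n + 1) = Cfsg.puigStep (Cfsg.puigSeq G n) := rfl

theorem even_le_succ (n : ℕ) :
    Cfsg.puigSeq G (2 * n) ≤ Cfsg.puigSeq G (2 * n + 2) ∧
      Cfsg.puigSeq G (2 * n + 3) ≤ Cfsg.puigSeq G (2 * n + 1) ∧
      Cfsg.puigSeq G (2 * n) ≤ Cfsg.puigSeq G (2 * n + 1) := by
  induction n with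
  | zero => exact ⟨bot_le, by rw [puigSeq_one]; exact le_top, bot_le⟩
  | succ n ih =>
    obtain ⟨h1, h2, h3⟩ := ih
    have h4 : Cfsg.puigSeq G (2 * n + 2) ≤ Cfsg.puigSeq G (2 * n + 4) := puigStep_anti h2
    exact ⟨h4, puigStep_anti h4, puigStep_anti (puigStep_anti h3)⟩

theorem even_mono : Monotone fun n => Cfsg.puigSeq G (2 * n) :=
  monotone_nat_of_le_succ fun n => (even_le_succ n).1

theorem odd_anti : Antitone fun n => Cfsg.puigSeq G (2 * n + 1) :=
  antitone_nat_of_succ_le fun n => (even_le_succ n).2.1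

theorem even_le_odd (n m : ℕ) : Cfsg.puigSeq G (2 * n) ≤ Cfsg.puigSeq G (2 * m + 1) :=
  (even_mono (le_max_left n m)).trans ((even_le_succ _).2.2.trans (odd_anti (le_max_right n m)))

theorem exists_stable [Finite G] : ∃ k : ℕ, ∀ n : ℕ, k ≤ n →
    Cfsg.puigSeq G (2 * n) = Cfsg.puigLower G ∧
      Cfsg.puigSeq G (2 * n + 1) = Cfsg.puigSubgroup G := by
  obtain ⟨k, hk⟩ := WellFoundedGT.monotone_chain_condition ⟨_, even_mono (G := G)⟩
  obtain ⟨l, hl⟩ := WellFoundedLT.antitone_chain_condition (odd_anti (G := G))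
  refine ⟨max k l, fun n hn => ⟨le_antisymm (le_iSup (fun j => Cfsg.puigSeq G (2 * j)) n) ?_,
    le_antisymm ?_ (iInf_le (fun j => Cfsg.puigSeq G (2 * j + 1)) n)⟩⟩
  · refine iSup_le fun j => ?_
    have h1 := hk n ((le_max_left k l).trans hn)
    simp only [OrderHom.coe_mk] at h1
    rcases le_total j k with h | h
    · exact (even_mono h).trans h1.le
    · exact ((hk j h).symm.trans h1).le
  · refine le_iInf fun j => ?_
    have h1 : Cfsg.puigSeq G (2 * l + 1) = Cfsg.puigSeq G (2 * n + 1) :=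
      hl n ((le_max_right k l).trans hn)
    rcases le_total j l with h | h
    · exact h1.ge.trans (odd_anti h)
    · exact h1.ge.trans (hl j h : Cfsg.puigSeq G (2 * l + 1) = _).le

theorem step_lower [Finite G] :
    Cfsg.puigStep (Cfsg.puigLower G) = Cfsg.puigSubgroup G ∧
      Cfsg.puigStep (Cfsg.puigSubgroup G) = Cfsg.puigLower G := by
  obtain ⟨k, hk⟩ := exists_stable (G := G)
  constructor
  · rw [← (hk k le_rfl).1]; exact (hk k le_rfl).2
  · rw [← (hk k le_rfl).2]; exact (hk (k + 1) k.le_succ).1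

/-- A finite group has a maximal abelian normal subgroup; in a nilpotent group it is
self-centralizing and so lies in every term of the Puig series of positive index. -/
theorem centralizer_step_le [Finite G] [Group.IsNilpotent G] (X : Subgroup G) :
    Subgroup.centralizer ((Cfsg.puigStep X : Subgroup G) : Set G) ≤ Cfsg.puigStep X := by
  obtain ⟨A, ⟨hAn, hAc⟩, hmax⟩ := Set.Finite.exists_maximal
    (s := {A : Subgroup G | A.Normal ∧ IsMulCommutative A}) (Set.toFinite _)
    ⟨⊥, inferInstance, inferInstance⟩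
  have := hAn
  have := hAc
  have hC := Coprime.centralizer_eq_of_maximal_abelian A
    fun M hM hMc hAM => le_antisymm (hmax ⟨hM, hMc⟩ hAM) hAM
  have hA : A ≤ Cfsg.puigStep X := le_sSup ⟨hAc, by
    rw [Subgroup.normalizer_eq_top]; exact le_top⟩
  exact (Subgroup.centralizer_le (show (A : Set G) ⊆ _ from hA)).trans (hC.le.trans hA)

theorem center_le_centralizer (X : Subgroup G) :
    Subgroup.center G ≤ Subgroup.centralizer (X : Set G) := fun z hz =>
  Subgroup.mem_centralizer_iff.mpr fun x _ => Subgroup.mem_center_iff.mp hz x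

end Cfsg.Lib.Puig
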