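import Cfsg.Agent.OddLocal.QuaternionDerived
import Cfsg.Agent.OddChar.FrobeniusLinear
import Cfsg.Agent.Chars.TI
import Cfsg.Agent.Chars.Sums
import Cfsg.Agent.Chars.Values
import Mathlib.GroupTheory.SpecificGroups.Cyclic

/-!
# The Brauer–Suzuki theorem for generalized quaternion Sylow subgroups of order at least 16

One induced generalized character of norm three suffices: it is supported on the elements whose
order is divisible by that of `⁅S, S⁆` and which centralize it.
-/

set_option linter.unusedSectionVars false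
set_option linter.style.haveILetI false

namespace Cfsg.Lib.OddLocal.QuatDerived

open Subgroup QuaternionGroup Cfsg.Lib.Chars Cfsg.Lib.Dual
open scoped commutatorElement ComplexConjugate

universe u

variable {G : Type u} [Group G] [Fintype G] (S : Sylow 2 G) (n : ℕ)
  (e : (S : Subgroup G) ≃* QuaternionGroup (2 ^ (n + 2)))
  (D : Subgroup G) (hD : D = ⁅(S : Subgroup G), (S : Subgroup G)⁆)

include e hD in
/-- Outside `S ⊓ C(D)` the elements of `S` invert it and have order four. -/
theorem outside (u : G) (hT : (S : Subgroup G) ⊓ centralizer (D : Set G) = zpowers u)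
    (hou : orderOf u = 2 ^ (n + 3)) {s : G} (hs : s ∈ (S : Subgroup G)) (hsu : s ∉ zpowers u) :
    s * u * s⁻¹ = u⁻¹ ∧ orderOf s = 4 := by
  set m := 2 ^ (n + 2) with hm
  haveI : NeZero m := ⟨by positivity⟩
  have hm4 : 4 ≤ m := by
    rw [hm, pow_add]
    have := Nat.one_le_two_pow (n := n)
    omega
  let f : QuaternionGroup m →* G := (S : Subgroup G).subtype.comp e.symm.toMonoidHom
  have hfi : Function.Injective f := Subtype.coe_injective.comp e.symm.injective
  have huS : u ∈ (S : Subgroup G) := (Subgroup.mem_inf.mp (hT.ge (mem_zpowers u))).1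
  set q := e ⟨u, huS⟩
  set r := e ⟨s, hs⟩
  have hfq : f q = u := by simp [f, q]
  have hfr : f r = s := by simp [f, r]
  have hoq : orderOf q = 2 * m := by
    rw [← orderOf_injective f hfi, hfq, hou, hm]; ring
  rcases hq : q with i | i
  · have hfu : f (a i) = u := hq ▸ hfq
    rcases hr : r with j | j
    · exfalso
      have hle : zpowers (a i : QuaternionGroup m) ≤ zpowers (a 1) := by
        rw [zpowers_le, ← ZMod.natCast_rightInverse i, ← a_one_pow]
        exact pow_mem (mem_zpowers _) _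
      have heq : zpowers (a i : QuaternionGroup m) = zpowers (a 1) := eq_of_le_of_card_ge hle
        (by rw [Nat.card_zpowers, Nat.card_zpowers, ← hq, hoq, orderOf_a_one])
      have hj : (a j : QuaternionGroup m) ∈ zpowers (a i) := by
        rw [heq, ← ZMod.natCast_rightInverse j, ← a_one_pow]
        exact pow_mem (mem_zpowers _) _
      refine hsu ?_
      rw [← hfr, hr, ← hfu, ← MonoidHom.map_zpowers]
      exact mem_map_of_mem f hj
    · constructor
      · rw [← hfr, hr, ← hfu, ← map_inv, ← map_inv, ← map_mul, ← map_mul]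
        congr 1
        rw [show (a i : QuaternionGroup m)⁻¹ = a (-i) from rfl, xa_mul_a,
          show (xa j : QuaternionGroup m)⁻¹ = xa ((m : ZMod (2 * m)) + j) from rfl, xa_mul_xa]
        congr 1
        have hm2 : (2 : ZMod (2 * m)) * (m : ZMod (2 * m)) = 0 := by
          exact_mod_cast ZMod.natCast_self (2 * m)
        linear_combination hm2
      · rw [← hfr, hr, orderOf_injective f hfi, orderOf_xa]
  · exfalso
    rw [hq, orderOf_xa] at hoq
    omega

include n e hD in
theorem mem_zpowers_of_involution (u : G) (hT : (S : Subgroup G) ⊓ centralizer (D : Set G) = zpowers u)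
    (hou : orderOf u = 2 ^ (n + 3)) {x : G} (hx : x ∈ (S : Subgroup G)) (hxo : orderOf x = 2) :
    x ∈ zpowers u := by
  by_contra h
  have := (outside S n e D hD u hT hou hx h).2
  omega

/-- An irreducible character trivial on all commutators is linear. -/
theorem deg_one_of_commutator {χ : G → ℂ} (hχ : Cfsg.IsIrrCharacter G χ)
    (h : ∀ x ∈ commutator G, χ x = χ 1) : χ 1 = 1 := by
  classical
  have hval : ∀ x : G, χ x * conj (χ x) = χ 1 * χ 1 := by
    intro x
    have hs := sum_class_products hχ x x⁻¹ 1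
    have hl : ∀ a ∈ Finset.univ.filter (IsConj x), ∀ b ∈ Finset.univ.filter (IsConj x⁻¹),
        χ (a * b * 1) = χ 1 := by
      intro a ha b hb
      obtain ⟨g, rfl⟩ := isConj_iff.mp (Finset.mem_filter.mp ha).2
      obtain ⟨k, rfl⟩ := isConj_iff.mp (Finset.mem_filter.mp hb).2
      refine h _ ?_
      rw [← Abelianization.ker_of, MonoidHom.mem_ker]
      simp only [map_mul, map_inv, map_one]
      simp [mul_comm, mul_left_comm]
    rw [Finset.sum_congr rfl fun a ha => Finset.sum_congr rfl fun b hb => hl a ha b hb,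
      Finset.sum_const, Finset.sum_const, smul_smul, nsmul_eq_mul, Nat.cast_mul,
      IsCharacter.conj_inv (isCharacter_of_irr hχ)] at hs
    have e1 : ∀ y : G, (Finset.univ.filter (IsConj y)).card = Nat.card {z : G // IsConj y z} := fun y => by
      rw [Nat.card_eq_fintype_card, Fintype.card_subtype]
    rw [e1, e1] at hs
    have h1 : χ 1 ≠ 0 := IsIrrCharacter.apply_one_ne_zero hχ
    have hc1 : (Nat.card {z : G // IsConj x z} : ℂ) ≠ 0 := by
      exact_mod_cast (Cfsg.Lib.Chars.card_isConj_pos x).ne'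
    have hc2 : (Nat.card {z : G // IsConj x⁻¹ z} : ℂ) ≠ 0 := by
      exact_mod_cast (Cfsg.Lib.Chars.card_isConj_pos x⁻¹).ne'
    field_simp at hs
    linear_combination -hs
  have hn := classInner_self_irr hχ
  rw [classInner_def, Finset.sum_congr rfl fun x _ => hval x, Finset.sum_const, Finset.card_univ,
    nsmul_eq_mul, ← Nat.card_eq_fintype_card, ← mul_assoc,
    inv_mul_cancel₀ (by exact_mod_cast Nat.card_pos.ne'), one_mul] at hn
  obtain ⟨d, hd, h1⟩ := IsIrrCharacter.apply_one hχ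
  rw [h1] at hn ⊢
  have : d * d = 1 := by exact_mod_cast hn
  rw [Nat.eq_one_of_mul_eq_one_right this, Nat.cast_one]

include n e hD in
/-- The class function on `G`. -/
theorem exists_special :
    ∃ F : G → ℂ, Cfsg.IsGeneralizedCharacter G F ∧ Cfsg.classInner F F = 3 ∧
      Cfsg.classInner F (fun _ => 1) = 1 ∧ F 1 = 0 ∧
      (∀ g : G, ¬ 4 ∣ orderOf g → F g = 0) ∧
      (∀ g x y : G, orderOf x = 2 → orderOf y = 2 → x * y = g → F g = 0) ∧
      ∃ d ∈ D, F d ≠ 0 := by
  classical
  obtain ⟨u, hDu, hT, hou, hcD, hcS⟩ := data S n e D hD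
  obtain ⟨K, hKodd, hKC, hKN, hKS, hKT, hidx⟩ := structure_normalizer S n e D hD
  set C := centralizer (D : Set G) with hCdef
  set N := normalizer (D : Set G) with hNdef
  set m := 2 ^ (n + 2) with hm
  have hm4 : 4 ∣ m := ⟨2 ^ n, by rw [hm]; ring⟩
  have hou' : orderOf u = 2 * m := by rw [hou, hm]; ring
  have hCN : C ≤ N := centralizer_le_normalizer' D
  have hSN : (S : Subgroup G) ≤ N := sylow_le_normalizer S D hD
  have huC : u ∈ C := (Subgroup.mem_inf.mp (hT.ge (mem_zpowers u))).2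
  have huS : u ∈ (S : Subgroup G) := (Subgroup.mem_inf.mp (hT.ge (mem_zpowers u))).1
  -- the quotient `C / K`
  let K' : Subgroup C := K.subgroupOf C
  haveI hK'n : K'.Normal := ⟨fun x hx g => (mem_normalizer_iff.mp (hKN (hCN g.2)) _).mp hx⟩
  let v : C ⧸ K' := QuotientGroup.mk ⟨u, huC⟩
  have hgen : ∀ q : C ⧸ K', q ∈ zpowers v := by
    intro q
    obtain ⟨⟨c, hc⟩, rfl⟩ := QuotientGroup.mk_surjective q
    have hc' : c ∈ K ⊔ zpowers u := by rw [← hT, hKT]; exact hc
    rw [← SetLike.mem_coe, Subgroup.coe_mul_of_right_le_normalizer_left K (zpowers u)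
      (fun x hx => hKN (hCN ((zpowers_le.mpr huC) hx)))] at hc'
    obtain ⟨k, hk, w, hw, rfl⟩ := hc'
    obtain ⟨i, rfl⟩ := mem_zpowers_iff.mp hw
    refine mem_zpowers_iff.mpr ⟨i, ?_⟩
    rw [← QuotientGroup.mk_zpow, QuotientGroup.eq]
    show ((((⟨u, huC⟩ : C) ^ i)⁻¹ * ⟨k * u ^ i, hc⟩ : C) : G) ∈ K
    have hn' : (u ^ i)⁻¹ ∈ normalizer (K : Set G) := hKN (hCN (inv_mem (zpow_mem huC i)))
    have := (mem_normalizer_iff.mp hn' k).mp hk
    simpa [mul_assoc] using this
  have hKinf : ∀ x ∈ K, x ∈ zpowers u → x = 1 := by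
    intro x hxK hxu
    have h1 : orderOf x ∣ Nat.card K := orderOf_dvd_natCard K hxK
    have h2 : orderOf x ∣ 2 ^ (n + 3) := by
      have h3 := Subgroup.orderOf_dvd_natCard (zpowers u) hxu
      rwa [Nat.card_zpowers, hou] at h3
    exact orderOf_eq_one_iff.mp (Nat.eq_one_of_dvd_coprimes
      (Nat.Coprime.pow_right _ (Nat.coprime_two_right.mpr hKodd)) h1 h2)
  have hov : orderOf v = 2 * m := by
    rw [← hou']
    refine Nat.dvd_antisymm ?_ ?_
    · exact (orderOf_map_dvd (QuotientGroup.mk' K') ⟨u, huC⟩).trans (dvd_of_eq (orderOf_coe (⟨u, huC⟩ : C)).symm)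
    · rw [orderOf_dvd_iff_pow_eq_one]
      have h1 : v ^ orderOf v = 1 := pow_orderOf_eq_one v
      rw [← QuotientGroup.mk_pow, QuotientGroup.eq_one_iff] at h1
      exact hKinf _ h1 (pow_mem (mem_zpowers u) _)
  let iu : ℂˣ := Units.mk0 Complex.I Complex.I_ne_zero
  have hiu4 : iu ^ 4 = 1 := Units.ext (by simp [iu, Complex.I_pow_four])
  have hio : orderOf iu ∣ orderOf v :=
    (orderOf_dvd_of_pow_eq_one hiu4).trans (hov ▸ Dvd.dvd.mul_left hm4 2)
  let lam : C →* ℂˣ := (monoidHomOfForallMemZpowers hgen hio).comp (QuotientGroup.mk' K')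
  have hlamu : lam ⟨u, huC⟩ = iu := monoidHomOfForallMemZpowers_apply_gen hgen hio
  have hlamK : ∀ c : C, (c : G) ∈ K → lam c = 1 := fun c hc => by
    show monoidHomOfForallMemZpowers hgen hio (QuotientGroup.mk' K' c) = 1
    rw [QuotientGroup.mk'_apply, (QuotientGroup.eq_one_iff c).mpr hc, map_one]
  -- where `lam` is not trivial, the order is a multiple of `m`
  have hlamord : ∀ c : C, ¬ m ∣ orderOf (c : G) → lam c = 1 := by
    intro c hc
    obtain ⟨i, hi⟩ := mem_zpowers_iff.mp (hgen (QuotientGroup.mk' K' c))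
    have hlc : lam c = iu ^ i := by
      show monoidHomOfForallMemZpowers hgen hio (QuotientGroup.mk' K' c) = _
      rw [← hi, map_zpow, monoidHomOfForallMemZpowers_apply_gen]
    rw [hlc]
    by_contra hne
    refine hc ?_
    have h4 : ¬ (4 : ℤ) ∣ i := by
      rintro ⟨j, rfl⟩
      apply hne
      rw [zpow_mul]
      norm_cast
      rw [hiu4, one_zpow]
    have h1 : (2 * m : ℤ) ∣ i * orderOf (c : G) := by
      have h0 : v ^ (i * (orderOf (c : G) : ℤ)) = 1 := by
        rw [zpow_mul, hi, zpow_natCast, ← map_pow, orderOf_coe, pow_orderOf_eq_one, map_one]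
      rw [← orderOf_dvd_iff_zpow_eq_one, hov] at h0
      exact_mod_cast h0
    have h2 : 2 * m ∣ i.natAbs * orderOf (c : G) := by
      have := Int.natAbs_dvd_natAbs.mpr h1
      simpa [Int.natAbs_mul] using this
    have h4' : ¬ 4 ∣ i.natAbs := fun h => h4 (Int.natAbs_dvd_natAbs.mp (by simpa using h))
    by_cases h2i : 2 ∣ i.natAbs
    · obtain ⟨r', hr'⟩ := h2i
      have hr'o : ¬ 2 ∣ r' := fun ⟨s, hs⟩ => h4' ⟨s, by omega⟩
      rw [hr', mul_assoc] at h2
      have h3 : m ∣ r' * orderOf (c : G) := (Nat.mul_dvd_mul_iff_left two_pos).mp h2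
      exact (Nat.Coprime.dvd_mul_left (Nat.Coprime.pow_left _
        ((Nat.prime_two.coprime_iff_not_dvd).mpr hr'o))).mp h3
    · exact (Dvd.intro_left 2 rfl).trans ((Nat.Coprime.dvd_mul_left (by
        rw [hm, ← pow_succ']
        exact Nat.Coprime.pow_left _ ((Nat.prime_two.coprime_iff_not_dvd).mpr h2i))).mp h2)
  -- inside `N`
  haveI : Fintype N := Fintype.ofFinite _
  let C' : Subgroup N := C.subgroupOf N
  haveI hC'n : C'.Normal := ⟨fun x hx g => conj_mem_centralizer D g.2 hx⟩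
  haveI : Fintype C' := Fintype.ofFinite _
  let lam' : C' →* ℂˣ := lam.comp (subgroupOfEquivOfLe hCN).toMonoidHom
  have hlam'1 : lam' ≠ 1 := by
    intro h
    have h1 := DFunLike.congr_fun h ((subgroupOfEquivOfLe hCN).symm ⟨u, huC⟩)
    simp only [lam', MonoidHom.comp_apply, MulEquiv.coe_toMonoidHom, MulEquiv.apply_symm_apply,
      hlamu, MonoidHom.one_apply] at h1
    simpa [iu, Complex.ext_iff] using congrArg Units.val h1
  obtain ⟨s, hsS, hsu⟩ : ∃ s ∈ (S : Subgroup G), s ∉ zpowers u := by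
    by_contra h
    push Not at h
    have := Subgroup.card_le_of_le (show (S : Subgroup G) ≤ zpowers u from h)
    rw [hcS, Nat.card_zpowers, hou] at this
    have := Nat.pow_lt_pow_right (a := 2) one_lt_two (show n + 3 < n + 4 by omega)
    omega
  obtain ⟨hinv, -⟩ := outside S n e D hD u hT hou hsS hsu
  -- the stabiliser of `lam'`
  have hstab : ∀ g : N, conjN C' g (ev lam') = ev lam' → g ∈ C' := by
    intro g hg
    by_contra hgC
    have h2 := hidx
    rw [Subgroup.index_eq_two_iff] at h2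
    obtain ⟨a, ha⟩ := h2
    have hsC : (⟨s, hSN hsS⟩ : N) ∉ C' := fun hc => hsu (hT.le ⟨hsS, hc⟩)
    have hgs : g * (⟨s, hSN hsS⟩ : N)⁻¹ ∈ C' := by
      have hmi := Subgroup.mul_mem_iff_of_index_two hidx (a := g) (b := (⟨s, hSN hsS⟩ : N)⁻¹)
      exact hmi.mpr ⟨fun h => absurd h hgC, fun h => absurd ((C'.inv_mem_iff).mp h) hsC⟩
    have hs' : conjN C' (⟨s, hSN hsS⟩ : N) (ev lam') = ev lam' := by
      have hgeq : g = (g * (⟨s, hSN hsS⟩ : N)⁻¹) * ⟨s, hSN hsS⟩ := by group
      rw [hgeq, conjN_mul, conjN_of_mem (isClassFunction_isChar (isCharacter_of_irr (isIrr_ev lam')))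
        ⟨_, hgs⟩] at hg
      exact hg
    have h3 := congrFun hs' ((subgroupOfEquivOfLe hCN).symm ⟨u, huC⟩)
    have e1 : lam' ((subgroupOfEquivOfLe hCN).symm ⟨u, huC⟩) = iu := by
      simp only [lam', MonoidHom.comp_apply, MulEquiv.coe_toMonoidHom, MulEquiv.apply_symm_apply, hlamu]
    simp only [conjN, ev, e1] at h3
    have e2 : (subgroupOfEquivOfLe hCN) ⟨(⟨s, hSN hsS⟩ : N) * ((subgroupOfEquivOfLe hCN).symm ⟨u, huC⟩ : C') *
        (⟨s, hSN hsS⟩ : N)⁻¹, hC'n.conj_mem _ ((subgroupOfEquivOfLe hCN).symm ⟨u, huC⟩).2 _⟩ =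
        (⟨u, huC⟩ : C)⁻¹ := Subtype.ext (by simpa using hinv)
    simp only [lam', MonoidHom.comp_apply, MulEquiv.coe_toMonoidHom, e2, map_inv, hlamu] at h3
    norm_num [iu, Complex.ext_iff] at h3
  let f : N → ℂ := Cfsg.indFun C' (fun _ => 1) - Cfsg.indFun C' (ev lam')
  have hfgen : Cfsg.IsGeneralizedCharacter N f :=
    IsGeneralizedCharacter.sub
      (IsCharacter.isGeneralized (IsCharacter.indFun (isCharacter_of_irr isIrrCharacter_one)))
      (IsCharacter.isGeneralized (IsCharacter.indFun (isCharacter_of_irr (isIrr_ev lam'))))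
  have hfc := isClassFunction_generalized hfgen
  have hC'idx : C'.index = 2 := hidx
  have hlamlam : Cfsg.classInner (Cfsg.indFun C' (ev lam')) (Cfsg.indFun C' (ev lam')) = 1 := by
    have h := classInner_indFun_eq_card C' (isIrr_ev lam') (isIrr_ev lam')
    have hcard : Nat.card {g : N // conjN C' g (ev lam') = ev lam'} = Nat.card C' :=
      Nat.card_congr (Equiv.subtypeEquivRight fun g => ⟨hstab g, fun hg =>
        conjN_of_mem (isClassFunction_isChar (isCharacter_of_irr (isIrr_ev lam'))) ⟨g, hg⟩⟩)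
    rw [hcard] at h
    exact (mul_eq_left₀ (by exact_mod_cast Nat.card_pos.ne')).mp h
  have h1lam := FrobLin.inner_one_lin C' hlam'1
  have hlam1 : Cfsg.classInner (Cfsg.indFun C' (ev lam')) (Cfsg.indFun C' fun _ => 1) = 0 := by
    rw [← classInner_conj_symm, h1lam, map_zero]
  have hfn : Cfsg.classInner f f = 3 := by
    simp only [f, classInner_sub_left, classInner_sub_right, FrobLin.inner_one_one, hlamlam, h1lam,
      hlam1, hC'idx]
    norm_num
  have hf1 : f 1 = 0 := by
    show Cfsg.indFun C' (fun _ => 1) 1 - Cfsg.indFun C' (ev lam') 1 = 0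
    rw [FrobLin.indFun_const_one, FrobLin.indFun_ev_one, sub_self]
  let X : Set G := {x | x ∈ C ∧ m ∣ orderOf x}
  have hfX : ∀ x : N, (x : G) ∉ X → f x = 0 := by
    intro x hx
    by_cases hxC : x ∈ C'
    · show Cfsg.indFun C' (fun _ => 1) x - Cfsg.indFun C' (ev lam') x = 0
      rw [show x = ((⟨x, hxC⟩ : C') : N) from rfl, indFun_normal_mem, indFun_normal_mem, ← mul_sub,
        ← Finset.sum_sub_distrib, Finset.sum_eq_zero, mul_zero]
      intro g _
      have h1 : lam' ⟨g * x * g⁻¹, hC'n.conj_mem _ hxC g⟩ = 1 := by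
        refine hlamord _ fun hd => hx ⟨hxC, ?_⟩
        refine hd.trans (dvd_of_eq ?_)
        show orderOf (((g * x * g⁻¹ : N) : G)) = orderOf (x : G)
        push_cast
        exact orderOf_injective (MulAut.conj (g : G)).toMonoidHom (MulAut.conj (g : G)).injective x
      simp [ev, h1]
    · show Cfsg.indFun C' (fun _ => 1) x - Cfsg.indFun C' (ev lam') x = 0
      rw [indFun_normal_not_mem C' _ hxC, indFun_normal_not_mem C' _ hxC, sub_zero]
  have hTI : ∀ g : G, g ∉ N → ∀ t ∈ X, g * t * g⁻¹ ∈ X → t = 1 := by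
    intro g hg t ht hgt
    exfalso
    refine hg ?_
    have hy1 : D ≤ zpowers t := le_zpowers_of_dvd S n e D hD ht.1 (hcD.symm ▸ ht.2)
    have hy2 : D ≤ zpowers (g * t * g⁻¹) := le_zpowers_of_dvd S n e D hD hgt.1 (hcD.symm ▸ hgt.2)
    -- equal subgroups of a cyclic group
    have hsame : D.map (MulAut.conj g).toMonoidHom = D := by
      have hle : D.map (MulAut.conj g).toMonoidHom ≤ zpowers (g * t * g⁻¹) := by
        refine (map_mono hy1).trans (le_of_eq ?_)
        rw [MonoidHom.map_zpowers]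
        rfl
      obtain ⟨l, hl⟩ := hgt.2
      have key : ∀ A : Subgroup G, A ≤ zpowers (g * t * g⁻¹) → Nat.card A = m →
          zpowers ((g * t * g⁻¹) ^ l) = A := by
        intro A hA hAc
        refine (eq_of_le_of_card_ge ?_ (le_of_eq ?_)).symm
        · intro x hx
          obtain ⟨k, rfl⟩ := mem_zpowers_iff.mp (hA hx)
          have h2 : ((g * t * g⁻¹) ^ k) ^ (m : ℤ) = 1 := by
            rw [zpow_natCast, ← hAc]
            exact congrArg Subtype.val (pow_card_eq_one' (x := (⟨(g * t * g⁻¹) ^ k, hx⟩ : A)))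
          rw [← zpow_mul, ← orderOf_dvd_iff_zpow_eq_one, hl, Nat.cast_mul, mul_comm k] at h2
          obtain ⟨j, rfl⟩ := (mul_dvd_mul_iff_left
            (by rw [hm]; positivity : ((m : ℕ) : ℤ) ≠ 0)).mp h2
          exact mem_zpowers_iff.mpr ⟨j, by rw [← zpow_natCast, ← zpow_mul]⟩
        · have hl0 : l ≠ 0 := fun h => (orderOf_pos (g * t * g⁻¹)).ne' (by rw [hl, h, Nat.mul_zero])
          rw [Nat.card_zpowers, orderOf_pow_of_dvd hl0 (hl ▸ Dvd.intro_left _ rfl), hl,
            Nat.mul_div_cancel _ (Nat.pos_of_ne_zero hl0), hAc]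
      exact (key _ hle (by
        rw [← Nat.card_congr (D.equivMapOfInjective _ (MulAut.conj g).injective).toEquiv, hcD])).symm.trans
        (key D hy2 hcD)
    rw [hNdef, mem_normalizer_iff]
    intro x
    constructor
    · intro hx
      exact hsame.le (Subgroup.mem_map.mpr ⟨x, hx, rfl⟩)
    · intro hx
      obtain ⟨x', hx', he⟩ := Subgroup.mem_map.mp (hsame.ge hx)
      obtain rfl : x' = x := (MulAut.conj g).injective he
      exact hx'
  let F : G → ℂ := Cfsg.indFun N f
  have hFoff : ∀ g : G, (∀ a : G, a * g * a⁻¹ ∉ X) → F g = 0 := by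
    intro g hg
    show Cfsg.indFun N f g = 0
    rw [indFun_apply, Finset.sum_eq_zero, mul_zero]
    intro a _
    by_cases hma : a⁻¹ * g * a ∈ N
    · rw [extendByZero_mem _ hma]
      exact hfX _ (by simpa using hg a⁻¹)
    · rw [extendByZero_not_mem _ hma]
  refine ⟨F, IsGeneralizedCharacter.indFun hfgen, ?_, ?_, ?_, ?_, ?_, ?_⟩
  · show Cfsg.classInner (Cfsg.indFun N f) (Cfsg.indFun N f) = 3
    rw [frobenius_reciprocity N f (isClassFunction_indFun N f), ← hfn, classInner_def, classInner_def]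
    refine congrArg _ (Finset.sum_congr rfl fun x _ => ?_)
    by_cases hx : (x : G) ∈ X
    · by_cases h1 : x = 1
      · rw [h1, hf1, zero_mul, zero_mul]
      · rw [indFun_TI_apply' N X hTI hfc hfX x hx h1]
    · rw [hfX x hx, zero_mul, zero_mul]
  · show Cfsg.classInner (Cfsg.indFun N f) _ = 1
    rw [frobenius_reciprocity N f (isClassFunction_isChar (isCharacter_of_irr isIrrCharacter_one))]
    show Cfsg.classInner (Cfsg.indFun C' (fun _ => 1) - Cfsg.indFun C' (ev lam')) (fun _ => 1) = 1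
    rw [classInner_sub_left, FrobLin.inner_one_principal, frobenius_reciprocity C' (ev lam')
      (isClassFunction_isChar (isCharacter_of_irr isIrrCharacter_one))]
    show _ - Cfsg.classInner (ev lam') (fun _ => (1 : ℂ)) = 1
    rw [classInner_irrChar (isIrr_ev lam') isIrrCharacter_one,
      if_neg (FrobLin.ev_ne_one C' hlam'1), sub_zero]
  · show Cfsg.indFun N f 1 = 0
    rw [indFun_one, hf1, mul_zero]
  · intro g hg
    refine hFoff g fun a ha => hg (hm4.trans (ha.2.trans (dvd_of_eq ?_)))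
    exact orderOf_injective (MulAut.conj a).toMonoidHom (MulAut.conj a).injective g
  · intro g x y hx hy hxy
    show Cfsg.indFun N f g = 0
    rw [indFun_apply, Finset.sum_eq_zero, mul_zero]
    intro a _
    by_cases hma : a⁻¹ * g * a ∈ N
    swap
    · rw [extendByZero_not_mem _ hma]
    rw [extendByZero_mem _ hma]
    by_cases hmem : a⁻¹ * g * a ∈ X
    swap
    · exact hfX _ hmem
    -- both involutions normalise `D`, so lie in `C` and the product is in the kernel
    set t := a⁻¹ * g * a with ht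
    have ho : ∀ z : G, orderOf z = 2 → orderOf (a⁻¹ * z * a) = 2 := fun z hz => by
      rw [← hz]
      have := orderOf_injective (MulAut.conj a⁻¹).toMonoidHom (MulAut.conj a⁻¹).injective z
      simpa using this
    set x' := a⁻¹ * x * a with hx'
    set y' := a⁻¹ * y * a with hy'
    have hxy' : x' * y' = t := by rw [ht, hx', hy', ← hxy]; group
    have hx2 : x' * x' = 1 := by rw [← sq, ← ho x hx, pow_orderOf_eq_one]
    have hy2 : y' * y' = 1 := by rw [← sq, ← ho y hy, pow_orderOf_eq_one]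
    have hinv' : x' * t * x'⁻¹ = t⁻¹ := by
      rw [inv_eq_of_mul_eq_one_right hx2, ← hxy', mul_inv_rev, inv_eq_of_mul_eq_one_right hx2,
        inv_eq_of_mul_eq_one_right hy2, ← mul_assoc x' x' y', hx2, one_mul]
    have hinX : t⁻¹ ∈ X := ⟨inv_mem hmem.1, by rw [orderOf_inv]; exact hmem.2⟩
    have hx'N : x' ∈ N := by
      by_contra hxN
      have h1 := hTI x' hxN t hmem (hinv' ▸ hinX)
      have h2 : m ∣ 1 := by have := hmem.2; rwa [h1, orderOf_one] at this
      rw [Nat.dvd_one] at h2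
      rw [h2] at hm4
      norm_num at hm4
    have hy'N : y' ∈ N := by
      have : y' = x'⁻¹ * t := by rw [← hxy', inv_mul_cancel_left]
      rw [this]
      exact mul_mem (inv_mem hx'N) (hCN hmem.1)
    -- involutions of `N` lie in `C`
    have hinC : ∀ z ∈ N, orderOf z = 2 → z ∈ C ∧ ∀ hz : z ∈ C, lam ⟨z, hz⟩ = 1 := by
      intro z hz hzo
      refine ⟨?_, fun hzC => hlamord _ fun hd => ?_⟩
      · have hzp : IsPGroup 2 ((zpowers z).subgroupOf N) :=
          (IsPGroup.of_card (n := 1) (by rw [Nat.card_zpowers, hzo, pow_one]) :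
            IsPGroup 2 (zpowers z)).comap_subtype
        obtain ⟨P, hP⟩ := hzp.exists_le_sylow
        obtain ⟨b, hb⟩ := MulAction.exists_smul_eq N P (S.subtype hSN)
        have h1 : MulAut.conj b ⟨z, hz⟩ ∈ ((b • P : Sylow 2 N) : Subgroup N) :=
          ⟨⟨z, hz⟩, hP (show (⟨z, hz⟩ : N) ∈ (zpowers z).subgroupOf N from mem_zpowers z), rfl⟩
        rw [hb] at h1
        have h2 : (b : G) * z * (b : G)⁻¹ ∈ zpowers u :=
          mem_zpowers_of_involution S n e D hD u hT hou h1 (by
            rw [← hzo]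
            exact orderOf_injective (MulAut.conj (b : G)).toMonoidHom (MulAut.conj (b : G)).injective z)
        have h3 := conj_mem_centralizer D (inv_mem b.2) ((zpowers_le.mpr huC) h2)
        have e3 : (b : G)⁻¹ * ((b : G) * z * (b : G)⁻¹) * ((b : G)⁻¹)⁻¹ = z := by group
        rwa [e3] at h3
      · have h1 := Nat.le_of_dvd (by norm_num) (show m ∣ 2 from hzo ▸ hd)
        have := Nat.le_of_dvd (by rw [hm]; positivity) hm4
        omega
    obtain ⟨hxC, hlx⟩ := hinC x' hx'N (ho x hx)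
    obtain ⟨hyC, hly⟩ := hinC y' hy'N (ho y hy)
    show Cfsg.indFun C' (fun _ => 1) ⟨t, hma⟩ - Cfsg.indFun C' (ev lam') ⟨t, hma⟩ = 0
    have htC : (⟨t, hma⟩ : N) ∈ C' := hmem.1
    rw [show (⟨t, hma⟩ : N) = ((⟨⟨t, hma⟩, htC⟩ : C') : N) from rfl, indFun_normal_mem,
      indFun_normal_mem, ← mul_sub, ← Finset.sum_sub_distrib, Finset.sum_eq_zero, mul_zero]
    intro b _
    have h4 : lam' ⟨b * ⟨t, hma⟩ * b⁻¹, hC'n.conj_mem _ htC b⟩ = 1 := by
      obtain ⟨hc1, hl1⟩ := hinC ((b : G) * x' * (b : G)⁻¹) (mul_mem (mul_mem b.2 hx'N) (inv_mem b.2))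
        ((orderOf_injective (MulAut.conj (b : G)).toMonoidHom (MulAut.conj (b : G)).injective x').trans
          (ho x hx))
      obtain ⟨hc2, hl2⟩ := hinC ((b : G) * y' * (b : G)⁻¹) (mul_mem (mul_mem b.2 hy'N) (inv_mem b.2))
        ((orderOf_injective (MulAut.conj (b : G)).toMonoidHom (MulAut.conj (b : G)).injective y').trans
          (ho y hy))
      have h5 : (subgroupOfEquivOfLe hCN) ⟨b * ⟨t, hma⟩ * b⁻¹, hC'n.conj_mem _ htC b⟩ =
          (⟨_, hc1⟩ : C) * ⟨_, hc2⟩ := by
        apply Subtype.ext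
        show (b : G) * t * (b : G)⁻¹ = _
        rw [← hxy']
        show _ = ((b : G) * x' * (b : G)⁻¹) * ((b : G) * y' * (b : G)⁻¹)
        group
      show lam ((subgroupOfEquivOfLe hCN) ⟨b * ⟨t, hma⟩ * b⁻¹, hC'n.conj_mem _ htC b⟩) = 1
      rw [h5, map_mul, hl1, hl2, one_mul]
    simp [ev, h4]
  · refine ⟨u ^ 2, hDu ▸ mem_zpowers _, ?_⟩
    have hdC : u ^ 2 ∈ C := pow_mem huC 2
    have hdo : orderOf (u ^ 2) = m := by rw [← hcD, hDu, Nat.card_zpowers]
    have hdX : u ^ 2 ∈ X := ⟨hdC, hdo ▸ dvd_rfl⟩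
    have hd1 : u ^ 2 ≠ 1 := fun h => by
      rw [h, orderOf_one] at hdo
      have := Nat.le_of_dvd (by rw [← hdo]; norm_num) hm4
      omega
    show Cfsg.indFun N f ((⟨u ^ 2, hCN hdC⟩ : N) : G) ≠ 0
    rw [indFun_TI_apply' N X hTI hfc hfX ⟨u ^ 2, hCN hdC⟩ hdX (fun h => hd1 (congrArg Subtype.val h))]
    show Cfsg.indFun C' (fun _ => 1) ⟨u ^ 2, hCN hdC⟩ - Cfsg.indFun C' (ev lam') ⟨u ^ 2, hCN hdC⟩ ≠ 0
    have hdC' : (⟨u ^ 2, hCN hdC⟩ : N) ∈ C' := hdC
    rw [show (⟨u ^ 2, hCN hdC⟩ : N) = ((⟨⟨u ^ 2, hCN hdC⟩, hdC'⟩ : C') : N) from rfl,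
      indFun_normal_mem, indFun_normal_mem, ← mul_sub, ← Finset.sum_sub_distrib]
    have hconst : ∀ b : N, (1 : ℂ) - ev lam' ⟨b * ⟨u ^ 2, hCN hdC⟩ * b⁻¹, hC'n.conj_mem _ hdC' b⟩ = 2 := by
      intro b
      -- every conjugate of the generator of `D` is again such a generator
      have hin : (b : G) * u ^ 2 * (b : G)⁻¹ ∈ D :=
        (mem_normalizer_iff.mp b.2 _).mp (hDu ▸ mem_zpowers _)
      rw [hDu, mem_zpowers_iff] at hin
      obtain ⟨k, hk⟩ := hin
      have hodd : ¬ (2 : ℤ) ∣ k := by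
        rintro ⟨j, rfl⟩
        have ho2 : orderOf ((b : G) * u ^ 2 * (b : G)⁻¹) = m := by
          rw [← hdo]
          exact orderOf_injective (MulAut.conj (b : G)).toMonoidHom (MulAut.conj (b : G)).injective _
        rw [← hk] at ho2
        have h6 : ((u ^ 2) ^ (2 * j)) ^ (2 ^ (n + 1)) = 1 := by
          rw [← zpow_natCast _ (2 ^ (n + 1)), ← zpow_mul, ← orderOf_dvd_iff_zpow_eq_one, hdo]
          exact ⟨j, by rw [hm]; push_cast; ring⟩
        have h7 := orderOf_dvd_of_pow_eq_one h6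
        rw [ho2, hm] at h7
        have := Nat.le_of_dvd (by positivity) h7
        have := Nat.pow_lt_pow_right (a := 2) one_lt_two (show n + 1 < n + 2 by omega)
        omega
      have h5 : (subgroupOfEquivOfLe hCN) ⟨b * ⟨u ^ 2, hCN hdC⟩ * b⁻¹, hC'n.conj_mem _ hdC' b⟩ =
          (⟨u, huC⟩ : C) ^ (2 * k) := by
        apply Subtype.ext
        show (b : G) * u ^ 2 * (b : G)⁻¹ = _
        rw [← hk, SubgroupClass.coe_zpow, zpow_mul]
        norm_cast
      show (1 : ℂ) - (lam ((subgroupOfEquivOfLe hCN) _) : ℂ) = 2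
      rw [h5, map_zpow, hlamu, Units.val_zpow_eq_zpow_val, zpow_mul]
      have : Odd k := Int.not_even_iff_odd.mp fun h => hodd h.two_dvd
      simp [iu, this.neg_one_zpow]
      norm_num
    have hsum : ∑ b : N, ((fun _ : C' => (1 : ℂ)) ⟨b * ⟨u ^ 2, hCN hdC⟩ * b⁻¹, hC'n.conj_mem _ hdC' b⟩ -
        ev lam' ⟨b * ⟨u ^ 2, hCN hdC⟩ * b⁻¹, hC'n.conj_mem _ hdC' b⟩) = (Fintype.card N : ℂ) * 2 := by
      rw [Finset.sum_congr rfl fun b _ => hconst b, Finset.sum_const, Finset.card_univ, nsmul_eq_mul]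
    rw [hsum]
    exact mul_ne_zero (inv_ne_zero (by exact_mod_cast Nat.card_pos.ne'))
      (mul_ne_zero (by exact_mod_cast Fintype.card_pos.ne') two_ne_zero)

end Cfsg.Lib.OddLocal.QuatDerived
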