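/-
A generalized quaternion Sylow 2-subgroup: centralizer and normalizer of its derived subgroup.
-/
import Mathlib

set_option autoImplicit false

namespace Cfsg.Lib.OddLocal.QuatDerived

open Subgroup QuaternionGroup
open scoped commutatorElement

theorem a_two_pow {m : ℕ} (k : ℕ) : ((a 1 : QuaternionGroup m) ^ 2) ^ k = a ((2 * k : ℕ) : ZMod (2 * m)) := by
  rw [← pow_mul, a_one_pow]

theorem commutator_eq (m : ℕ) [NeZero m] :
    commutator (QuaternionGroup m) = zpowers ((a 1 : QuaternionGroup m) ^ 2) := by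
  have h2 : ∀ k : ZMod (2 * m), a (2 * k) ∈ zpowers ((a 1 : QuaternionGroup m) ^ 2) := by
    intro k
    have hk : a (2 * k) = ((a 1 : QuaternionGroup m) ^ 2) ^ k.val := by
      rw [a_two_pow, Nat.cast_mul, ZMod.natCast_val, ZMod.cast_id]
      norm_num
    rw [hk]
    exact pow_mem (mem_zpowers _) _
  have hinv : ∀ i : ZMod (2 * m), (a i)⁻¹ = a (-i) := fun i => rfl
  have hxinv : ∀ i : ZMod (2 * m), (xa i)⁻¹ = xa ((m : ZMod (2 * m)) + i) := fun i => rfl
  apply le_antisymm
  · rw [commutator_def, commutator_le]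
    have hm : (2 : ZMod (2 * m)) * (m : ZMod (2 * m)) = 0 := by
      exact_mod_cast ZMod.natCast_self (2 * m)
    rintro (i | i) - (j | j) - <;>
      simp only [commutatorElement_def, hinv, hxinv, a_mul_a, a_mul_xa, xa_mul_a, xa_mul_xa]
    · convert one_mem (zpowers ((a 1 : QuaternionGroup m) ^ 2))
      rw [one_def]
      ring_nf
    · convert h2 i using 2
      linear_combination hm
    · convert h2 (-j) using 2
      linear_combination hm
    · convert h2 (j - i) using 2
      linear_combination hm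
  · rw [zpowers_le, commutator_def]
    have := commutator_mem_commutator (mem_top (a 1 : QuaternionGroup m)) (mem_top (xa 0))
    have e : ⁅(a 1 : QuaternionGroup m), xa 0⁆ = (a 1 : QuaternionGroup m) ^ 2 := by
      have hm : (2 : ZMod (2 * m)) * (m : ZMod (2 * m)) = 0 := by
        exact_mod_cast ZMod.natCast_self (2 * m)
      rw [commutatorElement_def, hinv, hxinv, a_mul_xa, xa_mul_a, xa_mul_xa, a_one_pow]
      congr 1
      push_cast
      linear_combination hm
    rwa [e] at this

variable {G : Type*} [Group G] [Finite G]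

/-- Everything the statements need about `D = ⁅S, S⁆` and `T = S ⊓ C_G(D)`. -/
theorem data (S : Sylow 2 G) (n : ℕ) (e : (S : Subgroup G) ≃* QuaternionGroup (2 ^ (n + 2)))
    (D : Subgroup G) (hD : D = ⁅(S : Subgroup G), (S : Subgroup G)⁆) :
    ∃ u : G, D = zpowers (u ^ 2) ∧ (S : Subgroup G) ⊓ centralizer (D : Set G) = zpowers u ∧
      orderOf u = 2 ^ (n + 3) ∧ Nat.card D = 2 ^ (n + 2) ∧
      Nat.card (S : Subgroup G) = 2 ^ (n + 4) := by
  set m := 2 ^ (n + 2) with hm
  haveI : NeZero m := ⟨by positivity⟩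
  let f : QuaternionGroup m →* G := (S : Subgroup G).subtype.comp e.symm.toMonoidHom
  have hfi : Function.Injective f := Subtype.coe_injective.comp e.symm.injective
  have hfr : f.range = (S : Subgroup G) := by
    rw [MonoidHom.range_comp, MonoidHom.range_eq_top.2 e.symm.surjective, ← MonoidHom.range_eq_map,
      range_subtype]
  set u := f (a 1) with hu
  have hDu : D = zpowers (u ^ 2) := by
    rw [hD, ← hfr, MonoidHom.range_eq_map, ← map_commutator, ← commutator_def, commutator_eq,
      MonoidHom.map_zpowers, map_pow]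
  have hou : orderOf u = 2 ^ (n + 3) := by
    rw [hu, orderOf_injective f hfi, orderOf_a_one, hm]
    ring
  have hmem : ∀ g, g ∈ centralizer (D : Set G) ↔ g * u ^ 2 = u ^ 2 * g := by
    intro g
    constructor
    · intro h
      exact (h _ (hDu ▸ mem_zpowers (u ^ 2))).symm
    · intro h y hy
      rw [SetLike.mem_coe, hDu, mem_zpowers_iff] at hy
      obtain ⟨k, rfl⟩ := hy
      exact ((Commute.zpow_right (show Commute g (u ^ 2) from h) k).eq).symm
  refine ⟨u, hDu, le_antisymm ?_ ?_, hou, ?_, ?_⟩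
  · rintro g ⟨hgS, hgC⟩
    rw [hfr.symm] at hgS
    obtain ⟨q, rfl⟩ := hgS
    have h1 : q * (a 1) ^ 2 = (a 1) ^ 2 * q := hfi (by rw [map_mul, map_mul, map_pow]; exact (hmem _).1 hgC)
    rcases q with i | i
    · rw [← ZMod.natCast_rightInverse i, ← a_one_pow, map_pow]
      exact pow_mem (mem_zpowers _) _
    · exfalso
      rw [a_one_pow, xa_mul_a, a_mul_xa] at h1
      have h2 : ((4 : ℕ) : ZMod (2 * m)) = 0 := by
        have h3 := QuaternionGroup.xa.inj h1
        push_cast at h3 ⊢
        linear_combination h3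
      rw [ZMod.natCast_eq_zero_iff] at h2
      have : 4 ≤ m := by
        rw [hm, pow_add]
        have := Nat.one_le_two_pow (n := n)
        omega
      have := Nat.le_of_dvd (by norm_num) h2
      omega
  · rw [zpowers_le]
    exact ⟨hfr ▸ ⟨a 1, rfl⟩, (hmem u).2 (by rw [← pow_succ', ← pow_succ])⟩
  · rw [hDu, Nat.card_zpowers, orderOf_pow_of_dvd (by norm_num) (by rw [hou]; exact dvd_pow_self 2 (by omega)),
      hou, pow_succ, Nat.mul_div_cancel _ (by norm_num : 0 < 2), hm]
  · rw [Nat.card_congr e.toEquiv, Nat.card_eq_fintype_card, QuaternionGroup.card, hm]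
    ring

theorem centralizer_le_normalizer' (D : Subgroup G) :
    centralizer (D : Set G) ≤ normalizer (D : Set G) := centralizer_le_normalizer _

theorem conj_mem_centralizer (D : Subgroup G) {g c : G} (hg : g ∈ normalizer (D : Set G))
    (hc : c ∈ centralizer (D : Set G)) : g * c * g⁻¹ ∈ centralizer (D : Set G) := by
  intro y hy
  have hy' : g⁻¹ * y * g ∈ D := by
    have := (mem_normalizer_iff.1 (inv_mem hg) y).1 hy
    rwa [inv_inv] at this
  calc y * (g * c * g⁻¹) = g * ((g⁻¹ * y * g) * c) * g⁻¹ := by group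
    _ = g * (c * (g⁻¹ * y * g)) * g⁻¹ := by rw [hc _ hy']
    _ = _ := by group

/-- Every 2-subgroup of `C_G(D)` is `N_G(D)`-conjugate into `S ⊓ C_G(D)`. -/
theorem conj_into (S : Sylow 2 G) (D : Subgroup G) (hDS : (S : Subgroup G) ≤ normalizer (D : Set G))
    (Q : Subgroup G) (hQ : IsPGroup 2 Q) (hQC : Q ≤ centralizer (D : Set G)) :
    ∃ g ∈ normalizer (D : Set G), ∀ x ∈ Q,
      g * x * g⁻¹ ∈ (S : Subgroup G) ⊓ centralizer (D : Set G) := by
  set N := normalizer (D : Set G)
  have hQN : Q ≤ N := hQC.trans (centralizer_le_normalizer' D)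
  obtain ⟨P, hP⟩ := (hQ.comap_subtype (K := N)).exists_le_sylow
  obtain ⟨g, hg⟩ := MulAction.exists_smul_eq N P (S.subtype hDS)
  refine ⟨g, g.2, fun x hx => ⟨?_, conj_mem_centralizer D g.2 (hQC hx)⟩⟩
  have h1 : MulAut.conj g ⟨x, hQN hx⟩ ∈ ((g • P : Sylow 2 N) : Subgroup N) :=
    ⟨⟨x, hQN hx⟩, hP (show (⟨x, hQN hx⟩ : N) ∈ Q.subgroupOf N from hx), rfl⟩
  rw [hg] at h1
  exact h1

variable (S : Sylow 2 G) (n : ℕ) (e : (S : Subgroup G) ≃* QuaternionGroup (2 ^ (n + 2)))
  (D : Subgroup G) (hD : D = ⁅(S : Subgroup G), (S : Subgroup G)⁆)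

include hD in
theorem sylow_le_normalizer : (S : Subgroup G) ≤ normalizer (D : Set G) := by
  subst hD
  intro s hs
  rw [mem_normalizer_iff]
  intro x
  have key : ∀ t ∈ (S : Subgroup G), ∀ y ∈ ⁅(S : Subgroup G), (S : Subgroup G)⁆,
      t * y * t⁻¹ ∈ ⁅(S : Subgroup G), (S : Subgroup G)⁆ := by
    intro t ht y hy
    have hyS : y ∈ (S : Subgroup G) := commutator_le.2
      (fun a ha b hb => mul_mem (mul_mem (mul_mem ha hb) (inv_mem ha)) (inv_mem hb)) hy
    have := mul_mem (commutator_mem_commutator ht hyS) hy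
    rwa [commutatorElement_def, inv_mul_cancel_right] at this
  refine ⟨key s hs x, fun h => ?_⟩
  have := key s⁻¹ (inv_mem hs) _ h
  simpa [mul_assoc] using this

include n e hD in
theorem exists_complement :
    ∃ K : Subgroup G, Odd (Nat.card K) ∧ K ≤ centralizer (D : Set G) ∧
      normalizer (D : Set G) ≤ normalizer (K : Set G) ∧
      K ⊔ ((S : Subgroup G) ⊓ centralizer (D : Set G)) = centralizer (D : Set G) := by
  obtain ⟨u, hDu, hT, hou, hcD, hcS⟩ := data S n e D hD
  set C := centralizer (D : Set G) with hC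
  set T := (S : Subgroup G) ⊓ C with hTdef
  have hTC : T ≤ C := inf_le_right
  have hTp : IsPGroup 2 (T.subgroupOf C) :=
    ((S.2.to_le inf_le_left : IsPGroup 2 T)).comap_subtype
  obtain ⟨P, hTP⟩ := hTp.exists_le_sylow
  obtain ⟨g, hgN, hg⟩ := conj_into S D (sylow_le_normalizer S D hD) ((P : Subgroup C).map C.subtype)
    (P.2.map _) (map_subtype_le _)
  have hle : ((P : Subgroup C).map C.subtype).map (MulAut.conj g).toMonoidHom ≤ T := by
    rintro _ ⟨x, hx, rfl⟩
    exact hg x hx
  have hcard : Nat.card P ≤ Nat.card (T.subgroupOf C) := by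
    rw [Nat.card_congr (subgroupOfEquivOfLe hTC).toEquiv]
    refine le_trans (le_of_eq ?_) (Subgroup.card_le_of_le hle)
    rw [Nat.card_congr ((P : Subgroup C).equivMapOfInjective C.subtype C.subtype_injective).toEquiv]
    exact Nat.card_congr (((P : Subgroup C).map C.subtype).equivMapOfInjective
      (MulAut.conj g).toMonoidHom (MulAut.conj g).injective).toEquiv
  have hPeq : T.subgroupOf C = P := eq_of_le_of_card_ge hTP hcard
  have hPc : IsCyclic P := by
    haveI : IsCyclic T := by
      rw [hT]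
      infer_instance
    rw [← hPeq]
    exact isCyclic_of_surjective (subgroupOfEquivOfLe hTC).symm
      (subgroupOfEquivOfLe hTC).symm.surjective
  have h2C : 2 ∣ Nat.card C := by
    have h1 : D ≤ C := by
      intro x hx y hy
      rw [SetLike.mem_coe, hDu] at hy
      rw [hDu] at hx
      exact congrArg Subtype.val ((IsCyclic.commGroup (α := zpowers (u ^ 2))).mul_comm ⟨y, hy⟩ ⟨x, hx⟩)
    have := card_dvd_of_le h1
    rw [hcD] at this
    exact (dvd_pow_self 2 (by omega : n + 2 ≠ 0)).trans this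
  have hmin : (Nat.card C).minFac = 2 := Nat.minFac_eq_two_iff _ |>.2 h2C
  have hNC : normalizer ((P : Subgroup C) : Set C) ≤ centralizer ((P : Subgroup C) : Set C) :=
    IsCyclic.normalizer_le_centralizer (P := P) hmin hPc
  set K0 := (MonoidHom.transferSylow P hNC).ker
  have hKodd : Odd (Nat.card K0) := by
    rw [Nat.odd_iff, ← Nat.two_dvd_ne_zero]
    exact MonoidHom.not_dvd_card_ker_transferSylow P hNC
  have hsup : K0 ⊔ (P : Subgroup C) = ⊤ :=
    (MonoidHom.ker_transferSylow_isComplement' P hNC).sup_eq_top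
  have hmemK : ∀ c : C, Odd (orderOf c) → c ∈ K0 := by
    intro c hc
    rw [MonoidHom.mem_ker, ← orderOf_eq_one_iff]
    obtain ⟨k, hk⟩ := IsPGroup.iff_orderOf.1 P.2 (MonoidHom.transferSylow P hNC c)
    have h1 := orderOf_map_dvd (MonoidHom.transferSylow P hNC) c
    rw [hk] at h1 ⊢
    exact Nat.eq_one_of_dvd_coprimes
      (Nat.Coprime.pow_right k ((Nat.coprime_two_right.2 hc))) h1 dvd_rfl
  refine ⟨K0.map C.subtype, ?_, map_subtype_le _, ?_, ?_⟩
  · rwa [← Nat.card_congr (K0.equivMapOfInjective C.subtype C.subtype_injective).toEquiv]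
  · intro g hg
    rw [mem_normalizer_iff]
    have key : ∀ g ∈ normalizer (D : Set G), ∀ x ∈ K0.map C.subtype,
        g * x * g⁻¹ ∈ K0.map C.subtype := by
      rintro g hg _ ⟨x, hx, rfl⟩
      refine ⟨⟨g * x * g⁻¹, conj_mem_centralizer D hg x.2⟩, hmemK _ ?_, rfl⟩
      have h1 : orderOf x ∣ Nat.card K0 := Subgroup.orderOf_dvd_natCard K0 hx
      have h2 : orderOf (⟨g * x * g⁻¹, conj_mem_centralizer D hg x.2⟩ : C) = orderOf x := by
        rw [← orderOf_coe, ← orderOf_coe]
        exact orderOf_injective (MulAut.conj g).toMonoidHom (MulAut.conj g).injective x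
      rw [h2]
      exact hKodd.of_dvd_nat h1
    exact fun x => ⟨key g hg x, fun h => by simpa [mul_assoc] using key g⁻¹ (inv_mem hg) _ h⟩
  · have : (K0.map C.subtype) ⊔ (P : Subgroup C).map C.subtype = C := by
      rw [← Subgroup.map_sup, hsup, ← MonoidHom.range_eq_map, range_subtype]
    rwa [← hPeq, map_subgroupOf_eq_of_le hTC] at this

include n e hD in
theorem structure_normalizer :
    ∃ K : Subgroup G, Odd (Nat.card K) ∧ K ≤ centralizer (D : Set G) ∧
      normalizer (D : Set G) ≤ normalizer (K : Set G) ∧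
      K ⊔ (S : Subgroup G) = normalizer (D : Set G) ∧
      K ⊔ ((S : Subgroup G) ⊓ centralizer (D : Set G)) = centralizer (D : Set G) ∧
      ((centralizer (D : Set G)).subgroupOf (normalizer (D : Set G))).index = 2 := by
  obtain ⟨u, hDu, hT, hou, hcD, hcS⟩ := data S n e D hD
  obtain ⟨K, hKodd, hKC, hKN, hKT⟩ := exists_complement S n e D hD
  set C := centralizer (D : Set G) with hC
  set N := normalizer (D : Set G) with hN
  have hCN : C ≤ N := centralizer_le_normalizer' D
  have hSN : (S : Subgroup G) ≤ N := sylow_le_normalizer S D hD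
  have hsup : C ⊔ (S : Subgroup G) = N := by
    refine le_antisymm (sup_le hCN hSN) ?_
    rw [← relIndex_eq_one]
    have h1 : (C ⊔ (S : Subgroup G)).relIndex N ∣ C.relIndex N := relIndex_dvd_of_le_left N le_sup_left
    have h2 : (C ⊔ (S : Subgroup G)).relIndex N ∣ (S : Subgroup G).relIndex N :=
      relIndex_dvd_of_le_left N le_sup_right
    have h3 : C.relIndex N ∣ 2 ^ (n + 1) := by
      have hker : (normalizerMonoidHom D).ker = C.subgroupOf N := normalizerMonoidHom_ker D
      have hidx : C.relIndex N = Nat.card (normalizerMonoidHom D).range := by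
        rw [← index_ker, hker]
        rfl
      have hc : Nat.card (MulAut D) = 2 ^ (n + 1) := by
        haveI : IsCyclic D := by rw [hDu]; infer_instance
        rw [IsCyclic.card_mulAut, hcD, Nat.totient_prime_pow Nat.prime_two (by omega)]
        simp
      rw [hidx, ← hc]
      exact card_subgroup_dvd_card _
    have h4 : ¬ 2 ∣ (S : Subgroup G).relIndex N := fun h =>
      S.not_dvd_index (h.trans (relIndex_dvd_index_of_le hSN))
    refine Nat.eq_one_of_dvd_coprimes ?_ (h1.trans h3) h2
    exact Nat.Coprime.pow_left _ ((Nat.prime_two.coprime_iff_not_dvd).2 h4)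
  refine ⟨K, hKodd, hKC, hKN, le_antisymm (sup_le (hKC.trans hCN) hSN) ?_, hKT, ?_⟩
  · rw [← hsup, ← hKT]
    exact sup_le (sup_le le_sup_left (inf_le_left.trans le_sup_right)) le_sup_right
  · haveI : (C.subgroupOf N).Normal := ⟨fun x hx g => conj_mem_centralizer D g.2 hx⟩
    have hlt : (S : Subgroup G).subgroupOf N ⊔ C.subgroupOf N = ⊤ := by
      rw [← subgroupOf_sup hSN hCN, sup_comm, hsup, subgroupOf_self]
    have h5 : (C.subgroupOf N).index = (C.subgroupOf N).relIndex ((S : Subgroup G).subgroupOf N) := by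
      rw [← relIndex_sup_right, hlt, relIndex_top_right]
    rw [h5, relIndex_subgroupOf hSN, ← inf_relIndex_right, inf_comm]
    have h6 := card_mul_index (((S : Subgroup G) ⊓ C).subgroupOf (S : Subgroup G))
    rw [Nat.card_congr (subgroupOfEquivOfLe inf_le_left).toEquiv, hT, Nat.card_zpowers, hou, hcS] at h6
    rw [hT]
    change (zpowers u).relIndex (S : Subgroup G) = 2
    rw [relIndex]
    have : 2 ^ (n + 4) = 2 ^ (n + 3) * 2 := pow_succ _ _
    rw [this] at h6
    exact Nat.eq_of_mul_eq_mul_left (by positivity) h6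

include n e hD in
theorem le_zpowers_of_dvd {y : G} (hyC : y ∈ centralizer (D : Set G))
    (hy : Nat.card D ∣ orderOf y) : D ≤ zpowers y := by
  obtain ⟨u, hDu, hT, hou, hcD, hcS⟩ := data S n e D hD
  rw [hcD] at hy
  obtain ⟨l, hl⟩ := hy
  set w := y ^ l
  have how : orderOf w = 2 ^ (n + 2) := by
    rw [orderOf_pow_of_dvd (by rintro rfl; simp [orderOf_eq_zero_iff] at hl; exact hl (isOfFinOrder_of_finite y))
      (hl ▸ Dvd.intro_left _ rfl), hl, Nat.mul_div_cancel]
    rcases Nat.eq_zero_or_pos l with rfl | h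
    · simp [orderOf_eq_zero_iff] at hl
      exact absurd (isOfFinOrder_of_finite y) hl
    · exact h
  have hwC : w ∈ centralizer (D : Set G) := pow_mem hyC _
  have hwp : IsPGroup 2 (zpowers w) := IsPGroup.of_card ((Nat.card_zpowers w).trans how)
  obtain ⟨g, hgN, hg⟩ := conj_into S D (sylow_le_normalizer S D hD) (zpowers w) hwp (zpowers_le.2 hwC)
  have hgw := hg w (mem_zpowers w)
  rw [hT] at hgw
  have hvD : g * w * g⁻¹ ∈ D := by
    obtain ⟨k, hk⟩ := mem_zpowers_iff.1 hgw
    have h1 : (g * w * g⁻¹) ^ (2 ^ (n + 2)) = 1 := by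
      rw [conj_pow, ← how, pow_orderOf_eq_one, mul_one, mul_inv_cancel]
    rw [← hk, ← zpow_natCast, ← zpow_mul, ← orderOf_dvd_iff_zpow_eq_one, hou] at h1
    have h2 : (2 : ℤ) ∣ k := by
      have h3 : ((2 ^ (n + 2) : ℕ) : ℤ) * 2 ∣ ((2 ^ (n + 2) : ℕ) : ℤ) * k := by
        rw [mul_comm _ k]
        refine dvd_trans (dvd_of_eq ?_) h1
        push_cast
        ring
      exact (mul_dvd_mul_iff_left (by positivity)).1 h3
    obtain ⟨j, rfl⟩ := h2
    rw [← hk, hDu, zpow_mul]
    exact zpow_mem (by simpa [zpow_two, sq] using mem_zpowers (u ^ 2)) j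
  have hD'' : D = zpowers (g * w * g⁻¹) := by
    refine (eq_of_le_of_card_ge (zpowers_le.2 hvD) (le_of_eq ?_)).symm
    rw [hcD, Nat.card_zpowers, ← how]
    exact (orderOf_injective (MulAut.conj g).toMonoidHom (MulAut.conj g).injective w).symm
  have hwD : w ∈ D := (mem_normalizer_iff.1 hgN w).2 (hD'' ▸ mem_zpowers (g * w * g⁻¹))
  have : zpowers w = D := eq_of_le_of_card_ge (zpowers_le.2 hwD)
    (le_of_eq (by rw [hcD, Nat.card_zpowers, how]))
  rw [← this]
  exact zpowers_le.2 (pow_mem (mem_zpowers y) _)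

end Cfsg.Lib.OddLocal.QuatDerived
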