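import Cfsg.Agent.OddLocal.Exceptional
import Cfsg.Agent.OddLocal.SubnormalTransitivity

/-!
# Centralizers of elementary abelian subgroups of order `p²` in maximal subgroups
-/

set_option linter.unusedSectionVars false
set_option linter.unusedVariables false
set_option linter.style.haveILetI false

namespace Cfsg.Lib.OddLocal.RankTwoMax

open Subgroup Uniqueness Sigma
open Cfsg.Lib.Coprime (conjMap)
open MinSimpleTransitivity (K)
open scoped commutatorElement

universe u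

variable {G : Type u} [Group G] [Finite G] {M L A A₀ : Subgroup G} {p : ℕ} [hp : Fact p.Prime]

/-- A subgroup of order prime to the index of a normal subgroup lies in it. -/
theorem le_of_coprime_index {X N : Subgroup G} [N.Normal] (h : (Nat.card X).Coprime N.index) : X ≤ N := by
  intro x hx
  have h1 : orderOf (QuotientGroup.mk' N x) ∣ Nat.card X := (orderOf_map_dvd _ x).trans (by
    rw [← Nat.card_zpowers]
    exact card_dvd_of_le (zpowers_le.mpr hx))
  have h2 : orderOf (QuotientGroup.mk' N x) ∣ N.index := orderOf_dvd_natCard _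
  have h3 : orderOf (QuotientGroup.mk' N x) = 1 :=
    Nat.dvd_one.mp (h ▸ Nat.dvd_gcd h1 h2)
  exact (QuotientGroup.eq_one_iff x).mp (orderOf_eq_one_iff.mp h3)

/-- An invariant Sylow group over a subgroup that is not centralized. -/
theorem exists_invariant_sylowOf (hG : Cfsg.IsMinSimpleOddOrder G) (hL : IsCoatom L) (hA : MaxSq p A)
    (hAL : A ≤ L) {q : ℕ} [hq : Fact q.Prime] (hqp : q ≠ p) (hβ : q ∉ Cfsg.beta L) {R : Subgroup G}
    (hRq : IsPGroup q R) (hRL : R ≤ L) (hAR : A ≤ normalizer (R : Set G))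
    (hne : ¬ A ≤ centralizer (R : Set G)) :
    ∃ Rq : Subgroup G, IsSylowOf q Rq L ∧ R ≤ Rq ∧ A ≤ normalizer (Rq : Set G) := by
  haveI := hG.2.2.2 L hL.1
  have hR1 : R ≠ ⊥ := fun h0 => hne (fun a _ => mem_centralizer_iff.mpr fun x hx => by
    rw [h0] at hx; rw [mem_bot.mp hx, one_mul, mul_one])
  have hqL : q ∣ Nat.card L := (dvd_card_of_isPGroup hRq hR1).trans (card_dvd_of_le hRL)
  have hp' := (beta_theorem hG hL hp.out (hA.dvd hAL) (hA.not_beta L)).2.2
  have hq' := (beta_theorem hG hL hq.out hqL hβ).2.2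
  have hbot : ∀ r : ℕ, r.Prime → ∀ (Y : Subgroup G) (N : Subgroup L), IsPGroup r Y → Y ≤ L → N.Normal →
      ¬ r ∣ N.index → Y ≤ N.map L.subtype := by
    intro r hr Y N hY hYL hN hd
    haveI := Fact.mk hr
    haveI := hN
    obtain ⟨j, hj⟩ := IsPGroup.iff_card.mp hY
    have h1 : Y.subgroupOf L ≤ N := le_of_coprime_index (by
      rw [Nat.card_congr (subgroupOfEquivOfLe hYL).toEquiv, hj]
      exact (hr.coprime_iff_not_dvd.mpr hd).pow_left j)
    exact fun y hy => ⟨⟨y, hYL hy⟩, h1 hy, rfl⟩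
  by_cases hlt : q < p
  · exfalso
    have h1 : A ≤ Op q L := by
      rw [Op_eq]
      exact hbot p hp.out A _ hA.isPGroup hAL inferInstance fun hd => absurd (hq' p hp.out hd) (by omega)
    refine hne fun a ha => mem_centralizer_iff.mpr fun x hx => ?_
    have h2 : x * a * x⁻¹ * a⁻¹ ∈ Op q L := mul_mem
      ((mem_normalizer_iff.mp (PiCoreOf.le_normalizer' _ L (hRL hx)) a).mp (h1 ha)) (inv_mem (h1 ha))
    have h3 : x * a * x⁻¹ * a⁻¹ ∈ R := by
      rw [mul_assoc, mul_assoc]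
      refine mul_mem hx ?_
      rw [← mul_assoc]
      exact (mem_normalizer_iff.mp (hAR ha) _).mp (inv_mem hx)
    obtain ⟨j, hj⟩ := IsPGroup.iff_card.mp hRq
    have h4 := Cfsg.Lib.Coprime.eq_one_of_coprime
      (show (Nat.card R).Coprime (Nat.card (Op q L)) from hj ▸ ((coprime_Op L).symm.pow_left j)) h3 h2
    exact mul_inv_eq_iff_eq_mul.mp (mul_inv_eq_one.mp h4)
  have hgt : p < q := by omega
  set D := Op p L with hD
  have hDq : ∀ Y : Subgroup G, IsPGroup q Y → Y ≤ L → Y ≤ D := fun Y hY hYL => by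
    rw [hD, Op_eq]
    exact hbot q hq.out Y _ hY hYL inferInstance fun hd => absurd (hp' q hq.out hd) (by omega)
  obtain ⟨T, hRT, hAT⟩ := Cfsg.Lib.Coprime.exists_invariant_sylow_ge
    (hAL.trans (PiCoreOf.le_normalizer' _ L))
    (show (Nat.card A).Coprime (Nat.card D) from hA.card ▸ ((coprime_Op L).symm.pow_left 2))
    (Or.inl (hG.2.2.2 A (FittingUniqueness.ne_top_of_le_coatom hL hAL))) q (hDq R hRq hRL) hRq hAR
  refine ⟨_, ⟨(map_subtype_le _).trans (PiCoreOf.le _ L), T.2.map _, fun W hW hWL hle => ?_⟩, hRT, hAT⟩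
  have h1 : W.subgroupOf D = T := T.3 hW.comap_subtype fun x hx => mem_subgroupOf.mpr (hle (mem_map_of_mem _ hx))
  rw [← h1, map_subgroupOf_eq_of_le (hDq W hW hWL)]

/-- A `q`-group in `L'` centralizing `L_σ` gives a normal `q`-subgroup. -/
theorem exists_normal_of_centralizes (hG : Cfsg.IsMinSimpleOddOrder G) (hL : IsCoatom L) {q : ℕ}
    [hq : Fact q.Prime] {U : Subgroup G} (hUq : IsPGroup q U) (hU1 : U ≠ ⊥) (hUL : U ≤ ⁅L, L⁆)
    (hUC : U ≤ centralizer (Cfsg.sigmaCore L : Set G)) :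
    ∃ T : Subgroup G, IsPGroup q T ∧ T ≠ ⊥ ∧ T ≤ L ∧ L ≤ normalizer (T : Set G) := by
  set N := ⁅L, L⁆ ⊓ centralizer (Cfsg.sigmaCore L : Set G) with hN
  have hNL : N ≤ L := inf_le_left.trans (commutator_le_self L)
  have hLn : L ≤ normalizer (N : Set G) := by
    refine Cfsg.Lib.Coprime.le_normalizer_inf ?_
      ((PiCoreOf.le_normalizer' _ L).trans (FittingParts.normalizer_centralizer_le _))
    intro x hx
    refine Cfsg.Lib.Coprime.conjMap_eq_self_iff.mp ?_
    show (⁅L, L⁆).map (MulAut.conj x).toMonoidHom = _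
    rw [Subgroup.map_commutator]
    exact congrArg₂ _ (Cfsg.Lib.Coprime.conjMap_eq_self (le_normalizer hx))
      (Cfsg.Lib.Coprime.conjMap_eq_self (le_normalizer hx))
  set π := QuotientGroup.mk' (alphaIn L)
  haveI := derived_nilpotent hG hL
  set f₀ : N →* L ⧸ alphaIn L := π.comp (inclusion hNL) with hf₀
  let f : N →* (commutator L).map π := f₀.codRestrict _ fun x => by
    have h1 : (x : G) ∈ (commutator L).map L.subtype := (map_subtype_commutator L).ge x.2.1
    obtain ⟨y, hy, hyx⟩ := h1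
    exact ⟨y, hy, congrArg π (Subtype.ext hyx : y = inclusion hNL x)⟩
  haveI : Group.IsNilpotent N := by
    refine Subgroup.isNilpotent_of_ker_le_center f ?_
    intro x hx
    have h1 : f₀ x = 1 := congrArg Subtype.val (MonoidHom.mem_ker.mp hx)
    have h2 : inclusion hNL x ∈ alphaIn L := (QuotientGroup.eq_one_iff _).mp h1
    have h3 : (x : G) ∈ Cfsg.sigmaCore L := alphaCore_le_sigmaCore hG hL ⟨_, h2, rfl⟩
    exact mem_center_iff.mpr fun y => Subtype.ext ((mem_centralizer_iff.mp y.2.2 x h3).symm)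
  obtain ⟨T, hT⟩ := (hUq.comap_subtype (K := N)).exists_le_sylow
  haveI hTn : (T : Subgroup N).Normal :=
    ((Group.isNilpotent_of_finite_tfae (G := N)).out 0 3 rfl rfl).mp inferInstance q inferInstance T
  haveI := T.characteristic_of_normal hTn
  refine ⟨(T : Subgroup N).map N.subtype, T.2.map _, ?_, (map_subtype_le _).trans hNL,
    hLn.trans (Cfsg.Lib.OddP.le_normalizer_map_of_char _)⟩
  intro h0
  refine hU1 (le_bot_iff.mp (h0 ▸ ?_))
  intro u hu
  exact ⟨⟨u, hUL hu, hUC hu⟩, hT hu, rfl⟩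

theorem le_of_normal_pgroup {q : ℕ} [Fact q.Prime] {R T : Subgroup G} (hR : IsSylowOf q R L)
    (hT : IsPGroup q T) (hTL : T ≤ L) (hn : L ≤ normalizer (T : Set G)) : T ≤ R :=
  le_sup_right.trans (hR.2.2 _ (hR.2.1.to_sup_of_normal_right' hT (hR.1.trans hn)) (sup_le hR.1 hTL)
    le_sup_left).le

/-- An invariant Sylow group not centralized by `A` has nontrivial fixed points. -/
theorem exists_fixed (hG : Cfsg.IsMinSimpleOddOrder G) (h : Exc p L A A₀) {q : ℕ} [hq : Fact q.Prime]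
    (hqp : q ≠ p) (hσ : q ∉ Cfsg.sigma L) {R : Subgroup G} (hR : IsSylowOf q R L)
    (hAR : A ≤ normalizer (R : Set G)) (hne : ¬ A ≤ centralizer (R : Set G)) :
    R ⊓ centralizer (A : Set G) ≠ ⊥ := by
  intro h0
  have hsq := h.maxSq hG
  haveI : IsMulCommutative A := h.ea.1
  have hsolS : Group.IsSolvable ↥(Cfsg.sigmaCore L) :=
    hG.2.2.2 _ (FittingUniqueness.ne_top_of_le_coatom h.coatom (sigmaCore_le L))
  obtain ⟨a, b, ha, hb, hao, hbo, haf, hbf, hab⟩ := h.exists_fpf hG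
  -- commutators with fixed point free elements centralize `L_σ`
  have key : ∀ U : Subgroup G, IsMulCommutative U → IsPGroup q U → U ≤ R → A ≤ normalizer (U : Set G) →
      ∀ x ∈ A, orderOf x = p → Cfsg.sigmaCore L ⊓ centralizer ({x} : Set G) = ⊥ →
        ⁅U, zpowers x⁆ ≤ centralizer (Cfsg.sigmaCore L : Set G) := by
    intro U hUc hUq hUR hAU x hx hxo hxf
    haveI := hUc
    have hxA : zpowers x ≤ A := zpowers_le.mpr hx
    have hUp : (Nat.card U).Coprime p := coprime_of_ne hqp hUq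
    obtain ⟨hd, -⟩ := Cfsg.Lib.Coprime.abelian_coprime_decomp (hxA.trans hAU)
      (by rw [Nat.card_zpowers, hxo]; exact hUp.symm)
    have hle : ⁅U, zpowers x⁆ ≤ U := Cfsg.Lib.Coprime.commutator_le_of_le_normalizer (hxA.trans hAU)
    have hUL : U ≤ L := hUR.trans hR.1
    refine le_centralizer_of_fpf hxo hsolS
      (Cfsg.Lib.Coprime.le_normalizer_commutator_right _ _)
      ((hle.trans hUL).trans (PiCoreOf.le_normalizer' _ L))
      ((hxA.trans h.le).trans (PiCoreOf.le_normalizer' _ L)) (coprime_of_ne hqp (hUq.to_le hle))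
      ((hp.out.coprime_iff_not_dvd.mpr fun hd' => h.not_sigma (sigmaCore_isPi p hp.out hd')).symm)
      (Nat.coprime_of_dvd fun r hr h1 h2 => hσ ?_) ?_ hxf
    · obtain ⟨j, hj⟩ := IsPGroup.iff_card.mp (hUq.to_le hle)
      rw [hj] at h2
      exact (Nat.prime_dvd_prime_iff_eq hr hq.out).mp (hr.dvd_of_dvd_pow h2) ▸ sigmaCore_isPi r hr h1
    · refine le_bot_iff.mp (le_trans ?_ hd.le)
      rw [Cfsg.Lib.Coprime.centralizer_zpowers]
      exact le_inf (inf_le_inf_right _ hle) inf_le_left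
  have hR1 : R ≠ ⊥ := fun h1 => hne (fun y _ => mem_centralizer_iff.mpr fun x hx => by
    rw [h1] at hx; rw [mem_bot.mp hx, one_mul, mul_one])
  -- the elements of order `q` in the centre of `R`
  have hZc : ∀ x ∈ R ⊓ centralizer (R : Set G), ∀ y ∈ R ⊓ centralizer (R : Set G), Commute x y :=
    fun x hx y hy => (mem_centralizer_iff.mp hy.2 x hx.1 : x * y = y * x)
  let U : Subgroup G :=
    { carrier := {x | x ∈ R ⊓ centralizer (R : Set G) ∧ x ^ q = 1}
      one_mem' := ⟨one_mem _, one_pow _⟩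
      mul_mem' := fun {x y} hx hy => ⟨mul_mem hx.1 hy.1, by
        rw [(hZc x hx.1 y hy.1).mul_pow, hx.2, hy.2, one_mul]⟩
      inv_mem' := fun {x} hx => ⟨inv_mem hx.1, by rw [inv_pow, hx.2, inv_one]⟩ }
  have hUc : IsMulCommutative U := ⟨⟨fun x y => Subtype.ext (hZc x x.2.1 y y.2.1)⟩⟩
  have hUR : U ≤ R := fun x hx => hx.1.1
  have hUq : IsPGroup q U := hR.2.1.to_le hUR
  have hU1 : U ≠ ⊥ := by
    haveI : Nontrivial R := (nontrivial_iff_ne_bot _).mpr hR1
    obtain ⟨z, hz, hzo⟩ : ∃ z ∈ R ⊓ centralizer (R : Set G), orderOf z = q := by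
      refine ScnUniqueness.exists_orderOf (hR.2.1.to_le inf_le_left) fun h1 => ?_
      have := hR.2.1.center_nontrivial
      obtain ⟨⟨c, hc⟩, hc1⟩ := exists_ne (1 : center R)
      refine hc1 (Subtype.ext (Subtype.ext (mem_bot.mp (h1.le (show (c : G) ∈ R ⊓ centralizer (R : Set G) from
        ⟨c.2, mem_centralizer_iff.mpr fun w hw => congrArg Subtype.val (mem_center_iff.mp hc ⟨w, hw⟩)⟩)))))
    intro h1
    have h2 : z = 1 := mem_bot.mp (h1.le ⟨hz, hzo ▸ pow_orderOf_eq_one z⟩)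
    rw [h2, orderOf_one] at hzo
    exact hq.out.ne_one hzo.symm
  have hAU : A ≤ normalizer (U : Set G) := fun w hw => by
    refine Cfsg.Lib.Coprime.conjMap_eq_self_iff.mp
      (Cfsg.Lib.Coprime.eq_of_le_of_card_eq ?_ (Cfsg.Lib.Coprime.card_conjMap _ _))
    rintro _ ⟨x, hx, rfl⟩
    exact ⟨⟨(mem_normalizer_iff.mp (hAR hw) x).mp hx.1.1,
      (mem_normalizer_iff.mp (FittingParts.normalizer_centralizer_le R (hAR hw)) x).mp hx.1.2⟩,
      by show (w * x * w⁻¹) ^ q = 1; rw [conj_pow, hx.2, mul_one, mul_inv_cancel]⟩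
  obtain ⟨x, hxA, hxo, hxf, hxU⟩ : ∃ x ∈ A, orderOf x = p ∧
      Cfsg.sigmaCore L ⊓ centralizer ({x} : Set G) = ⊥ ∧ ⁅U, zpowers x⁆ ≠ ⊥ := by
    by_contra hall
    push Not at hall
    have h1 : ∀ x ∈ A, orderOf x = p → Cfsg.sigmaCore L ⊓ centralizer ({x} : Set G) = ⊥ →
        x ∈ centralizer (U : Set G) := fun x hx hxo hxf => mem_centralizer_iff.mpr fun u hu => by
      have h2 : ⁅u, x⁆ ∈ ⁅U, zpowers x⁆ := commutator_mem_commutator hu (mem_zpowers x)
      rw [hall x hx hxo hxf, mem_bot] at h2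
      exact commutatorElement_eq_one_iff_mul_comm.mp h2
    have h3 : A ≤ centralizer (U : Set G) :=
      hab.ge.trans (sup_le (zpowers_le.mpr (h1 a ha hao haf)) (zpowers_le.mpr (h1 b hb hbo hbf)))
    exact hU1 (le_bot_iff.mp (h0 ▸ le_inf hUR (le_centralizer_iff.mp h3)))
  have hle : ⁅U, zpowers x⁆ ≤ U :=
    Cfsg.Lib.Coprime.commutator_le_of_le_normalizer ((zpowers_le.mpr hxA).trans hAU)
  obtain ⟨T, hTq, hT1, hTL, hTn⟩ := exists_normal_of_centralizes hG h.coatom (hUq.to_le hle) hxU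
    (commutator_mono (hUR.trans hR.1) ((zpowers_le.mpr hxA).trans h.le)) (key U hUc hUq hUR hAU x hxA hxo hxf)
  obtain ⟨X, hXL, hXc, hXn⟩ := exists_normal_line hG h.coatom hσ hTq hT1 hTL hTn
  have hX1 : X ≠ ⊥ := fun h1 => hq.out.ne_one (by rw [← hXc, h1, Subgroup.card_bot])
  have hNX := normalizer_eq hG h.coatom hX1 hXL hXn
  obtain ⟨-, B, hB, hBc, hXB⟩ := exists_sq_ge hG h.coatom hσ hXc hNX.le
  have hBL : B ≤ L := fun y hy => hNX.le (centralizer_le_normalizer _
    (mem_centralizer_iff.mpr fun x hx => ThompsonTransitivity.mul_comm_of hB.1 (hXB hx) hy))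
  obtain ⟨S, hS, hBS⟩ := exists_sylowOf (isPGroup_of_pow hB.2 : IsPGroup q B) hBL
  obtain ⟨m, hm, hmS⟩ := card_eq_of_sylowOf hS hR
  set B' := conjMap m B with hB'
  have hB'R : B' ≤ R := (Cfsg.Lib.Coprime.conjMap_mono hBS).trans hmS.le
  have hXB' : X ≤ B' := by
    rw [← Cfsg.Lib.Coprime.conjMap_eq_self (hXn hm)]
    exact Cfsg.Lib.Coprime.conjMap_mono hXB
  have h' : Exc q L B' X := ⟨h.coatom, hσ, hB'R.trans hR.1, Cfsg.Lib.OddP.isElementaryAbelian_map hB _,
    by rw [hB', Cfsg.Lib.Coprime.card_conjMap, hBc], hXB', hXc, hNX.le⟩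
  haveI hB'c : IsMulCommutative B' := h'.ea.1
  have hB'q : IsPGroup q B' := isPGroup_of_pow h'.ea.2
  have hAB' : A ≤ normalizer (B' : Set G) := fun w hw =>
    (h'.normalizer_le_normalizer hG hR hB'R) (hAR hw)
  set C := B' ⊓ centralizer (Cfsg.sigmaCore L : Set G) with hC
  have hCne : C ≠ B' := fun h1 => by
    obtain ⟨c, d, hc, -, -, -, hcf, -, -⟩ := h'.exists_fpf hG
    refine sigmaCore_ne_bot hG h.coatom (le_bot_iff.mp (hcf ▸ le_inf le_rfl ?_))
    intro y hy
    exact mem_centralizer_singleton_iff.mpr (mem_centralizer_iff.mp ((inf_eq_left.mp h1) hc) y hy)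
  have hAC : A ≤ normalizer (C : Set G) := Cfsg.Lib.Coprime.le_normalizer_inf hAB'
    ((h.le.trans (PiCoreOf.le_normalizer' _ L)).trans (FittingParts.normalizer_centralizer_le _))
  have hcom : ⁅B', A⁆ ≤ C := by
    rw [commutator_le]
    intro y hy w hw
    have hgen : ∀ z ∈ A, orderOf z = p → Cfsg.sigmaCore L ⊓ centralizer ({z} : Set G) = ⊥ →
        ∀ y ∈ B', ∀ w ∈ zpowers z, ⁅y, w⁆ ∈ C := fun z hz hzo hzf y hy w hw =>
      ⟨Cfsg.Lib.Coprime.commutator_le_of_le_normalizer ((zpowers_le.mpr hz).trans hAB')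
        (commutator_mem_commutator hy hw),
        key B' hB'c hB'q hB'R hAB' z hz hzo hzf (commutator_mem_commutator hy hw)⟩
    obtain ⟨i, hi, j, hj, rfl⟩ := (Cfsg.Lib.Coprime.mem_sup_of_le_normalizer
      (show zpowers b ≤ normalizer (zpowers a : Set G) from fun z hz => centralizer_le_normalizer _
        (Subgroup.centralizer_le (zpowers_le.mpr ha) (hsq.le_centralizer (zpowers_le.mpr hb hz))))).mp
      (hab.ge hw)
    rw [show ⁅y, i * j⁆ = ⁅y, i⁆ * (i * ⁅y, j⁆ * i⁻¹) by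
      simp only [commutatorElement_def]; group]
    exact mul_mem (hgen a ha hao haf y hy i hi)
      ((mem_normalizer_iff.mp (hAC (zpowers_le.mpr ha hi)) _).mp (hgen b hb hbo hbf y hy j hj))
  have hcop : (Nat.card A).Coprime (Nat.card B') := by
    rw [h.card, h'.card]
    exact (((Nat.coprime_primes hp.out hq.out).mpr hqp.symm).pow_left 2).pow_right 2
  obtain ⟨-, hdec⟩ := Cfsg.Lib.Coprime.abelian_coprime_decomp hAB' hcop
  refine hCne (le_antisymm inf_le_left ?_)
  have hfix : B' ⊓ centralizer (A : Set G) = ⊥ := le_bot_iff.mp (h0 ▸ inf_le_inf_right _ hB'R)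
  rw [hfix, bot_sup_eq] at hdec
  exact hdec.ge.trans hcom

/-- A maximal subgroup with `q ∈ σ` containing a Sylow group of rank three is a conjugate. -/
theorem conj_of_alpha (hG : Cfsg.IsMinSimpleOddOrder G) (hM : IsCoatom M) (hL : IsCoatom L) {q : ℕ}
    [hq : Fact q.Prime] (hα : q ∈ Cfsg.alpha M) (hσ : q ∈ Cfsg.sigma L) :
    ∃ h : G, L = conjMap h M := by
  obtain ⟨E, hEM, hE, hEc⟩ := exists_elementary hα.2
  obtain ⟨P, hEP⟩ := (isPGroup_of_pow hE.2 : IsPGroup q E).exists_le_sylow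
  obtain ⟨P', hP'L, -⟩ := exists_sylow_le hσ
  obtain ⟨h, hh⟩ := MulAction.exists_smul_eq G P P'
  refine ⟨h, ?_⟩
  have hU := ScnUniqueness.unique_of_abelian hG hE hEc
  obtain ⟨M₀, -, hu⟩ := unique_conj hU h
  have h1 : conjMap h E ≤ L := (Cfsg.Lib.Coprime.conjMap_mono hEP).trans (by
    rw [← Cfsg.Lib.Coprime.conj_smul_eq, ← Sylow.coe_subgroup_smul, hh]
    exact hP'L)
  rw [hu L ⟨hL, h1⟩, hu _ ⟨conjMap_coatom hM h, Cfsg.Lib.Coprime.conjMap_mono hEM⟩]

theorem sylow_sigma_normal (hG : Cfsg.IsMinSimpleOddOrder G) (hM : IsCoatom M)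
    (hn : Group.IsNilpotent (Cfsg.sigmaCore M)) {q : ℕ} [hq : Fact q.Prime] (hσ : q ∈ Cfsg.sigma M) :
    ∃ S : Subgroup G, IsSylowOf q S M ∧ S ≠ ⊥ ∧ M ≤ normalizer (S : Set G) ∧
      normalizer (S : Set G) = M := by
  obtain ⟨T⟩ : Nonempty (Sylow q ↥(Cfsg.sigmaCore M)) := inferInstance
  have hS := isSylowOf_of_sigmaCore hG hM hσ T
  haveI hTn : (T : Subgroup ↥(Cfsg.sigmaCore M)).Normal :=
    ((Group.isNilpotent_of_finite_tfae (G := ↥(Cfsg.sigmaCore M))).out 0 3 rfl rfl).mp hn q inferInstance T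
  haveI := T.characteristic_of_normal hTn
  have hn' : M ≤ normalizer (((T : Subgroup ↥(Cfsg.sigmaCore M)).map (Cfsg.sigmaCore M).subtype) : Set G) :=
    (PiCoreOf.le_normalizer' (Cfsg.sigma M) M : M ≤ normalizer (Cfsg.sigmaCore M : Set G)).trans
      (Cfsg.Lib.OddP.le_normalizer_map_of_char (T : Subgroup ↥(Cfsg.sigmaCore M)))
  have h1 : (T : Subgroup ↥(Cfsg.sigmaCore M)).map (Cfsg.sigmaCore M).subtype ≠ ⊥ := fun h0 => by
    obtain ⟨S', hS'⟩ := hS.exists_sylow
    refine S'.ne_bot_of_dvd_card hσ.2.1 ?_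
    rw [← map_eq_bot_iff_of_injective _ M.subtype_injective, hS', h0]
  exact ⟨_, hS, h1, hn', normalizer_eq hG hM h1 hS.1 hn'⟩

theorem conj_of_nilpotent (hG : Cfsg.IsMinSimpleOddOrder G) (hM : IsCoatom M) (hL : IsCoatom L) {q : ℕ}
    [hq : Fact q.Prime] (hσM : q ∈ Cfsg.sigma M) (hσL : q ∈ Cfsg.sigma L)
    (hnM : Group.IsNilpotent (Cfsg.sigmaCore M)) (hnL : Group.IsNilpotent (Cfsg.sigmaCore L)) :
    ∃ h : G, L = conjMap h M := by
  obtain ⟨S, hS, -, -, hSN⟩ := sylow_sigma_normal hG hM hnM hσM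
  obtain ⟨S', hS', -, -, hSN'⟩ := sylow_sigma_normal hG hL hnL hσL
  obtain ⟨P, hP⟩ := hS.2.1.exists_le_sylow
  obtain ⟨P', hP'⟩ := hS'.2.1.exists_le_sylow
  have e := sylow_max hσM hS P.2 hP
  have e' := sylow_max hσL hS' P'.2 hP'
  obtain ⟨h, hh⟩ := MulAction.exists_smul_eq G P P'
  refine ⟨h, ?_⟩
  rw [← hSN, ← Cfsg.Lib.Coprime.normalizer_conjMap, ← e, ← Cfsg.Lib.Coprime.conj_smul_eq,
    ← Sylow.coe_subgroup_smul, hh, e', hSN']

/-- A moved `q`-subgroup of `M ∩ L` excludes `p ∈ σ(L)`. -/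
theorem not_sigma_of_move (hG : Cfsg.IsMinSimpleOddOrder G) (hM : IsCoatom M) (hL : IsCoatom L) (hne : M ≠ L)
    (hA : MaxSq p A) (hAL : A ≤ L) {q : ℕ} [hq : Fact q.Prime] (hqp : q ≠ p) (hσ : q ∈ Cfsg.sigma M)
    {R : Subgroup G} (hRq : IsPGroup q R) (hRM : R ≤ M) (hRL : R ≤ L) (hAR : A ≤ normalizer (R : Set G))
    (hmove : ¬ A ≤ centralizer (R : Set G)) : p ∉ Cfsg.sigma L := by
  intro hσL
  set X := ⁅R, A⁆ with hX
  have hXR : X ≤ R := Cfsg.Lib.Coprime.commutator_le_of_le_normalizer hAR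
  have hX1 : X ≠ ⊥ := fun h0 => hmove fun a ha => mem_centralizer_iff.mpr fun r hr => by
    have h1 : ⁅r, a⁆ ∈ X := commutator_mem_commutator hr ha
    rw [h0, mem_bot] at h1
    exact commutatorElement_eq_one_iff_mul_comm.mp h1
  have hcop : (Nat.card A).Coprime (Nat.card R) := by
    obtain ⟨j, hj⟩ := IsPGroup.iff_card.mp hRq
    rw [hA.card, hj]
    exact (((Nat.coprime_primes hp.out hq.out).mpr hqp.symm).pow_left 2).pow_right j
  by_cases hβ : q ∈ Cfsg.beta L
  · exact hne (eq_of_beta hG hM hL hσ hβ (hRq.to_le hXR) hX1 (hXR.trans hRM) (hXR.trans hRL))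
  have hc := centralizes_of_derived hG hL hβ (X := X) (Y := A) (commutator_mono hRL hAL)
    (sylow_le_derived' hG hL hσL hA.isPGroup hAL) (hRq.to_le hXR)
    (coprime_of_ne hqp.symm hA.isPGroup) (Cfsg.Lib.Coprime.le_normalizer_commutator_right _ _)
  refine hX1 ?_
  rw [hX, ← Cfsg.Lib.Coprime.commutator_commutator_eq hAR hcop
    (Or.inl (hG.2.2.2 A (FittingUniqueness.ne_top_of_le_coatom hL hAL))), commutator_eq_bot_iff_le_centralizer]
  exact le_centralizer_iff.mp hc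

/-- A moved `q`-subgroup of `M ∩ L`, with `L` exceptional, gives `q ∣ |C(A)|`. -/
theorem dvd_centralizer_of_move (hG : Cfsg.IsMinSimpleOddOrder G) (hM : IsCoatom M) (h : Exc p L A A₀)
    (hne : M ≠ L) (hAM : A ≤ M) {q : ℕ} [hq : Fact q.Prime] (hqp : q ≠ p) (hσ : q ∈ Cfsg.sigma M)
    (hkind : q ∈ Cfsg.alpha M ∨ Group.IsNilpotent (Cfsg.sigmaCore M))
    {R : Subgroup G} (hRq : IsPGroup q R) (hRM : R ≤ M) (hRL : R ≤ L) (hAR : A ≤ normalizer (R : Set G))
    (hmove : ¬ A ≤ centralizer (R : Set G)) : q ∣ Nat.card (centralizer (A : Set G)) := by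
  by_cases hσL : q ∈ Cfsg.sigma L
  · exfalso
    obtain ⟨g, hg⟩ : ∃ g : G, L = conjMap g M := by
      rcases hkind with hα | hn
      · exact conj_of_alpha hG hM h.coatom hα hσL
      · exact conj_of_nilpotent hG hM h.coatom hσ hσL hn (h.nilpotent hG)
    have hM' : M = conjMap g⁻¹ L := by rw [hg, Cfsg.Lib.Coprime.conjMap_inv_conjMap]
    have hgL : g⁻¹ ∉ L := fun hm => hne (hM'.trans (Cfsg.Lib.Coprime.conjMap_eq_self (le_normalizer hm)))
    have h1 := (h.inf_conj hG hgL (hM' ▸ hAM)).1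
    refine hmove fun a _ => mem_centralizer_iff.mpr fun r hr => ?_
    have hr1 : r = 1 := mem_bot.mp (h1.le ⟨le_sigmaCore_of_pgroup hG h.coatom hσL hRq hRL hr,
      hM'.le (hRM hr)⟩)
    rw [hr1, one_mul, mul_one]
  have hβ : q ∉ Cfsg.beta L := fun hb => hσL (alpha_subset_sigma hG h.coatom hb.1)
  obtain ⟨Rq, hRq', hRRq, hARq⟩ :=
    exists_invariant_sylowOf hG h.coatom (h.maxSq hG) h.le hqp hβ hRq hRL hAR hmove
  have h1 := exists_fixed hG h hqp hσL hRq' hARq fun hc => hmove (hc.trans (Subgroup.centralizer_le hRRq))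
  exact (dvd_card_of_isPGroup (hRq'.2.1.to_le inf_le_left) h1).trans (card_dvd_of_le inf_le_right)

/-- Maximal invariant groups meet the centralizer when it has order divisible by `q`. -/
theorem inf_centralizer_ne_bot_of_dvd (hG : Cfsg.IsMinSimpleOddOrder G) (hA : MaxSq p A) {q : ℕ}
    [hq : Fact q.Prime] (hqp : q ≠ p) (hqC : q ∣ Nat.card (centralizer (A : Set G))) {Q : Subgroup G}
    (hQ : Q ∈ Cfsg.maxInvSubgroups ⊤ A {q}) : Q ⊓ centralizer (A : Set G) ≠ ⊥ := by
  obtain ⟨⟨y, hy⟩, hyo⟩ := exists_prime_orderOf_dvd_card' (G := centralizer (A : Set G)) q hqC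
  rw [Subgroup.orderOf_mk] at hyo
  have hyq : IsPGroup q (zpowers y) := IsPGroup.of_card (n := 1) (by rw [Nat.card_zpowers, hyo, pow_one])
  have hAy : A ≤ normalizer (zpowers y : Set G) :=
    (le_centralizer_iff.mp (zpowers_le.mpr hy)).trans (centralizer_le_normalizer _)
  obtain ⟨Q₃, hQ₃, hyQ⟩ := Transitivity.exists_max hyq hAy
  obtain ⟨k, hk, hkQ⟩ := hA.transitive hG hqp hqC Q hQ Q₃ hQ₃
  intro h0
  have hkC : k ∈ centralizer (A : Set G) := PiCoreOf.le _ _ hk
  have h1 : k⁻¹ * y * k ∈ Q ⊓ centralizer (A : Set G) :=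
    ⟨Cfsg.Lib.Coprime.mem_conjMap.mp (hkQ.le (hyQ (mem_zpowers y))),
      Subgroup.mul_mem _ (Subgroup.mul_mem _ (Subgroup.inv_mem _ hkC) hy) hkC⟩
  rw [h0, mem_bot] at h1
  have : y = 1 := by
    have := congrArg (fun t => k * t * k⁻¹) h1
    simpa [mul_assoc] using this
  rw [this, orderOf_one] at hyo
  exact hq.out.ne_one hyo.symm

theorem mem_max_of_sylowOf {q : ℕ} [Fact q.Prime] (hσ : q ∈ Cfsg.sigma M) {S : Subgroup G}
    (hS : IsSylowOf q S M) (hAS : A ≤ normalizer (S : Set G)) : S ∈ Cfsg.maxInvSubgroups ⊤ A {q} :=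
  ⟨Transitivity.mem_inv_iff.mpr ⟨hS.2.1, hAS⟩,
    fun W hW hle => sylow_max hσ hS (Transitivity.mem_inv_iff.mp hW).1 hle⟩

/-- No line of `A` has `M` as the only maximal subgroup over its normalizer. -/
def NoLine (p : ℕ) (M A : Subgroup G) : Prop :=
  ∀ A₀ : Subgroup G, A₀ ≤ A → Nat.card A₀ = p →
    ¬ (normalizer (A₀ : Set G) ≤ M ∧ ∀ L : Subgroup G, IsCoatom L → normalizer (A₀ : Set G) ≤ L → L = M)

namespace NoLine

theorem exists_other (hG : Cfsg.IsMinSimpleOddOrder G) (hM : IsCoatom M) (hAM : A ≤ M)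
    (hA : Cfsg.IsElementaryAbelian p A) (h : NoLine p M A) {e : G} (he : e ∈ A) (he1 : e ≠ 1) :
    ∃ L : Subgroup G, IsCoatom L ∧ L ≠ M ∧ normalizer (zpowers e : Set G) ≤ L := by
  have hc : Nat.card (zpowers e) = p := by
    rw [Nat.card_zpowers]; exact orderOf_eq_prime (hA.2 e he) he1
  obtain ⟨N, hN, hle⟩ := exists_coatom_ge (MinSimpleTransitivity.normalizer_ne_top hG
    (fun h0 => he1 (zpowers_eq_bot.mp h0))
    (FittingUniqueness.ne_top_of_le_coatom hM ((zpowers_le.mpr he).trans hAM)))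
  by_cases hNM : N = M
  · have h1 := h _ (zpowers_le.mpr he) hc
    simp only [hNM ▸ hle, true_and, not_forall] at h1
    obtain ⟨L, hL, hLN, hLM⟩ := h1
    exact ⟨L, hL, hLM, hLN⟩
  · exact ⟨N, hN, hNM, hle⟩

theorem not_unique (hG : Cfsg.IsMinSimpleOddOrder G) (hM : IsCoatom M) (hAM : A ≤ M)
    (hA : Cfsg.IsElementaryAbelian p A) (h : NoLine p M A) {e : G} (he : e ∈ A) (he1 : e ≠ 1) :
    ¬ Cfsg.InUniqueMaximal (M ⊓ centralizer ({e} : Set G)) := by
  intro hU
  obtain ⟨L, hL, hLM, hle⟩ := h.exists_other hG hM hAM hA he he1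
  obtain ⟨M₀, -, hu⟩ := hU
  refine hLM ((hu L ⟨hL, inf_le_right.trans ?_⟩).trans (hu M ⟨hM, inf_le_left⟩).symm)
  rw [← Cfsg.Lib.Coprime.centralizer_zpowers]
  exact (centralizer_le_normalizer _).trans hle

theorem maxSq (hG : Cfsg.IsMinSimpleOddOrder G) (hM : IsCoatom M) (hAM : A ≤ M)
    (hA : Cfsg.IsElementaryAbelian p A) (hAc : Nat.card A = p ^ 2) (h : NoLine p M A) : MaxSq p A := by
  refine ⟨hA, hAc, fun B hB hAB => ?_⟩
  by_contra hne
  have h3 : p ^ 3 ≤ Nat.card B := by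
    obtain ⟨j, hj⟩ := IsPGroup.iff_card.mp (isPGroup_of_pow hB.2 : IsPGroup p B)
    have h1 : Nat.card A < Nat.card B := lt_of_le_of_ne (Nat.le_of_dvd Nat.card_pos (card_dvd_of_le hAB))
      fun e => hne (eq_of_le_of_card_ge hAB e.ge).symm
    rw [hAc, hj] at h1
    rw [hj]
    exact Nat.pow_le_pow_right hp.out.pos ((Nat.pow_lt_pow_iff_right hp.out.one_lt).mp h1)
  have hU : Cfsg.InUniqueMaximal A := unique_of_centralizes hG (ScnUniqueness.unique_of_abelian hG hB h3)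
    (fun a ha => mem_centralizer_iff.mpr fun b hb => ThompsonTransitivity.mul_comm_of hB.1 hb (hAB ha))
    le_rfl hA hAc.ge
  obtain ⟨e, he, heo⟩ := ScnUniqueness.exists_orderOf (isPGroup_of_pow hA.2 : IsPGroup p A) (fun h0 => by
    rw [h0, Subgroup.card_bot] at hAc
    exact (Nat.one_lt_pow two_ne_zero hp.out.one_lt).ne hAc)
  have he1 : e ≠ 1 := fun h0 => hp.out.ne_one (by rw [← heo, h0, orderOf_one])
  refine h.not_unique hG hM hAM hA he he1 (unique_of_le hU (le_inf hAM fun a ha =>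
    mem_centralizer_singleton_iff.mpr (ThompsonTransitivity.mul_comm_of hA.1 ha he)) ?_)
  exact FittingUniqueness.ne_top_of_le_coatom hM inf_le_left

theorem not_alpha (hG : Cfsg.IsMinSimpleOddOrder G) (hM : IsCoatom M) (hAM : A ≤ M)
    (hA : Cfsg.IsElementaryAbelian p A) (hAc : Nat.card A = p ^ 2) (h : NoLine p M A) :
    p ∉ Cfsg.alpha M := by
  intro hα
  have hsq := h.maxSq hG hM hAM hA hAc
  obtain ⟨E, hEM, hE, hEc⟩ := exists_elementary hα.2
  obtain ⟨S, hS, hAS⟩ := exists_sylowOf hsq.isPGroup hAM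
  obtain ⟨S', hS', hES⟩ := exists_sylowOf (isPGroup_of_pow hE.2 : IsPGroup p E) hEM
  obtain ⟨m, hm, rfl⟩ := card_eq_of_sylowOf hS' hS
  obtain ⟨z, hz, hzo⟩ : ∃ z ∈ conjMap m S' ⊓ centralizer (conjMap m S' : Set G), orderOf z = p := by
    refine ScnUniqueness.exists_orderOf (hS.2.1.to_le inf_le_left) fun h0 => ?_
    haveI : Nontrivial ↥(conjMap m S') :=
      (nontrivial_iff_ne_bot _).mpr fun h1 => hsq.ne_bot (le_bot_iff.mp (h1 ▸ hAS))
    have := hS.2.1.center_nontrivial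
    obtain ⟨⟨c, hc⟩, hc1⟩ := exists_ne (1 : center ↥(conjMap m S'))
    refine hc1 (Subtype.ext (Subtype.ext (mem_bot.mp (h0.le (show (c : G) ∈ conjMap m S' ⊓
      centralizer (conjMap m S' : Set G) from
      ⟨c.2, mem_centralizer_iff.mpr fun b hb => congrArg Subtype.val (mem_center_iff.mp hc ⟨b, hb⟩)⟩)))))
  have hzA : z ∈ A := hsq.mem_of_commute (Subgroup.centralizer_le hAS hz.2) (hzo ▸ pow_orderOf_eq_one z)
  have hz1 : z ≠ 1 := fun h0 => hp.out.ne_one (by rw [← hzo, h0, orderOf_one])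
  refine h.not_unique hG hM hAM hA hzA hz1 (unique_of_le
    (unique_conj (ScnUniqueness.unique_of_abelian hG hE hEc) m) (le_inf ?_ ?_)
    (FittingUniqueness.ne_top_of_le_coatom hM inf_le_left))
  · exact (Cfsg.Lib.Coprime.conjMap_mono hES).trans hS.1
  · intro x hx
    exact mem_centralizer_singleton_iff.mpr
      (mem_centralizer_iff.mp hz.2 x (Cfsg.Lib.Coprime.conjMap_mono hES hx))

theorem alphaCore_eq_bot (hG : Cfsg.IsMinSimpleOddOrder G) (hM : IsCoatom M) (hAM : A ≤ M)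
    (hA : Cfsg.IsElementaryAbelian p A) (hAc : Nat.card A = p ^ 2) (h : NoLine p M A) :
    Cfsg.alphaCore M = ⊥ := by
  have hsq := h.maxSq hG hM hAM hA hAc
  have hpα := h.not_alpha hG hM hAM hA hAc
  haveI : IsMulCommutative A := hA.1
  refine eq_bot_of_card_eq _ ?_
  by_contra hne
  obtain ⟨q, hq, hqd⟩ := Nat.exists_prime_and_dvd hne
  haveI := Fact.mk hq
  have hα : q ∈ Cfsg.alpha M := (alphaCore_hall hG hM).2.1 q hq hqd
  have hqp : q ≠ p := fun e => hpα (e ▸ hα)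
  have hσ : q ∈ Cfsg.sigma M := alpha_subset_sigma hG hM hα
  have hcop : (Nat.card A).Coprime (Nat.card (Cfsg.alphaCore M)) :=
    Nat.coprime_of_dvd fun r hr hrA hrS => hpα
      ((Nat.prime_dvd_prime_iff_eq hr hp.out).mp (hr.dvd_of_dvd_pow (hAc ▸ hrA)) ▸
        (alphaCore_hall hG hM).2.1 r hr hrS)
  obtain ⟨T, hT⟩ := Cfsg.Lib.Coprime.exists_invariant_sylow
    (hAM.trans (PiCoreOf.le_normalizer' _ M) : A ≤ normalizer (Cfsg.alphaCore M : Set G)) hcop
    (Or.inl (hG.2.2.2 A (FittingUniqueness.ne_top_of_le_coatom hM hAM))) q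
  set Q := (T : Subgroup ↥(Cfsg.alphaCore M)).map (Cfsg.alphaCore M).subtype with hQ
  have hQr : ¬ Cfsg.PRankLE q 2 Q := not_pRankLE_sylow_alphaCore hG hM hα T
  have hQN : Q ≤ Cfsg.alphaCore M := map_subtype_le _
  have hQS : IsSylowOf q Q M := by
    refine ⟨hQN.trans (alphaCore_le M), T.2.map _, fun W hW hWM hle => ?_⟩
    obtain ⟨S', hS', hWS'⟩ := exists_sylowOf hW hWM
    obtain ⟨S, hS⟩ := hS'.exists_sylow
    have hWA : W ≤ Cfsg.alphaCore M :=
      hWS'.trans (hS ▸ map_mono (sylow_le_alphaCore hG hM hα S))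
    have h1 : W.subgroupOf (Cfsg.alphaCore M) = T := T.3 hW.comap_subtype fun x hx =>
      mem_subgroupOf.mpr (hle (mem_map_of_mem _ hx))
    rw [hQ, ← h1, map_subgroupOf_eq_of_le hWA]
  have hcyc : ∀ e ∈ A, e ≠ 1 → IsCyclic ↥(Q ⊓ centralizer ({e} : Set G)) := by
    intro e he he1
    have hr1 : Cfsg.RankLE 1 ↥(Cfsg.alphaCore M ⊓ centralizer ({e} : Set G)) := by
      by_contra hc
      rw [← Cfsg.Lib.Coprime.centralizer_zpowers] at hc
      have hU := unique_centralizer hG hM (zpowers_le.mpr (hAM he)) (fun r hr hrd hrα => hpα (by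
        rw [Nat.card_zpowers, orderOf_eq_prime (hA.2 e he) he1] at hrd
        exact (Nat.prime_dvd_prime_iff_eq hr hp.out).mp hrd ▸ hrα)) hc
      rw [Cfsg.Lib.Coprime.centralizer_zpowers] at hU
      exact h.not_unique hG hM hAM hA he he1 hU
    exact isCyclic_sylow_of_rank_one hG (hQS.2.1.to_le inf_le_left) (inf_le_inf_right _ hQN) (hr1 q hq)
  have hQcop : (Nat.card A).Coprime (Nat.card Q) := hcop.coprime_dvd_right (card_dvd_of_le hQN)
  have hfix : Q ⊓ centralizer (A : Set G) = ⊥ := by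
    by_contra hne'
    obtain ⟨v, hv, hvo⟩ := ScnUniqueness.exists_orderOf (hQS.2.1.to_le inf_le_left) hne'
    have hv1 : v ≠ 1 := fun h0 => hq.ne_one (by rw [← hvo, h0, orderOf_one])
    have hle : Q ≤ centralizer (A : Set G) := by
      rw [← Cfsg.Lib.Coprime.centralizerJoin_eq hsq.not_isCyclic hT hQcop]
      refine iSup₂_le fun e he => ?_
      haveI := hcyc e he.1 he.2
      set Qe := Q ⊓ centralizer ({e} : Set G) with hQe
      have hAn : A ≤ normalizer (Qe : Set G) := Cfsg.Lib.Coprime.le_normalizer_inf hT fun a ha =>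
        le_normalizer (mem_centralizer_singleton_iff.mpr (hsq.comm_of_mem ha he.1))
      have hve : v ∈ Qe := ⟨hv.1, Subgroup.centralizer_le (show ({e} : Set G) ⊆ A by simpa using he.1) hv.2⟩
      exact ScnUniqueness.le_centralizer_of_cyclic (hQS.2.1.to_le (inf_le_left : Qe ≤ Q)) inferInstance hAn
        (hQcop.coprime_dvd_right (card_dvd_of_le inf_le_left)) hve hv1 hv.2
    obtain ⟨e, he, heo⟩ := ScnUniqueness.exists_orderOf hsq.isPGroup hsq.ne_bot
    have he1 : e ≠ 1 := fun h0 => hp.out.ne_one (by rw [← heo, h0, orderOf_one])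
    haveI := hcyc e he he1
    obtain ⟨E, hEQ, hE, hEc⟩ := exists_elementary hQr
    have hle' : E ≤ Q ⊓ centralizer ({e} : Set G) := le_inf hEQ
      ((hEQ.trans hle).trans (Subgroup.centralizer_le (by simpa using he)))
    exact not_isCyclic_of_card hE.2 ((Nat.pow_le_pow_right hq.pos (by norm_num)).trans hEc)
      (isCyclic_of_injective (inclusion hle') (inclusion_injective hle'))
  have hQ1 : Q ≠ ⊥ := fun h0 => hQr (by
    intro B _ _
    exact (Nat.le_of_dvd Nat.card_pos (card_subgroup_dvd_card B)).trans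
      (by rw [h0, Subgroup.card_bot]; exact Nat.one_le_pow _ _ hq.pos))
  obtain ⟨e, he, he1, heQ⟩ := Transitivity.exists_fixed_outside (D := (⊥ : Subgroup G)) hsq.not_isCyclic hT
    hQcop (fun hle => hQ1 (le_bot_iff.mp hle))
  set R := Q ⊓ centralizer ({e} : Set G) with hR
  have hRq : IsPGroup q R := hQS.2.1.to_le inf_le_left
  have hAR : A ≤ normalizer (R : Set G) := Cfsg.Lib.Coprime.le_normalizer_inf hT fun a ha =>
    le_normalizer (mem_centralizer_singleton_iff.mpr (hsq.comm_of_mem ha he))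
  have hmove : ¬ A ≤ centralizer (R : Set G) := fun hc => heQ
    ((le_inf inf_le_left (le_centralizer_iff.mp hc)).trans hfix.le)
  obtain ⟨L, hL, hLM, hNL⟩ := h.exists_other hG hM hAM hA he he1
  have hCL : centralizer ({e} : Set G) ≤ L := by
    rw [← Cfsg.Lib.Coprime.centralizer_zpowers]
    exact (centralizer_le_normalizer _).trans hNL
  have hAL : A ≤ L := fun a ha => hCL (mem_centralizer_singleton_iff.mpr (hsq.comm_of_mem ha he))
  have hRM : R ≤ M := inf_le_left.trans hQS.1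
  have hpσ := not_sigma_of_move hG hM hL hLM.symm hsq hAL hqp hσ hRq hRM (inf_le_right.trans hCL) hAR hmove
  have hexc : Exc p L A (zpowers e) := ⟨hL, hpσ, hAL, hA, hAc, zpowers_le.mpr he,
    by rw [Nat.card_zpowers]; exact orderOf_eq_prime (hA.2 e he) he1, hNL⟩
  exact inf_centralizer_ne_bot_of_dvd hG hsq hqp
    (dvd_centralizer_of_move hG hM hexc hLM.symm hAM hqp hσ (Or.inl hα) hRq hRM (inf_le_right.trans hCL) hAR
      hmove) (mem_max_of_sylowOf hσ hQS hT) hfix

theorem mem_sigma (hG : Cfsg.IsMinSimpleOddOrder G) (hM : IsCoatom M) (hAM : A ≤ M)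
    (hA : Cfsg.IsElementaryAbelian p A) (hAc : Nat.card A = p ^ 2) (h : NoLine p M A) :
    p ∈ Cfsg.sigma M := by
  by_contra hσp
  have hsq := h.maxSq hG hM hAM hA hAc
  have hα := h.alphaCore_eq_bot hG hM hAM hA hAc
  haveI := derived_nilpotent_of_alphaCore_eq_bot hG hM hα
  haveI := hG.2.2.2 M hM.1
  haveI : IsMulCommutative A := hA.1
  have hnS : Group.IsNilpotent (Cfsg.sigmaCore M) :=
    Group.nilpotent_of_mulEquiv (subgroupOfEquivOfLe (sigmaCore_le_derived hG hM))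
  have hcop : (Nat.card A).Coprime (Nat.card (Cfsg.sigmaCore M)) :=
    Nat.coprime_of_dvd fun r hr hrA hrS => hσp
      ((Nat.prime_dvd_prime_iff_eq hr hp.out).mp (hr.dvd_of_dvd_pow (hAc ▸ hrA)) ▸
        sigmaCore_isPi r hr hrS)
  -- it suffices that `p` divides `|M'|`
  suffices hd : ∃ V : Subgroup G, IsPGroup p V ∧ V ≠ ⊥ ∧ V ≤ ⁅M, M⁆ by
    obtain ⟨V, hV, hV1, hVM⟩ := hd
    obtain ⟨T, hT⟩ := (hV.comap_subtype (K := ⁅M, M⁆)).exists_le_sylow
    haveI hTn : (T : Subgroup ↥⁅M, M⁆).Normal :=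
      ((Group.isNilpotent_of_finite_tfae (G := ↥⁅M, M⁆)).out 0 3 rfl rfl).mp inferInstance p inferInstance T
    haveI := T.characteristic_of_normal hTn
    have hn' : M ≤ normalizer ((⁅M, M⁆ : Subgroup G) : Set G) := fun x hx => by
      refine Cfsg.Lib.Coprime.conjMap_eq_self_iff.mp ?_
      show (⁅M, M⁆).map (MulAut.conj x).toMonoidHom = _
      rw [Subgroup.map_commutator]
      exact congrArg₂ _ (Cfsg.Lib.Coprime.conjMap_eq_self (le_normalizer hx))
        (Cfsg.Lib.Coprime.conjMap_eq_self (le_normalizer hx))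
    obtain ⟨X, hXM, hXc, hXn⟩ := exists_normal_line hG hM hσp
      (T.2.map ⁅M, M⁆.subtype) (fun h0 => hV1 (le_bot_iff.mp (h0 ▸ fun v hv => ⟨⟨v, hVM hv⟩, hT hv, rfl⟩)))
      ((map_subtype_le _).trans (commutator_le_self M))
      (hn'.trans (Cfsg.Lib.OddP.le_normalizer_map_of_char _))
    have hXp : IsPGroup p X := isPGroup_of_card hXc
    obtain ⟨S, hS, hAS⟩ := exists_sylowOf hsq.isPGroup hAM
    have hXS := le_of_normal_pgroup hS hXp hXM hXn
    have hXz : ⁅X, S⁆ = ⊥ := by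
      haveI : Group.IsNilpotent S := hS.2.1.isNilpotent
      have hX1 : X ≠ ⊥ := fun h1 => hp.out.ne_one (by rw [← hXc, h1, Subgroup.card_bot])
      have h1 := Cfsg.Lib.Coprime.commutator_lt_of_isNilpotent hXS hX1 (hS.1.trans hXn)
      refine eq_bot_of_card_eq _ ?_
      rcases (Nat.dvd_prime hp.out).mp (hXc ▸ card_dvd_of_le h1.le) with h2 | h2
      · exact h2
      · exact absurd (Cfsg.Lib.Coprime.eq_of_le_of_card_eq h1.le (h2.trans hXc.symm)) h1.ne
    have hXA : X ≤ A := fun x hx => hsq.mem_of_commute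
      (Subgroup.centralizer_le hAS ((commutator_eq_bot_iff_le_centralizer.mp hXz) hx)) (by
        have h1 := pow_card_eq_one' (G := X) (x := ⟨x, hx⟩)
        rw [hXc] at h1
        exact congrArg Subtype.val h1)
    have hX1 : X ≠ ⊥ := fun h1 => hp.out.ne_one (by rw [← hXc, h1, Subgroup.card_bot])
    exact h X hXA hXc ⟨(normalizer_eq hG hM hX1 hXM hXn).le, fun L hL hle => by
      rcases (hXn.trans hle).lt_or_eq with h1 | h1
      · exact absurd (hM.2 L h1) hL.1
      · exact h1.symm⟩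
  obtain ⟨P, hP, hAP⟩ := exists_sylowOf hsq.isPGroup hAM
  by_cases hcen : P ≤ centralizer (A : Set G)
  swap
  · refine ⟨⁅A, P⁆, hP.2.1.to_le ((commutator_mono hAP le_rfl).trans (commutator_le_self P)), fun h0 => hcen ?_,
      commutator_mono hAM hP.1⟩
    exact le_centralizer_iff.mp (commutator_eq_bot_iff_le_centralizer.mp h0)
  -- a prime of `σ(M)` dividing the order of `C(A)`
  obtain ⟨q, hq, hσq, hqC⟩ : ∃ q : ℕ, q.Prime ∧ q ∈ Cfsg.sigma M ∧ q ∣ Nat.card (centralizer (A : Set G)) := by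
    by_cases hfix : Cfsg.sigmaCore M ⊓ centralizer (A : Set G) = ⊥
    swap
    · obtain ⟨q, hq, hqd⟩ := Nat.exists_prime_and_dvd (fun h1 => hfix (eq_bot_of_card_eq _ h1))
      exact ⟨q, hq, sigmaCore_isPi q hq (hqd.trans (card_dvd_of_le inf_le_left)),
        hqd.trans (card_dvd_of_le inf_le_right)⟩
    exfalso
    obtain ⟨q, hq, hqd⟩ := Nat.exists_prime_and_dvd
      (fun h1 : Nat.card (Cfsg.sigmaCore M) = 1 => sigmaCore_ne_bot hG hM (eq_bot_of_card_eq _ h1))
    haveI := Fact.mk hq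
    have hσ : q ∈ Cfsg.sigma M := sigmaCore_isPi q hq hqd
    have hqp : q ≠ p := fun e => hσp (e ▸ hσ)
    obtain ⟨S, hS, hS1, hSn, -⟩ := sylow_sigma_normal hG hM hnS hσ
    have hSC : S ≤ Cfsg.sigmaCore M := le_sigmaCore_of_pgroup hG hM hσ hS.2.1 hS.1
    obtain ⟨e, he, he1, heS⟩ := Transitivity.exists_fixed_outside (D := (⊥ : Subgroup G)) hsq.not_isCyclic
      (hAM.trans hSn) (hcop.coprime_dvd_right (card_dvd_of_le hSC)) (fun hle => hS1 (le_bot_iff.mp hle))
    set R := S ⊓ centralizer ({e} : Set G) with hR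
    have hRq : IsPGroup q R := hS.2.1.to_le inf_le_left
    have hAR : A ≤ normalizer (R : Set G) := Cfsg.Lib.Coprime.le_normalizer_inf (hAM.trans hSn) fun a ha =>
      le_normalizer (mem_centralizer_singleton_iff.mpr (hsq.comm_of_mem ha he))
    have hmove : ¬ A ≤ centralizer (R : Set G) := fun hc => heS
      ((le_inf (inf_le_left.trans hSC) (le_centralizer_iff.mp hc)).trans hfix.le)
    obtain ⟨L, hL, hLM, hNL⟩ := h.exists_other hG hM hAM hA he he1
    have hCL : centralizer ({e} : Set G) ≤ L := by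
      rw [← Cfsg.Lib.Coprime.centralizer_zpowers]
      exact (centralizer_le_normalizer _).trans hNL
    have hAL : A ≤ L := fun a ha => hCL (mem_centralizer_singleton_iff.mpr (hsq.comm_of_mem ha he))
    have hRM : R ≤ M := inf_le_left.trans hS.1
    have hpσ := not_sigma_of_move hG hM hL hLM.symm hsq hAL hqp hσ hRq hRM (inf_le_right.trans hCL) hAR hmove
    have hexc : Exc p L A (zpowers e) := ⟨hL, hpσ, hAL, hA, hAc, zpowers_le.mpr he,
      by rw [Nat.card_zpowers]; exact orderOf_eq_prime (hA.2 e he) he1, hNL⟩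
    refine inf_centralizer_ne_bot_of_dvd hG hsq hqp (dvd_centralizer_of_move hG hM hexc hLM.symm hAM hqp hσ
      (Or.inr hnS) hRq hRM (inf_le_right.trans hCL) hAR hmove) (mem_max_of_sylowOf hσ hS (hAM.trans hSn))
      (le_bot_iff.mp ((inf_le_inf_right _ hSC).trans hfix.le))
  haveI := Fact.mk hq
  have hqp : q ≠ p := fun e => hσp (e ▸ hσq)
  obtain ⟨S, hS, hS1, hSn, hSN⟩ := sylow_sigma_normal hG hM hnS hσq
  have hSA := mem_max_of_sylowOf hσq hS (hAM.trans hSn)
  have hSP := mem_max_of_sylowOf hσq hS (hP.1.trans hSn)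
  have hPt : P ≠ ⊤ := FittingUniqueness.ne_top_of_le_coatom hM hP.1
  have hnAP : P ≤ normalizer (A : Set G) := hcen.trans (centralizer_le_normalizer _)
  haveI : (A.subgroupOf P).Normal := normal_subgroupOf_of_le_normalizer hnAP
  have hconc := ((SubnormalTransitivity.conclusion hG (hsq.transitivity hG) (hsq.not_dvd_card hq hqp) hPt
    (fun r hr hrd => by
      obtain ⟨j, hj⟩ := IsPGroup.iff_card.mp hP.2.1
      rw [hj] at hrd
      rw [(Nat.prime_dvd_prime_iff_eq hr hp.out).mp (hr.dvd_of_dvd_pow hrd)]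
      exact hsq.dvd le_rfl) hAP (Subgroup.Normal.isSubnormal inferInstance)
    (hsq.transitive hG hqp hqC)).2.2.2 S hSP).1
  rw [hSN] at hconc
  set NP := normalizer (P : Set G) with hNP
  refine ⟨P ⊓ ⁅NP, NP⁆, hP.2.1.to_le inf_le_left, ?_, hconc⟩
  obtain ⟨P', hPP'⟩ := hP.2.1.exists_le_sylow
  by_cases hfull : P = (P' : Subgroup G)
  · rw [inf_eq_left.mpr (by rw [hNP, hfull]; exact le_derived_normalizer hG P')]
    exact fun h0 => hsq.ne_bot (le_bot_iff.mp (h0 ▸ hAP))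
  obtain ⟨g, ⟨hgP', hgN⟩, hgP⟩ :=
    SetLike.exists_of_lt (FittingUniqueness.lt_inf_normalizer P'.2 (lt_of_le_of_ne hPP' hfull))
  have hgA : g ∈ normalizer (A : Set G) := by
    refine Cfsg.Lib.Coprime.conjMap_eq_self_iff.mp
      (Cfsg.Lib.Coprime.eq_of_le_of_card_eq ?_ (Cfsg.Lib.Coprime.card_conjMap _ _))
    rintro _ ⟨a, ha, rfl⟩
    exact hsq.mem_of_commute (hcen ((mem_normalizer_iff.mp hgN a).mp (hAP ha)))
      (by show (g * a * g⁻¹) ^ p = 1; rw [conj_pow, hA.2 a ha, mul_one, mul_inv_cancel])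
  intro h0
  -- `g` centralizes `A`
  have hgC : g ∈ centralizer (A : Set G) := mem_centralizer_iff.mpr fun a ha => by
    have h1 : ⁅a, g⁆ ∈ P ⊓ ⁅NP, NP⁆ := ⟨hAP (by
      rw [commutatorElement_def, mul_assoc, mul_assoc]
      refine mul_mem ha ?_
      rw [← mul_assoc]
      exact (mem_normalizer_iff.mp hgA _).mp (inv_mem ha)),
      commutator_mem_commutator (le_normalizer (hAP ha)) hgN⟩
    rw [h0, mem_bot] at h1
    exact commutatorElement_eq_one_iff_mul_comm.mp h1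
  -- hence a larger `p`-subgroup of `C(A)`
  set C := centralizer (A : Set G) with hC
  set KA := K A with hKA
  have hKn : M ⊓ C ≤ normalizer (KA : Set G) := inf_le_right.trans (PiCoreOf.le_normalizer' _ C)
  have hsup : C ≤ KA ⊔ (M ⊓ C) := by
    intro c hc
    obtain ⟨k, hk, hkS⟩ := hsq.transitive hG hqp hqC S hSA _ (Transitivity.mem_max_conj hSA hc)
    have h1 : k⁻¹ * c ∈ M ⊓ C := by
      refine ⟨hSN.le (Cfsg.Lib.Coprime.conjMap_eq_self_iff.mp ?_),
        Subgroup.mul_mem _ (Subgroup.inv_mem _ (PiCoreOf.le _ _ hk)) hc⟩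
      rw [← Cfsg.Lib.Coprime.conjMap_mul, show conjMap c S = conjMap k S from hkS,
        Cfsg.Lib.Coprime.conjMap_inv_conjMap]
    rw [show c = k * (k⁻¹ * c) by group]
    exact mul_mem_sup hk h1
  set H := P ⊔ zpowers g with hH
  have hHC : H ≤ C := sup_le hcen (zpowers_le.mpr hgC)
  have hHp : IsPGroup p H := P'.2.to_le (sup_le hPP' (zpowers_le.mpr hgP'))
  obtain ⟨j, hj⟩ := IsPGroup.iff_card.mp hHp
  have hd : Nat.card H ∣ Nat.card ↥(M ⊓ C) := by
    have h1 := card_dvd_of_le (hHC.trans hsup)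
    have h2 : Nat.card H ∣ Nat.card KA * Nat.card ↥(M ⊓ C) := by
      rw [← Cfsg.Lib.Coprime.card_sup_mul_card_inf hKn]
      exact h1.mul_right _
    refine (Nat.Coprime.dvd_of_dvd_mul_left ?_ h2)
    rw [hj]
    refine Nat.Coprime.pow_left j ?_
    exact (PiCoreOf.coprime_card (Nat.card A) C).coprime_dvd_left (hsq.dvd le_rfl)
  have hdM : Nat.card H ∣ Nat.card M := hd.trans (card_dvd_of_le inf_le_left)
  obtain ⟨PS, hPS⟩ := hP.exists_sylow
  have hPd : Nat.card H ∣ Nat.card P := by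
    rw [← hPS, card_map_of_injective M.subtype_injective, hj]
    exact PS.pow_dvd_card_of_pow_dvd_card (hj ▸ hdM)
  have hHP : P = H := eq_of_le_of_card_ge le_sup_left (Nat.le_of_dvd Nat.card_pos hPd)
  exact hgP (hHP.ge (mem_sup_right (mem_zpowers g)))

end NoLine

/-- A maximal elementary subgroup of order `p²`, with `p ∉ σ(M)`, has an exceptional line. -/
theorem exists_exc (hG : Cfsg.IsMinSimpleOddOrder G) (hM : IsCoatom M) (hσ : p ∉ Cfsg.sigma M)
    (hAM : A ≤ M) (hA : Cfsg.IsElementaryAbelian p A) (hAc : Nat.card A = p ^ 2) :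
    ∃ A₀ : Subgroup G, Exc p M A A₀ := by
  by_contra hall
  push Not at hall
  exact hσ (NoLine.mem_sigma hG hM hAM hA hAc fun A₀ h1 h2 h3 =>
    hall A₀ ⟨hM, hσ, hAM, hA, hAc, h1, h2, h3.1⟩)

theorem NoLine.centralizer_le (hG : Cfsg.IsMinSimpleOddOrder G) (hM : IsCoatom M) (hAM : A ≤ M)
    (hA : Cfsg.IsElementaryAbelian p A) (hAc : Nat.card A = p ^ 2) (h : NoLine p M A) :
    centralizer (A : Set G) ≤ M := by
  have hsq := h.maxSq hG hM hAM hA hAc
  have hσ := h.mem_sigma hG hM hAM hA hAc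
  have hα := h.alphaCore_eq_bot hG hM hAM hA hAc
  haveI := derived_nilpotent_of_alphaCore_eq_bot hG hM hα
  have hnS : Group.IsNilpotent (Cfsg.sigmaCore M) :=
    Group.nilpotent_of_mulEquiv (subgroupOfEquivOfLe (sigmaCore_le_derived hG hM))
  obtain ⟨S, hS, hS1, hSn, hSN⟩ := sylow_sigma_normal hG hM hnS hσ
  obtain ⟨P, hSP⟩ := hS.2.1.exists_le_sylow
  have hPS : (P : Subgroup G) = S := sylow_max hσ hS P.2 hSP
  have hAP : A ≤ (P : Subgroup G) := hPS ▸ le_sup_left.trans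
    (hS.2.2 _ (IsPGroup.to_sup_of_normal_right' hsq.isPGroup hS.2.1 (hAM.trans hSn))
      (sup_le hAM hS.1) le_sup_right).le
  have hPM : (P : Subgroup G) ≤ M := hPS ▸ hS.1
  have hNP : normalizer ((P : Subgroup G) : Set G) = M := by rw [hPS, hSN]
  have hPt : (P : Subgroup G) ≠ ⊤ := FittingUniqueness.ne_top_of_le_coatom hM hPM
  have hrP : Cfsg.PRankLE p 2 (P : Subgroup G) := Cfsg.Lib.OddP.pRankLE_of_injective (inclusion hPM)
    (inclusion_injective _) (rankLE_two_of_alphaCore_eq_bot hG hM hα p hp.out)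
  have hnA : (P : Subgroup G) ≤ normalizer (A : Set G) := by
    rcases Cfsg.Agent.S1412.result hG p P hrP with hab | ⟨P₁, P₂, hsup, hcomm, hna, hc1, hexp, -, hclo⟩
    · exact fun x hx => centralizer_le_normalizer _ (mem_centralizer_iff.mpr fun a ha =>
        ThompsonTransitivity.mul_comm_of hab (hAP ha) hx)
    have hn : P₂ ≤ normalizer (P₁ : Set G) := fun b hb =>
      centralizer_le_normalizer _ (mem_centralizer_iff.mpr fun a ha => hcomm a ha b hb)
    have hexp' : ∀ u ∈ P₁, u ^ p = 1 := fun u hu => by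
      have h1 := Monoid.pow_exponent_eq_one (⟨u, hu⟩ : P₁)
      rw [hexp] at h1
      exact congrArg Subtype.val h1
    have hA1 : A ≤ P₁ := by
      intro a ha
      obtain ⟨u, hu, v, hv, rfl⟩ := (Cfsg.Lib.Coprime.mem_sup_of_le_normalizer hn).mp (hsup.ge (hAP ha))
      have hv1 : v ^ p = 1 := by
        have h1 := hA.2 _ ha
        rwa [(show Commute u v from hcomm u hu v hv).mul_pow, hexp' u hu, one_mul] at h1
      exact mul_mem hu ((hclo.le (subset_closure ⟨hv, hv1⟩)).1)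
    have hP1 : P₁ ≤ normalizer (A : Set G) := by
      have hlt : A < P₁ := lt_of_le_of_ne hA1 fun h0 => hna (h0 ▸ hA.1)
      have h1 := FittingUniqueness.lt_inf_normalizer (IsPGroup.of_card hc1) hlt
      refine inf_eq_left.mp (eq_of_le_of_card_ge inf_le_left ?_)
      obtain ⟨i, hi⟩ := IsPGroup.iff_card.mp ((IsPGroup.of_card hc1).to_le
        (inf_le_left : P₁ ⊓ normalizer (A : Set G) ≤ P₁))
      have h2 : Nat.card A < Nat.card ↥(P₁ ⊓ normalizer (A : Set G)) :=
        lt_of_le_of_ne (Nat.le_of_dvd Nat.card_pos (card_dvd_of_le h1.le))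
          fun e => h1.ne (eq_of_le_of_card_ge h1.le e.ge)
      rw [hAc, hi] at h2
      rw [hc1, hi]
      exact Nat.pow_le_pow_right hp.out.pos ((Nat.pow_lt_pow_iff_right hp.out.one_lt).mp h2)
    rw [← hsup]
    exact sup_le hP1 fun b hb => centralizer_le_normalizer _
      (mem_centralizer_iff.mpr fun a ha => hcomm a (hA1 ha) b hb)
  set C := centralizer (A : Set G) with hC
  refine Cfsg.Lib.Coprime.le_of_forall_sylow fun r hr => ?_
  haveI := Fact.mk hr
  by_cases hrp : r = p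
  · subst hrp
    have hn : (P : Subgroup G) ≤ normalizer (C : Set G) := hnA.trans (FittingParts.normalizer_centralizer_le A)
    set Q := C ⊓ (P : Subgroup G) with hQ
    obtain ⟨T, hT⟩ := ((P.2.to_le (inf_le_right : Q ≤ _)).comap_subtype (K := C)).exists_le_sylow
    refine ⟨T, ?_⟩
    suffices hTQ : (T : Subgroup C).map C.subtype = Q from hTQ.le.trans (inf_le_right.trans hPM)
    refine (eq_of_le_of_card_ge (fun x hx => Subgroup.mem_map.mpr ⟨⟨x, hx.1⟩, hT hx, rfl⟩) ?_).symm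
    rw [card_map_of_injective C.subtype_injective]
    have h1 := Cfsg.Lib.Coprime.card_sup_mul_card_inf hn
    obtain ⟨t, ht⟩ := IsPGroup.iff_card.mp T.2
    obtain ⟨v, hv⟩ := IsPGroup.iff_card.mp (P.2.to_le (inf_le_right : Q ≤ _))
    obtain ⟨k, hk⟩ := IsPGroup.iff_card.mp P.2
    rw [ht, hv]
    refine Nat.pow_le_pow_right hr.pos ?_
    by_contra hvt
    have h2 : r ^ (v + 1) * r ^ k ∣ Nat.card ↥(C ⊔ (P : Subgroup G)) * r ^ v := by
      rw [← hv, h1, ← hk]
      exact Nat.mul_dvd_mul (((pow_dvd_pow r (by omega : v + 1 ≤ t)).trans (dvd_of_eq ht.symm)).trans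
        (card_subgroup_dvd_card _)) dvd_rfl
    rw [← pow_add, show v + 1 + k = (k + 1) + v by omega, pow_add] at h2
    have h3 : r ^ (k + 1) ∣ Nat.card G :=
      (Nat.dvd_of_mul_dvd_mul_right (pow_pos hr.pos v) h2).trans (card_subgroup_dvd_card _)
    have h4 := P.pow_dvd_card_of_pow_dvd_card h3
    rw [hk] at h4
    exact absurd ((Nat.pow_dvd_pow_iff_le_right hr.one_lt).mp h4) (by omega)
  -- a `p'`-part
  set KA := K A with hKA
  have hKn : (P : Subgroup G) ≤ normalizer (KA : Set G) :=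
    (hnA.trans (FittingParts.normalizer_centralizer_le A)).trans (PiCoreOf.normalizer_le _ C)
  have hcopK : (Nat.card (P : Subgroup G)).Coprime (Nat.card KA) := by
    obtain ⟨j, hj⟩ := IsPGroup.iff_card.mp P.2
    rw [hj]
    exact ((PiCoreOf.coprime_card (Nat.card A) C).coprime_dvd_left (hsq.dvd le_rfl)).pow_left j
  obtain ⟨T, hT⟩ := Cfsg.Lib.Coprime.exists_invariant_sylow hKn hcopK (Or.inl (hG.2.2.2 _ hPt)) r
  set R := (T : Subgroup KA).map KA.subtype with hR
  have hRC : R ≤ C := (map_subtype_le _).trans (PiCoreOf.le _ _)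
  have hrK : ∀ Y : Subgroup G, IsPGroup r Y → Y ≤ C → Y ≤ KA := fun Y hY hYC y hy =>
    MinSimpleTransitivity.mem_K hG (hsq.transitivity hG) (hYC hy) (by
      rw [← Nat.card_zpowers, hAc]
      exact (coprime_of_ne hrp (hY.to_le (zpowers_le.mpr hy))).pow_right 2)
  obtain ⟨U, hU⟩ := ((T.2.map KA.subtype).comap_subtype (K := C)).exists_le_sylow
  refine ⟨U, ?_⟩
  have hUR : (U : Subgroup C).map C.subtype = R := by
    have hUK := hrK _ (U.2.map C.subtype) (map_subtype_le _)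
    have h1 : ((U : Subgroup C).map C.subtype).subgroupOf KA = T :=
      T.3 (U.2.map C.subtype).comap_subtype fun x hx => mem_subgroupOf.mpr
        ⟨⟨x, hRC (mem_map_of_mem _ hx)⟩, hU (mem_map_of_mem KA.subtype hx), rfl⟩
    rw [hR, ← h1, map_subgroupOf_eq_of_le hUK]
  rw [hUR]
  by_cases hR1 : R = ⊥
  · rw [hR1]; exact bot_le
  have hrC : r ∣ Nat.card C := (dvd_card_of_isPGroup (T.2.map _) hR1).trans (card_dvd_of_le hRC)
  obtain ⟨Q, hQ, hRQ⟩ := Transitivity.exists_max (A := (P : Subgroup G)) (T.2.map _ : IsPGroup r R) hT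
  have hQ1 : Q ≠ ⊥ := fun h0 => hR1 (le_bot_iff.mp (h0 ▸ hRQ))
  obtain ⟨hQr, hPQ⟩ := Transitivity.mem_inv_iff.mp hQ.1
  haveI : (A.subgroupOf (P : Subgroup G)).Normal := normal_subgroupOf_of_le_normalizer hnA
  have hconc := ((SubnormalTransitivity.conclusion hG (hsq.transitivity hG) (hsq.not_dvd_card hr hrp) hPt
    (fun s hs hsd => by
      obtain ⟨j, hj⟩ := IsPGroup.iff_card.mp P.2
      rw [hj] at hsd
      rw [(Nat.prime_dvd_prime_iff_eq hs hp.out).mp (hs.dvd_of_dvd_pow hsd)]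
      exact hsq.dvd le_rfl) hAP (Subgroup.Normal.isSubnormal inferInstance)
    (hsq.transitive hG hrp hrC)).2.2.2 Q hQ).1
  rw [inf_eq_left.mpr (le_derived_normalizer hG P)] at hconc
  have hQt : Q ≠ ⊤ := fun h0 => by
    obtain ⟨j, hj⟩ := IsPGroup.iff_card.mp hQr
    have h2 : p ∣ r ^ j := hj ▸ h0 ▸ (hsq.dvd (le_top : A ≤ (⊤ : Subgroup G)))
    exact hrp ((Nat.prime_dvd_prime_iff_eq hp.out hr).mp (hp.out.dvd_of_dvd_pow h2)).symm
  obtain ⟨N, hN, hQN⟩ := exists_coatom_ge (MinSimpleTransitivity.normalizer_ne_top hG hQ1 hQt)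
  have hQN' : Q ≤ N := le_normalizer.trans hQN
  have hPN : (P : Subgroup G) ≤ N := hPQ.trans hQN
  by_cases hβ : r ∈ Cfsg.beta N
  · by_cases hNM : N = M
    · exact hRQ.trans (hNM ▸ hQN')
    exfalso
    have hσN : p ∉ Cfsg.sigma N := by
      intro hs
      have h1 : M ≤ N := hNP ▸ normalizer_le hs (isSylowOf_coe P hPN)
      rcases h1.lt_or_eq with h2 | h2
      · exact hN.1 (hM.2 N h2)
      · exact hNM h2.symm
    obtain ⟨A₀, hexc⟩ := exists_exc hG hN hσN (hAP.trans hPN) hA hAc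
    refine hR1 (le_bot_iff.mp ((le_inf ?_ hRC).trans (hexc.inf_centralizer_eq_bot hG).le))
    exact le_sigmaCore_of_pgroup hG hN (alpha_subset_sigma hG hN hβ.1) (T.2.map _) (hRQ.trans hQN')
  have hPd : (P : Subgroup G) ≤ ⁅N, N⁆ := hconc.trans (commutator_mono hQN hQN)
  have hle : ⁅Q, (P : Subgroup G)⁆ ≤ Q := Cfsg.Lib.Coprime.commutator_le_of_le_normalizer hPQ
  have hc := centralizes_of_derived hG hN hβ (X := ⁅Q, (P : Subgroup G)⁆) (Y := (P : Subgroup G))
    (commutator_mono hQN' hPN) hPd (hQr.to_le hle) (coprime_of_ne (Ne.symm hrp) P.2)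
    (Cfsg.Lib.Coprime.le_normalizer_commutator_right _ _)
  have hcopQ : (Nat.card (P : Subgroup G)).Coprime (Nat.card Q) := by
    obtain ⟨j, hj⟩ := IsPGroup.iff_card.mp hQr
    rw [hj]
    exact (coprime_of_ne (Ne.symm hrp) P.2).pow_right j
  have hbot : ⁅Q, (P : Subgroup G)⁆ = ⊥ := by
    rw [← Cfsg.Lib.Coprime.commutator_commutator_eq hPQ hcopQ (Or.inl (hG.2.2.2 _ hPt)),
      commutator_eq_bot_iff_le_centralizer]
    exact le_centralizer_iff.mp hc
  exact hRQ.trans (((commutator_eq_bot_iff_le_centralizer.mp hbot).trans (centralizer_le_normalizer _)).trans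
    hNP.le)

/-- Theorem 12.4. -/
theorem rank_two_theorem (hG : Cfsg.IsMinSimpleOddOrder G) (hM : IsCoatom M) (hAM : A ≤ M)
    (hA : Cfsg.IsElementaryAbelian p A) (hAc : Nat.card A = p ^ 2) :
    centralizer (A : Set G) ≤ M ∧
      (NoLine p M A → p ∈ Cfsg.sigma M ∧ Cfsg.alphaCore M = ⊥ ∧ Group.IsNilpotent (Cfsg.sigmaCore M)) := by
  refine ⟨?_, fun h => ⟨h.mem_sigma hG hM hAM hA hAc, h.alphaCore_eq_bot hG hM hAM hA hAc, ?_⟩⟩
  · by_cases h : NoLine p M A
    · exact h.centralizer_le hG hM hAM hA hAc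
    · simp only [NoLine, not_forall, not_not] at h
      obtain ⟨A₀, h1, -, h2⟩ := h
      exact (Subgroup.centralizer_le h1).trans ((centralizer_le_normalizer _).trans h2.1)
  · haveI := derived_nilpotent_of_alphaCore_eq_bot hG hM (h.alphaCore_eq_bot hG hM hAM hA hAc)
    exact Group.nilpotent_of_mulEquiv (subgroupOfEquivOfLe (sigmaCore_le_derived hG hM))

end Cfsg.Lib.OddLocal.RankTwoMax
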