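import Cfsg.Agent.OddLocal.UniquenessBase
import Cfsg.Agent.OddLocal.SmallAction
import Cfsg.Agent.OddLocal.CNThreeStep
import Cfsg.Agent.Components.ZJ.Glauberman
import Cfsg.Agent.Coprime.InvariantHall
import Cfsg.Agent.S1451
import Cfsg.Agent.S1453
import Cfsg.Agent.S1460
import Mathlib.GroupTheory.Focal

/-!
# Tools for the uniqueness theorem on `SCN₃`
-/

set_option linter.unusedSectionVars false
set_option linter.unusedVariables false
set_option linter.style.haveILetI false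

namespace Cfsg.Lib.OddLocal.ScnUniqueness

open Subgroup Uniqueness
open FittingParts (O)
open Cfsg.Lib.Coprime (conjMap)
open scoped commutatorElement

universe u

variable {G : Type u} [Group G] [Finite G] {p : ℕ} [hp : Fact p.Prime]

theorem le_derived_of_factor {X K U H : Subgroup G} [Group.IsSolvable X] (hKX : K ≤ X)
    (hXK : X ≤ normalizer (K : Set G)) (hU : U ≤ X) (hXKU : X ≤ K ⊔ U) (hHU : H ≤ U)
    (hcop : (Nat.card H).Coprime (Nat.card K)) (hH : H ≤ ⁅X, X⁆) : H ≤ ⁅U, U⁆ := by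
  haveI : (K.subgroupOf X).Normal := normal_subgroupOf_of_le_normalizer hXK
  have h := (Cfsg.Agent.S1460.result (K.subgroupOf X) (U.subgroupOf X) (H.subgroupOf X)
    (by rw [← subgroupOf_sup hKX hU, subgroupOf_eq_top]; exact hXKU)
    (fun x hx => mem_subgroupOf.mpr (hHU hx))
    (by rwa [Nat.card_congr (subgroupOfEquivOfLe (hHU.trans hU)).toEquiv,
      Nat.card_congr (subgroupOfEquivOfLe hKX).toEquiv])).1
  have hm : ⁅U, U⁆ = (⁅U.subgroupOf X, U.subgroupOf X⁆).map X.subtype := by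
    rw [Subgroup.map_commutator, map_subgroupOf_eq_of_le hU]
  intro x hx
  have hx' := hH hx
  rw [← map_subtype_commutator X] at hx'
  obtain ⟨y, hy, rfl⟩ := hx'
  rw [hm]
  exact ⟨y, (h.le ⟨hx, hy⟩).2, rfl⟩

theorem exists_orderOf {r : ℕ} [hr : Fact r.Prime] {R : Subgroup G} (hR : IsPGroup r R) (h : R ≠ ⊥) :
    ∃ x ∈ R, orderOf x = r := by
  obtain ⟨j, hj⟩ := IsPGroup.iff_card.mp hR
  have hj0 : j ≠ 0 := by
    rintro rfl
    exact h (eq_bot_of_card_eq _ (by rw [hj, pow_zero]))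
  obtain ⟨x, hx⟩ := exists_prime_orderOf_dvd_card' (G := R) r (hj ▸ dvd_pow_self r hj0)
  exact ⟨x, x.2, by rwa [orderOf_coe]⟩

/-- A coprime automorphism group of a cyclic group of prime power order with a fixed point is
trivial. -/
theorem le_centralizer_of_cyclic {r : ℕ} [hr : Fact r.Prime] {C B : Subgroup G} (hC : IsPGroup r C)
    (hcyc : IsCyclic C) (hBC : B ≤ normalizer (C : Set G))
    (hcop : (Nat.card B).Coprime (Nat.card C)) {v : G} (hv : v ∈ C) (hv1 : v ≠ 1)
    (hvB : v ∈ centralizer (B : Set G)) : C ≤ centralizer (B : Set G) := by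
  haveI := hcyc
  haveI : IsMulCommutative C := inferInstance
  obtain ⟨h1, h2⟩ := Cfsg.Lib.Coprime.abelian_coprime_decomp hBC hcop
  by_cases hb : ⁅C, B⁆ = ⊥
  · rw [hb, sup_bot_eq] at h2
    exact h2.ge.trans inf_le_right
  exfalso
  set F := C ⊓ centralizer (B : Set G)
  have hcomm : ⁅C, B⁆ ≤ C := Cfsg.Lib.Coprime.commutator_le_of_le_normalizer hBC
  obtain ⟨x, hx, hxr⟩ := exists_orderOf (hC.to_le (inf_le_left : F ≤ C)) (fun h => hv1
    (mem_bot.mp (h ▸ (⟨hv, hvB⟩ : v ∈ F))))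
  obtain ⟨y, hy, hyr⟩ := exists_orderOf (hC.to_le hcomm) hb
  have hE : zpowers x ⊔ zpowers y ≤ C :=
    sup_le (zpowers_le.mpr hx.1) (zpowers_le.mpr (hcomm hy))
  have hd : zpowers x ⊓ zpowers y = ⊥ :=
    le_bot_iff.mp ((inf_le_inf (zpowers_le.mpr hx) (zpowers_le.mpr hy)).trans h1.le)
  have hn : zpowers y ≤ normalizer (zpowers x : Set G) := zpowers_le.mpr
    (centralizer_le_normalizer _ (mem_centralizer_iff.mpr fun z hz =>
      ThompsonTransitivity.mul_comm_of (G := G) (A := C) inferInstance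
        (zpowers_le.mpr hx.1 hz) (hcomm hy)))
  have hcard : r ^ 2 ≤ Nat.card (zpowers x ⊔ zpowers y : Subgroup G) := by
    rw [Cfsg.Lib.Coprime.card_sup_of_inf_eq_bot hn hd, Nat.card_zpowers, Nat.card_zpowers, hxr, hyr, sq]
  refine not_isCyclic_of_card (fun b hb' => ?_) hcard
    (isCyclic_of_injective (inclusion hE) (inclusion_injective hE))
  obtain ⟨a, ha, c, hc, rfl⟩ := (Cfsg.Lib.Coprime.mem_sup_of_le_normalizer hn).mp hb'
  have hac : Commute a c := ThompsonTransitivity.mul_comm_of (G := G) (A := C) inferInstance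
    (zpowers_le.mpr hx.1 ha) (zpowers_le.mpr (hcomm hy) hc)
  obtain ⟨i, rfl⟩ := ha
  obtain ⟨k, rfl⟩ := hc
  simp only at hac ⊢
  rw [hac.mul_pow, ← zpow_natCast, ← zpow_natCast, zpow_comm x, zpow_comm y, zpow_natCast, zpow_natCast,
    ← hxr, pow_orderOf_eq_one, hxr, ← hyr, pow_orderOf_eq_one, one_zpow, one_zpow, one_mul]

/-- A noncyclic subgroup of `E` with fixed points outside `D`. -/
theorem exists_pair {E R D : Subgroup G} (hE : Cfsg.IsElementaryAbelian p E) (hE3 : p ^ 3 ≤ Nat.card E)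
    (hER : E ≤ normalizer (R : Set G)) (hcop : (Nat.card E).Coprime (Nat.card R)) (hRD : ¬ R ≤ D) :
    ∃ H : Subgroup G, H ≤ E ∧ ¬ IsCyclic H ∧ ¬ R ⊓ centralizer (H : Set G) ≤ D := by
  have hp' := hp.out
  haveI : IsMulCommutative E := hE.1
  have hcomm : ∀ {a b : G}, a ∈ E → b ∈ E → a * b = b * a := fun ha hb =>
    ThompsonTransitivity.mul_comm_of hE.1 ha hb
  have hnorm : ∀ {U V : Subgroup G}, U ≤ E → V ≤ E → V ≤ normalizer (U : Set G) := fun hU hV v hv =>
    centralizer_le_normalizer _ (mem_centralizer_iff.mpr fun u hu => hcomm (hU hu) (hV hv))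
  have hbig : ∀ B : Subgroup G, B ≤ E → p < Nat.card B → ¬ IsCyclic B := by
    intro B hB hlt
    refine not_isCyclic_of_card (fun b hb => hE.2 b (hB hb)) ?_
    obtain ⟨j, hj⟩ := IsPGroup.iff_card.mp ((isPGroup_of_pow hE.2).to_le hB)
    rw [hj] at hlt ⊢
    refine Nat.pow_le_pow_right hp'.pos ?_
    exact (Nat.pow_lt_pow_iff_right hp'.one_lt).mp ((pow_one p).trans_lt hlt)
  have h12 : p < p ^ 2 := lt_self_pow₀ hp'.one_lt one_lt_two
  have h23 : p ^ 2 < p ^ 3 := Nat.pow_lt_pow_right hp'.one_lt (by norm_num)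
  obtain ⟨e, he, he1, heD⟩ := Transitivity.exists_fixed_outside (hbig E le_rfl (by omega)) hER hcop hRD
  obtain ⟨F, -, hF⟩ := Finite.exists_le_maximal (p := fun F : Subgroup G => F ≤ E ∧ e ∉ F) (a := ⊥)
    ⟨bot_le, fun h => he1 (mem_bot.mp h)⟩
  have hcardz : ∀ y ∈ E, Nat.card (zpowers y) ≤ p := fun y hy => by
    rw [Nat.card_zpowers]
    exact Nat.le_of_dvd hp'.pos (orderOf_dvd_of_pow_eq_one (hE.2 y hy))
  have hFp : p < Nat.card F := by
    by_contra hle
    push Not at hle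
    obtain ⟨y, hy, hy'⟩ : ∃ y ∈ E, y ∉ F ⊔ zpowers e := by
      by_contra hall
      push Not at hall
      have h1 := Nat.le_of_dvd Nat.card_pos (card_dvd_of_le hall)
      have h2 := Cfsg.Lib.Coprime.card_sup_mul_card_inf (N := F) (H := zpowers e)
        (hnorm hF.prop.1 (zpowers_le.mpr he))
      have h3 := Nat.le_mul_of_pos_right (Nat.card (F ⊔ zpowers e : Subgroup G))
        (Nat.card_pos (α := (F ⊓ zpowers e : Subgroup G)))
      have h4 := Nat.mul_le_mul hle (hcardz e he)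
      rw [← sq] at h4
      omega
    have hey : e ∈ F ⊔ zpowers y := by
      by_contra hne
      exact hy' (mem_sup_left (hF.le_of_ge ⟨sup_le hF.prop.1 (zpowers_le.mpr hy), hne⟩ le_sup_left
        (mem_sup_right (mem_zpowers y))))
    obtain ⟨f, hf, w, hw, hfw⟩ := (Cfsg.Lib.Coprime.mem_sup_of_le_normalizer
      (hnorm hF.prop.1 (zpowers_le.mpr hy))).mp hey
    have hw1 : w ≠ 1 := fun h => hF.prop.2 (by rw [← hfw, h, mul_one]; exact hf)
    have hy1 : y ≠ 1 := fun h => hy' (h ▸ one_mem _)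
    have hwy : zpowers w = zpowers y := eq_of_le_of_card_ge (zpowers_le.mpr hw) (by
      rw [Nat.card_zpowers, Nat.card_zpowers, orderOf_eq_prime (hE.2 y hy) hy1,
        orderOf_eq_prime (hE.2 w (zpowers_le.mpr hy hw)) hw1])
    have hwm : w ∈ F ⊔ zpowers e := by
      rw [show w = f⁻¹ * e by rw [← hfw, inv_mul_cancel_left]]
      exact mul_mem (inv_mem (mem_sup_left hf)) (mem_sup_right (mem_zpowers e))
    exact hy' (zpowers_le.mpr hwm (hwy ▸ mem_zpowers y))
  have hER' : E ≤ normalizer ((R ⊓ centralizer ({e} : Set G) : Subgroup G) : Set G) :=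
    Cfsg.Lib.Coprime.le_normalizer_inf hER fun x hx =>
      le_normalizer (mem_centralizer_singleton_iff.mpr (hcomm hx he))
  haveI : IsMulCommutative F := ⟨⟨fun a b => Subtype.ext (hcomm (hF.prop.1 a.2) (hF.prop.1 b.2))⟩⟩
  obtain ⟨f, hf, hf1, hfD⟩ := Transitivity.exists_fixed_outside (hbig F hF.prop.1 hFp)
    (hF.prop.1.trans hER') ((hcop.coprime_dvd_left (card_dvd_of_le hF.prop.1)).coprime_dvd_right
      (card_dvd_of_le inf_le_left)) heD
  refine ⟨zpowers e ⊔ zpowers f, sup_le (zpowers_le.mpr he) (zpowers_le.mpr (hF.prop.1 hf)),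
    hbig _ (sup_le (zpowers_le.mpr he) (zpowers_le.mpr (hF.prop.1 hf))) ?_, fun hle => hfD ?_⟩
  · have h7 : zpowers f < zpowers e ⊔ zpowers f := lt_of_le_of_ne le_sup_right fun h =>
      hF.prop.2 (zpowers_le.mpr hf (h.symm ▸ mem_sup_left (mem_zpowers e) : e ∈ zpowers f))
    have h8 : Nat.card (zpowers f) < Nat.card (zpowers e ⊔ zpowers f : Subgroup G) :=
      lt_of_le_of_ne (Nat.le_of_dvd Nat.card_pos (card_dvd_of_le h7.le))
        fun h => h7.ne (eq_of_le_of_card_ge h7.le h.ge)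
    rwa [Nat.card_zpowers, orderOf_eq_prime (hE.2 f (hF.prop.1 hf)) hf1] at h8
  · intro x hx
    refine hle ⟨hx.1.1, mem_centralizer_iff.mpr fun z hz => ?_⟩
    have h9 : zpowers e ⊔ zpowers f ≤ centralizer ({x} : Set G) := sup_le
      (zpowers_le.mpr (mem_centralizer_singleton_iff.mpr (mem_centralizer_singleton_iff.mp hx.1.2).symm))
      (zpowers_le.mpr (mem_centralizer_singleton_iff.mpr (mem_centralizer_singleton_iff.mp hx.2).symm))
    exact mem_centralizer_singleton_iff.mp (h9 hz)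

/-- The Fitting rank is attained in the `r`-core. -/
theorem not_pRankLE_core {r : ℕ} [hr : Fact r.Prime] {M : Subgroup G}
    (h : ¬ Cfsg.PRankLE r 2 (Cfsg.fittingOf M)) : ¬ Cfsg.PRankLE r 2 (O r M) := by
  obtain ⟨E, hEF, hE, hEc⟩ := exists_elementary h
  refine not_pRankLE_of hE (fun c hc => ?_) hEc
  obtain ⟨a, b, ha, haz, hab, hbr, -⟩ := FittingParts.split (r := r) (hEF hc)
  have hb : b ∈ zpowers c := by
    rw [show b = a⁻¹ * c by rw [← hab, inv_mul_cancel_left]]
    exact mul_mem (inv_mem haz) (mem_zpowers c)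
  have hbE : b ∈ E := zpowers_le.mpr hc hb
  have : orderOf b = 1 := Nat.eq_one_of_dvd_coprimes hbr dvd_rfl (orderOf_dvd_of_pow_eq_one (hE.2 b hbE))
  rw [← hab, orderOf_eq_one_iff.mp this, mul_one]
  exact ha

/-- A subgroup with `P ≤ M'` has a prime of Fitting rank three. -/
theorem exists_core_rank (hG : Cfsg.IsMinSimpleOddOrder G) {P M : Subgroup G} (hM : IsCoatom M)
    (hP3 : ¬ Cfsg.PRankLE p 2 P) (hPM : P ≤ ⁅M, M⁆) (hFp : Cfsg.PRankLE p 2 (Cfsg.fittingOf M)) :
    ∃ r : ℕ, r.Prime ∧ r ≠ p ∧ ¬ Cfsg.PRankLE r 2 (O r M) := by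
  by_contra hall
  push Not at hall
  haveI := hG.2.2.2 M hM.1
  have hF : ∀ q : ℕ, q.Prime → Cfsg.PRankLE q 2 (Cfsg.fittingOf M) := fun q hq => by
    haveI := Fact.mk hq
    by_cases hqp : q = p
    · exact hqp ▸ hFp
    · by_contra h
      exact not_pRankLE_core h (hall q hq hqp)
  have hr : Cfsg.RankLE 2 (Cfsg.fittingSubgroup M) := fun q hq =>
    haveI := Fact.mk hq
    Cfsg.Lib.OddP.pRankLE_of_injective
      ((Cfsg.fittingSubgroup M).equivMapOfInjective M.subtype M.subtype_injective).toMonoidHom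
      (MulEquiv.injective _) (hF q hq)
  obtain ⟨hnil, -⟩ := Cfsg.Agent.S1451.result (hG.1.of_dvd_nat (card_subgroup_dvd_card M)) (Or.inr hr)
  obtain ⟨E, hEP, hE, hEc⟩ := exists_elementary hP3
  refine not_pRankLE_of hE ?_ hEc hFp
  refine (hEP.trans hPM).trans ?_
  rw [← map_subtype_commutator M]
  exact map_mono (Cfsg.Lib.Components.le_fitting hnil)

/-- A fixed noncyclic subgroup gives a fixed one of order `r²` with centralizer of rank three. -/
theorem exists_fixed_sq_group {r : ℕ} [hr : Fact r.Prime] (hr2 : r ≠ 2) {R : Subgroup G} (hR : IsPGroup r R)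
    (h3 : ¬ Cfsg.PRankLE r 2 R) {X : Subgroup G} (hXR : X ≤ normalizer (R : Set G))
    (hcop : (Nat.card X).Coprime r) (hnc : ¬ IsCyclic (R ⊓ centralizer (X : Set G) : Subgroup G)) :
    ∃ B E : Subgroup G, B ≤ R ∧ B ≤ centralizer (X : Set G) ∧ E ≤ R ∧
      Cfsg.IsElementaryAbelian r B ∧ r ^ 2 ≤ Nat.card B ∧
      Cfsg.IsElementaryAbelian r E ∧ r ^ 3 ≤ Nat.card E ∧ B ≤ centralizer (E : Set G) := by
  obtain ⟨B, hBC, -, hB, hBc⟩ := exists_normal_sq hr2 (hR.to_le inf_le_left) hnc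
  have hBR : B ≤ R := hBC.trans inf_le_left
  by_cases hmax : ∀ F : Subgroup G, F ≤ R → Cfsg.IsElementaryAbelian r F → B ≤ F → F = B
  swap
  · push Not at hmax
    obtain ⟨F, hFR, hF, hBF, hne⟩ := hmax
    refine ⟨B, F, hBR, hBC.trans inf_le_right, hFR, hB, hBc.ge, hF, ?_, fun b hb =>
      mem_centralizer_iff.mpr fun f hf => ThompsonTransitivity.mul_comm_of hF.1 hf (hBF hb)⟩
    obtain ⟨j, hj⟩ := IsPGroup.iff_card.mp (isPGroup_of_pow hF.2 : IsPGroup r F)
    have h1 : Nat.card B < Nat.card F := lt_of_le_of_ne (Nat.le_of_dvd Nat.card_pos (card_dvd_of_le hBF))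
      fun h => hne (eq_of_le_of_card_ge hBF h.ge).symm
    rw [hBc, hj] at h1
    rw [hj]
    exact Nat.pow_le_pow_right hr.out.pos ((Nat.pow_lt_pow_iff_right hr.out.one_lt).mp h1)
  set S := {x : R | x ∈ Subgroup.upperCentralSeries R 2 ∧ x ^ r = 1}
  have hB' : Cfsg.IsElementaryAbelian r (B.subgroupOf R) :=
    ⟨⟨⟨fun a b => Subtype.ext (Subtype.ext (ThompsonTransitivity.mul_comm_of hB.1 a.2 b.2))⟩⟩,
      fun x hx => Subtype.ext (by simpa using hB.2 x hx)⟩
  obtain ⟨-, -, ⟨hW, hWc⟩, -, -⟩ := Cfsg.Agent.S1453.result r hr2 hR h3 (B.subgroupOf R) hB'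
    (by rw [Nat.card_congr (subgroupOfEquivOfLe hBR).toEquiv, hBc]) fun F hF hBF => by
      have h1 := hmax (F.map R.subtype) (map_subtype_le _)
        (Cfsg.Lib.OddP.isElementaryAbelian_map hF _) fun b hb => ⟨⟨b, hBR hb⟩, hBF hb, rfl⟩
      rw [← h1, subgroupOf, comap_map_eq_self_of_injective R.subtype_injective]
  set W : Subgroup R := closure S with hWdef
  have hWm : ∀ x ∈ W, x ∈ S := fun x hx =>
    ⟨closure_le (Subgroup.upperCentralSeries R 2) |>.mpr (fun y hy => hy.1) hx, hW.2 x hx⟩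
  haveI hWn : W.Normal := ⟨fun x hx g => subset_closure ⟨Normal.conj_mem inferInstance x (hWm x hx).1 g,
    by rw [conj_pow, (hWm x hx).2, mul_one, mul_inv_cancel]⟩⟩
  obtain ⟨A, hWA, hAn, hAc, hA3⟩ := Cfsg.Agent.S1452.result r hr2 hR h3 W hW hWc
  obtain ⟨E', hE'A, hE', hE'c⟩ := exists_elementary hA3
  refine ⟨W.map R.subtype, E'.map R.subtype, map_subtype_le _, ?_, map_subtype_le _,
    Cfsg.Lib.OddP.isElementaryAbelian_map hW _, by
      rw [card_map_of_injective R.subtype_injective, hWc],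
    Cfsg.Lib.OddP.isElementaryAbelian_map hE' _, by rwa [card_map_of_injective R.subtype_injective], ?_⟩
  swap
  · rintro _ ⟨w, hw, rfl⟩
    refine mem_centralizer_iff.mpr ?_
    rintro _ ⟨f, hf, rfl⟩
    have h1 := hAc.ge (hWA hw)
    exact congrArg Subtype.val (mem_centralizer_iff.mp h1 f (hE'A hf))
  rintro _ ⟨e, he, rfl⟩
  refine mem_centralizer_iff.mpr fun a ha => ?_
  have haR := hXR ha
  set σ := R.normalizerMonoidHom ⟨a, haR⟩ with hσ
  have hσv : ∀ x : R, (σ x : G) = a * x * a⁻¹ := fun x => rfl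
  have hσe : σ e ∈ W := by
    refine subset_closure ⟨?_, by rw [← map_pow, (hWm e he).2, map_one]⟩
    have h := (Subgroup.characteristic_iff_comap_eq.mp
      (inferInstance : (Subgroup.upperCentralSeries R 2).Characteristic) σ)
    exact (SetLike.ext_iff.mp h e).mpr (hWm e he).1
  set z := σ e * e⁻¹ with hz
  have hzW : z ∈ W := mul_mem hσe (inv_mem he)
  have hzr : z ^ r = 1 := hW.2 z hzW
  have hzB : (z : G) ∈ B := by
    have hfix : ∀ y : R, (y : G) ∈ B → σ y = y := fun y hy => Subtype.ext (by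
      rw [hσv, mem_centralizer_iff.mp (hBC hy).2 a ha, mul_inv_cancel_right])
    have hcomm : ∀ y : R, (y : G) ∈ B → y * z = z * y := by
      intro y hy
      set c := ⁅y, e⁆ with hc
      have hce : c ∈ center R := by
        rw [← Subgroup.upperCentralSeries_one (G := R), hc, ← commutatorElement_inv]
        exact inv_mem (Subgroup.mem_upperCentralSeries_succ_iff.mp (hWm e he).1 y)
      have hcW : c ∈ W := mul_mem (hWn.conj_mem e he y) (inv_mem he)
      have hcB : (c : G) ∈ B := by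
        have hc' : (c : G) ^ r = 1 := by
          have := congrArg (Subtype.val : R → G) (hW.2 c hcW)
          rwa [SubgroupClass.coe_pow, OneMemClass.coe_one] at this
        have hcc : ∀ b ∈ B, b * (c : G) = c * b := fun b hb =>
          congrArg Subtype.val (mem_center_iff.mp hce ⟨b, hBR hb⟩)
        have hn : zpowers (c : G) ≤ normalizer (B : Set G) := zpowers_le.mpr
          (centralizer_le_normalizer _ (mem_centralizer_iff.mpr hcc))
        have hF : Cfsg.IsElementaryAbelian r (B ⊔ zpowers (c : G) : Subgroup G) := by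
          have hcom : ∀ b ∈ B, ∀ k : ℤ, Commute b ((c : G) ^ k) := fun b hb k =>
            Commute.zpow_right (hcc b hb) k
          refine ⟨⟨⟨?_⟩⟩, ?_⟩
          · rintro ⟨_, h₁⟩ ⟨_, h₂⟩
            obtain ⟨b₁, hb₁, w₁, hw₁, rfl⟩ := (Cfsg.Lib.Coprime.mem_sup_of_le_normalizer hn).mp h₁
            obtain ⟨b₂, hb₂, w₂, hw₂, rfl⟩ := (Cfsg.Lib.Coprime.mem_sup_of_le_normalizer hn).mp h₂
            obtain ⟨i, rfl⟩ := hw₁
            obtain ⟨k, rfl⟩ := hw₂
            apply Subtype.ext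
            simp only [Subgroup.coe_mul]
            have e1 : Commute b₁ b₂ := ThompsonTransitivity.mul_comm_of hB.1 hb₁ hb₂
            exact ((e1.mul_right (hcom b₁ hb₁ k)).mul_left
              (((hcom b₂ hb₂ i).symm).mul_right (Commute.zpow_zpow (Commute.refl _) i k))).eq
          · intro x hx
            obtain ⟨b, hb, w, hw, rfl⟩ := (Cfsg.Lib.Coprime.mem_sup_of_le_normalizer hn).mp hx
            obtain ⟨i, rfl⟩ := hw
            rw [(hcom b hb i).mul_pow, hB.2 b hb, one_mul, ← zpow_natCast, zpow_comm, zpow_natCast, hc',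
              one_zpow]
        rw [← hmax _ (sup_le hBR (zpowers_le.mpr c.2)) hF le_sup_left]
        exact mem_sup_right (mem_zpowers _)
      have h1 : y * e * y⁻¹ = c * e := by rw [hc, commutatorElement_def]; group
      have h2 : y * σ e * y⁻¹ = c * σ e := by
        have := congrArg σ h1
        rwa [map_mul, map_mul, map_mul, map_inv, hfix y hy, hfix c hcB] at this
      have h3 : y * z * y⁻¹ = z := by
        calc y * z * y⁻¹ = (y * σ e * y⁻¹) * (y * e * y⁻¹)⁻¹ := by rw [hz]; group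
          _ = c * (σ e * e⁻¹) * c⁻¹ := by rw [h1, h2]; group
          _ = z := by rw [← hz, ← mem_center_iff.mp hce z, mul_inv_cancel_right]
      exact mul_inv_eq_iff_eq_mul.mp h3
    have hn : zpowers (z : G) ≤ normalizer (B : Set G) := zpowers_le.mpr
      (centralizer_le_normalizer _ (mem_centralizer_iff.mpr fun b hb =>
        congrArg Subtype.val (hcomm ⟨b, hBR hb⟩ hb)))
    have hzr' : (z : G) ^ r = 1 := by
      have := congrArg (Subtype.val : R → G) hzr
      rwa [SubgroupClass.coe_pow, OneMemClass.coe_one] at this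
    have hzc : ∀ b ∈ B, ∀ k : ℤ, Commute b ((z : G) ^ k) := fun b hb k =>
      Commute.zpow_right (congrArg Subtype.val (hcomm ⟨b, hBR hb⟩ hb) :) k
    have hF : Cfsg.IsElementaryAbelian r (B ⊔ zpowers (z : G) : Subgroup G) := by
      refine ⟨⟨⟨?_⟩⟩, ?_⟩
      · rintro ⟨_, h₁⟩ ⟨_, h₂⟩
        obtain ⟨b₁, hb₁, w₁, hw₁, rfl⟩ := (Cfsg.Lib.Coprime.mem_sup_of_le_normalizer hn).mp h₁
        obtain ⟨b₂, hb₂, w₂, hw₂, rfl⟩ := (Cfsg.Lib.Coprime.mem_sup_of_le_normalizer hn).mp h₂
        obtain ⟨i, rfl⟩ := hw₁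
        obtain ⟨k, rfl⟩ := hw₂
        apply Subtype.ext
        simp only [Subgroup.coe_mul]
        have e1 : Commute b₁ b₂ := ThompsonTransitivity.mul_comm_of hB.1 hb₁ hb₂
        exact ((e1.mul_right (hzc b₁ hb₁ k)).mul_left
          (((hzc b₂ hb₂ i).symm).mul_right (Commute.zpow_zpow (Commute.refl _) i k))).eq
      · intro x hx
        obtain ⟨b, hb, w, hw, rfl⟩ := (Cfsg.Lib.Coprime.mem_sup_of_le_normalizer hn).mp hx
        obtain ⟨i, rfl⟩ := hw
        rw [(hzc b hb i).mul_pow, hB.2 b hb, one_mul, ← zpow_natCast, zpow_comm, zpow_natCast, hzr',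
          one_zpow]
    rw [← hmax _ (sup_le hBR (zpowers_le.mpr z.2)) hF le_sup_left]
    exact mem_sup_right (mem_zpowers _)
  have hza : a * (z : G) = z * a := mem_centralizer_iff.mp (hBC hzB).2 a ha
  have hae : a * (e : G) * a⁻¹ = z * e := by
    rw [← hσv, ← Subgroup.coe_mul, hz, inv_mul_cancel_right]
  have hit : ∀ n : ℕ, a ^ n * (e : G) * (a ^ n)⁻¹ = (z : G) ^ n * e := by
    intro n
    induction n with
    | zero => simp
    | succ n ih =>
      calc a ^ (n + 1) * (e : G) * (a ^ (n + 1))⁻¹ = a * (a ^ n * e * (a ^ n)⁻¹) * a⁻¹ := by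
            rw [pow_succ']; group
        _ = (a * (z : G) ^ n) * e * a⁻¹ := by rw [ih]; group
        _ = ((z : G) ^ n * a) * e * a⁻¹ := by rw [(Commute.pow_right hza n).eq]
        _ = (z : G) ^ n * (a * e * a⁻¹) := by group
        _ = _ := by rw [hae, pow_succ]; group
  have hzp := hit (orderOf a)
  rw [pow_orderOf_eq_one, inv_one, mul_one, one_mul] at hzp
  have hz1 : (z : G) = 1 := by
    have h1 : (z : G) ^ orderOf a = 1 := by simpa using hzp.symm
    have h2 : (z : G) ^ r = 1 := hB.2 _ hzB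
    have h4 := (pow_gcd_eq_one (a := (z : G)) (m := orderOf a) (n := r)).mpr ⟨h1, h2⟩
    have h5 : (orderOf a).Coprime r := hcop.coprime_dvd_left
      ((orderOf_coe (⟨a, ha⟩ : X)).symm ▸ orderOf_dvd_natCard (⟨a, ha⟩ : X))
    rwa [h5, pow_one] at h4
  rw [hz1, one_mul] at hae
  exact mul_inv_eq_iff_eq_mul.mp hae

/-- A fixed noncyclic subgroup gives a fixed one of order `r²` with centralizer of rank three. -/
theorem exists_fixed_sq {r : ℕ} [hr : Fact r.Prime] (hr2 : r ≠ 2) {R : Subgroup G} (hR : IsPGroup r R)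
    (h3 : ¬ Cfsg.PRankLE r 2 R) {a : G} (haR : a ∈ normalizer (R : Set G)) (hap : a ^ p = 1)
    (hpr : p ≠ r) (hnc : ¬ IsCyclic (R ⊓ centralizer ({a} : Set G) : Subgroup G)) :
    ∃ B E : Subgroup G, B ≤ R ∧ B ≤ centralizer ({a} : Set G) ∧ E ≤ R ∧
      Cfsg.IsElementaryAbelian r B ∧ r ^ 2 ≤ Nat.card B ∧
      Cfsg.IsElementaryAbelian r E ∧ r ^ 3 ≤ Nat.card E ∧ B ≤ centralizer (E : Set G) := by
  rw [← Cfsg.Lib.Coprime.centralizer_zpowers] at hnc ⊢
  refine exists_fixed_sq_group hr2 hR h3 (zpowers_le.mpr haR) ?_ hnc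
  rw [Nat.card_zpowers]
  exact ((Nat.coprime_primes hp.out hr.out).mpr hpr).coprime_dvd_left (orderOf_dvd_of_pow_eq_one hap)

end Cfsg.Lib.OddLocal.ScnUniqueness
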