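import Cfsg.Agent.OddLocal.ScnBasics

/-!
# The uniqueness theorem for `SCN₃`
-/

set_option linter.unusedSectionVars false
set_option linter.unusedVariables false
set_option linter.style.haveILetI false

namespace Cfsg.Lib.OddLocal.ScnUniqueness

open Subgroup Uniqueness
open FittingParts (O)
open MinSimpleTransitivity (K)
open Cfsg.Lib.Coprime (conjMap)
open scoped commutatorElement

universe u

variable {G : Type u} [Group G] [Finite G] {p : ℕ} [hp : Fact p.Prime]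

/-- The standing hypotheses. -/
structure Hyp (p : ℕ) (P : Sylow p G) (A : Subgroup G) : Prop where
  hG : Cfsg.IsMinSimpleOddOrder G
  scn : Cfsg.IsSCN (P : Subgroup G) A
  rank : ¬ Cfsg.PRankLE p 2 A

/-- A maximal subgroup with its prime. -/
structure Anchor (A M : Subgroup G) (r : ℕ) : Prop where
  coatom : IsCoatom M
  le : A ≤ M
  prime : r.Prime
  rank : ¬ Cfsg.PRankLE r 2 (O r M)
  core_le : K A ≤ M
  inv_le : ∀ Y : Subgroup G, IsPGroup r Y → A ≤ normalizer (Y : Set G) → Y ≤ M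
  norm_le : ∀ Q ∈ Cfsg.maxInvSubgroups ⊤ A {r}, normalizer (Q : Set G) ≤ M
  unique : ∀ E : Subgroup G, Cfsg.IsElementaryAbelian r E → r ^ 3 ≤ Nat.card E → Cfsg.InUniqueMaximal E

variable {P : Sylow p G} {A : Subgroup G}

namespace Hyp

variable (h : Hyp p P A)
include h

theorem le : A ≤ (P : Subgroup G) := h.scn.1

theorem comm : IsMulCommutative A := mul_comm_of_scn h.scn

theorem isPGroup : IsPGroup p A := P.2.to_le h.le

theorem rankP : ¬ Cfsg.PRankLE p 2 (P : Subgroup G) := fun hr =>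
  h.rank (Cfsg.Lib.OddP.pRankLE_of_injective (inclusion h.le) (inclusion_injective _) hr)

theorem ne_bot : A ≠ ⊥ := fun h0 => h.rank fun B _ _ => by
  have h1 := Nat.le_of_dvd Nat.card_pos (card_subgroup_dvd_card B)
  have h2 : Nat.card A = 1 := by rw [h0, Subgroup.card_bot]
  rw [h2] at h1
  exact h1.trans (Nat.one_le_pow _ _ hp.out.pos)

theorem pow_card : ∃ j, Nat.card A = p ^ j ∧ j ≠ 0 := by
  obtain ⟨j, hj⟩ := IsPGroup.iff_card.mp h.isPGroup
  exact ⟨j, hj, fun h0 => h.ne_bot (eq_bot_of_card_eq _ (by rw [hj, h0, pow_zero]))⟩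

theorem dvd_card : p ∣ Nat.card A := by
  obtain ⟨j, hj, hj0⟩ := h.pow_card
  exact hj ▸ dvd_pow_self p hj0

theorem ne_two : p ≠ 2 := Uniqueness.ne_two h.hG h.isPGroup h.ne_bot

theorem ne_two' {r : ℕ} [Fact r.Prime] {Q : Subgroup G} (hQ : IsPGroup r Q) (hQ1 : Q ≠ ⊥) : r ≠ 2 :=
  Uniqueness.ne_two h.hG hQ hQ1

theorem ne_top : A ≠ ⊤ := fun ht => by
  have := h.comm
  exact h.hG.2.2.1 ⟨⟨fun a b => ThompsonTransitivity.mul_comm_of this (ht ▸ mem_top a) (ht ▸ mem_top b)⟩⟩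

theorem sylow_ne_bot : (P : Subgroup G) ≠ ⊥ := fun h0 => h.ne_bot (le_bot_iff.mp (h0 ▸ h.le))

theorem trans_hyp : Cfsg.TransitivityHypothesis A := by
  refine MinSimpleTransitivity.hypothesis_of_abelian h.hG ?_ h.isPGroup h.comm
    (Or.inr ⟨P, h.scn, fun hr => h.rank fun B hB hBp =>
      (hr B hB hBp).trans (Nat.pow_le_pow_right hp.out.pos one_le_two)⟩)
  exact h.dvd_card.trans (card_subgroup_dvd_card A)

theorem not_dvd {q : ℕ} (hq : q.Prime) (hqp : q ≠ p) : ¬ q ∣ Nat.card A := fun hd => by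
  obtain ⟨j, hj, -⟩ := h.pow_card
  exact hqp ((Nat.prime_dvd_prime_iff_eq hq hp.out).mp (hq.dvd_of_dvd_pow (hj ▸ hd)))

theorem coprime_of_pgroup {q : ℕ} [Fact q.Prime] (hqp : q ≠ p) {Y : Subgroup G} (hY : IsPGroup q Y) :
    (Nat.card A).Coprime (Nat.card Y) :=
  MinSimpleTransitivity.coprime_of_isPGroup (h.not_dvd Fact.out hqp) hY

theorem coprime_sylow {X : Subgroup G} (hX : (Nat.card A).Coprime (Nat.card X)) :
    (Nat.card (P : Subgroup G)).Coprime (Nat.card X) := by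
  obtain ⟨i, hi⟩ := IsPGroup.iff_card.mp P.2
  rw [hi]
  exact (hX.coprime_dvd_left h.dvd_card).pow_left i

theorem transitive {q : ℕ} [Fact q.Prime] (hqp : q ≠ p) :
    ∀ Q₁ ∈ Cfsg.maxInvSubgroups ⊤ A {q}, ∀ Q₂ ∈ Cfsg.maxInvSubgroups ⊤ A {q},
      Transitivity.ConjUnder (K A) Q₁ Q₂ :=
  MinSimpleTransitivity.transitive_rank_three h.hG h.trans_hyp (not_rankLE_center h.comm h.rank)
    (h.not_dvd Fact.out hqp)

theorem exists_elem : ∃ E : Subgroup G, E ≤ A ∧ Cfsg.IsElementaryAbelian p E ∧ p ^ 3 ≤ Nat.card E :=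
  exists_elementary h.rank

theorem exists_anchor (hAU : ¬ Cfsg.InUniqueMaximal A) {M : Subgroup G} (hM : IsCoatom M)
    (hPM : (P : Subgroup G) ≤ M) (hPd : (P : Subgroup G) ≤ ⁅M, M⁆) :
    ∃ r : ℕ, r ≠ p ∧ Anchor A M r := by
  obtain ⟨r, hr, hrp, hr3⟩ := exists_core_rank h.hG hM h.rankP hPd (by
    by_contra hF
    exact hAU (unique_of_fitting h.hG hM hF h.isPGroup h.comm h.rank))
  haveI := Fact.mk hr
  set R := O r M with hR
  have hRp : IsPGroup r R := FittingParts.isPGroup M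
  have hFr : ¬ Cfsg.PRankLE r 2 (Cfsg.fittingOf M) := fun hF => hr3
    (Cfsg.Lib.OddP.pRankLE_of_injective (inclusion (FittingParts.le_fittingOf M))
      (inclusion_injective _) hF)
  have hU : ∀ E : Subgroup G, Cfsg.IsElementaryAbelian r E → r ^ 3 ≤ Nat.card E →
      Cfsg.InUniqueMaximal E := fun E hE hEc =>
    unique_of_fitting h.hG hM hFr (isPGroup_of_pow hE.2) hE.1 (not_pRankLE_of hE le_rfl hEc)
  obtain ⟨E, hER, hE, hEc⟩ := exists_elementary hr3
  have hR1 : R ≠ ⊥ := fun h0 => by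
    rw [h0, le_bot_iff] at hER
    rw [hER, Subgroup.card_bot] at hEc
    exact absurd hEc (not_le.mpr (Nat.one_lt_pow (by norm_num) hr.one_lt))
  have hr2 : r ≠ 2 := h.ne_two' hRp hR1
  have hAM : A ≤ M := h.le.trans hPM
  have hAR : A ≤ normalizer (R : Set G) := hAM.trans (PiCoreOf.le_normalizer' _ M)
  obtain ⟨E₀, hE₀A, hE₀, hE₀c⟩ := h.exists_elem
  haveI := hE₀.1
  have hcop : (Nat.card E₀).Coprime (Nat.card R) :=
    (h.coprime_of_pgroup hrp hRp).coprime_dvd_left (card_dvd_of_le hE₀A)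
  -- an element with noncyclic fixed points
  obtain ⟨a, ha, ha1, hnc⟩ : ∃ a ∈ E₀, a ≠ 1 ∧ ¬ IsCyclic (R ⊓ centralizer ({a} : Set G) : Subgroup G) := by
    by_contra hall
    push Not at hall
    obtain ⟨H, hHE, hHnc, hHD⟩ := exists_pair hE₀ hE₀c (hE₀A.trans hAR) hcop (D := ⊥)
      (fun hle => hR1 (le_bot_iff.mp hle))
    obtain ⟨v, hv, hv1⟩ : ∃ v ∈ R ⊓ centralizer (H : Set G), v ≠ 1 := by
      by_contra h0
      push Not at h0
      exact hHD fun x hx => mem_bot.mpr (h0 x hx)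
    haveI : IsMulCommutative H :=
      ⟨⟨fun a b => Subtype.ext (ThompsonTransitivity.mul_comm_of hE₀.1 (hHE a.2) (hHE b.2))⟩⟩
    have hHR : H ≤ normalizer (R : Set G) := (hHE.trans hE₀A).trans hAR
    have hfix : R ≤ centralizer (H : Set G) := by
      conv_lhs => rw [← Cfsg.Lib.Coprime.centralizerJoin_eq hHnc hHR
        (hcop.coprime_dvd_left (card_dvd_of_le hHE))]
      refine iSup₂_le fun b hb => le_trans ?_ (inf_le_right (a := R) (b := centralizer (H : Set G)))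
      refine le_inf inf_le_left ?_
      refine le_centralizer_of_cyclic (hRp.to_le inf_le_left) (hall b (hHE hb.1) hb.2) ?_
        ((hcop.coprime_dvd_left (card_dvd_of_le hHE)).coprime_dvd_right (card_dvd_of_le inf_le_left))
        (v := v) ⟨hv.1, mem_centralizer_singleton_iff.mpr (mem_centralizer_iff.mp hv.2 b hb.1).symm⟩ hv1 hv.2
      exact Cfsg.Lib.Coprime.le_normalizer_inf hHR fun x hx => le_normalizer
        (mem_centralizer_singleton_iff.mpr (setLike_mul_comm hx hb.1))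
    obtain ⟨b, hb, hb1⟩ : ∃ b ∈ H, b ≠ 1 := by
      by_contra h0
      push Not at h0
      rw [(eq_bot_iff_forall _).mpr h0] at hHnc
      exact hHnc inferInstance
    have hcyc := hall b (hHE hb) hb1
    rw [inf_eq_left.mpr (hfix.trans (centralizer_le (Set.singleton_subset_iff.mpr hb)))] at hcyc
    exact not_isCyclic_of_card hE.2 ((Nat.pow_le_pow_right hr.pos (by norm_num)).trans hEc)
      (haveI := hcyc; isCyclic_of_injective (inclusion hER) (inclusion_injective hER))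
  obtain ⟨B, E', hBR, hBa, hE'R, hB, hBc, hE', hE'c, hBE⟩ :=
    exists_fixed_sq hr2 hRp hr3 (hAR (hE₀A ha)) (hE₀.2 a ha) hrp.symm hnc
  have hBU : Cfsg.InUniqueMaximal B :=
    unique_of_centralizes h.hG (hU E' hE' hE'c) hBE le_rfl hB hBc
  have hRM : R ≤ M := PiCoreOf.le _ M
  have hCM : centralizer ({a} : Set G) ≤ M := le_of_unique hBU hM (hBR.trans hRM)
    (MinSimpleTransitivity.centralizer_singleton_ne_top h.hG ha1) hBa
  have hKM : K A ≤ M := (PiCoreOf.le _ _).trans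
    ((centralizer_le (Set.singleton_subset_iff.mpr (hE₀A ha))).trans hCM)
  obtain ⟨Q₀, hQ₀, hRQ₀⟩ := Transitivity.exists_max (A := A) hRp hAR
  have hQ₀t : Q₀ ≠ ⊤ := fun ht => by
    have h1 := (Transitivity.mem_inv_iff.mp hQ₀.1).1
    rw [ht] at h1
    exact h.ne_bot (eq_bot_of_card_eq A (Nat.eq_one_of_dvd_coprimes
      (h.coprime_of_pgroup hrp h1) dvd_rfl (card_dvd_of_le le_top)))
  have hQ₀M : Q₀ ≤ M :=
    le_of_unique (hU E hE hEc) hM (hER.trans hRM) hQ₀t (hER.trans hRQ₀)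
  have hkM : ∀ {k : G}, k ∈ K A → conjMap k M = M := fun hk =>
    Cfsg.Lib.Coprime.conjMap_eq_self (le_normalizer (hKM hk))
  refine ⟨r, hrp, hM, hAM, hr, hr3, hKM, ?_, ?_, hU⟩
  · intro Y hY hAY
    obtain ⟨Q, hQ, hYQ⟩ := Transitivity.exists_max (A := A) hY hAY
    obtain ⟨k, hk, rfl⟩ := h.transitive hrp Q₀ hQ₀ Q hQ
    exact hYQ.trans ((Cfsg.Lib.Coprime.conjMap_mono hQ₀M).trans (hkM hk).le)
  · intro Q hQ
    obtain ⟨k, hk, rfl⟩ := h.transitive hrp Q₀ hQ₀ Q hQ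
    have hEQ : conjMap k E ≤ conjMap k Q₀ := Cfsg.Lib.Coprime.conjMap_mono (hER.trans hRQ₀)
    have hQM : conjMap k Q₀ ≤ M := (Cfsg.Lib.Coprime.conjMap_mono hQ₀M).trans (hkM hk).le
    refine le_of_unique (unique_conj (hU E hE hEc) k) hM (hEQ.trans hQM) ?_ (hEQ.trans le_normalizer)
    refine MinSimpleTransitivity.normalizer_ne_top h.hG ?_ (FittingUniqueness.ne_top_of_le_coatom hM hQM)
    intro h0
    exact ne_bot_of_unique h.hG (unique_conj (hU E hE hEc) k) (le_bot_iff.mp (h0 ▸ hEQ))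

theorem exists_factor {M : Subgroup G} (hM : IsCoatom M) (hPM : (P : Subgroup G) ≤ M)
    (hPd : (P : Subgroup G) ≤ ⁅M, M⁆) :
    ∃ T : Subgroup G, T ≤ (P : Subgroup G) ∧ A ≤ T ∧ (P : Subgroup G) ≤ normalizer (T : Set G) ∧
      (P : Subgroup G) ≤ ⁅M ⊓ normalizer (T : Set G), M ⊓ normalizer (T : Set G)⁆ ∧
      ∀ q : ℕ, q.Prime → q ≠ p → ∀ Q ∈ Cfsg.maxInvSubgroups ⊤ T {q},
        Q ∈ Cfsg.maxInvSubgroups ⊤ A {q} ∧
        normalizer (T : Set G) ≤ K A ⊔ (normalizer (T : Set G) ⊓ normalizer (Q : Set G)) ∧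
        ((P : Subgroup G) ≤ normalizer (Q : Set G) →
          (P : Subgroup G) ≤ ⁅normalizer (Q : Set G), normalizer (Q : Set G)⁆) := by
  haveI := h.hG.2.2.2 M hM.1
  obtain ⟨T, hTP, hPT, hfac, hAT⟩ := (isSylowOf_coe P hPM).factor
    (h.hG.1.of_dvd_nat (card_subgroup_dvd_card M))
  have hAT' : A ≤ T := hAT A h.le h.comm h.scn.2.1
  have hd : (P : Subgroup G) ≤ ⁅M ⊓ normalizer (T : Set G), M ⊓ normalizer (T : Set G)⁆ :=
    le_derived_of_factor (PiCoreOf.le _ M) (PiCoreOf.le_normalizer' _ M) inf_le_left hfac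
      (le_inf hPM hPT) (by
        obtain ⟨i, hi⟩ := IsPGroup.iff_card.mp P.2
        rw [hi]
        exact ((coprime_Op M).symm).pow_left i) hPd
  refine ⟨T, hTP, hAT', hPT, hd, fun q hq hqp Q hQ => ?_⟩
  haveI := Fact.mk hq
  have hTt : T ≠ ⊤ := FittingUniqueness.ne_top_of_le_coatom hM (hTP.trans hPM)
  have hsn : (A.subgroupOf T).IsSubnormal := by
    haveI : (A.subgroupOf T).Normal := normal_subgroupOf_of_le_normalizer (hTP.trans h.scn.2.1)
    exact Normal.isSubnormal inferInstance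
  obtain ⟨hcore, -, hsub, hrest⟩ := SubnormalTransitivity.conclusion h.hG h.trans_hyp
    (h.not_dvd hq hqp) hTt (fun s hs hsd => by
      obtain ⟨i, hi⟩ := IsPGroup.iff_card.mp (P.2.to_le hTP)
      rw [hi] at hsd
      rw [(Nat.prime_dvd_prime_iff_eq hs hp.out).mp (hs.dvd_of_dvd_pow hsd)]
      exact h.dvd_card) hAT' hsn (h.transitive hqp)
  obtain ⟨-, hNT⟩ := hrest Q hQ
  set C := Cfsg.piCoreOf (Cfsg.primesNotDvd (Nat.card A)) (centralizer (T : Set G))
  have hCK : C ≤ K A := (le_of_eq hcore.symm).trans inf_le_left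
  refine ⟨hsub hQ, hNT.le.trans (sup_le_sup_right hCK _), fun hPQ => ?_⟩
  haveI := h.hG.2.2.2 (normalizer (T : Set G)) (MinSimpleTransitivity.normalizer_ne_top h.hG
    (fun h0 => h.ne_bot (le_bot_iff.mp (h0 ▸ hAT'))) hTt)
  refine (le_derived_of_factor ((PiCoreOf.le _ _).trans (centralizer_le_normalizer _))
    ((FittingParts.normalizer_centralizer_le T).trans (PiCoreOf.normalizer_le _ _)) inf_le_left hNT.le
    (le_inf hPT hPQ) (h.coprime_sylow (PiCoreOf.coprime_card _ _))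
    (hd.trans (commutator_mono inf_le_right inf_le_right))).trans
    (commutator_mono inf_le_right inf_le_right)

theorem exists_first :
    ∃ M : Subgroup G, IsCoatom M ∧ (P : Subgroup G) ≤ M ∧ (P : Subgroup G) ≤ ⁅M, M⁆ := by
  set Y := Cfsg.centerThompsonAOf (P : Subgroup G) with hY
  have hP := P.2
  have hY1 : Y ≠ ⊥ := Cfsg.Lib.ZJ.centerThompsonAOf_ne_bot hP h.sylow_ne_bot
  have hPN : (P : Subgroup G) ≤ normalizer (Y : Set G) := fun x hx => by
    refine Cfsg.Lib.Coprime.conjMap_eq_self_iff.mp ?_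
    rw [hY]
    show (Cfsg.centerThompsonAOf (P : Subgroup G)).map (MulAut.conj x).toMonoidHom = _
    rw [Cfsg.Lib.ZJ.centerThompsonAOf_map]
    congr 1
    exact Cfsg.Lib.Coprime.conjMap_eq_self (le_normalizer hx)
  have hYt : Y ≠ ⊤ := fun ht => by
    have h0 : centralizer (Cfsg.thompsonSubgroupAOf (P : Subgroup G) : Set G) = ⊤ :=
      top_le_iff.mp (ht.ge.trans inf_le_right)
    have h1 : Cfsg.thompsonSubgroupAOf (P : Subgroup G) = ⊤ := top_le_iff.mp (ht.ge.trans inf_le_left)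
    rw [h1] at h0
    exact h.hG.2.2.1 ⟨⟨fun a b => (mem_centralizer_iff.mp (h0.ge (mem_top b)) a (mem_top a))⟩⟩
  obtain ⟨M, hM, hNM⟩ := exists_coatom_ge (MinSimpleTransitivity.normalizer_ne_top h.hG hY1 hYt)
  refine ⟨M, hM, hPN.trans hNM, ?_⟩
  haveI := h.hG.2.1
  have hqd : ¬ Cfsg.Involves ↥(Cfsg.qd p) G := by
    rintro ⟨K', R', hR', ⟨e⟩⟩
    haveI := hR'
    have h2 : 2 ∣ Nat.card K' := by
      refine (Cfsg.Lib.CN.two_dvd_card_qd (p := p) h.ne_two).trans ?_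
      rw [← Nat.card_congr e.toEquiv]
      exact card_quotient_dvd_card _
    exact Nat.not_even_iff_odd.mpr h.hG.1 (even_iff_two_dvd.mpr (h2.trans (card_subgroup_dvd_card K')))
  have hT : ∀ S : Set G, S ⊆ (P : Subgroup G) →
      Cfsg.ControlsStrongFusionOf (normalizer (Y : Set G)) (P : Subgroup G) S := fun S hS =>
    by
      rw [hY, ← Cfsg.Lib.CtrlD.induced_zjW (P : Subgroup G)]
      exact Cfsg.Lib.CtrlD.controlsStrongFusionOf
        (Cfsg.Lib.CtrlD.ctl_of_qd_free h.ne_two hqd).1 P (Cfsg.Lib.ZJ.stronglyClosed_self _) S hS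
  have hcomm : _root_.commutator G = ⊤ := by
    rcases IsSimpleGroup.eq_bot_or_eq_top_of_normal (_root_.commutator G) inferInstance with h0 | h0
    · refine absurd ⟨⟨fun a b => ?_⟩⟩ h.hG.2.2.1
      have h1 : ⁅a, b⁆ ∈ _root_.commutator G := commutator_mem_commutator (mem_top a) (mem_top b)
      rw [h0, mem_bot] at h1
      exact commutatorElement_eq_one_iff_mul_comm.mp h1
    · exact h0
  have hfoc := commutator_inf_eq_focalSubgroup (G := G) (p := p) (P := P)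
  rw [hcomm, top_inf_eq] at hfoc
  refine hfoc.le.trans (le_trans ?_ (commutator_mono hNM hNM))
  rw [focalSubgroup_def, closure_le]
  rintro g ⟨hg, x, hx, u, rfl⟩
  have hux : u * x⁻¹ * u⁻¹ ∈ (P : Subgroup G) := by
    have h1 := mul_mem (inv_mem hx) hg
    rwa [show x⁻¹ * ⁅x, u⁆ = u * x⁻¹ * u⁻¹ by rw [commutatorElement_def]; group] at h1
  obtain ⟨n, hn, hnx⟩ := (hT {x⁻¹} (Set.singleton_subset_iff.mpr (inv_mem hx))).2 u (by
    rintro _ ⟨a, rfl, rfl⟩
    exact hux)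
  have h2 := hnx x⁻¹ rfl
  show ⁅x, u⁆ ∈ ⁅normalizer (Y : Set G), normalizer (Y : Set G)⁆
  rw [show ⁅x, u⁆ = ⁅x, n⁆ by
    rw [commutatorElement_def, commutatorElement_def,
      show x * u * x⁻¹ * u⁻¹ = x * (u * x⁻¹ * u⁻¹) by group, h2]
    group]
  exact commutator_mem_commutator (hPN hx) hn

theorem eq_of_unique {M L E : Subgroup G} (hE : Cfsg.InUniqueMaximal E) (hM : IsCoatom M)
    (hL : IsCoatom L) (hEM : E ≤ M) (hEL : E ≤ L) : M = L := by
  obtain ⟨N, -, hu⟩ := hE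
  rw [hu M ⟨hM, hEM⟩, hu L ⟨hL, hEL⟩]

theorem unique_of_fixed {M : Subgroup G} {r : ℕ} (hM : Anchor A M r) (hrp : r ≠ p) {v : G}
    (hv : v ∈ O r M) (hvA : v ∈ centralizer (A : Set G)) (hv1 : v ≠ 1) : Cfsg.InUniqueMaximal A := by
  have hr := hM.prime
  haveI := Fact.mk hr
  set R := O r M with hR
  have hRp : IsPGroup r R := FittingParts.isPGroup M
  have hR1 : R ≠ ⊥ := fun h0 => hv1 (mem_bot.mp (h0 ▸ hv))
  have hr2 : r ≠ 2 := h.ne_two' hRp hR1
  have hAR : A ≤ normalizer (R : Set G) := hM.le.trans (PiCoreOf.le_normalizer' _ M)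
  obtain ⟨E₀, hE₀A, hE₀, hE₀c⟩ := h.exists_elem
  have hcop : (Nat.card E₀).Coprime (Nat.card R) :=
    (h.coprime_of_pgroup hrp hRp).coprime_dvd_left (card_dvd_of_le hE₀A)
  have hvE : v ∈ centralizer (E₀ : Set G) := centralizer_le hE₀A hvA
  have hnorm : ∀ b ∈ E₀, E₀ ≤ normalizer ((R ⊓ centralizer ({b} : Set G) : Subgroup G) : Set G) :=
    fun b hb => Cfsg.Lib.Coprime.le_normalizer_inf (hE₀A.trans hAR) fun x hx => le_normalizer
      (mem_centralizer_singleton_iff.mpr (ThompsonTransitivity.mul_comm_of hE₀.1 hx hb))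
  obtain ⟨H, hHE, hHnc, hH⟩ : ∃ H : Subgroup G, H ≤ E₀ ∧ ¬ IsCyclic H ∧
      ∀ b ∈ H, b ≠ 1 → ¬ IsCyclic (R ⊓ centralizer ({b} : Set G) : Subgroup G) := by
    by_cases hRc : R ≤ centralizer (E₀ : Set G)
    · refine ⟨E₀, le_rfl, not_isCyclic_of_card hE₀.2 ((Nat.pow_le_pow_right hp.out.pos (by norm_num)).trans
        hE₀c), fun b hb _ hcyc => ?_⟩
      rw [inf_eq_left.mpr (hRc.trans (centralizer_le (Set.singleton_subset_iff.mpr hb)))] at hcyc
      obtain ⟨E, hER, hE, hEc⟩ := exists_elementary hM.rank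
      exact not_isCyclic_of_card hE.2 ((Nat.pow_le_pow_right hr.pos (by norm_num)).trans hEc)
        (haveI := hcyc; isCyclic_of_injective (inclusion hER) (inclusion_injective hER))
    · obtain ⟨H, hHE, hHnc, hHD⟩ := exists_pair hE₀ hE₀c (hE₀A.trans hAR) hcop hRc
      refine ⟨H, hHE, hHnc, fun b hb _ hcyc => hHD fun x hx => ?_⟩
      refine le_centralizer_of_cyclic (hRp.to_le inf_le_left) hcyc (hnorm b (hHE hb))
        (hcop.coprime_dvd_right (card_dvd_of_le inf_le_left)) (v := v) ⟨hv, ?_⟩ hv1 hvE ⟨hx.1, ?_⟩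
      · exact mem_centralizer_singleton_iff.mpr (mem_centralizer_iff.mp hvE b (hHE hb)).symm
      · exact mem_centralizer_singleton_iff.mpr (mem_centralizer_iff.mp hx.2 b hb).symm
  refine unique_of_le (unique_of_elementary h.hG hM.coatom ((hHE.trans hE₀A).trans hM.le)
    ⟨⟨⟨fun a b => Subtype.ext (ThompsonTransitivity.mul_comm_of hE₀.1 (hHE a.2) (hHE b.2))⟩⟩,
      fun b hb => hE₀.2 b (hHE hb)⟩ hHnc (Or.inl fun b hb hb1 => ?_)) (hHE.trans hE₀A) h.ne_top
  obtain ⟨B, E, hBR, hBb, -, hB, hBc, hE, hEc, hBE⟩ := exists_fixed_sq hr2 hRp hM.rank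
    (hAR (hE₀A (hHE hb))) (hE₀.2 b (hHE hb)) hrp.symm (hH b hb hb1)
  exact le_of_unique (unique_of_centralizes h.hG (hM.unique E hE hEc) hBE le_rfl hB hBc) hM.coatom
    (hBR.trans (PiCoreOf.le _ M)) (MinSimpleTransitivity.centralizer_singleton_ne_top h.hG hb1) hBb

theorem pair {M L : Subgroup G} (hM : IsCoatom M) (hPM : (P : Subgroup G) ≤ M)
    (hPd : (P : Subgroup G) ≤ ⁅M, M⁆) {r : ℕ} (hL : Anchor A L r) (hrp : r ≠ p) :
    (P : Subgroup G) ≤ ⁅M ⊓ L, M ⊓ L⁆ := by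
  haveI := Fact.mk hL.prime
  obtain ⟨T, hTP, hAT, hPT, hd, hT⟩ := h.exists_factor hM hPM hPd
  obtain ⟨Q, hQ, -⟩ := Transitivity.exists_max (A := T) (q := r) (Y := ⊥) IsPGroup.of_bot
    (fun b _ => by rw [normalizer_eq_top]; exact mem_top b)
  obtain ⟨hQA, hN, -⟩ := hT r hL.prime hrp Q hQ
  have hle : M ⊓ normalizer (T : Set G) ≤ M ⊓ L := le_inf inf_le_left
    (inf_le_right.trans (hN.trans (sup_le hL.core_le (inf_le_right.trans (hL.norm_le Q hQA)))))
  exact hd.trans (commutator_mono hle hle)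

theorem step {M L : Subgroup G} {r r' : ℕ} (hM : Anchor A M r) (hL : Anchor A L r') (hrp : r ≠ p)
    (hr'p : r' ≠ p) (hlt : r' < r) {D V W : Subgroup G} (hAD : A ≤ normalizer (D : Set G))
    (hcop : (Nat.card A).Coprime (Nat.card D)) (hDt : D ≠ ⊤)
    (hV : IsPGroup r V) (hAV : A ≤ normalizer (V : Set G)) (hVD : V ≤ D) (hVR : V ⊓ O r M ≠ ⊥)
    (hW : IsPGroup r' W) (hAW : A ≤ normalizer (W : Set G)) (hWD : W ≤ D) (hWR : W ≤ O r' L)
    (hW1 : W ≠ ⊥) :
    (O r M ⊓ L ≠ ⊥ ∨ O r' L ⊓ M ≠ ⊥) ∨ ∃ S : Subgroup G, IsPGroup r S ∧ A ≤ normalizer (S : Set G) ∧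
      S ≤ D ∧ W ≤ normalizer (S : Set G) ∧ S ⊓ O r M ≠ ⊥ ∧ (∃ c ∈ D, conjMap c V ≤ S) ∧
      ∀ Y : Subgroup G, IsPGroup r Y → Y ≤ D → Nat.card Y ≤ Nat.card S := by
  have hr := hM.prime
  have hr' := hL.prime
  haveI := Fact.mk hr
  haveI := Fact.mk hr'
  have hsol : Group.IsSolvable D := h.hG.2.2.2 D hDt
  obtain ⟨S₁, hVS₁, hAS₁⟩ := Cfsg.Lib.Coprime.exists_invariant_sylow_ge hAD hcop (Or.inr hsol) r hVD hV hAV
  set S₁' := (S₁ : Subgroup D).map D.subtype with hS₁'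
  have hπ : ∀ {X : Subgroup G} {q : ℕ} [Fact q.Prime], IsPGroup q X → (q = r ∨ q = r') →
      ∀ s : ℕ, s.Prime → s ∣ Nat.card X → s ∈ ({r, r'} : Set ℕ) := fun {X q} _ hX hq s hs hsd => by
    obtain ⟨i, hi⟩ := IsPGroup.iff_card.mp hX
    rw [hi] at hsd
    have := (Nat.prime_dvd_prime_iff_eq hs Fact.out).mp (hs.dvd_of_dvd_pow hsd)
    subst this
    simpa using hq
  obtain ⟨H₁, hH₁, hAH₁, hSH₁⟩ := Cfsg.Lib.Coprime.exists_invariantHall_ge hAD hcop hsol
    (π := {r, r'}) (map_subtype_le _) hAS₁ (hπ (S₁.2.map _) (Or.inl rfl))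
  obtain ⟨H, hH, hAH, hWH⟩ := Cfsg.Lib.Coprime.exists_invariantHall_ge hAD hcop hsol
    (π := {r, r'}) hWD hAW (hπ hW (Or.inr rfl))
  obtain ⟨c, hc, hHc⟩ := Cfsg.Lib.Coprime.invariantHall_conj hAD hcop hsol hH₁ hAH₁ hH hAH
  set S := conjMap c S₁' with hS
  have hSp : IsPGroup r S := (S₁.2.map _).map _
  have hSH : S ≤ H := hHc ▸ Cfsg.Lib.Coprime.conjMap_mono hSH₁
  have hSD : S ≤ D := hSH.trans hH.1
  have hAS : A ≤ normalizer (S : Set G) := by
    rw [hS, Cfsg.Lib.Coprime.normalizer_conjMap]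
    exact (Cfsg.Lib.Coprime.conjMap_eq_self (centralizer_le_normalizer _ hc.2)).ge.trans
      (Cfsg.Lib.Coprime.conjMap_mono hAS₁)
  have hcK : c ∈ K A := MinSimpleTransitivity.mem_K h.hG h.trans_hyp hc.2
    ((hcop.coprime_dvd_right ((orderOf_dvd_natCard (⟨c, hc.1⟩ : D)))).symm |> fun h' => by
      rwa [← orderOf_coe] at h')
  have hSR : S ⊓ O r M ≠ ⊥ := by
    intro h0
    refine hVR ?_
    have h1 : conjMap c (V ⊓ O r M) ≤ S ⊓ O r M := by
      rw [Cfsg.Lib.Coprime.conjMap_inf,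
        Cfsg.Lib.Coprime.conjMap_eq_self (PiCoreOf.le_normalizer' _ M (hM.core_le hcK))]
      exact inf_le_inf_right _ (Cfsg.Lib.Coprime.conjMap_mono hVS₁)
    rw [h0, le_bot_iff] at h1
    exact (map_eq_bot_iff_of_injective _ (MulAut.conj c).injective).mp h1
  have hmax : ∀ Y : Subgroup G, IsPGroup r Y → Y ≤ D → Nat.card Y ≤ Nat.card S := by
    intro Y hY hYD
    obtain ⟨T, hT⟩ := (hY.comap_subtype (K := D)).exists_le_sylow
    have h1 := Nat.le_of_dvd Nat.card_pos (card_dvd_of_le hT)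
    rw [← subgroupOf, Nat.card_congr (subgroupOfEquivOfLe hYD).toEquiv] at h1
    refine h1.trans_eq ?_
    rw [hS, Cfsg.Lib.Coprime.card_conjMap, hS₁', card_map_of_injective D.subtype_injective,
      Sylow.card_eq_multiplicity, Sylow.card_eq_multiplicity]
  -- a Fitting part of rank three
  have hbig : ∀ (N : Subgroup G) (q : ℕ) [Fact q.Prime], Anchor A N q →
      ¬ Cfsg.PRankLE q 2 (Cfsg.fittingOf H) → H ≤ N := by
    intro N q _ hN hq
    obtain ⟨E, hEO, hE, hEc⟩ := exists_elementary (not_pRankLE_core hq)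
    have hON : O q H ≤ N := hN.inv_le _ (FittingParts.isPGroup H) (hAH.trans (PiCoreOf.normalizer_le _ H))
    refine (PiCoreOf.le_normalizer' {q} H).trans (le_of_unique (hN.unique E hE hEc) hN.coatom
      (hEO.trans hON) ?_ (hEO.trans le_normalizer))
    refine MinSimpleTransitivity.normalizer_ne_top h.hG (fun h0 => ?_)
      (FittingUniqueness.ne_top_of_le_coatom hN.coatom hON)
    exact ne_bot_of_unique h.hG (hN.unique E hE hEc) (le_bot_iff.mp (h0 ▸ hEO))
  by_cases hFr : Cfsg.PRankLE r 2 (Cfsg.fittingOf H)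
  swap
  · exact Or.inl (Or.inr fun h0 => hW1 (le_bot_iff.mp
      (h0 ▸ le_inf hWR (hWH.trans (hbig M r hM hFr)))))
  by_cases hFr' : Cfsg.PRankLE r' 2 (Cfsg.fittingOf H)
  swap
  · exact Or.inl (Or.inl fun h0 => hSR (le_bot_iff.mp (le_trans
      (le_inf inf_le_right (inf_le_left.trans (hSH.trans (hbig L r' hL hFr')))) h0.le)))
  refine Or.inr ⟨S, hSp, hAS, hSD, ?_, hSR, ⟨c, hc.1, Cfsg.Lib.Coprime.conjMap_mono hVS₁⟩, hmax⟩
  have hrk : Cfsg.RankLE 2 (Cfsg.fittingSubgroup H) := fun q hq => by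
    haveI := Fact.mk hq
    refine Cfsg.Lib.OddP.pRankLE_of_injective
      ((Cfsg.fittingSubgroup H).equivMapOfInjective H.subtype H.subtype_injective).toMonoidHom
      (MulEquiv.injective _) ?_
    by_cases hqH : q ∣ Nat.card H
    · rcases hH.2.1 q hq hqH with rfl | rfl
      · exact hFr
      · exact hFr'
    · intro B hBc hBp
      obtain ⟨i, hi⟩ := IsPGroup.iff_card.mp (show IsPGroup q B from fun b => ⟨1, by
        rw [pow_one]; exact Subtype.ext (hBp b b.2)⟩)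
      rcases i with _ | i
      · rw [hi, pow_zero]; exact Nat.one_le_pow _ _ hq.pos
      · exact absurd (((hi ▸ dvd_pow_self q i.succ_ne_zero : q ∣ Nat.card B).trans
          (card_subgroup_dvd_card B)).trans (card_dvd_of_le (FittingParts.fittingOf_le H))) hqH
  haveI := Cfsg.Lib.Coprime.isSolvable_of_le hH.1 hsol
  obtain ⟨N, hNc, hN1, hN2⟩ := (Cfsg.Agent.S1451.result
    (h.hG.1.of_dvd_nat (card_subgroup_dvd_card H)) (Or.inr hrk)).2.2 r'
  haveI := hNc
  have hNp : IsPGroup r N := Transitivity.isPGroup_of_primes fun q hq hqN => by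
    rcases hH.2.1 q hq (hqN.trans (card_subgroup_dvd_card N)) with h1 | h1
    · exact h1
    · exact absurd (hN1 q hq hqN).2 (h1 ▸ lt_irrefl _)
  have hSN : S.subgroupOf H ≤ N := by
    have h1 := Cfsg.Lib.Coprime.card_sup_mul_card_inf (N := N) (H := S.subgroupOf H)
      le_normalizer_of_normal
    have h2 : Nat.card (S.subgroupOf H) ∣ N.index * Nat.card (N ⊓ S.subgroupOf H : Subgroup H) := by
      have h3 : Nat.card N * Nat.card (S.subgroupOf H) ∣
          Nat.card N * (N.index * Nat.card (N ⊓ S.subgroupOf H : Subgroup H)) := by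
        rw [← mul_assoc, card_mul_index, ← h1]
        exact mul_dvd_mul_right (card_subgroup_dvd_card _) _
      exact Nat.dvd_of_mul_dvd_mul_left Nat.card_pos h3
    obtain ⟨i, hi⟩ := IsPGroup.iff_card.mp (hSp.comap_subtype (K := H))
    change Nat.card (S.subgroupOf H) = r ^ i at hi
    have h4 : (Nat.card (S.subgroupOf H)).Coprime N.index := by
      rw [hi]
      exact ((Nat.Prime.coprime_iff_not_dvd hr).mpr (hN2 r hr ⟨hr, hlt⟩)).pow_left i
    have h5 := Nat.le_of_dvd Nat.card_pos (h4.dvd_of_dvd_mul_left h2)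
    exact inf_eq_right.mp (eq_of_le_of_card_ge inf_le_right h5)
  have hNS : N.map H.subtype = S := by
    have hle : S ≤ N.map H.subtype := fun x hx =>
      ⟨⟨x, hSH hx⟩, hSN (mem_subgroupOf.mpr hx), rfl⟩
    refine (eq_of_le_of_card_ge hle
      (hmax _ (hNp.map _) ((map_subtype_le _).trans hH.1))).symm
  refine hWH.trans ?_
  rw [← hNS]
  exact le_normalizer.trans (Cfsg.Lib.OddP.le_normalizer_map_of_char N)

theorem no_two {M L : Subgroup G} {r r' : ℕ} (hM : Anchor A M r) (hL : Anchor A L r') (hrp : r ≠ p)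
    (hr'p : r' ≠ p) (hlt : r' < r) (hne : M ≠ L) (hAU : ¬ Cfsg.InUniqueMaximal A)
    (hPd : (P : Subgroup G) ≤ ⁅M ⊓ L, M ⊓ L⁆) : False := by
  have hr := hM.prime
  have hr' := hL.prime
  haveI := Fact.mk hr
  haveI := Fact.mk hr'
  suffices hfinal : O r M ⊓ L ≠ ⊥ ∨ O r' L ⊓ M ≠ ⊥ by
    haveI := h.hG.2.2.2 (M ⊓ L) (FittingUniqueness.ne_top_of_le_coatom hM.coatom inf_le_left)
    have key : ∀ (N N' : Subgroup G) (q : ℕ) [Fact q.Prime], Anchor A N q → IsCoatom N' → N ≠ N' →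
        q ≠ p → M ⊓ L ≤ N → M ⊓ L ≤ N' → O q N ⊓ N' ≠ ⊥ → False := by
      intro N N' q _ hN hN' hne' hqp h1 h2 h3
      set X := O q N ⊓ N'
      have hXp : IsPGroup q X := (FittingParts.isPGroup N).to_le inf_le_left
      have hX2 : Cfsg.PRankLE q 2 X := by
        by_contra h4
        obtain ⟨E, hEX, hE, hEc⟩ := exists_elementary h4
        exact hne' (eq_of_unique h (hN.unique E hE hEc) hN.coatom hN'
          (hEX.trans (inf_le_left.trans (PiCoreOf.le _ N))) (hEX.trans inf_le_right))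
      obtain ⟨v, hv, hv1⟩ : ∃ v ∈ X, v ≠ 1 := by
        by_contra h0
        push Not at h0
        exact h3 ((eq_bot_iff_forall _).mpr h0)
      refine hAU (h.unique_of_fixed hN hqp hv.1 (mem_centralizer_iff.mpr fun a ha => ?_) hv1)
      have h5 := Cfsg.Lib.OddP.derived_centralizes_rankTwo (h.ne_two' hXp h3) hXp hX2
        (A := M ⊓ L) (Cfsg.Lib.Coprime.le_normalizer_inf (h1.trans (PiCoreOf.le_normalizer' _ N))
          (h2.trans le_normalizer)) (h.hG.1.of_dvd_nat (card_subgroup_dvd_card _))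
        (hPd (h.le ha)) (by
          obtain ⟨i, hi⟩ := h.isPGroup ⟨a, ha⟩
          have h6 : orderOf a ∣ p ^ i := orderOf_dvd_of_pow_eq_one (congrArg Subtype.val hi)
          exact Nat.Coprime.coprime_dvd_left h6
            (((Nat.coprime_primes hp.out Fact.out).mpr hqp.symm).pow_left i))
      exact (mem_centralizer_iff.mp h5 v hv).symm
    rcases hfinal with h1 | h1
    · exact key M L r hM hL.coatom hne hrp inf_le_left inf_le_right h1
    · exact key L M r' hL hM.coatom hne.symm hr'p inf_le_right inf_le_left h1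
  by_contra hnot
  set R := O r M with hR
  set R' := O r' L with hR'
  have hAR : A ≤ normalizer (R : Set G) := hM.le.trans (PiCoreOf.le_normalizer' _ M)
  have hAR' : A ≤ normalizer (R' : Set G) := hL.le.trans (PiCoreOf.le_normalizer' _ L)
  have hne1 : ∀ {q : ℕ} {N : Subgroup G}, ¬ Cfsg.PRankLE q 2 (O q N) → q.Prime → ¬ O q N ≤ ⊥ :=
    fun {q N} hq hqp h0 => hq fun B _ _ => by
      have h1 := Nat.le_of_dvd Nat.card_pos (card_subgroup_dvd_card B)
      rw [show Nat.card (O q N) = 1 by rw [le_bot_iff.mp h0, Subgroup.card_bot]] at h1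
      exact h1.trans (Nat.one_le_pow _ _ hqp.pos)
  obtain ⟨E₀, hE₀A, hE₀, hE₀c⟩ := h.exists_elem
  have hcA : ∀ {q : ℕ} [Fact q.Prime], q ≠ p → ∀ {Y : Subgroup G}, IsPGroup q Y →
      (Nat.card E₀).Coprime (Nat.card Y) := fun hq _ hY =>
    (h.coprime_of_pgroup hq hY).coprime_dvd_left (card_dvd_of_le hE₀A)
  obtain ⟨b, hb, hb1, hV, hW⟩ := Transitivity.exists_common (D := ⊥) hE₀ hE₀c (hE₀A.trans hAR)
    (hE₀A.trans hAR') (hcA hrp (FittingParts.isPGroup M)) (hcA hr'p (FittingParts.isPGroup L))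
    (hne1 hM.rank hr) (hne1 hL.rank hr')
  set C := centralizer ({b} : Set G)
  set V := R ⊓ C with hVdef
  set W := R' ⊓ C with hWdef
  have hAC : A ≤ C := fun a ha => mem_centralizer_singleton_iff.mpr
    (ThompsonTransitivity.mul_comm_of h.comm ha (hE₀A hb))
  have hAV : A ≤ normalizer (V : Set G) :=
    Cfsg.Lib.Coprime.le_normalizer_inf hAR (hAC.trans le_normalizer)
  have hAW : A ≤ normalizer (W : Set G) :=
    Cfsg.Lib.Coprime.le_normalizer_inf hAR' (hAC.trans le_normalizer)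
  have hVp : IsPGroup r V := (FittingParts.isPGroup M).to_le inf_le_left
  have hWp : IsPGroup r' W := (FittingParts.isPGroup L).to_le inf_le_left
  have hW1 : W ≠ ⊥ := fun h0 => hW h0.le
  have hCt := MinSimpleTransitivity.centralizer_singleton_ne_top h.hG hb1
  have hcore : ∀ {X Y : Subgroup G}, X ≠ ⊤ → A ≤ X → Y ≤ X → ∀ {q : ℕ} [Fact q.Prime], q ≠ p →
      IsPGroup q Y → A ≤ normalizer (Y : Set G) →
      Y ≤ Cfsg.piCoreOf (Cfsg.primesNotDvd (Nat.card A)) X := fun hX hAX hYX _ _ hq hY hAY =>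
    MinSimpleTransitivity.le_core h.trans_hyp hX hAX hYX (h.coprime_of_pgroup hq hY) hAY
  set D := Cfsg.piCoreOf (Cfsg.primesNotDvd (Nat.card A)) C
  have hDt : ∀ {X : Subgroup G}, X ≠ ⊤ → Cfsg.piCoreOf (Cfsg.primesNotDvd (Nat.card A)) X ≠ ⊤ :=
    fun hX ht => hX (top_le_iff.mp (ht.ge.trans (PiCoreOf.le _ _)))
  rcases step h hM hL hrp hr'p hlt (hAC.trans (PiCoreOf.le_normalizer' _ C))
      (PiCoreOf.coprime_card _ C) (hDt hCt) hVp hAV (hcore hCt hAC inf_le_right hrp hVp hAV)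
      (by rw [inf_eq_left.mpr (inf_le_left : V ≤ R)]; exact fun h0 => hV h0.le)
      hWp hAW (hcore hCt hAC inf_le_right hr'p hWp hAW) inf_le_left hW1 with hdone | ⟨S₀, hS₀⟩
  · exact hnot hdone
  obtain ⟨Z, -, hZ⟩ := Finite.exists_le_maximal
    (p := fun Z : Subgroup G => IsPGroup r Z ∧ A ≤ normalizer (Z : Set G) ∧ W ≤ normalizer (Z : Set G) ∧
      Z ⊓ R ≠ ⊥) (a := S₀) ⟨hS₀.1, hS₀.2.1, hS₀.2.2.2.1, hS₀.2.2.2.2.1⟩
  obtain ⟨hZp, hAZ, hWZ, hZR⟩ := hZ.prop
  have hZM : Z ≤ M := hM.inv_le Z hZp hAZ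
  have hNt := MinSimpleTransitivity.normalizer_ne_top h.hG (fun h0 => hZR (by rw [h0, bot_inf_eq]))
    (FittingUniqueness.ne_top_of_le_coatom hM.coatom hZM)
  set D' := Cfsg.piCoreOf (Cfsg.primesNotDvd (Nat.card A)) (normalizer (Z : Set G))
  rcases step h hM hL hrp hr'p hlt (hAZ.trans (PiCoreOf.le_normalizer' _ _))
      (PiCoreOf.coprime_card _ _) (hDt hNt) hZp hAZ (hcore hNt hAZ le_normalizer hrp hZp hAZ) hZR
      hWp hAW (hcore hNt hAZ hWZ hr'p hWp hAW) inf_le_left hW1 with hdone | ⟨S, hS, hAS, hSD, hWS, hSR, hcS, hmax⟩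
  · exact hnot hdone
  obtain ⟨c, hc, hcS⟩ := hcS
  rw [Cfsg.Lib.Coprime.conjMap_eq_self (PiCoreOf.le _ _ hc)] at hcS
  have hSZ : S = Z := le_antisymm (hZ.le_of_ge ⟨hS, hAS, hWS, hSR⟩ hcS) hcS
  subst hSZ
  obtain ⟨Q, hQ, hZQ⟩ := Transitivity.exists_max (A := A) hS hAS
  obtain ⟨hQp, hAQ⟩ := Transitivity.mem_inv_iff.mp hQ.1
  rcases hZQ.lt_or_eq with hlt' | heq
  · have hl := FittingUniqueness.lt_inf_normalizer hQp hlt'
    have hYp : IsPGroup r (Q ⊓ normalizer (S : Set G) : Subgroup G) := hQp.to_le inf_le_left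
    have h1 := hmax _ hYp (hcore hNt hAZ inf_le_right hrp hYp
      (Cfsg.Lib.Coprime.le_normalizer_inf hAQ (hAZ.trans le_normalizer)))
    exact hl.ne (eq_of_le_of_card_ge hl.le h1)
  · subst heq
    exact hnot (Or.inr fun h0 => hW1 (le_bot_iff.mp
      (h0 ▸ le_inf inf_le_left (hWS.trans (hM.norm_le S hQ)))))

theorem anchor_unique (hAU : ¬ Cfsg.InUniqueMaximal A) {M L : Subgroup G} {r r' : ℕ} (hrp : r ≠ p)
    (hr'p : r' ≠ p) (hM : Anchor A M r) (hL : Anchor A L r')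
    (hPM : (P : Subgroup G) ≤ M) (hPdM : (P : Subgroup G) ≤ ⁅M, M⁆)
    (hPL : (P : Subgroup G) ≤ L) (hPdL : (P : Subgroup G) ≤ ⁅L, L⁆) : M = L := by
  by_contra hne
  rcases lt_trichotomy r' r with hlt | rfl | hlt
  · exact no_two h hM hL hrp hr'p hlt hne hAU (h.pair hM.coatom hPM hPdM hL hr'p)
  · haveI := Fact.mk hL.prime
    obtain ⟨E, hEO, hE, hEc⟩ := exists_elementary hL.rank
    exact hne (eq_of_unique h (hL.unique E hE hEc) hM.coatom hL.coatom (hEO.trans (hM.inv_le _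
      (FittingParts.isPGroup L) (hL.le.trans (PiCoreOf.le_normalizer' _ L))))
      (hEO.trans (PiCoreOf.le _ L)))
  · exact no_two h hL hM hr'p hrp hlt (Ne.symm hne) hAU (h.pair hL.coatom hPL hPdL hM hrp)

theorem unique_scn : Cfsg.InUniqueMaximal A := by
  by_contra hAU
  obtain ⟨M, hM, hPM, hPd⟩ := h.exists_first
  obtain ⟨r, hrp, hA⟩ := h.exists_anchor hAU hM hPM hPd
  haveI := h.hG.2.2.2 M hM.1
  -- every invariant `q`-subgroup is in `M`
  have hq : ∀ q : ℕ, q.Prime → q ≠ p → ∀ Y : Subgroup G, IsPGroup q Y → A ≤ normalizer (Y : Set G) →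
      Y ≤ M := by
    intro q hq hqp Y hY hAY
    haveI := Fact.mk hq
    obtain ⟨Q, hQ, -⟩ := Transitivity.exists_max (A := (P : Subgroup G)) (q := q) (Y := ⊥) IsPGroup.of_bot
      (fun b _ => by rw [normalizer_eq_top]; exact mem_top b)
    have hsn : (A.subgroupOf (P : Subgroup G)).IsSubnormal := by
      haveI : (A.subgroupOf (P : Subgroup G)).Normal := normal_subgroupOf_of_le_normalizer h.scn.2.1
      exact Normal.isSubnormal inferInstance
    obtain ⟨-, -, hsub, -⟩ := SubnormalTransitivity.conclusion h.hG h.trans_hyp (h.not_dvd hq hqp)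
      (FittingUniqueness.ne_top_of_le_coatom hM hPM) (fun s hs hsd => by
        obtain ⟨i, hi⟩ := IsPGroup.iff_card.mp P.2
        rw [hi] at hsd
        rw [(Nat.prime_dvd_prime_iff_eq hs hp.out).mp (hs.dvd_of_dvd_pow hsd)]
        exact h.dvd_card) h.le hsn (h.transitive hqp)
    have hQA := hsub hQ
    obtain ⟨Q', hQ', hYQ'⟩ := Transitivity.exists_max (A := A) hY hAY
    obtain ⟨k, hk, rfl⟩ := h.transitive hqp Q hQA Q' hQ'
    refine hYQ'.trans (le_trans (Cfsg.Lib.Coprime.conjMap_mono ?_)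
      (Cfsg.Lib.Coprime.conjMap_eq_self (le_normalizer (hA.core_le hk))).le)
    rcases eq_or_ne Q ⊥ with h0 | hQ1
    · exact h0 ▸ bot_le
    obtain ⟨hQp, hPQ⟩ := Transitivity.mem_inv_iff.mp hQ.1
    have hQt : Q ≠ ⊤ := fun ht => by
      rw [ht] at hQp
      exact h.ne_bot (eq_bot_of_card_eq A (Nat.eq_one_of_dvd_coprimes
        (h.coprime_of_pgroup hqp hQp) dvd_rfl (card_dvd_of_le le_top)))
    obtain ⟨L, hL, hNL⟩ := exists_coatom_ge (MinSimpleTransitivity.normalizer_ne_top h.hG hQ1 hQt)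
    obtain ⟨T, hTP, hAT, hPT, -, hT⟩ := h.exists_factor hM hPM hPd
    have hQT : Q ∈ Cfsg.maxInvSubgroups ⊤ T {q} := by
      refine ⟨Transitivity.mem_inv_iff.mpr ⟨hQp, hTP.trans hPQ⟩, fun R hR hle => ?_⟩
      obtain ⟨h1, h2⟩ := Transitivity.mem_inv_iff.mp hR
      exact hQA.2 R (Transitivity.mem_inv_iff.mpr ⟨h1, hAT.trans h2⟩) hle
    obtain ⟨-, -, hd⟩ := hT q hq hqp Q hQT
    have hPL : (P : Subgroup G) ≤ L := hPQ.trans hNL
    have hPdL : (P : Subgroup G) ≤ ⁅L, L⁆ := (hd hPQ).trans (commutator_mono hNL hNL)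
    obtain ⟨r', hr'p, hA'⟩ := h.exists_anchor hAU hL hPL hPdL
    rw [h.anchor_unique hAU hrp hr'p hA hA' hPM hPd hPL hPdL]
    exact le_normalizer.trans hNL
  refine hAU (unique_of_inv_le h.hG hM (h.le.trans hPM) h.isPGroup h.ne_bot fun W hW hAW => ?_)
  refine Cfsg.Lib.Coprime.le_of_forall_sylow fun q hq' => ?_
  haveI := Fact.mk hq'
  obtain ⟨j, hj, -⟩ := h.pow_card
  obtain ⟨T, hT⟩ := Cfsg.Lib.Coprime.exists_invariant_sylow hAW
    (by rw [hj]; exact (hW.pow_right j).symm) (Or.inl (h.hG.2.2.2 A h.ne_top)) q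
  refine ⟨T, ?_⟩
  by_cases hqp : q = p
  · subst hqp
    have hqW : ¬ q ∣ Nat.card W := fun h' => hq'.not_dvd_one (hW ▸ Nat.dvd_gcd h' dvd_rfl)
    have hbot : (T : Subgroup W) = ⊥ := eq_bot_of_card_eq _ (by
      obtain ⟨i, hi⟩ := IsPGroup.iff_card.mp T.2
      rcases i with _ | i
      · rw [hi, pow_zero]
      · exact absurd ((hi ▸ dvd_pow_self q i.succ_ne_zero : q ∣ Nat.card (T : Subgroup W)).trans
          (card_subgroup_dvd_card _)) hqW)
    rw [hbot, Subgroup.map_bot]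
    exact bot_le
  · exact hq q hq' hqp _ (T.2.map _) hT

end Hyp

end Cfsg.Lib.OddLocal.ScnUniqueness
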