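import Cfsg.Agent.OddLocal.SigmaCore
import Cfsg.Agent.OddLocal.AlphaZGroup

/-!
# Complements to `M_σ`
-/

set_option linter.unusedSectionVars false
set_option linter.unusedVariables false
set_option linter.style.haveILetI false

namespace Cfsg.Lib.OddLocal.Sigma

open Subgroup Uniqueness
open Cfsg.Lib.Coprime (conjMap)
open scoped commutatorElement

universe u

variable {G : Type u} [Group G] [Finite G] {M E : Subgroup G}

theorem card_eq_mul (hE : Cfsg.IsComplIn E (Cfsg.sigmaCore M) M) :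
    Nat.card M = Nat.card (Cfsg.sigmaCore M) * Nat.card E := by
  obtain ⟨hEM, hSM, hinf, hprod⟩ := hE
  have hn : E ≤ normalizer (Cfsg.sigmaCore M : Set G) := hEM.trans (PiCoreOf.le_normalizer' _ M)
  have hsup : Cfsg.sigmaCore M ⊔ E = M := le_antisymm (sup_le hSM hEM) fun m hm => by
    obtain ⟨a, ha, b, hb, rfl⟩ := hprod m hm
    exact mul_mem (mem_sup_right ha) (mem_sup_left hb)
  have h1 := Cfsg.Lib.Coprime.card_sup_of_inf_eq_bot hn (by rw [inf_comm]; exact hinf)
  rw [hsup] at h1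
  exact h1

theorem not_sigma_of_dvd (hG : Cfsg.IsMinSimpleOddOrder G) (hM : IsCoatom M)
    (hE : Cfsg.IsComplIn E (Cfsg.sigmaCore M) M) {p : ℕ} (hp : p.Prime) (hpE : p ∣ Nat.card E) :
    p ∉ Cfsg.sigma M := fun hσ => by
  refine (sigmaCore_hall hG hM).2.2 p hp hσ ?_
  have h1 : Nat.card (Cfsg.sigmaCore M) * (Cfsg.sigmaCore M).relIndex M = Nat.card M := by
    rw [← relIndex_bot_left, relIndex_mul_relIndex _ _ _ bot_le (sigmaCore_le M), relIndex_bot_left]
  rw [Nat.eq_of_mul_eq_mul_left Nat.card_pos (h1.trans (card_eq_mul hE))]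
  exact hpE

theorem rankLE_complement (hG : Cfsg.IsMinSimpleOddOrder G) (hM : IsCoatom M)
    (hE : Cfsg.IsComplIn E (Cfsg.sigmaCore M) M) : Cfsg.RankLE 2 E := fun p hp => by
  haveI := Fact.mk hp
  by_contra h
  obtain ⟨X, hXE, hX, hXc⟩ := exists_elementary h
  obtain ⟨i, hi⟩ := IsPGroup.iff_card.mp (isPGroup_of_pow hX.2 : IsPGroup p X)
  have hpE : p ∣ Nat.card E := by
    refine dvd_trans ?_ (card_dvd_of_le hXE)
    rw [hi]
    refine dvd_pow_self p ?_
    rintro rfl
    rw [hi, pow_zero] at hXc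
    exact absurd hXc (not_le.mpr (Nat.one_lt_pow (by norm_num) hp.one_lt))
  exact not_sigma_of_dvd hG hM hE hp hpE
    (alpha_subset_sigma hG hM ⟨hp, not_pRankLE_of hX (hXE.trans hE.1) hXc⟩)

theorem derived_complement_nilpotent (hG : Cfsg.IsMinSimpleOddOrder G) (hM : IsCoatom M)
    (hE : Cfsg.IsComplIn E (Cfsg.sigmaCore M) M) : Group.IsNilpotent ↥⁅E, E⁆ := by
  haveI := hG.2.2.2 E (FittingUniqueness.ne_top_of_le_coatom hM hE.1)
  obtain ⟨hnil, -⟩ := Cfsg.Agent.S1451.result (hG.1.of_dvd_nat (card_subgroup_dvd_card E))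
    (Or.inl (rankLE_complement hG hM hE))
  haveI := hnil
  rw [← map_subtype_commutator E]
  exact Group.nilpotent_of_mulEquiv ((commutator E).equivMapOfInjective _ E.subtype_injective)

theorem dvd_derived_complement (hG : Cfsg.IsMinSimpleOddOrder G) (hM : IsCoatom M)
    (hE : Cfsg.IsComplIn E (Cfsg.sigmaCore M) M) {p : ℕ} (hp : p.Prime) (hσ : p ∉ Cfsg.sigma M)
    (hd : p ∣ Nat.card ↥⁅M, M⁆) : p ∣ Nat.card ↥⁅E, E⁆ := by
  set N := Cfsg.piCore (Cfsg.sigma M) M
  set π := QuotientGroup.mk' N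
  have hs : (E.subgroupOf M).map π = ⊤ := by
    refine top_le_iff.mp fun y _ => ?_
    obtain ⟨⟨m, hm⟩, rfl⟩ := QuotientGroup.mk'_surjective N y
    obtain ⟨a, ha, b, hb, rfl⟩ := hE.2.2.2 m hm
    refine ⟨⟨a, hE.1 ha⟩, ha, ?_⟩
    refine (QuotientGroup.eq.mpr ?_)
    obtain ⟨w, hw, hwb⟩ := hb
    rwa [show (⟨a, hE.1 ha⟩ : M)⁻¹ * ⟨a * b, hm⟩ = w from Subtype.ext (by simp [← hwb])]
  have h2 : (commutator M).map π = (⁅E.subgroupOf M, E.subgroupOf M⁆).map π := by
    rw [Subgroup.map_commutator, hs, _root_.commutator_def, Subgroup.map_commutator,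
      Subgroup.map_top_of_surjective _ (QuotientGroup.mk'_surjective N)]
  rw [← map_subtype_commutator M, card_map_of_injective M.subtype_injective] at hd
  have h3 : Nat.card (commutator M) ∣ Nat.card ((commutator M).map π) * Nat.card N := by
    rw [mul_comm, ← Cfsg.Lib.Coprime.card_comap_mk']
    exact card_dvd_of_le (le_comap_map _ _)
  rcases hp.dvd_mul.mp (hd.trans h3) with h | h
  · rw [h2] at h
    have h4 : Nat.card ↥⁅E.subgroupOf M, E.subgroupOf M⁆ = Nat.card ↥⁅E, E⁆ := by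
      rw [← card_map_of_injective (f := M.subtype) M.subtype_injective
        (K := ⁅E.subgroupOf M, E.subgroupOf M⁆), Subgroup.map_commutator, map_subgroupOf_eq_of_le hE.1]
    exact (h.trans (card_map_dvd _ π)).trans (dvd_of_eq h4)
  · exact absurd (Cfsg.Lib.Elementary.piCore_isPi _ p hp h) hσ

theorem isCyclic_sylow_of_rank_one (hG : Cfsg.IsMinSimpleOddOrder G) {p : ℕ} [hp : Fact p.Prime]
    {X P : Subgroup G} (hP : IsPGroup p P) (hPX : P ≤ X) (hr : Cfsg.PRankLE p 1 X) : IsCyclic P := by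
  by_contra hnc
  have hP1 : P ≠ ⊥ := fun h0 => hnc (by rw [h0]; infer_instance)
  obtain ⟨F, hFP, -, hF, hFc⟩ := exists_normal_sq (ne_two hG hP hP1) hP hnc
  exact not_pRankLE_of hF (hFP.trans hPX) hFc.ge hr

theorem sylow_le_derived_tau3 (hG : Cfsg.IsMinSimpleOddOrder G) (hM : IsCoatom M)
    (hE : Cfsg.IsComplIn E (Cfsg.sigmaCore M) M) {p : ℕ} [hp : Fact p.Prime] (hτ : p ∈ Cfsg.tau3 M)
    {P : Subgroup G} (hP : IsSylowOf p P E) : P ≤ ⁅E, E⁆ := by
  obtain ⟨-, hσ, hd, hr⟩ := hτ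
  have hd' := dvd_derived_complement hG hM hE hp.out hσ hd
  haveI := hG.2.2.2 E (FittingUniqueness.ne_top_of_le_coatom hM hE.1)
  have hodd : Odd (Nat.card E) := hG.1.of_dvd_nat (card_subgroup_dvd_card E)
  haveI hPc : IsCyclic P := isCyclic_sylow_of_rank_one hG hP.2.1 (hP.1.trans hE.1) hr
  haveI : IsMulCommutative P := inferInstance
  have hp2 : p ≠ 2 := fun h2 => hodd.not_two_dvd_nat (h2 ▸ hd'.trans (card_dvd_of_le (commutator_le_self E)))
  obtain ⟨x, hx⟩ := exists_prime_orderOf_dvd_card' p hd'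
  have hxo : orderOf (x : G) = p := by rw [orderOf_coe]; exact hx
  obtain ⟨R, hR, hxR⟩ := exists_sylowOf (M := E) (p := p)
    (IsPGroup.of_card (n := 1) (by rw [Nat.card_zpowers, hxo, pow_one]) : IsPGroup p (zpowers (x : G)))
    (zpowers_le.mpr (commutator_le_self E x.2))
  obtain ⟨m, hm, hmR⟩ := card_eq_of_sylowOf hR hP
  set x' := m * (x : G) * m⁻¹ with hx'
  have hx'P : x' ∈ P := hmR ▸ ⟨x, hxR (mem_zpowers _), rfl⟩
  have hx'E : x' ∈ ⁅E, E⁆ := by
    haveI : (commutator E).Normal := inferInstance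
    have h1 : (x : G) ∈ (commutator E).map E.subtype := (map_subtype_commutator E).symm ▸ x.2
    obtain ⟨y, hy, hyx⟩ := h1
    rw [← map_subtype_commutator E]
    exact ⟨⟨m, hm⟩ * y * ⟨m, hm⟩⁻¹, Normal.conj_mem inferInstance y hy _, by simp [hx', ← hyx]⟩
  have hx'1 : x' ≠ 1 := fun h0 => hp.out.ne_one (by
    rw [hx', conj_eq_one_iff] at h0
    rw [← hxo, h0, orderOf_one])
  set U := E ⊓ normalizer (P : Set G) with hU
  haveI : Group.IsSolvable U := Cfsg.Lib.Coprime.isSolvable_of_le (inf_le_left : U ≤ E) inferInstance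
  have hPU : P ≤ U := le_inf hP.1 le_normalizer
  have hrP : Cfsg.PRankLE p 2 P := fun B hB hBp =>
    ((Cfsg.Lib.OddP.pRankLE_of_injective (inclusion (hP.1.trans hE.1)) (inclusion_injective _) hr) B hB hBp).trans
      (Nat.pow_le_pow_right hp.out.pos one_le_two)
  have hPc' : P ≤ centralizer (P : Set G) := fun a ha => mem_centralizer_iff.mpr fun b hb =>
    ThompsonTransitivity.mul_comm_of (A := P) inferInstance hb ha
  -- a non-trivial element of `P` in `U'`
  have hxU : x' ∈ ⁅U, U⁆ := by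
    have hsub : zpowers x' ≤ ⁅U, U⁆ := by
      refine ScnUniqueness.le_derived_of_factor (PiCoreOf.le _ E) (PiCoreOf.le_normalizer' _ E) inf_le_left
        (hP.factor_rank_two hodd hrP) (zpowers_le.mpr (hPU hx'P)) ?_ (zpowers_le.mpr hx'E)
      obtain ⟨i, hi⟩ := IsPGroup.iff_card.mp (hP.2.1.to_le (zpowers_le.mpr hx'P))
      rw [hi]
      exact ((coprime_Op E).symm).pow_left i
    exact hsub (mem_zpowers _)
  suffices h : P ≤ ⁅U, U⁆ from h.trans (commutator_mono inf_le_left inf_le_left)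
  have hidx : ¬ p ∣ P.relIndex U := by
    obtain ⟨S, hS⟩ := hP.exists_sylow
    intro hd2
    refine S.not_dvd_index (dvd_trans (hd2.trans (dvd_mul_right _ (U.relIndex E))) (dvd_of_eq ?_))
    rw [relIndex_mul_relIndex _ _ _ hPU inf_le_left, ← hS, relIndex, subgroupOf,
      comap_map_eq_self_of_injective E.subtype_injective]
  by_cases hcen : U ≤ centralizer (P : Set G)
  · exfalso
    haveI : (P.subgroupOf U).Normal := normal_subgroupOf_of_le_normalizer inf_le_right
    obtain ⟨j, hj⟩ := IsPGroup.iff_card.mp hP.2.1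
    obtain ⟨V, hV⟩ := Subgroup.exists_right_complement'_of_coprime (N := P.subgroupOf U) (by
      rw [Nat.card_congr (subgroupOfEquivOfLe hPU).toEquiv, hj]
      exact ((hp.out.coprime_iff_not_dvd).mpr hidx).pow_left j)
    have hc : ∀ a : U, ∃ w ∈ P.subgroupOf U, ∃ v ∈ V, a = w * v := fun a => by
      obtain ⟨w, hw, v, hv, hwv⟩ := mem_sup_of_normal_left.mp (hV.sup_eq_top.ge (mem_top a))
      exact ⟨w, hw, v, hv, hwv.symm⟩
    have hle : ⁅U, U⁆ ≤ V.map U.subtype := by
      rw [← map_subtype_commutator U]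
      refine map_mono ?_
      rw [_root_.commutator_def, commutator_le]
      intro a _ b _
      obtain ⟨w, hw, v, hv, rfl⟩ := hc a
      obtain ⟨w', hw', v', hv', rfl⟩ := hc b
      have hz : ∀ s ∈ P.subgroupOf U, ∀ t : U, t * s = s * t := fun s hs t =>
        Subtype.ext (mem_centralizer_iff.mp (hcen t.2) s hs).symm
      have e1 : ∀ t : U, ⁅w * v, t⁆ = ⁅v, t⁆ := fun t => by
        calc ⁅w * v, t⁆ = w * (v * t * v⁻¹) * w⁻¹ * t⁻¹ := by rw [commutatorElement_def]; group
          _ = v * t * v⁻¹ * t⁻¹ := by rw [← hz w hw, mul_inv_cancel_right]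
      have e2 : ⁅v, w' * v'⁆ = ⁅v, v'⁆ := by
        calc ⁅v, w' * v'⁆ = v * w' * (v' * v⁻¹ * v'⁻¹) * w'⁻¹ := by rw [commutatorElement_def]; group
          _ = w' * (v * v' * v⁻¹ * v'⁻¹) * w'⁻¹ := by rw [hz w' hw' v]; group
          _ = _ := by rw [← hz w' hw', mul_inv_cancel_right, commutatorElement_def]
      rw [e1, e2]
      exact mul_mem (mul_mem (mul_mem hv hv') (inv_mem hv)) (inv_mem hv')
    obtain ⟨z, hz, hzx⟩ := hle hxU
    have : z ∈ P.subgroupOf U ⊓ V := ⟨mem_subgroupOf.mpr (by rw [show (z : G) = x' from hzx]; exact hx'P), hz⟩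
    rw [hV.disjoint.eq_bot, mem_bot] at this
    exact hx'1 (by rw [← hzx, this, map_one])
  · obtain ⟨u, hu, huc⟩ := SetLike.not_le_iff_exists.mp hcen
    obtain ⟨y, hy, hyp, hyc⟩ : ∃ y ∈ U, (orderOf y).Coprime p ∧ y ∉ centralizer (P : Set G) := by
      by_contra hall
      push Not at hall
      refine hcen fun w hw => ?_
      have hn : orderOf w ≠ 0 := (orderOf_pos w).ne'
      set k := (orderOf w).factorization p
      set l := orderOf w / p ^ k
      have hlk : p ^ k * l = orderOf w := Nat.ordProj_mul_ordCompl_eq_self _ p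
      have h1 : w ^ p ^ k ∈ centralizer (P : Set G) := hall _ (pow_mem hw _) (by
        rw [orderOf_pow, Nat.gcd_eq_right (Nat.ordProj_dvd _ p)]
        exact (Nat.coprime_ordCompl hp.out hn).symm)
      have h2 : w ^ l ∈ centralizer (P : Set G) := by
        refine hPc' (hP.mem_of_centralizes ((inf_le_left : U ≤ E) (pow_mem hw _))
          ((inf_le_right : U ≤ _) (pow_mem hw _)) (IsPGroup.of_card (n := k) ?_))
        rw [Nat.card_zpowers, orderOf_pow, ← hlk, Nat.gcd_mul_left_left,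
          Nat.mul_div_cancel _ (Nat.pos_of_ne_zero fun h0 => hn (by rw [← hlk, h0, mul_zero]))]
      have h3 : (p ^ k).Coprime l := (Nat.coprime_ordCompl hp.out hn).pow_left k
      obtain ⟨i, j, hij⟩ := (Int.isCoprime_iff_nat_coprime (a := (p ^ k : ℕ)) (b := (l : ℕ))).mpr
        (by simpa using h3)
      have : w = (w ^ p ^ k) ^ i * (w ^ l) ^ j := by
        rw [← zpow_natCast w (p ^ k), ← zpow_natCast w l, ← zpow_mul, ← zpow_mul, ← zpow_add,
          mul_comm ((p ^ k : ℕ) : ℤ) i, mul_comm ((l : ℕ) : ℤ) j, hij, zpow_one]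
      rw [this]
      exact mul_mem (zpow_mem h1 _) (zpow_mem h2 _)
    have hyn : zpowers y ≤ normalizer (P : Set G) := zpowers_le.mpr hy.2
    have hcopy : (Nat.card (zpowers y)).Coprime (Nat.card P) := by
      obtain ⟨i, hi⟩ := IsPGroup.iff_card.mp hP.2.1
      rw [Nat.card_zpowers, hi]
      exact hyp.pow_right i
    obtain ⟨h1, h2⟩ := Cfsg.Lib.Coprime.abelian_coprime_decomp hyn hcopy
    have hbot : P ⊓ centralizer (zpowers y : Set G) = ⊥ := by
      refine (eq_bot_iff_forall _).mpr fun v hv => ?_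
      by_contra hv1
      refine hyc ?_
      exact le_centralizer_iff.mp (ScnUniqueness.le_centralizer_of_cyclic hP.2.1 hPc hyn hcopy hv.1 hv1 hv.2)
        (mem_zpowers y)
    rw [hbot, bot_sup_eq] at h2
    exact h2.ge.trans (commutator_mono hPU (zpowers_le.mpr hy))

theorem isCyclic_of_sylows (hG : Cfsg.IsMinSimpleOddOrder G) {X : Subgroup G} [Group.IsNilpotent X]
    (hXM : X ≤ M) (hr : ∀ q : ℕ, q.Prime → q ∣ Nat.card X → Cfsg.PRankLE q 1 M) : IsCyclic X := by
  haveI : IsZGroup X := by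
    refine (isZGroup_iff X).mpr fun q hq T => ?_
    haveI := Fact.mk hq
    by_cases hqX : q ∣ Nat.card X
    · have h := isCyclic_sylow_of_rank_one hG (T.2.map X.subtype) ((map_subtype_le _).trans hXM) (hr q hq hqX)
      exact isCyclic_of_injective ((T : Subgroup X).equivMapOfInjective _ X.subtype_injective).toMonoidHom
        (MulEquiv.injective _)
    · have hbot : (T : Subgroup X) = ⊥ := eq_bot_of_card_eq _ (by
        obtain ⟨i, hi⟩ := IsPGroup.iff_card.mp T.2
        rcases i with _ | i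
        · rw [hi, pow_zero]
        · exact absurd ((hi ▸ dvd_pow_self q i.succ_ne_zero : q ∣ Nat.card (T : Subgroup X)).trans
            (card_subgroup_dvd_card _)) hqX)
      rw [hbot]
      infer_instance
  infer_instance

theorem hall_tau1_cyclic (hG : Cfsg.IsMinSimpleOddOrder G) (hM : IsCoatom M)
    (hE : Cfsg.IsComplIn E (Cfsg.sigmaCore M) M) {E₁ : Subgroup G}
    (h₁ : Cfsg.IsPiHallOf (Cfsg.tau1 M) E₁ E) : IsCyclic E₁ := by
  have hcop : (Nat.card E₁).Coprime (Nat.card ↥⁅M, M⁆) :=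
    Nat.coprime_of_dvd fun q hq h h' => (h₁.2.1 q hq h).2.2.2.1 h'
  haveI : IsMulCommutative E₁ := ⟨⟨fun a b => by
    refine commutatorElement_eq_one_iff_mul_comm.mp (Subtype.ext ?_)
    refine Cfsg.Lib.Coprime.eq_one_of_coprime hcop (⁅a, b⁆).2 ?_
    rw [show ((⁅a, b⁆ : E₁) : G) = ⁅(a : G), (b : G)⁆ from map_commutatorElement E₁.subtype a b]
    exact commutator_mem_commutator (hE.1 (h₁.1 a.2)) (hE.1 (h₁.1 b.2))⟩⟩
  haveI : Group.IsNilpotent E₁ := by
    letI : CommGroup E₁ := { (inferInstance : Group E₁) with mul_comm := fun a b => IsMulCommutative.is_comm.comm a b }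
    infer_instance
  exact isCyclic_of_sylows hG (h₁.1.trans hE.1) fun q hq h => (h₁.2.1 q hq h).2.2.2.2

theorem hall_tau3 (hG : Cfsg.IsMinSimpleOddOrder G) (hM : IsCoatom M)
    (hE : Cfsg.IsComplIn E (Cfsg.sigmaCore M) M) {E₃ : Subgroup G}
    (h₃ : Cfsg.IsPiHallOf (Cfsg.tau3 M) E₃ E) :
    IsCyclic E₃ ∧ E₃ ≤ ⁅E, E⁆ ∧ E ≤ normalizer (E₃ : Set G) := by
  set D := ⁅E, E⁆ with hD
  haveI : Group.IsNilpotent D := derived_complement_nilpotent hG hM hE
  have hEn : E ≤ normalizer (D : Set G) := fun e he => by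
    refine Cfsg.Lib.Coprime.conjMap_eq_self_iff.mp ?_
    rw [hD]
    show (⁅E, E⁆).map (MulAut.conj e).toMonoidHom = _
    rw [Subgroup.map_commutator]
    exact congrArg₂ _ (Cfsg.Lib.Coprime.conjMap_eq_self (le_normalizer he))
      (Cfsg.Lib.Coprime.conjMap_eq_self (le_normalizer he))
  set O := Cfsg.piCoreOf (Cfsg.tau3 M) D with hO
  have hE₃O : E₃ ≤ O := by
    refine Cfsg.Lib.Coprime.le_of_forall_sylow fun q hq => ?_
    haveI := Fact.mk hq
    obtain ⟨T⟩ : Nonempty (Sylow q E₃) := inferInstance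
    refine ⟨T, ?_⟩
    by_cases hq3 : q ∣ Nat.card E₃
    · have hτ := h₃.2.1 q hq hq3
      obtain ⟨P, hP, hTP⟩ := exists_sylowOf (M := E) (T.2.map E₃.subtype) ((map_subtype_le _).trans h₃.1)
      refine hTP.trans ?_
      have hPD := sylow_le_derived_tau3 hG hM hE hτ hP
      obtain ⟨U, hU⟩ := (hP.2.1.comap_subtype (K := D)).exists_le_sylow
      haveI hUn : (U : Subgroup D).Normal :=
        ((Group.isNilpotent_of_finite_tfae (G := D)).out 0 3 rfl rfl).mp inferInstance q inferInstance U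
      have hle' : P ≤ (U : Subgroup D).map D.subtype := fun x hx =>
        ⟨⟨x, hPD hx⟩, hU (mem_subgroupOf.mpr hx), rfl⟩
      refine hle'.trans
        (map_mono (Cfsg.Lib.Elementary.le_piCore (N := (U : Subgroup D)) fun r hr hrd => ?_))
      obtain ⟨i, hi⟩ := IsPGroup.iff_card.mp U.2
      rw [hi] at hrd
      exact (Nat.prime_dvd_prime_iff_eq hr hq).mp (hr.dvd_of_dvd_pow hrd) ▸ hτ
    · have hbot : (T : Subgroup E₃) = ⊥ := eq_bot_of_card_eq _ (by
        obtain ⟨i, hi⟩ := IsPGroup.iff_card.mp T.2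
        rcases i with _ | i
        · rw [hi, pow_zero]
        · exact absurd ((hi ▸ dvd_pow_self q i.succ_ne_zero : q ∣ Nat.card (T : Subgroup E₃)).trans
            (card_subgroup_dvd_card _)) hq3)
      rw [hbot, Subgroup.map_bot]
      exact bot_le
  have hOE : O ≤ E := (PiCoreOf.le _ D).trans (commutator_le_self E)
  have heq : E₃ = O := by
    refine le_antisymm hE₃O (relIndex_eq_one.mp ?_)
    by_contra hne
    obtain ⟨r, hr, hrd⟩ := Nat.exists_prime_and_dvd hne
    have h1 : r ∣ Nat.card O := hrd.trans (by rw [relIndex]; exact index_dvd_card _)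
    exact h₃.2.2 r hr (PiCoreOf.isPi _ D r hr h1)
      (hrd.trans ⟨O.relIndex E, (relIndex_mul_relIndex _ _ _ hE₃O hOE).symm⟩)
  have hle : E₃ ≤ D := heq ▸ PiCoreOf.le _ D
  refine ⟨?_, hle, heq ▸ hEn.trans (PiCoreOf.normalizer_le _ D)⟩
  haveI : Group.IsNilpotent E₃ := Group.nilpotent_of_mulEquiv (subgroupOfEquivOfLe hle)
  exact isCyclic_of_sylows hG (h₃.1.trans hE.1) fun q hq h => (h₃.2.1 q hq h).2.2.2

end Cfsg.Lib.OddLocal.Sigma
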