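import Cfsg.Agent.OddLocal.AlphaCore

/-!
# The core `M_σ`
-/

set_option linter.unusedSectionVars false
set_option linter.unusedVariables false
set_option linter.style.haveILetI false

namespace Cfsg.Lib.OddLocal.Sigma

open Subgroup Uniqueness
open Cfsg.Lib.Coprime (conjMap)

universe u

variable {G : Type u} [Group G] [Finite G] {M : Subgroup G}

theorem sigmaCore_eq (M : Subgroup G) : Cfsg.sigmaCore M = Cfsg.piCoreOf (Cfsg.sigma M) M := rfl

theorem sigmaCore_le (M : Subgroup G) : Cfsg.sigmaCore M ≤ M := map_subtype_le _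

theorem sylow_le_sigmaCore (hG : Cfsg.IsMinSimpleOddOrder G) (hM : IsCoatom M) {p : ℕ} [hp : Fact p.Prime]
    (hσ : p ∈ Cfsg.sigma M) (S : Sylow p M) : (S : Subgroup M) ≤ Cfsg.piCore (Cfsg.sigma M) M := by
  set π := QuotientGroup.mk' (alphaIn M)
  set D := (commutator M).map π with hD
  haveI : Group.IsNilpotent D := derived_nilpotent hG hM
  haveI : D.Normal := Normal.map inferInstance _ (QuotientGroup.mk'_surjective _)
  have hSd : (S : Subgroup M) ≤ commutator M := by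
    intro x hx
    have h1 := sylow_le_derived hG hM hσ (isSylowOf_sylow S) (mem_map_of_mem _ hx)
    rw [← map_subtype_commutator M] at h1
    obtain ⟨y, hy, hyx⟩ := h1
    rwa [← Subtype.ext hyx]
  obtain ⟨T, hT⟩ := ((S.2.map π).comap_subtype (K := D)).exists_le_sylow
  haveI hTn : (T : Subgroup D).Normal :=
    ((Group.isNilpotent_of_finite_tfae (G := D)).out 0 3 rfl rfl).mp inferInstance p inferInstance T
  haveI := T.characteristic_of_normal hTn
  haveI : ((T : Subgroup D).map D.subtype).Normal := by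
    rw [← normalizer_eq_top_iff, eq_top_iff]
    exact (normalizer_eq_top (H := D)).ge.trans (Cfsg.Lib.OddP.le_normalizer_map_of_char _)
  refine le_trans (fun x hx => ?_)
    (Cfsg.Lib.Elementary.le_piCore (N := ((T : Subgroup D).map D.subtype).comap π) fun r hr hrd => ?_)
  · exact mem_comap.mpr ⟨⟨π x, mem_map_of_mem π (hSd hx)⟩, hT (mem_map_of_mem π hx), rfl⟩
  · rw [Cfsg.Lib.Coprime.card_comap_mk'] at hrd
    rcases hr.dvd_mul.mp hrd with h | h
    · exact alpha_subset_sigma hG hM (alphaIn_isPi r hr h)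
    · obtain ⟨i, hi⟩ := IsPGroup.iff_card.mp (T.2.map D.subtype)
      rw [hi] at h
      exact (Nat.prime_dvd_prime_iff_eq hr hp.out).mp (hr.dvd_of_dvd_pow h) ▸ hσ

theorem sigmaCore_isPi : ∀ p : ℕ, p.Prime → p ∣ Nat.card (Cfsg.sigmaCore M) → p ∈ Cfsg.sigma M :=
  PiCoreOf.isPi _ M

theorem sigmaCore_hall (hG : Cfsg.IsMinSimpleOddOrder G) (hM : IsCoatom M) :
    Cfsg.IsPiHallOf (Cfsg.sigma M) (Cfsg.sigmaCore M) M := by
  refine ⟨sigmaCore_le M, sigmaCore_isPi, fun p hp hσ hd => ?_⟩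
  haveI := Fact.mk hp
  obtain ⟨S⟩ : Nonempty (Sylow p M) := inferInstance
  refine S.not_dvd_index (dvd_trans ?_ (index_dvd_of_le (sylow_le_sigmaCore hG hM hσ S)))
  rwa [relIndex, show (Cfsg.sigmaCore M).subgroupOf M = Cfsg.piCore (Cfsg.sigma M) M from
    comap_map_eq_self_of_injective M.subtype_injective _] at hd

theorem sigmaCore_hall_top (hG : Cfsg.IsMinSimpleOddOrder G) (hM : IsCoatom M) :
    Cfsg.IsPiHall (Cfsg.sigma M) (Cfsg.sigmaCore M) := by
  refine ⟨sigmaCore_isPi, fun p hp hσ hd => ?_⟩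
  haveI := Fact.mk hp
  obtain ⟨P, hPM, -⟩ := exists_sylow_le hσ
  obtain ⟨S, hS⟩ := (isSylowOf_coe P hPM).exists_sylow
  refine P.not_dvd_index (hd.trans (index_dvd_of_le ?_))
  rw [← hS]
  exact map_mono (sylow_le_sigmaCore hG hM hσ S)

theorem eq_sigmaCore {N : Subgroup G} (hn : M ≤ normalizer (N : Set G))
    (hN : Cfsg.IsPiHallOf (Cfsg.sigma M) N M) : N = Cfsg.sigmaCore M := by
  have hle : N ≤ Cfsg.sigmaCore M := PiCoreOf.le_piCoreOf hN.1 hn hN.2.1
  refine le_antisymm hle (relIndex_eq_one.mp ?_)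
  by_contra hne
  obtain ⟨r, hr, hrd⟩ := Nat.exists_prime_and_dvd hne
  have h1 : r ∣ Nat.card (Cfsg.sigmaCore M) := hrd.trans (by
    rw [relIndex]
    exact index_dvd_card _)
  exact hN.2.2 r hr (sigmaCore_isPi r hr h1)
    (hrd.trans ⟨(Cfsg.sigmaCore M).relIndex M, (relIndex_mul_relIndex _ _ _ hle (sigmaCore_le M)).symm⟩)

end Cfsg.Lib.OddLocal.Sigma
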