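import Cfsg.Agent.OddLocal.TauOneBeta

/-!
# Complements normalizing a `σ`-Sylow group, and lines of cyclic groups
-/

set_option linter.unusedSectionVars false
set_option linter.unusedVariables false
set_option linter.style.haveILetI false

namespace Cfsg.Lib.OddLocal.RankTwoMax

open Subgroup Uniqueness Sigma
open Cfsg.Lib.Coprime (conjMap)
open scoped commutatorElement

universe u

variable {G : Type u} [Group G] [Finite G] {L S E : Subgroup G} {q : ℕ} [hq : Fact q.Prime]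

/-- A complement of `L_σ` normalizing a given Sylow group of `L_σ`. -/
theorem exists_complement_normalizing (hG : Cfsg.IsMinSimpleOddOrder G) (hL : IsCoatom L)
    (hσ : q ∈ Cfsg.sigma L) (hS : IsSylowOf q S L) :
    ∃ E : Subgroup G, Cfsg.IsComplIn E (Cfsg.sigmaCore L) L ∧ E ≤ normalizer (S : Set G) := by
  obtain ⟨E₀, hE₀⟩ := exists_complement hG hL
  obtain ⟨S₀, hE₀S⟩ := Cfsg.Lib.Coprime.exists_invariant_sylow
    (hE₀.1.trans (le_normalizer_sigmaCore L)) (coprime_complement hG hL hE₀).symm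
    (Or.inl (hG.2.2.2 _ (FittingUniqueness.ne_top_of_le_coatom hL hE₀.1))) q
  obtain ⟨m, hm, hmS⟩ := card_eq_of_sylowOf (isSylowOf_of_sigmaCore hG hL hσ S₀) hS
  refine ⟨conjMap m E₀, isComplIn_conj hE₀ hm, ?_⟩
  rw [← hmS, Cfsg.Lib.Coprime.normalizer_conjMap]
  exact Cfsg.Lib.Coprime.conjMap_mono hE₀S

/-- A Sylow group for `q ∈ σ(L) ∖ β(L)` is `[S, E]`. -/
theorem sylow_eq_commutator_complement (hG : Cfsg.IsMinSimpleOddOrder G) (hL : IsCoatom L)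
    (hσ : q ∈ Cfsg.sigma L) (hβ : q ∉ Cfsg.beta L) (hS : IsSylowOf q S L)
    (hE : Cfsg.IsComplIn E (Cfsg.sigmaCore L) L) (hES : E ≤ normalizer (S : Set G)) : ⁅S, E⁆ = S := by
  set H := Cfsg.sigmaCore L with hH
  set K := Op q H with hK
  set D := ⁅S, E⁆ with hD
  have hDS : D ≤ S := Cfsg.Lib.Coprime.commutator_le_of_le_normalizer hES
  have hSH : S ≤ H := le_sigmaCore_of_pgroup hG hL hσ hS.2.1 hS.1
  have hpn : PNil q H := pnil_of_le_derived hG hL hσ.2.1 hβ (sigmaCore_le_derived hG hL)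
  have hLK : L ≤ normalizer (K : Set G) :=
    (le_normalizer_sigmaCore L).trans (PiCoreOf.normalizer_le _ _)
  have hcov : H ≤ K ⊔ S := by
    refine Cfsg.Lib.Coprime.le_of_forall_sylow fun t ht => ?_
    haveI := Fact.mk ht
    by_cases htq : t = q
    · subst htq
      obtain ⟨S', hS'⟩ := (show IsSylowOf t S H from
        ⟨hSH, hS.2.1, fun Y hY hYH hle => hS.2.2 Y hY (hYH.trans (sigmaCore_le L)) hle⟩).exists_sylow
      exact ⟨S', hS'.le.trans le_sup_right⟩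
    · obtain ⟨S'⟩ : Nonempty (Sylow t H) := inferInstance
      refine ⟨S', ?_⟩
      rintro _ ⟨y, hy, rfl⟩
      refine mem_sup_left ?_
      rw [hK, Op_eq]
      refine mem_map_of_mem _ (hpn y ?_)
      obtain ⟨j, hj⟩ := IsPGroup.iff_card.mp (S'.2.to_le (zpowers_le.mpr hy))
      rw [← Nat.card_zpowers, hj]
      exact ((Nat.coprime_primes ht hq.out).mpr htq).pow_left j
  have hHE : H ≤ K ⊔ D := by
    refine le_trans (commutator_complement hG hL hE).ge ?_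
    rw [commutator_le]
    intro y hy e he
    obtain ⟨k, hk, s, hs, rfl⟩ := (Cfsg.Lib.Coprime.mem_sup_of_le_normalizer (hS.1.trans hLK)).mp (hcov hy)
    rw [show ⁅k * s, e⁆ = k * ⁅s, e⁆ * k⁻¹ * ⁅k, e⁆ by simp only [commutatorElement_def]; group]
    refine mul_mem (mul_mem (mul_mem (mem_sup_left hk) (mem_sup_right (commutator_mem_commutator hs he)))
      (inv_mem (mem_sup_left hk))) (mem_sup_left ?_)
    exact Cfsg.Lib.Coprime.commutator_le_of_le_normalizer (hE.1.trans hLK) (commutator_mem_commutator hk he)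
  refine le_antisymm hDS fun s hs => ?_
  obtain ⟨k, hk, d, hd, hkd⟩ :=
    (Cfsg.Lib.Coprime.mem_sup_of_le_normalizer ((hDS.trans hS.1).trans hLK)).mp (hHE (hSH hs))
  have hk1 : k = 1 := Cfsg.Lib.Coprime.eq_one_of_coprime (N := K) (H := S) (coprime_card_of_disjoint
    fun t ht h1 h2 => ht.not_dvd_one ((Nat.dvd_gcd h1 (dvd_of_eq (eq_of_dvd_pgroup hS.2.1 ht h2))).trans
      (dvd_of_eq (coprime_Op H)))) hk (by
    rw [show k = s * d⁻¹ by rw [← hkd, mul_inv_cancel_right]]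
    exact mul_mem hs (inv_mem (hDS hd)))
  rwa [← hkd, hk1, one_mul]

/-- Derived groups act trivially on a line. -/
theorem commutator_le_centralizer_line {A X : Subgroup G} (hX : IsCyclic X)
    (hA : A ≤ normalizer (X : Set G)) : ⁅A, A⁆ ≤ centralizer (X : Set G) := by
  rw [commutator_le]
  intro g hg h hh
  obtain ⟨⟨x, hx⟩, hgen⟩ := hX.exists_generator
  have hgen' : ∀ y ∈ X, y ∈ zpowers x := fun y hy => by
    obtain ⟨i, hi⟩ := mem_zpowers_iff.mp (hgen ⟨y, hy⟩)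
    exact mem_zpowers_iff.mpr ⟨i, by simpa using congrArg Subtype.val hi⟩
  have key : ∀ a ∈ normalizer (X : Set G), ∃ i : ℤ, ∀ y ∈ X, a * y * a⁻¹ = y ^ i := by
    intro a ha
    obtain ⟨i, hi⟩ := mem_zpowers_iff.mp (hgen' _ ((mem_normalizer_iff.mp ha x).mp hx))
    refine ⟨i, fun y hy => ?_⟩
    obtain ⟨k, rfl⟩ := mem_zpowers_iff.mp (hgen' y hy)
    rw [← conj_zpow, ← hi, ← zpow_mul, ← zpow_mul, mul_comm]
  obtain ⟨i, hi⟩ := key g⁻¹ (inv_mem (hA hg))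
  obtain ⟨j, hj⟩ := key h⁻¹ (inv_mem (hA hh))
  refine mem_centralizer_iff.mpr fun y hy => ?_
  have e1 : g⁻¹ * h⁻¹ * y * (g⁻¹ * h⁻¹)⁻¹ = y ^ (j * i) := by
    rw [show g⁻¹ * h⁻¹ * y * (g⁻¹ * h⁻¹)⁻¹ = g⁻¹ * (h⁻¹ * y * h⁻¹⁻¹) * g⁻¹⁻¹ by group, hj y hy,
      ← conj_zpow, hi y hy, ← zpow_mul, mul_comm]
  have e2 : h⁻¹ * g⁻¹ * y * (h⁻¹ * g⁻¹)⁻¹ = y ^ (j * i) := by
    rw [show h⁻¹ * g⁻¹ * y * (h⁻¹ * g⁻¹)⁻¹ = h⁻¹ * (g⁻¹ * y * g⁻¹⁻¹) * h⁻¹⁻¹ by group, hi y hy,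
      ← conj_zpow, hj y hy, ← zpow_mul]
  refine (mul_inv_eq_iff_eq_mul.mp ?_).symm
  calc ⁅g, h⁆ * y * ⁅g, h⁆⁻¹
      = (h⁻¹ * g⁻¹)⁻¹ * (g⁻¹ * h⁻¹ * y * (g⁻¹ * h⁻¹)⁻¹) * (h⁻¹ * g⁻¹) := by
        simp only [commutatorElement_def]; group
    _ = (h⁻¹ * g⁻¹)⁻¹ * (h⁻¹ * g⁻¹ * y * (h⁻¹ * g⁻¹)⁻¹) * (h⁻¹ * g⁻¹) := by rw [e1, e2]
    _ = y := by group

/-- Subgroups of prime order of a rank one prime are conjugate. -/
theorem conj_of_rank_one (hG : Cfsg.IsMinSimpleOddOrder G) {X Y C : Subgroup G} (hX : X ≤ C) (hY : Y ≤ C)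
    (hXc : Nat.card X = q) (hYc : Nat.card Y = q) (hCL : C ≤ L) (hr : Cfsg.PRankLE q 1 L) :
    ∃ c ∈ C, conjMap c X = Y := by
  obtain ⟨R, hR, hXR⟩ := exists_sylowOf (isPGroup_of_card hXc) hX
  obtain ⟨R', hR', hYR⟩ := exists_sylowOf (isPGroup_of_card hYc) hY
  obtain ⟨c, hc, hcR⟩ := card_eq_of_sylowOf hR hR'
  exact ⟨c, hc, eq_of_cyclic (isCyclic_sylow_of_rank_one hG hR'.2.1 (hR'.1.trans hCL) hr)
    ((Cfsg.Lib.Coprime.conjMap_mono hXR).trans hcR.le) hYR (by rw [Cfsg.Lib.Coprime.card_conjMap, hXc, hYc])⟩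

end Cfsg.Lib.OddLocal.RankTwoMax
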