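import Cfsg.Agent.OddLocal.TauOneDual
import Cfsg.Agent.OddLocal.SylowLift
import Cfsg.Agent.OddLocal.CN

/-!
# Two maximal subgroups with a common `σ`-prime: lemmas
-/

set_option linter.unusedSectionVars false
set_option linter.unusedVariables false
set_option linter.style.haveILetI false

namespace Cfsg.Lib.OddLocal.RankTwoMax

open Subgroup Uniqueness Sigma
open Cfsg.Lib.Coprime (conjMap)
open scoped commutatorElement

universe u

variable {G : Type u} [Group G] [Finite G] {M N S : Subgroup G} {p : ℕ} [hp : Fact p.Prime]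

/-- Common `σ`-Sylow normalizers exclude nilpotent cores. -/
theorem not_nilpotent_of_common (hG : Cfsg.IsMinSimpleOddOrder G) (hM : IsCoatom M) (hN : IsCoatom N)
    (hne : N ≠ M) (hσ : p ∈ Cfsg.sigma M) (hS : IsSylowOf p S M) (hSN : normalizer (S : Set G) ≤ N) :
    ¬ Group.IsNilpotent (Cfsg.sigmaCore M) ∧ ∀ t : ℕ, t.Prime → t ∉ Cfsg.sigma M → Cfsg.PRankLE t 1 M := by
  have hnil : ¬ Group.IsNilpotent (Cfsg.sigmaCore M) := fun hn => by
    obtain ⟨S', hS', -, hMS', -⟩ := sylow_sigma_normal hG hM hn hσ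
    obtain ⟨m, hm, hmS⟩ := card_eq_of_sylowOf hS' hS
    rw [Cfsg.Lib.Coprime.conjMap_eq_self (hMS' hm)] at hmS
    rcases hM.le_iff.mp ((hmS ▸ hMS' : M ≤ normalizer (S : Set G)).trans hSN) with h | h
    · exact hN.1 h
    · exact hne h
  refine ⟨hnil, fun t ht htσ => ?_⟩
  haveI := Fact.mk ht
  by_contra hr
  obtain ⟨E, hE⟩ := exists_complement hG hM
  obtain ⟨B, hBE, hB, hBc⟩ := exists_sq_complement hG hM hE ⟨ht, htσ, pRankLE_of_not_sigma hG hM htσ, hr⟩
  obtain ⟨B₀, hx⟩ := exists_exc hG hM htσ (hBE.trans hE.1) hB hBc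
  exact hnil (hx.nilpotent hG)

/-- A prime of `α(M)` is found in `β(M)`. -/
theorem exists_beta_of_common (hG : Cfsg.IsMinSimpleOddOrder G) (hM : IsCoatom M) (hN : IsCoatom N)
    (hnc : ∀ g : G, N ≠ conjMap g M) (hne : N ≠ M) (hσ : p ∈ Cfsg.sigma M) (hσN : p ∈ Cfsg.sigma N)
    (hS : IsSylowOf p S M) (hSN : normalizer (S : Set G) ≤ N) (hpβ : p ∉ Cfsg.beta M) :
    ∃ q : ℕ, q.Prime ∧ q ∈ Cfsg.beta M ∧ q ∉ Cfsg.sigma N ∧ q ≠ p := by
  obtain ⟨hnil, -⟩ := not_nilpotent_of_common hG hM hN hne hσ hS hSN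
  have h1 : Cfsg.alphaCore M ≠ ⊥ := fun h0 => hnil (by
    haveI := derived_nilpotent_of_alphaCore_eq_bot hG hM h0
    exact CN.nilpotent_of_le (sigmaCore_le_derived hG hM) this)
  obtain ⟨q, hq, hqd⟩ := Nat.exists_prime_and_dvd (fun h => h1 (card_eq_one.mp h))
  haveI := Fact.mk hq
  have hqα : q ∈ Cfsg.alpha M := (alphaCore_hall hG hM).2.1 q hq hqd
  have hqN : q ∉ Cfsg.sigma N := fun h => by
    obtain ⟨g, hg⟩ := conj_of_alpha hG hM hN hqα h
    exact hnc g hg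
  have hqp : q ≠ p := fun e => hqN (e ▸ hσN)
  refine ⟨q, hq, by_contra fun hqβ => ?_, hqN, hqp⟩
  obtain ⟨B, hBM, hB, hBc⟩ := exists_elementary (p := q) hqα.2
  obtain ⟨Q, hQ, hBQ⟩ := exists_centralized_sylow (p := q) hG hM hqp.symm (alpha_subset_sigma hG hM hqα) hσ
    hqβ hpβ (isPGroup_of_pow hB.2) hBM
  obtain ⟨m, hm, hmQ⟩ := card_eq_of_sylowOf hQ hS
  have hBN : conjMap m B ≤ N := by
    refine le_trans ?_ ((centralizer_le_normalizer _).trans hSN)
    rw [← hmQ]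
    exact fun y hy => mem_centralizer_conjMap.mpr (Cfsg.Lib.Coprime.conjMap_mono hBQ hy)
  exact hqN (alpha_subset_sigma hG hN ⟨hq, not_pRankLE_of (Cfsg.Lib.OddP.isElementaryAbelian_map hB _) hBN
    (by rw [Cfsg.Lib.Coprime.card_conjMap]; exact hBc)⟩)

/-- An element moving a `σ`-Sylow group has order in `τ₁`. -/
theorem tau_one_of_move (hG : Cfsg.IsMinSimpleOddOrder G) (hM : IsCoatom M) (hσ : p ∈ Cfsg.sigma M)
    (hβ : p ∉ Cfsg.beta M) (hS : IsPGroup p S) (hSM : S ≤ M)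
    (hr : ∀ t : ℕ, t.Prime → t ∉ Cfsg.sigma M → Cfsg.PRankLE t 1 M) {a : G} (haM : a ∈ M)
    (haS : a ∈ normalizer (S : Set G)) {s : ℕ} [hs : Fact s.Prime] (hao : orderOf a = s) (hsp : s ≠ p)
    (hmove : a ∉ centralizer (S : Set G)) : s ∈ Cfsg.tau1 M := by
  have hc : Nat.card (zpowers a) = s := by rw [Nat.card_zpowers, hao]
  have hkill : zpowers a ≤ ⁅M, M⁆ → False := fun h => hmove (centralizes_of_derived hG hM hβ
    (sylow_le_derived' hG hM hσ hS hSM) h hS (coprime_of_ne hsp (isPGroup_of_card hc)) (zpowers_le.mpr haS)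
    (mem_zpowers a))
  have hsM : zpowers a ≤ M := zpowers_le.mpr haM
  have hsσ : s ∉ Cfsg.sigma M := fun h => hkill (sylow_le_derived' hG hM h (isPGroup_of_card hc) hsM)
  exact ⟨hs.out, hsσ, (dvd_of_eq hc.symm).trans (card_dvd_of_le hsM),
    fun hd => hkill (le_derived_of_rank_one hG hM (hr s hs.out hsσ) hd hc hsM), hr s hs.out hsσ⟩

/-- A fixed element of order `q` outside the centralizer of `S`, above a given invariant subgroup. -/
theorem exists_fixed_not_centralized (hG : Cfsg.IsMinSimpleOddOrder G) (hM : IsCoatom M) (hN : IsCoatom N)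
    (hσ : p ∈ Cfsg.sigma M) (hpβ : p ∉ Cfsg.beta M) (hS : IsSylowOf p S M)
    (hSN : normalizer (S : Set G) ≤ N) {q : ℕ} [hq : Fact q.Prime] (hqβ : q ∈ Cfsg.beta M)
    (hqN : q ∉ Cfsg.sigma N) {a : G} {s : ℕ} [hs : Fact s.Prime] (haM : a ∈ M) (hao : orderOf a = s)
    (hsσ : s ∉ Cfsg.sigma M) (haS : a ∈ normalizer (S : Set G)) (hfix : S ⊓ centralizer ({a} : Set G) = ⊥)
    {U : Subgroup G} (hU : IsPGroup q U) (hUM : U ≤ M) (hUn : S ⊔ zpowers a ≤ normalizer (U : Set G)) :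
    ∃ T : Subgroup G, IsPGroup q T ∧ T ≤ M ∧ U ≤ T ∧
      ∃ x ∈ T, x ^ q = 1 ∧ x * a = a * x ∧ x ∉ centralizer (S : Set G) := by
  have hc : Nat.card (zpowers a) = s := by rw [Nat.card_zpowers, hao]
  have haS' : zpowers a ≤ normalizer (S : Set G) := zpowers_le.mpr haS
  have hSa : S ⊔ zpowers a ≤ M := sup_le hS.1 (zpowers_le.mpr haM)
  set W := Cfsg.piCoreOf (Cfsg.beta M) M with hW
  have hWM : W ≤ M := PiCoreOf.le _ _
  have hWπ : ∀ t : ℕ, t.Prime → t ∣ Nat.card W → t ∈ Cfsg.beta M := (betaCore_hall hG hM).1.2.1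
  have hqW : ∀ Y : Subgroup G, IsPGroup q Y → Y ≤ M → Y ≤ W := by
    intro Y hY hYM y hy
    obtain ⟨R, hR⟩ := (hY.comap_subtype (K := M)).exists_le_sylow
    exact ⟨⟨y, hYM hy⟩, sylow_le_betaCore hG hM hqβ R (hR hy), rfl⟩
  have hsp : s ≠ p := fun e => hsσ (e ▸ hσ)
  have hqp : q ≠ p := fun e => hpβ (e ▸ hqβ)
  have hsq : s ≠ q := fun e => hsσ (alpha_subset_sigma hG hM (e ▸ hqβ).1)
  obtain ⟨T₀, hUT, hT₀⟩ := Cfsg.Lib.Coprime.exists_invariant_sylow_ge (A := S ⊔ zpowers a) (K := W)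
    (hSa.trans (PiCoreOf.le_normalizer' _ _)) (coprime_card_of_disjoint fun t ht h1 h2 => by
      rcases dvd_card_sup haS' ht h1 with h | h
      · exact hpβ (eq_of_dvd_pgroup hS.2.1 ht h ▸ hWπ t ht h2)
      · exact hsσ (alpha_subset_sigma hG hM (eq_of_dvd_pgroup (isPGroup_of_card (p := s) hc) ht h ▸ hWπ t ht h2).1))
    (Or.inl (hG.2.2.2 _ (FittingUniqueness.ne_top_of_le_coatom hM hSa))) q (hqW U hU hUM) hU hUn
  set T := (T₀ : Subgroup W).map W.subtype with hT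
  refine ⟨T, T₀.2.map _, (map_subtype_le _).trans hWM, hUT, ?_⟩
  by_contra hno
  have hST : S ≤ centralizer (T : Set G) := centralizes_of_fixed_small
    (ne_two hG (T₀.2.map W.subtype : IsPGroup q T) ?_) hao haS'
    (coprime_of_ne hsp.symm hS.2.1) (coprime_of_ne hqp.symm hS.2.1) hsq hfix _ T le_rfl (T₀.2.map _)
    (le_sup_left.trans hT₀) (le_sup_right.trans hT₀)
    (fun x hx hxq hxa => by_contra fun hxS => hno ⟨x, hx, hxq, hxa, hxS⟩)
  · obtain ⟨B, hBM, hB, hBc⟩ := exists_elementary (p := q) hqβ.1.2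
    obtain ⟨R, hR, hBR⟩ := exists_sylowOf (isPGroup_of_pow hB.2) (hqW B (isPGroup_of_pow hB.2) hBM)
    obtain ⟨m, -, hmR⟩ := card_eq_of_sylowOf hR (isSylowOf_sylow T₀)
    refine hqN (alpha_subset_sigma hG hN ⟨hq.out, not_pRankLE_of
      (Cfsg.Lib.OddP.isElementaryAbelian_map hB (MulAut.conj m).toMonoidHom) ?_
      (by rw [show B.map (MulAut.conj m).toMonoidHom = conjMap m B from rfl,
        Cfsg.Lib.Coprime.card_conjMap]; exact hBc)⟩)
    exact ((Cfsg.Lib.Coprime.conjMap_mono hBR).trans hmR.le).trans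
      ((le_centralizer_iff.mp hST).trans ((centralizer_le_normalizer _).trans hSN))
  · intro (h0 : T = ⊥)
    have h1 : q ∣ Nat.card (T₀ : Subgroup W) := T₀.dvd_card_of_dvd_card (by
      obtain ⟨B, hBM, hB, hBc⟩ := exists_elementary (p := q) hqβ.1.2
      refine (dvd_card_of_isPGroup (isPGroup_of_pow hB.2) fun hb => ?_).trans
        (card_dvd_of_le (hqW B (isPGroup_of_pow hB.2) hBM))
      rw [hb, card_bot] at hBc
      exact absurd hBc (by simp only [not_le]; exact Nat.one_lt_pow (by norm_num) hq.out.one_lt))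
    rw [← card_map_of_injective W.subtype_injective (K := (T₀ : Subgroup W))] at h1
    change q ∣ Nat.card T at h1
    rw [h0, card_bot] at h1
    exact hq.out.not_dvd_one h1

end Cfsg.Lib.OddLocal.RankTwoMax
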