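import Cfsg.Agent.OddLocal.UniquenessTheorem

/-!
# The primes in `σ(M)` and fusion in their subgroups
-/

set_option linter.unusedSectionVars false
set_option linter.unusedVariables false
set_option linter.style.haveILetI false

namespace Cfsg.Lib.OddLocal.Sigma

open Subgroup Uniqueness
open Cfsg.Lib.Coprime (conjMap)

universe u

variable {G : Type u} [Group G] [Finite G] {p : ℕ} [hp : Fact p.Prime] {M : Subgroup G}

theorem exists_sylowOf {X : Subgroup G} (hXp : IsPGroup p X) (hXM : X ≤ M) :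
    ∃ R : Subgroup G, IsSylowOf p R M ∧ X ≤ R := by
  obtain ⟨S, hS⟩ := (hXp.comap_subtype (K := M)).exists_le_sylow
  exact ⟨_, isSylowOf_sylow S, fun x hx => ⟨⟨x, hXM hx⟩, hS hx, rfl⟩⟩

theorem card_eq_of_sylowOf {R R' : Subgroup G} (h : IsSylowOf p R M) (h' : IsSylowOf p R' M) :
    ∃ m ∈ M, conjMap m R = R' := by
  obtain ⟨S, rfl⟩ := h.exists_sylow
  obtain ⟨S', rfl⟩ := h'.exists_sylow
  obtain ⟨m, hm⟩ := MulAction.exists_smul_eq M S S'
  exact ⟨m, m.2, by rw [← hm, Cfsg.Lib.Coprime.map_subtype_smul]⟩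

/-- A Sylow group of `M` for a prime in `σ(M)`. -/
theorem normalizer_le (hσ : p ∈ Cfsg.sigma M) {R : Subgroup G} (hR : IsSylowOf p R M) :
    normalizer (R : Set G) ≤ M := by
  obtain ⟨-, -, S, hS⟩ := hσ
  obtain ⟨m, hm, rfl⟩ := card_eq_of_sylowOf (isSylowOf_sylow S) hR
  rw [Cfsg.Lib.Coprime.normalizer_conjMap]
  exact (Cfsg.Lib.Coprime.conjMap_mono hS).trans (Cfsg.Lib.Coprime.conjMap_eq_self (le_normalizer hm)).le

theorem sylow_max (hσ : p ∈ Cfsg.sigma M) {R : Subgroup G} (hR : IsSylowOf p R M) {S : Subgroup G}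
    (hS : IsPGroup p S) (hRS : R ≤ S) : S = R := by
  by_contra hne
  have h1 := FittingUniqueness.lt_inf_normalizer hS (lt_of_le_of_ne hRS (Ne.symm hne))
  exact h1.ne (hR.2.2 _ (hS.to_le inf_le_left) (inf_le_right.trans (normalizer_le hσ hR)) h1.le).symm

theorem exists_sylow_le (hσ : p ∈ Cfsg.sigma M) : ∃ P : Sylow p G, (P : Subgroup G) ≤ M ∧
    normalizer ((P : Subgroup G) : Set G) ≤ M := by
  obtain ⟨hp', hd, S, hS⟩ := hσ
  have hR := isSylowOf_sylow (X := M) S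
  obtain ⟨P, hP⟩ := hR.2.1.exists_le_sylow
  have h := sylow_max ⟨hp', hd, S, hS⟩ hR P.2 hP
  exact ⟨P, h.le.trans hR.1, by rw [h]; exact hS⟩

theorem conjMap_coatom {N : Subgroup G} (hN : IsCoatom N) (g : G) : IsCoatom (conjMap g N) := by
  refine ⟨fun h => hN.1 (top_le_iff.mp fun x _ => ?_), fun K hK => ?_⟩
  · have h1 : g * x * g⁻¹ ∈ conjMap g N := h ▸ mem_top _
    rw [Cfsg.Lib.Coprime.mem_conjMap] at h1
    simpa [mul_assoc] using h1
  · have h1 : N < conjMap g⁻¹ K := by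
      refine lt_of_le_of_ne ?_ fun h => hK.ne ?_
      · simpa [Cfsg.Lib.Coprime.conjMap_inv_conjMap] using
          Cfsg.Lib.Coprime.conjMap_mono (g := g⁻¹) hK.le
      · rw [h, Cfsg.Lib.Coprime.conjMap_conjMap_inv]
    refine top_le_iff.mp fun x _ => ?_
    have h2 : g⁻¹ * x * g ∈ conjMap g⁻¹ K := (hN.2 _ h1) ▸ mem_top _
    rw [Cfsg.Lib.Coprime.mem_conjMap] at h2
    simpa [mul_assoc] using h2

/-- The conjugates of `M` containing a `p`-subgroup are conjugate under its centralizer. -/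
theorem conj_transitive (hG : Cfsg.IsMinSimpleOddOrder G) (hM : IsCoatom M) (hσ : p ∈ Cfsg.sigma M)
    {X : Subgroup G} (hXp : IsPGroup p X) (hX1 : X ≠ ⊥) {a b : G} (ha : X ≤ conjMap a M)
    (hb : X ≤ conjMap b M) : ∃ c ∈ centralizer (X : Set G), conjMap c (conjMap a M) = conjMap b M := by
  by_contra hcon
  obtain ⟨X₀, -, hX₀⟩ := Finite.exists_le_maximal
    (p := fun Y : Subgroup G => IsPGroup p Y ∧ Y ≠ ⊥ ∧ ∃ a b : G, Y ≤ conjMap a M ∧ Y ≤ conjMap b M ∧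
      ¬ ∃ c ∈ centralizer (Y : Set G), conjMap c (conjMap a M) = conjMap b M)
    (a := X) ⟨hXp, hX1, a, b, ha, hb, hcon⟩
  clear! X a b
  obtain ⟨hXp, hX1, a, b, ha, hb, hcon⟩ := hX₀.prop
  apply hcon
  have hind : ∀ Y : Subgroup G, X₀ < Y → IsPGroup p Y → ∀ a' b' : G, Y ≤ conjMap a' M → Y ≤ conjMap b' M →
      ∃ c ∈ centralizer (X₀ : Set G), conjMap c (conjMap a' M) = conjMap b' M := by
    intro Y hlt hY a' b' ha' hb'
    obtain ⟨c, hc, h⟩ : ∃ c ∈ centralizer (Y : Set G), conjMap c (conjMap a' M) = conjMap b' M := by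
      by_contra hne
      exact hlt.not_ge (hX₀.le_of_ge ⟨hY, fun h0 => hX1 (le_bot_iff.mp (h0 ▸ hlt.le)), a', b', ha', hb', hne⟩
        hlt.le)
    exact ⟨c, centralizer_le hlt.le hc, h⟩
  obtain ⟨P, hPM, hNP⟩ := exists_sylow_le hσ
  have hdata : ∀ g : G, X₀ ≤ conjMap g M →
      (∃ R : Subgroup G, X₀ < R ∧ IsPGroup p R ∧ R ≤ conjMap g M ∧ R ≤ normalizer (X₀ : Set G)) ∨
        ∃ g' : G, X₀ = conjMap g' (P : Subgroup G) ∧ conjMap g M = conjMap g' M := by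
    intro g hg
    have hg' : conjMap g⁻¹ X₀ ≤ M := by
      simpa [Cfsg.Lib.Coprime.conjMap_inv_conjMap] using Cfsg.Lib.Coprime.conjMap_mono (g := g⁻¹) hg
    obtain ⟨R, hR, hXR⟩ := exists_sylowOf (hXp.map _) hg'
    obtain ⟨m, hm, hPR⟩ := card_eq_of_sylowOf (isSylowOf_coe P hPM) hR
    have hXR' : X₀ ≤ conjMap g R := by
      have h1 : conjMap g (conjMap g⁻¹ X₀) ≤ conjMap g R := Cfsg.Lib.Coprime.conjMap_mono hXR
      rwa [Cfsg.Lib.Coprime.conjMap_conjMap_inv] at h1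
    rcases hXR'.lt_or_eq with hlt | heq
    · exact Or.inl ⟨_, FittingUniqueness.lt_inf_normalizer (hR.2.1.map _) hlt,
        ((hR.2.1.map _).to_le inf_le_left), inf_le_left.trans (Cfsg.Lib.Coprime.conjMap_mono hR.1),
        inf_le_right⟩
    · refine Or.inr ⟨g * m, by rw [heq, ← hPR, Cfsg.Lib.Coprime.conjMap_mul], ?_⟩
      rw [← Cfsg.Lib.Coprime.conjMap_mul, Cfsg.Lib.Coprime.conjMap_eq_self (le_normalizer hm)]
  have hfull : ∀ g : G, X₀ = conjMap g (P : Subgroup G) → ∀ Y : Subgroup G, IsPGroup p Y → ¬ X₀ < Y := by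
    intro g hg Y hY hlt
    have hle : (P : Subgroup G) ≤ conjMap g⁻¹ Y := by
      have h2 : conjMap g⁻¹ X₀ ≤ conjMap g⁻¹ Y := Cfsg.Lib.Coprime.conjMap_mono hlt.le
      rwa [hg, Cfsg.Lib.Coprime.conjMap_inv_conjMap] at h2
    have h1 : conjMap g⁻¹ Y = (P : Subgroup G) :=
      sylow_max hσ (isSylowOf_coe P hPM) (hY.map _) hle
    refine hlt.ne ?_
    rw [hg, ← h1]
    exact Cfsg.Lib.Coprime.conjMap_conjMap_inv g Y
  rcases hdata a ha with ⟨R₁, hR₁, hR₁p, hR₁a, hR₁N⟩ | ⟨a', hXa, haM⟩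
  swap
  · rcases hdata b hb with ⟨R₂, hR₂, hR₂p, -, -⟩ | ⟨b', hXb, hbM⟩
    · exact absurd hR₂ (hfull a' hXa R₂ hR₂p)
    refine ⟨1, one_mem _, ?_⟩
    rw [Cfsg.Lib.Coprime.conjMap_one, haM, hbM]
    have h1 : a'⁻¹ * b' ∈ normalizer ((P : Subgroup G) : Set G) := by
      rw [← Cfsg.Lib.Coprime.conjMap_eq_self_iff, ← Cfsg.Lib.Coprime.conjMap_mul, ← hXb, hXa,
        Cfsg.Lib.Coprime.conjMap_inv_conjMap]
    calc conjMap a' M = conjMap a' (conjMap (a'⁻¹ * b') M) := by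
          rw [Cfsg.Lib.Coprime.conjMap_eq_self (le_normalizer (hNP h1))]
      _ = _ := by rw [Cfsg.Lib.Coprime.conjMap_mul, mul_inv_cancel_left]
  rcases hdata b hb with ⟨R₂, hR₂, hR₂p, hR₂b, hR₂N⟩ | ⟨b', hXb, hbM⟩
  swap
  · exact absurd hR₁ (hfull b' hXb R₁ hR₁p)
  -- the normalizer of `X₀`
  set L := normalizer (X₀ : Set G) with hLdef
  have hXt : X₀ ≠ ⊤ := FittingUniqueness.ne_top_of_le_coatom (conjMap_coatom hM a) ha
  have hLt : L ≠ ⊤ := MinSimpleTransitivity.normalizer_ne_top hG hX1 hXt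
  haveI := hG.2.2.2 L hLt
  have hoddL : Odd (Nat.card L) := hG.1.of_dvd_nat (card_subgroup_dvd_card L)
  obtain ⟨Q, hQ, hR₁Q⟩ := exists_sylowOf hR₁p hR₁N
  obtain ⟨S, hQS⟩ := hQ.2.1.exists_le_sylow
  obtain ⟨g, hg⟩ := MulAction.exists_smul_eq G P S
  have hQg : Q ≤ conjMap g M := by
    refine hQS.trans ?_
    rw [← hg, Sylow.coe_subgroup_smul, Cfsg.Lib.Coprime.conj_smul_eq]
    exact Cfsg.Lib.Coprime.conjMap_mono hPM
  obtain ⟨c₁, hc₁, hac⟩ := hind R₁ hR₁ hR₁p a g hR₁a (hR₁Q.trans hQg)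
  -- a conjugate of `conjMap g M` containing `R₂`
  obtain ⟨o, ho, hR₂o⟩ : ∃ o ∈ centralizer (X₀ : Set G), R₂ ≤ conjMap (o * g) M := by
    by_cases hr : Cfsg.PRankLE p 2 Q
    · obtain ⟨Q₂, hQ₂, hR₂Q⟩ := exists_sylowOf hR₂p hR₂N
      obtain ⟨l, hl, rfl⟩ := card_eq_of_sylowOf hQ hQ₂
      obtain ⟨o, ho, n, hn, rfl⟩ := (Cfsg.Lib.Coprime.mem_sup_of_le_normalizer
        (inf_le_left.trans (PiCoreOf.le_normalizer' _ L))).mp (hQ.factor_rank_two hoddL hr hl)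
      refine ⟨o, ?_, ?_⟩
      · have hXL : X₀ ≤ L := le_normalizer
        refine FittingParts.le_centralizer_of_disjoint (PiCoreOf.le _ L)
          (hXL.trans (PiCoreOf.le_normalizer' _ L)) ?_ ho
        obtain ⟨j, hj⟩ := IsPGroup.iff_card.mp hXp
        rw [hj]
        exact (coprime_Op L).pow_right j
      · refine hR₂Q.trans ?_
        rw [← Cfsg.Lib.Coprime.conjMap_mul, Cfsg.Lib.Coprime.conjMap_eq_self hn.2,
          ← Cfsg.Lib.Coprime.conjMap_mul]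
        exact Cfsg.Lib.Coprime.conjMap_mono hQg
    · obtain ⟨E, hEQ, hE, hEc⟩ := exists_elementary hr
      refine ⟨1, one_mem _, ?_⟩
      rw [one_mul]
      exact hR₂N.trans (le_of_unique (ScnUniqueness.unique_of_abelian hG hE hEc) (conjMap_coatom hM g)
        (hEQ.trans hQg) hLt (hEQ.trans hQ.1))
  obtain ⟨c₂, hc₂, hob⟩ := hind R₂ hR₂ hR₂p (o * g) b hR₂o hR₂b
  refine ⟨c₂ * o * c₁, mul_mem (mul_mem hc₂ ho) hc₁, ?_⟩
  rw [← Cfsg.Lib.Coprime.conjMap_mul, hac, ← Cfsg.Lib.Coprime.conjMap_mul, Cfsg.Lib.Coprime.conjMap_mul o g,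
    hob]

theorem factor_conj (hG : Cfsg.IsMinSimpleOddOrder G) (hM : IsCoatom M) (hσ : p ∈ Cfsg.sigma M)
    {X : Subgroup G} (hXp : IsPGroup p X) (hX1 : X ≠ ⊥) (hXM : X ≤ M) {g : G} (hg : conjMap g X ≤ M) :
    ∃ m ∈ M, ∃ c ∈ centralizer (X : Set G), g = m * c := by
  obtain ⟨c, hc, h⟩ := conj_transitive hG hM hσ hXp hX1 (a := 1) (b := g⁻¹)
    (by rwa [Cfsg.Lib.Coprime.conjMap_one])
    (by simpa [Cfsg.Lib.Coprime.conjMap_inv_conjMap] using Cfsg.Lib.Coprime.conjMap_mono (g := g⁻¹) hg)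
  rw [Cfsg.Lib.Coprime.conjMap_one] at h
  have hM1 : M ≠ ⊥ := fun h0 => hX1 (le_bot_iff.mp (h0 ▸ hXM))
  have hgc : g * c ∈ M := by
    refine (FittingUniqueness.normalizer_le_coatom hG hM hM1 hM.1 le_normalizer).le ?_
    rw [← Cfsg.Lib.Coprime.conjMap_eq_self_iff, ← Cfsg.Lib.Coprime.conjMap_mul, h,
      Cfsg.Lib.Coprime.conjMap_conjMap_inv]
  exact ⟨g * c, hgc, c⁻¹, inv_mem hc, by rw [mul_inv_cancel_right]⟩

theorem normalizer_eq (hG : Cfsg.IsMinSimpleOddOrder G) (hM : IsCoatom M) (hσ : p ∈ Cfsg.sigma M)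
    {X : Subgroup G} (hXp : IsPGroup p X) (hX1 : X ≠ ⊥) (hXM : X ≤ M) :
    normalizer (X : Set G) = (M ⊓ normalizer (X : Set G)) ⊔ centralizer (X : Set G) := by
  refine le_antisymm (fun g hg => ?_) (sup_le inf_le_right (centralizer_le_normalizer _))
  obtain ⟨m, hm, c, hc, rfl⟩ := factor_conj hG hM hσ hXp hX1 hXM
    ((Cfsg.Lib.Coprime.conjMap_eq_self hg).le.trans hXM)
  refine mul_mem_sup ⟨hm, ?_⟩ hc
  simpa using mul_mem hg (inv_mem (centralizer_le_normalizer _ hc))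

end Cfsg.Lib.OddLocal.Sigma
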