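import Cfsg.Agent.OddLocal.SigmaNormalizer

/-!
# Intersections of `M_σ` with conjugates of `M`
-/

set_option linter.unusedSectionVars false
set_option linter.unusedVariables false
set_option linter.style.haveILetI false

namespace Cfsg.Lib.OddLocal.RankTwoMax

open Subgroup Uniqueness Sigma
open Cfsg.Lib.Coprime (conjMap)
open scoped commutatorElement

universe u

variable {G : Type u} [Group G] [Finite G] {M E : Subgroup G}

theorem quotient_comm_of_commutator_le {N : Subgroup G} {K : Subgroup G} (hNK : N ≤ K)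
    (hKn : K ≤ normalizer (N : Set G)) (h : ⁅K, K⁆ ≤ N) : ∀ a ∈ K, ∀ b ∈ K, ⁅a, b⁆ ∈ N :=
  fun a ha b hb => h (commutator_mem_commutator ha hb)

/-- `[M_σ, E] = M_σ`. -/
theorem commutator_complement (hG : Cfsg.IsMinSimpleOddOrder G) (hM : IsCoatom M)
    (hE : Cfsg.IsComplIn E (Cfsg.sigmaCore M) M) : ⁅Cfsg.sigmaCore M, E⁆ = Cfsg.sigmaCore M := by
  set K := Cfsg.sigmaCore M with hK
  have hEK : E ≤ normalizer (K : Set G) := hE.1.trans (le_normalizer_sigmaCore M)
  set N := ⁅K, E⁆ with hN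
  have hNK : N ≤ K := Cfsg.Lib.Coprime.commutator_le_of_le_normalizer hEK
  have hEN : E ≤ normalizer (N : Set G) := Cfsg.Lib.Coprime.le_normalizer_commutator_right E K
  have hKN : K ≤ normalizer (N : Set G) := Cfsg.Lib.Coprime.le_normalizer_commutator_left E K
  set W := ⁅K, K⁆ ⊔ N with hW
  have hWK : W ≤ K := sup_le (commutator_le_self K) hNK
  have hMn : ∀ x ∈ M, x ∈ normalizer (W : Set G) := by
    intro x hx
    have h1 : M ≤ normalizer ((⁅K, K⁆ : Subgroup G) : Set G) := fun y hy => by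
      refine Cfsg.Lib.Coprime.conjMap_eq_self_iff.mp ?_
      show (⁅K, K⁆).map (MulAut.conj y).toMonoidHom = _
      rw [Subgroup.map_commutator]
      exact congrArg₂ _ (Cfsg.Lib.Coprime.conjMap_eq_self (le_normalizer_sigmaCore M hy))
        (Cfsg.Lib.Coprime.conjMap_eq_self (le_normalizer_sigmaCore M hy))
    have h2 : M ≤ normalizer (N : Set G) := (complement_sup hE).symm.le.trans (sup_le hKN hEN)
    exact Cfsg.Lib.Coprime.le_normalizer_sup h1 h2 hx
  have hWM : W ≤ M := hWK.trans (sigmaCore_le M)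
  -- everything in the derived group lies in `W E`
  haveI hWn : (W.subgroupOf M).Normal := (normal_subgroupOf_iff_le_normalizer hWM).mpr hMn
  set π := QuotientGroup.mk' (W.subgroupOf M) with hπ
  have hKW : ∀ a b : M, (a : G) ∈ K → (b : G) ∈ K ⊔ E → π a * π b = π b * π a := by
    intro a b ha hb
    rw [← commutatorElement_eq_one_iff_mul_comm, ← map_commutatorElement]
    refine (QuotientGroup.eq_one_iff _).mpr (mem_subgroupOf.mpr ?_)
    obtain ⟨c, hc, e, he, hce⟩ := (Cfsg.Lib.Coprime.mem_sup_of_le_normalizer hEK).mp hb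
    show ⁅(a : G), (b : G)⁆ ∈ W
    rw [← hce, show ⁅(a : G), c * e⁆ = ⁅(a : G), c⁆ * (c * ⁅(a : G), e⁆ * c⁻¹) by
      simp only [commutatorElement_def]; group]
    refine mul_mem (mem_sup_left (commutator_mem_commutator ha hc)) (mem_sup_right ?_)
    exact (mem_normalizer_iff.mp (hKN hc) _).mp (commutator_mem_commutator ha he)
  have hder : ⁅M, M⁆ ≤ W ⊔ E := by
    rw [commutator_le]
    intro a ha b hb
    obtain ⟨e, he, k, hk, rfl⟩ := hE.2.2.2 a ha
    obtain ⟨f, hf, l, hl, rfl⟩ := hE.2.2.2 b hb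
    have hab : π ⁅(⟨e * k, ha⟩ : M), ⟨f * l, hb⟩⁆ = π ⁅(⟨e, hE.1 he⟩ : M), ⟨f, hE.1 hf⟩⁆ := by
      have he' : (⟨e * k, ha⟩ : M) = ⟨e, hE.1 he⟩ * ⟨k, sigmaCore_le M hk⟩ := rfl
      have hf' : (⟨f * l, hb⟩ : M) = ⟨f, hE.1 hf⟩ * ⟨l, sigmaCore_le M hl⟩ := rfl
      have hc1 := hKW ⟨k, sigmaCore_le M hk⟩ ⟨f, hE.1 hf⟩ hk (mem_sup_right hf)
      have hc2 := hKW ⟨k, sigmaCore_le M hk⟩ ⟨l, sigmaCore_le M hl⟩ hk (mem_sup_left hl)
      have hc3 := hKW ⟨l, sigmaCore_le M hl⟩ ⟨e, hE.1 he⟩ hl (mem_sup_right he)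
      rw [he', hf', map_commutatorElement, map_commutatorElement, map_mul, map_mul]
      set A := π (⟨e, hE.1 he⟩ : M)
      set B := π (⟨f, hE.1 hf⟩ : M)
      set C := π (⟨k, sigmaCore_le M hk⟩ : M)
      set D := π (⟨l, sigmaCore_le M hl⟩ : M)
      have c1 : Commute C B := hc1
      have c2 : Commute C D := hc2
      have c3 : Commute D A := hc3
      rw [commutatorElement_def, commutatorElement_def]
      calc A * C * (B * D) * (A * C)⁻¹ * (B * D)⁻¹ = A * (C * (B * D)) * C⁻¹ * A⁻¹ * D⁻¹ * B⁻¹ := by group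
        _ = A * ((B * D) * C) * C⁻¹ * A⁻¹ * D⁻¹ * B⁻¹ := by rw [(c1.mul_right c2).eq]
        _ = A * B * (D * A⁻¹) * D⁻¹ * B⁻¹ := by group
        _ = A * B * (A⁻¹ * D) * D⁻¹ * B⁻¹ := by rw [(c3.inv_right).eq]
        _ = _ := by group
    have h1 : (⁅(⟨e, hE.1 he⟩ : M), ⟨f, hE.1 hf⟩⁆)⁻¹ * ⁅(⟨e * k, ha⟩ : M), ⟨f * l, hb⟩⁆ ∈ W.subgroupOf M :=
      QuotientGroup.eq.mp hab.symm
    have h2 : (⁅e, f⁆)⁻¹ * ⁅e * k, f * l⁆ ∈ W := h1
    have h3 : ⁅e, f⁆ ∈ E := commutator_le_self E (commutator_mem_commutator he hf)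
    have h4 := mul_mem (mem_sup_right h3 : ⁅e, f⁆ ∈ W ⊔ E) (mem_sup_left h2)
    rwa [mul_inv_cancel_left] at h4
  have hKWeq : K ≤ W := by
    intro k hk
    obtain ⟨w, hw, e, he, hwe⟩ := (Cfsg.Lib.Coprime.mem_sup_of_le_normalizer
      (hE.1.trans hMn)).mp (hder (sigmaCore_le_derived hG hM hk))
    have h1 : e ∈ E ⊓ K := ⟨he, by
      rw [show e = w⁻¹ * k by rw [← hwe, inv_mul_cancel_left]]
      exact Subgroup.mul_mem _ (Subgroup.inv_mem _ (hWK hw)) hk⟩
    rw [hE.2.2.1, mem_bot] at h1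
    rw [h1, mul_one] at hwe
    exact hwe ▸ hw
  -- solvability
  haveI hsol : Group.IsSolvable ↥K :=
    hG.2.2.2 _ (FittingUniqueness.ne_top_of_le_coatom hM (sigmaCore_le M))
  haveI : (N.subgroupOf K).Normal := (normal_subgroupOf_iff_le_normalizer hNK).mpr hKN
  have hcomm : commutator (↥K ⧸ N.subgroupOf K) = ⊤ := by
    rw [eq_top_iff]
    rintro y -
    obtain ⟨⟨k, hk⟩, rfl⟩ := QuotientGroup.mk'_surjective (N.subgroupOf K) y
    obtain ⟨a, ha, b, hb, hab⟩ := (Cfsg.Lib.Coprime.mem_sup_of_le_normalizer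
      (show N ≤ normalizer ((⁅K, K⁆ : Subgroup G) : Set G) from fun z hz => by
        refine Cfsg.Lib.Coprime.conjMap_eq_self_iff.mp ?_
        show (⁅K, K⁆).map (MulAut.conj z).toMonoidHom = _
        rw [Subgroup.map_commutator]
        exact congrArg₂ _ (Cfsg.Lib.Coprime.conjMap_eq_self (le_normalizer (hNK hz)))
          (Cfsg.Lib.Coprime.conjMap_eq_self (le_normalizer (hNK hz))))).mp (hKWeq hk)
    have hbN : QuotientGroup.mk' (N.subgroupOf K) ⟨b, hNK hb⟩ = 1 :=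
      (QuotientGroup.eq_one_iff _).mpr (mem_subgroupOf.mpr hb)
    obtain ⟨a', ha', haa⟩ := (map_subtype_commutator K).ge ha
    have h1 : (⟨k, hk⟩ : K) = a' * ⟨b, hNK hb⟩ := Subtype.ext (by
      show k = (a' : G) * b
      rw [show (a' : G) = a from haa]; exact hab.symm)
    rw [h1, map_mul, hbN, mul_one, _root_.commutator_def,
      ← Subgroup.map_top_of_surjective _ (QuotientGroup.mk'_surjective (N.subgroupOf K)),
      ← Subgroup.map_commutator]
    exact mem_map_of_mem _ ha'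
  have hsub : Subsingleton (↥K ⧸ N.subgroupOf K) := by
    rw [← not_nontrivial_iff_subsingleton]
    intro hnt
    exact (Group.IsSolvable.commutator_lt_top_of_nontrivial (↥K ⧸ N.subgroupOf K)).ne hcomm
  refine le_antisymm hNK fun k hk => ?_
  have h1 : QuotientGroup.mk' (N.subgroupOf K) ⟨k, hk⟩ = 1 := Subsingleton.elim _ _
  exact mem_subgroupOf.mp ((QuotientGroup.eq_one_iff _).mp h1)

/-- `C_{M_σ}(E) ≤ M_σ'`. -/
theorem inf_centralizer_complement (hG : Cfsg.IsMinSimpleOddOrder G) (hM : IsCoatom M)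
    (hE : Cfsg.IsComplIn E (Cfsg.sigmaCore M) M) :
    Cfsg.sigmaCore M ⊓ centralizer (E : Set G) ≤ ⁅Cfsg.sigmaCore M, Cfsg.sigmaCore M⁆ := by
  set K := Cfsg.sigmaCore M with hK
  set D := ⁅K, K⁆ with hD
  have hDK : D ≤ K := commutator_le_self K
  have hEK : E ≤ normalizer (K : Set G) := hE.1.trans (le_normalizer_sigmaCore M)
  have hKD : normalizer (K : Set G) ≤ normalizer (D : Set G) := fun y hy => by
    refine Cfsg.Lib.Coprime.conjMap_eq_self_iff.mp ?_
    show (⁅K, K⁆).map (MulAut.conj y).toMonoidHom = _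
    rw [Subgroup.map_commutator]
    exact congrArg₂ _ (Cfsg.Lib.Coprime.conjMap_eq_self hy) (Cfsg.Lib.Coprime.conjMap_eq_self hy)
  -- the quotient of `M` by `D`
  haveI : (D.subgroupOf M).Normal := (normal_subgroupOf_iff_le_normalizer (hDK.trans (sigmaCore_le M))).mpr
    ((le_normalizer_sigmaCore M).trans hKD)
  set π := QuotientGroup.mk' (D.subgroupOf M) with hπ
  set V := (K.subgroupOf M).map π with hV
  set A := (E.subgroupOf M).map π with hA
  haveI hVc : IsMulCommutative V := by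
    refine ⟨⟨fun a b => Subtype.ext ?_⟩⟩
    obtain ⟨x, hx, hxa⟩ := mem_map.mp a.2
    obtain ⟨y, hy, hyb⟩ := mem_map.mp b.2
    rw [Subgroup.coe_mul, Subgroup.coe_mul, ← hxa, ← hyb, ← commutatorElement_eq_one_iff_mul_comm,
      ← map_commutatorElement]
    exact (QuotientGroup.eq_one_iff _).mpr
      (mem_subgroupOf.mpr (commutator_mem_commutator (mem_subgroupOf.mp hx) (mem_subgroupOf.mp hy)))
  have hAV : A ≤ normalizer (V : Set (M ⧸ D.subgroupOf M)) := by
    refine (map_mono ?_).trans (le_normalizer_map π)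
    exact fun y hy => mem_normalizer_iff.mpr fun w => mem_normalizer_iff.mp (hEK hy) w
  have hcop : (Nat.card A).Coprime (Nat.card V) := by
    refine Nat.Coprime.coprime_dvd_left (card_map_dvd _ π) (Nat.Coprime.coprime_dvd_right (card_map_dvd _ π) ?_)
    rw [Nat.card_congr (subgroupOfEquivOfLe hE.1).toEquiv,
      Nat.card_congr (subgroupOfEquivOfLe (sigmaCore_le M)).toEquiv]
    exact (coprime_complement hG hM hE).symm
  obtain ⟨hd, -⟩ := Cfsg.Lib.Coprime.abelian_coprime_decomp hAV hcop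
  have htop : ⁅V, A⁆ = V := by
    have h1 : ⁅K.subgroupOf M, E.subgroupOf M⁆ = K.subgroupOf M := by
      refine map_injective M.subtype_injective ?_
      rw [Subgroup.map_commutator, map_subgroupOf_eq_of_le (sigmaCore_le M),
        map_subgroupOf_eq_of_le hE.1, commutator_complement hG hM hE]
    rw [hV, hA, ← Subgroup.map_commutator, h1]
  intro x hx
  have hxM : x ∈ M := sigmaCore_le M hx.1
  have h1 : π ⟨x, hxM⟩ ∈ V ⊓ centralizer (A : Set (M ⧸ D.subgroupOf M)) ⊓ ⁅V, A⁆ := by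
    have hV' : π ⟨x, hxM⟩ ∈ V := mem_map_of_mem π (mem_subgroupOf.mpr hx.1)
    refine ⟨⟨hV', mem_centralizer_iff.mpr ?_⟩, htop.symm.le hV'⟩
    rintro _ ⟨e, he, rfl⟩
    rw [← map_mul, ← map_mul]
    exact congrArg π (Subtype.ext (mem_centralizer_iff.mp hx.2 e he))
  rw [hd, mem_bot] at h1
  exact mem_subgroupOf.mp ((QuotientGroup.eq_one_iff _).mp h1)

/-- Intersections with conjugates. -/
theorem inf_conj_theorem (hG : Cfsg.IsMinSimpleOddOrder G) (hM : IsCoatom M) {g : G} (hg : g ∉ M) :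
    IsCyclic ↥(Cfsg.sigmaCore M ⊓ conjMap g M) ∧
      (∀ p : ℕ, p.Prime → p ∣ Nat.card ↥(Cfsg.sigmaCore M ⊓ conjMap g M) → p ∉ Cfsg.beta M) ∧
      Cfsg.sigmaCore M ⊓ conjMap g M ⊓ ⁅Cfsg.sigmaCore M, Cfsg.sigmaCore M⁆ = ⊥ := by
  set W := Cfsg.sigmaCore M ⊓ conjMap g M with hW
  have hWM : W ≤ M := inf_le_left.trans (sigmaCore_le M)
  -- a nontrivial `p`-subgroup with centralizer in `M`
  have key : ∀ (p : ℕ) [Fact p.Prime], p ∈ Cfsg.sigma M → ∀ U : Subgroup G, IsPGroup p U → U ≠ ⊥ →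
      U ≤ W → ¬ centralizer (U : Set G) ≤ M := by
    intro p _ hσ U hU hU1 hUW hC
    obtain ⟨c, hc, hcM⟩ := conj_transitive hG hM hσ hU hU1 (a := 1)
      (by rw [Cfsg.Lib.Coprime.conjMap_one]; exact hUW.trans hWM) (hUW.trans inf_le_right)
    rw [Cfsg.Lib.Coprime.conjMap_one, Cfsg.Lib.Coprime.conjMap_eq_self (le_normalizer (hC hc))] at hcM
    exact hg (eq_of_conj_fix hG hM hcM.symm)
  have hσW : ∀ p : ℕ, p.Prime → p ∣ Nat.card W → p ∈ Cfsg.sigma M := fun p hp hd =>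
    sigmaCore_isPi p hp (hd.trans (card_dvd_of_le inf_le_left))
  have hord : ∀ p : ℕ, [Fact p.Prime] → p ∣ Nat.card W → ∃ x ∈ W, orderOf x = p := by
    intro p _ hd
    obtain ⟨⟨x, hx⟩, hxo⟩ := exists_prime_orderOf_dvd_card' (G := W) p hd
    exact ⟨x, hx, by rwa [Subgroup.orderOf_mk] at hxo⟩
  have hder : W ⊓ ⁅Cfsg.sigmaCore M, Cfsg.sigmaCore M⁆ = ⊥ := by
    refine eq_bot_of_card_eq _ ?_
    by_contra h1
    obtain ⟨p, hp, hd⟩ := Nat.exists_prime_and_dvd h1
    haveI := Fact.mk hp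
    obtain ⟨⟨x, hx⟩, hxo⟩ := exists_prime_orderOf_dvd_card'
      (G := ↥(W ⊓ ⁅Cfsg.sigmaCore M, Cfsg.sigmaCore M⁆)) p hd
    rw [Subgroup.orderOf_mk] at hxo
    have hσ := hσW p hp (hd.trans (card_dvd_of_le inf_le_left))
    have hXc : Nat.card (zpowers x) = p := by rw [Nat.card_zpowers, hxo]
    obtain ⟨S⟩ : Nonempty (Sylow p ↥(Cfsg.sigmaCore M)) := inferInstance
    have h2 := (sigma_order_p_theorem hG hM hσ (zpowers_le.mpr (hWM hx.1)) hXc S
      (Or.inr (zpowers_le.mpr hx.2))).1.1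
    exact key p hσ (zpowers x) (isPGroup_of_card hXc) (line_ne_bot hXc) (zpowers_le.mpr hx.1) h2
  have hcyc : ∀ (p : ℕ) [Fact p.Prime] (U : Subgroup G), IsPGroup p U → U ≤ W → IsCyclic U := by
    intro p _ U hU hUW
    by_contra hnc
    have hU1 : U ≠ ⊥ := fun h0 => hnc (h0 ▸ inferInstance)
    have hσ := hσW p Fact.out ((dvd_card_of_isPGroup hU hU1).trans (card_dvd_of_le hUW))
    exact key p hσ U hU hU1 hUW ((centralizer_le_normalizer _).trans
      (normalizer_le_of_noncyclic hG hM hσ hU (hUW.trans hWM) hnc))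
  have hWc : IsMulCommutative W := ⟨⟨fun a b => Subtype.ext (commutatorElement_eq_one_iff_mul_comm.mp
    (mem_bot.mp (hder.le (show ⁅(a : G), (b : G)⁆ ∈ W ⊓ _ from
      ⟨commutator_le_self W (commutator_mem_commutator a.2 b.2),
        commutator_mem_commutator a.2.1 b.2.1⟩))))⟩⟩
  refine ⟨?_, fun p hp hd hβ => ?_, hder⟩
  · letI : CommGroup W := { mul_comm := hWc.is_comm.comm }
    refine IsCyclic.iff_exponent_eq_card.mpr (Nat.dvd_antisymm Group.exponent_dvd_nat_card ?_)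
    refine (Nat.dvd_iff_prime_pow_dvd_dvd _ _).mpr fun r k hr hrk => ?_
    haveI := Fact.mk hr
    obtain ⟨H, hH⟩ := Sylow.exists_subgroup_card_pow_prime r hrk
    haveI := hcyc r (H.map W.subtype) ((IsPGroup.of_card hH).map _) (map_subtype_le _)
    obtain ⟨y, hy⟩ := IsCyclic.exists_ofOrder_eq_natCard (α := ↥(H.map W.subtype))
    obtain ⟨z, -, hzy⟩ := mem_map.mp y.2
    rw [card_map_of_injective W.subtype_injective, hH] at hy
    rw [← hy, ← Subgroup.orderOf_coe, ← hzy]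
    exact (orderOf_map_dvd W.subtype z).trans (Monoid.order_dvd_exponent z)
  · haveI := Fact.mk hp
    obtain ⟨x, hx, hxo⟩ := hord p hd
    have hσ := hσW p hp hd
    have hXc : Nat.card (zpowers x) = p := by rw [Nat.card_zpowers, hxo]
    refine key p hσ (zpowers x) (isPGroup_of_card hXc) (line_ne_bot hXc) (zpowers_le.mpr hx) ?_
    rw [Cfsg.Lib.Coprime.centralizer_zpowers]
    exact (unique_centralizer_of_ideal hG hM hβ.2 hσ (hWM hx) hxo).1

end Cfsg.Lib.OddLocal.RankTwoMax
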