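import Cfsg.Agent.OddLocal.DerivedFixedPoint
import Cfsg.Agent.OddLocal.CNThreeStep
import Cfsg.Agent.PGroups.Basic

/-!
# Maximal subgroups whose `σ`-core is not nilpotent
-/

set_option linter.unusedSectionVars false
set_option linter.unusedVariables false
set_option linter.style.haveILetI false

namespace Cfsg.Lib.OddLocal.RankTwoMax

open Subgroup Uniqueness Sigma
open Cfsg.Lib.Coprime (conjMap)
open scoped commutatorElement

universe u

variable {G : Type u} [Group G] [Finite G] {M K U D D' W X : Subgroup G}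

local notation "fix(" M ", " K ")" => Cfsg.sigmaCore M ⊓ centralizer (SetLike.coe K)
set_option quotPrecheck false in
local notation "qof(" M ", " K ")" => Nat.card ↥(Cfsg.sigmaCore M ⊓ centralizer (SetLike.coe K))
set_option quotPrecheck false in
local notation "syl(" M ", " K ")" => FittingParts.O qof(M, K) (Cfsg.sigmaCore M)

/-- The derived subgroup of a maximal subgroup is proper. -/
theorem derived_lt (hG : Cfsg.IsMinSimpleOddOrder G) (hM : IsCoatom M) : ⁅M, M⁆ < M := by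
  haveI : Group.IsSolvable M := hG.2.2.2 M hM.1
  haveI : Nontrivial M := (nontrivial_iff_ne_bot M).mpr fun e =>
    sigmaCore_ne_bot hG hM (le_bot_iff.mp (e ▸ sigmaCore_le M))
  rw [← map_subtype_commutator]
  refine (map_subtype_le _).lt_of_ne fun e => (Group.IsSolvable.commutator_lt_top_of_nontrivial M).ne ?_
  exact map_injective M.subtype_injective (e.trans (by rw [← MonoidHom.range_eq_map, range_subtype]))

/-- A pair whose `σ`-core is not nilpotent. -/
structure NonNil (M K : Subgroup G) : Prop where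
  pair : KappaPair M K
  comm : IsMulCommutative K
  not_nil : ¬ Group.IsNilpotent (Cfsg.sigmaCore M)
  prime_fix : (qof(M, K)).Prime
  derived : ⁅M, M⁆ = Cfsg.sigmaCore M
  sup : Cfsg.sigmaCore M ⊔ K = M

theorem nonNil_of_ne (hG : Cfsg.IsMinSimpleOddOrder G) (hM : IsCoatom M)
    (hKU : Cfsg.IsSigmaDecomposition M K U) (hne : Cfsg.fittingHallOf M ≠ Cfsg.sigmaCore M) :
    U = ⊥ ∧ NonNil M K := by
  have hnil : ¬ Group.IsNilpotent (Cfsg.sigmaCore M) := fun h => hne (sigmaCore_eq_fittingHall hG hM h).symm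
  obtain ⟨E, h⟩ := decomp_split hG hM hKU
  have hU : U = ⊥ := by
    by_contra hU
    exact hnil (h.nilpotent hG hM hU)
  have hEK : K = E := by rw [← h.prod, hU, bot_sup_eq]
  have hsup : Cfsg.sigmaCore M ⊔ K = M := by
    refine le_antisymm (sup_le (sigmaCore_le M) h.K_le_M) fun m hm => ?_
    obtain ⟨e, he, s, hs, rfl⟩ := h.compl.2.2.2 m hm
    exact mul_mem (le_sup_right (a := Cfsg.sigmaCore M) (hEK.ge he)) (le_sup_left (b := K) hs)
  have hK1 : K ≠ ⊥ := fun e => by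
    rw [e, sup_bot_eq] at hsup
    exact (derived_lt hG hM).not_ge (hsup.symm.le.trans (sigmaCore_le_derived hG hM))
  have hp : KappaPair M K := ⟨hM, hKU.hall, hK1⟩
  obtain ⟨L, d⟩ := hp.exists_dual hG
  have hKc : IsMulCommutative K := by
    haveI := hKU.cyclic
    exact IsCyclic.isMulCommutative
  refine ⟨hU, hp, hKc, hnil, ((d.prime_or hG).resolve_left fun h' => hnil h'.2).1, ?_, hsup⟩
  refine le_antisymm ?_ (sigmaCore_le_derived hG hM)
  have := (h.derived_part hG hM hKU.hall hKc).2.2.2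
  rwa [hU, bot_sup_eq] at this

theorem NonNil.max (n : NonNil M K) : IsCoatom M := n.pair.max

theorem NonNil.K_le (n : NonNil M K) : K ≤ M := n.pair.hall.1

theorem NonNil.fix_le_derived (hG : Cfsg.IsMinSimpleOddOrder G) (n : NonNil M K) :
    fix(M, K) ≤ ⁅Cfsg.sigmaCore M, Cfsg.sigmaCore M⁆ := fun x hx => by
  refine fixed_mem_derived (sigmaCore_le M) (le_normalizer_sigmaCore M) hx.1 (n.derived.ge hx.1) (fun m hm => ?_) ?_
  · rw [← n.sup, Cfsg.Lib.Coprime.mem_sup_of_le_normalizer (n.K_le.trans (le_normalizer_sigmaCore M))] at hm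
    obtain ⟨d, hd, k, hk, rfl⟩ := hm
    refine ⟨k⁻¹ * d * k, (mem_normalizer_iff''.mp (le_normalizer_sigmaCore M (n.K_le hk)) d).mp hd, ?_⟩
    have hkx : k * x = x * k := mem_centralizer_iff.mp hx.2 k hk
    have h1 : k * x * k⁻¹ = x := by rw [hkx, mul_inv_cancel_right]
    calc (d * k)⁻¹ * x * (d * k) = k⁻¹ * d⁻¹ * x * d * k := by group
      _ = k⁻¹ * d⁻¹ * (k * x * k⁻¹) * d * k := by rw [h1]
      _ = _ := by group
  · refine Nat.coprime_of_dvd fun r hr h1 h2 => (sigmaCore_hall hG n.max).2.2 r hr ?_ h2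
    exact prime_of_mem_core hx.1 hr h1

theorem NonNil.sigma_q (n : NonNil M K) : qof(M, K) ∈ Cfsg.sigma M :=
  sigmaCore_isPi _ n.prime_fix (card_dvd_of_le inf_le_left)

theorem NonNil.odd_q (hG : Cfsg.IsMinSimpleOddOrder G) (n : NonNil M K) : qof(M, K) ≠ 2 := fun e => by
  have h1 : 2 ∣ Nat.card G := e ▸ card_subgroup_dvd_card _
  exact (Nat.not_even_iff_odd.mpr hG.1) (even_iff_two_dvd.mpr h1)

/-- The Sylow subgroup at `|K*|` of the `σ`-core is normal. -/
theorem NonNil.sylow (hG : Cfsg.IsMinSimpleOddOrder G) (n : NonNil M K) :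
    ¬ qof(M, K) ∣ (syl(M, K)).relIndex (Cfsg.sigmaCore M) := by
  haveI := Fact.mk n.prime_fix
  obtain ⟨X, hXK, hXp⟩ := exists_line n.pair.ne
  haveI := Fact.mk hXp
  obtain ⟨a, ha, ha1⟩ := (Subgroup.bot_or_exists_ne_one X).resolve_left fun e => by
    rw [e, Subgroup.card_bot] at hXp; exact Nat.not_prime_one hXp
  have hao : orderOf a = Nat.card X := by
    rcases (Nat.dvd_prime hXp).mp ((Nat.card_zpowers a).symm ▸ card_dvd_of_le (zpowers_le.mpr ha)) with h | h
    exacts [absurd (orderOf_eq_one_iff.mp h) ha1, h]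
  have hfix := kappa_group_fixed hG n.max n.K_le n.pair.hall.2.1 (hXK ha) ha1
  refine normal_sylow_of_fixed_line (p := Nat.card X) (n.odd_q hG) hao
    (le_normalizer_sigmaCore M (n.K_le (hXK ha))) (hG.2.2.2 _ (FittingUniqueness.ne_top_of_le_coatom n.max (sigmaCore_le M)))
    (Nat.coprime_comm.mpr ((Nat.Prime.coprime_iff_not_dvd hXp).mpr fun hd =>
      (n.pair.hall.2.1 _ hXp (card_dvd_of_le hXK)).2.2.1 (sigmaCore_isPi _ hXp hd))) (by rw [hfix]) ?_
  rw [hfix]
  exact n.fix_le_derived hG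

theorem NonNil.syl_le (M K : Subgroup G) : syl(M, K) ≤ Cfsg.sigmaCore M := PiCoreOf.le _ _

theorem NonNil.syl_isPGroup (n : NonNil M K) : IsPGroup qof(M, K) (syl(M, K)) := by
  haveI := Fact.mk n.prime_fix
  exact FittingParts.isPGroup _

theorem NonNil.le_normalizer_syl (M K : Subgroup G) : M ≤ normalizer (syl(M, K) : Set G) :=
  (le_normalizer_sigmaCore M).trans (PiCoreOf.normalizer_le _ _)

theorem NonNil.core_le_normalizer_syl (M K : Subgroup G) :
    Cfsg.sigmaCore M ≤ normalizer (syl(M, K) : Set G) := PiCoreOf.le_normalizer' _ _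

theorem NonNil.le_syl (hG : Cfsg.IsMinSimpleOddOrder G) (n : NonNil M K) {Y : Subgroup G}
    (hY : IsPGroup qof(M, K) Y) (hYM : Y ≤ Cfsg.sigmaCore M) : Y ≤ syl(M, K) := fun y hy => by
  haveI := Fact.mk n.prime_fix
  refine mem_of_coprime_relIndex (NonNil.core_le_normalizer_syl M K) (hYM hy) fun r hr h1 h2 => n.sylow hG ?_
  exact eq_of_dvd_pgroup hY hr (h1.trans ((Nat.card_zpowers y).symm ▸ card_dvd_of_le (zpowers_le.mpr hy))) ▸ h2

theorem NonNil.fix_le_syl (hG : Cfsg.IsMinSimpleOddOrder G) (n : NonNil M K) : fix(M, K) ≤ syl(M, K) :=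
  haveI := Fact.mk n.prime_fix
  n.le_syl hG (isPGroup_of_card rfl) inf_le_left

theorem NonNil.card_compl (n : NonNil M K) (hD : Cfsg.IsComplIn (syl(M, K)) D (Cfsg.sigmaCore M)) :
    Nat.card D = (syl(M, K)).relIndex (Cfsg.sigmaCore M) :=
  (Nat.eq_of_mul_eq_mul_left Nat.card_pos
    ((card_mul_relIndex (NonNil.syl_le M K)).trans (compl_card hD))).symm

theorem NonNil.compl_coprime (hG : Cfsg.IsMinSimpleOddOrder G) (n : NonNil M K)
    (hD : Cfsg.IsComplIn (syl(M, K)) D (Cfsg.sigmaCore M)) : (Nat.card D).Coprime qof(M, K) := by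
  rw [n.card_compl hD]
  exact (n.prime_fix.coprime_iff_not_dvd.mpr (n.sylow hG)).symm

theorem NonNil.coprime_syl (hG : Cfsg.IsMinSimpleOddOrder G) (n : NonNil M K)
    (hD : Cfsg.IsComplIn (syl(M, K)) D (Cfsg.sigmaCore M)) :
    (Nat.card ↥(syl(M, K))).Coprime (Nat.card D) := by
  haveI := Fact.mk n.prime_fix
  obtain ⟨k, hk⟩ := IsPGroup.iff_card.mp n.syl_isPGroup
  rw [hk]
  exact ((n.compl_coprime hG hD).symm).pow_left k

theorem NonNil.compl_hall (hG : Cfsg.IsMinSimpleOddOrder G) (n : NonNil M K)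
    (hD : Cfsg.IsComplIn (syl(M, K)) D (Cfsg.sigmaCore M)) :
    Cfsg.IsPiHallOf {r | r ≠ qof(M, K)} D (Cfsg.sigmaCore M) := by
  haveI := Fact.mk n.prime_fix
  refine ⟨hD.2.1, fun r hr hd e => (hr.coprime_iff_not_dvd.mp (e ▸ (n.compl_coprime hG hD).symm)) hd,
    fun r hr hne hd => hne ?_⟩
  have : D.relIndex (Cfsg.sigmaCore M) = Nat.card ↥(syl(M, K)) :=
    Nat.eq_of_mul_eq_mul_left Nat.card_pos ((card_mul_relIndex hD.2.1).trans ((compl_card hD).trans (mul_comm _ _)))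
  rw [this] at hd
  exact eq_of_dvd_pgroup n.syl_isPGroup hr hd

theorem NonNil.exists_invariant_compl (hG : Cfsg.IsMinSimpleOddOrder G) (n : NonNil M K) :
    ∃ D : Subgroup G, Cfsg.IsComplIn (syl(M, K)) D (Cfsg.sigmaCore M) ∧ K ≤ normalizer (D : Set G) := by
  haveI := Fact.mk n.prime_fix
  have hKn : K ≤ normalizer (Cfsg.sigmaCore M : Set G) := n.K_le.trans (le_normalizer_sigmaCore M)
  obtain ⟨D, hD, hKD, -⟩ := Cfsg.Lib.Coprime.exists_invariantHall_ge (π := {r | r ≠ qof(M, K)}) (U := ⊥) hKn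
    (coprime_card_of_disjoint fun r hr h1 h2 => (n.pair.hall.2.1 r hr h1).2.2.1 (sigmaCore_isPi r hr h2))
    (hG.2.2.2 _ (FittingUniqueness.ne_top_of_le_coatom n.max (sigmaCore_le M))) bot_le
    ((normalizer_eq_top (H := (⊥ : Subgroup G))).symm ▸ le_top) (fun r hr h => absurd (Subgroup.card_bot (G := G) ▸ h) hr.not_dvd_one)
  have hQD : (Nat.card ↥(syl(M, K))).Coprime (Nat.card D) := coprime_card_of_disjoint fun r hr h1 h2 =>
    hD.2.1 r hr h2 (eq_of_dvd_pgroup n.syl_isPGroup hr h1)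
  have hn : D ≤ normalizer (syl(M, K) : Set G) := hD.1.trans (NonNil.core_le_normalizer_syl M K)
  have hsup : syl(M, K) ⊔ D = Cfsg.sigmaCore M := by
    refine le_antisymm (sup_le (NonNil.syl_le M K) hD.1) (relIndex_eq_one.mp ?_)
    by_contra h1
    obtain ⟨r, hr, hrd⟩ := Nat.exists_prime_and_dvd h1
    by_cases hrq : r = qof(M, K)
    · have h2 := hrd.trans (relIndex_dvd_of_le_left _ (le_sup_left (a := syl(M, K)) (b := D)))
      rw [hrq] at h2
      exact n.sylow hG h2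
    · exact hD.2.2 r hr hrq (hrd.trans (relIndex_dvd_of_le_left _ (le_sup_right (a := syl(M, K)) (b := D))))
  refine ⟨D, ⟨NonNil.syl_le M K, hD.1, Cfsg.Lib.Coprime.inf_eq_bot_of_coprime hQD, fun m hm => ?_⟩, hKD⟩
  rw [← hsup, Cfsg.Lib.Coprime.mem_sup_of_le_normalizer hn] at hm
  obtain ⟨a, ha, b, hb, rfl⟩ := hm
  exact ⟨a, ha, b, hb, rfl⟩

theorem NonNil.core_solvable (hG : Cfsg.IsMinSimpleOddOrder G) (n : NonNil M K) :
    Group.IsSolvable (Cfsg.sigmaCore M) :=
  hG.2.2.2 _ (FittingUniqueness.ne_top_of_le_coatom n.max (sigmaCore_le M))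

theorem NonNil.mem_mul (n : NonNil M K) (hD : Cfsg.IsComplIn (syl(M, K)) D (Cfsg.sigmaCore M)) {m : G}
    (hm : m ∈ Cfsg.sigmaCore M) : ∃ u ∈ syl(M, K), ∃ d ∈ D, m = u * d := hD.2.2.2 m hm

theorem NonNil.compl_conj (hG : Cfsg.IsMinSimpleOddOrder G) (n : NonNil M K)
    (hD : Cfsg.IsComplIn (syl(M, K)) D (Cfsg.sigmaCore M))
    (hD' : Cfsg.IsComplIn (syl(M, K)) D' (Cfsg.sigmaCore M)) : ∃ u ∈ syl(M, K), D' = conjMap u D := by
  haveI := n.core_solvable hG
  obtain ⟨c, hc⟩ := Cfsg.Lib.Coprime.piHall_conj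
    (Cfsg.Lib.Coprime.isPiHall_subgroupOf (n.compl_hall hG hD))
    (Cfsg.Lib.Coprime.isPiHall_subgroupOf (n.compl_hall hG hD'))
  obtain ⟨u, hu, d, hd, hud⟩ := n.mem_mul hD c.2
  refine ⟨u, hu, ?_⟩
  have h1 := congrArg (Subgroup.map (Cfsg.sigmaCore M).subtype) hc
  rw [map_subgroupOf_eq_of_le hD'.2.1, Cfsg.Lib.Coprime.map_conjMap, map_subgroupOf_eq_of_le hD.2.1] at h1
  rw [h1, show ((Cfsg.sigmaCore M).subtype c : G) = u * d from hud, ← Cfsg.Lib.Coprime.conjMap_mul,
    Cfsg.Lib.Coprime.conjMap_eq_self (le_normalizer hd)]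

/-- A complement does not centralize the Sylow subgroup, whatever it is. -/
theorem NonNil.not_centralized (hG : Cfsg.IsMinSimpleOddOrder G) (n : NonNil M K)
    (hD : Cfsg.IsComplIn (syl(M, K)) D (Cfsg.sigmaCore M)) (hnil : Group.IsNilpotent D) :
    ¬ syl(M, K) ≤ centralizer (D : Set G) := fun hc => by
  haveI := Fact.mk n.prime_fix
  haveI := n.syl_isPGroup.isNilpotent
  haveI := hnil
  let f : ↥(syl(M, K)) × D →* Cfsg.sigmaCore M :=
    MonoidHom.noncommCoprod (inclusion (NonNil.syl_le M K)) (inclusion hD.2.1)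
      fun a b => Subtype.ext (mem_centralizer_iff.mp (hc a.2) b b.2).symm
  refine n.not_nil (Group.nilpotent_of_surjective f fun m => ?_)
  obtain ⟨u, hu, d, hd, hm⟩ := n.mem_mul hD m.2
  exact ⟨(⟨u, hu⟩, ⟨d, hd⟩), Subtype.ext hm.symm⟩

/-- An invariant complement is nilpotent. -/
theorem NonNil.invariant_nilpotent (hG : Cfsg.IsMinSimpleOddOrder G) (n : NonNil M K)
    (hD : Cfsg.IsComplIn (syl(M, K)) D (Cfsg.sigmaCore M)) (hKD : K ≤ normalizer (D : Set G)) :
    Group.IsNilpotent D := by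
  haveI := Fact.mk n.prime_fix
  obtain ⟨X, hXK, hXp⟩ := exists_line n.pair.ne
  haveI := Fact.mk hXp
  obtain ⟨a, ha, ha1⟩ := (Subgroup.bot_or_exists_ne_one X).resolve_left fun e => by
    rw [e, Subgroup.card_bot] at hXp; exact Nat.not_prime_one hXp
  have hao : orderOf a = Nat.card X := by
    rcases (Nat.dvd_prime hXp).mp ((Nat.card_zpowers a).symm ▸ card_dvd_of_le (zpowers_le.mpr ha)) with h | h
    exacts [absurd (orderOf_eq_one_iff.mp h) ha1, h]
  refine nilpotent_of_fixed_free hao (hKD (hXK ha)) (le_bot_iff.mp fun y hy => ?_)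
  have h1 : y ∈ fix(M, K) := by
    rw [← kappa_group_fixed hG n.max n.K_le n.pair.hall.2.1 (hXK ha) ha1]
    exact ⟨hD.2.1 hy.1, hy.2⟩
  exact mem_bot.mpr (Cfsg.Lib.Coprime.eq_one_of_coprime (n.compl_coprime hG hD) hy.1 h1)

theorem NonNil.compl_nilpotent (hG : Cfsg.IsMinSimpleOddOrder G) (n : NonNil M K)
    (hD : Cfsg.IsComplIn (syl(M, K)) D (Cfsg.sigmaCore M)) : Group.IsNilpotent D := by
  obtain ⟨D₁, hD₁, hKD₁⟩ := n.exists_invariant_compl hG
  obtain ⟨u, -, rfl⟩ := n.compl_conj hG hD₁ hD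
  haveI := n.invariant_nilpotent hG hD₁ hKD₁
  exact Group.nilpotent_of_mulEquiv (D₁.equivMapOfInjective _ (MulAut.conj u).injective)

/-- The fixed-point formula for the Frobenius group `D X`. -/
theorem NonNil.formula (hG : Cfsg.IsMinSimpleOddOrder G) (n : NonNil M K)
    (hD : Cfsg.IsComplIn (syl(M, K)) D (Cfsg.sigmaCore M)) (hKD : K ≤ normalizer (D : Set G))
    (hXK : X ≤ K) (hX1 : X ≠ ⊥) (hW : W ≤ syl(M, K)) (hWn : D ⊔ X ≤ normalizer (W : Set G)) :
    Nat.card ↥(W ⊓ fix(M, K) ⊓ centralizer (D : Set G)) ^ Nat.card X * Nat.card W =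
      Nat.card ↥(W ⊓ fix(M, K)) ^ Nat.card X * Nat.card ↥(W ⊓ centralizer (D : Set G)) := by
  haveI := Fact.mk n.prime_fix
  have hWσ : W ≤ Cfsg.sigmaCore M := hW.trans (NonNil.syl_le M K)
  have hDX : D ⊓ X = ⊥ := le_bot_iff.mp fun y hy => mem_bot.mpr (Cfsg.Lib.Coprime.eq_one_of_coprime
    (coprime_card_of_disjoint fun r hr h1 h2 => (n.pair.hall.2.1 r hr h2).2.2.1 (sigmaCore_isPi r hr h1))
    (hD.2.1 hy.1) (hXK hy.2))
  have heq := Cfsg.Lib.FixedDim.frobenius_fixed_solvable D X hDX (hXK.trans hKD) (fun e he he1 u hu hc => by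
      have h1 : u ∈ fix(M, K) := by
        rw [← kappa_group_fixed hG n.max n.K_le n.pair.hall.2.1 (hXK he) he1]
        exact ⟨hD.2.1 hu, mem_centralizer_singleton_iff.mpr hc.symm⟩
      exact Cfsg.Lib.Coprime.eq_one_of_coprime (n.compl_coprime hG hD) hu h1)
    (Nat.card W) W le_rfl hWn (Cfsg.Lib.Coprime.isSolvable_of_le hWσ (n.core_solvable hG))
    (coprime_card_of_disjoint fun r hr h1 h2 => by
      rcases dvd_card_sup (hXK.trans hKD) hr h2 with h | h
      · exact (n.compl_hall hG hD).2.1 r hr h (eq_of_dvd_pgroup (n.syl_isPGroup.to_le hW) hr h1)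
      · exact (n.pair.hall.2.1 r hr (h.trans (card_dvd_of_le hXK))).2.2.1
          (sigmaCore_isPi r hr (h1.trans (card_dvd_of_le hWσ))))
  obtain ⟨x, hx, hx1⟩ := (Subgroup.bot_or_exists_ne_one X).resolve_left hX1
  have hX : W ⊓ centralizer (X : Set G) = W ⊓ fix(M, K) := by
    refine le_antisymm (le_inf inf_le_left ?_)
      (inf_le_inf_left _ (inf_le_right.trans (Subgroup.centralizer_le (SetLike.coe_subset_coe.mpr hXK))))
    rw [← kappa_group_fixed hG n.max n.K_le n.pair.hall.2.1 (hXK hx) hx1]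
    exact le_inf (inf_le_left.trans hWσ)
      (inf_le_right.trans (Subgroup.centralizer_le (Set.singleton_subset_iff.mpr hx)))
  have hDXc : W ⊓ centralizer ((D ⊔ X : Subgroup G) : Set G) = W ⊓ fix(M, K) ⊓ centralizer (D : Set G) := by
    refine le_antisymm (le_inf ?_ (inf_le_right.trans (Subgroup.centralizer_le (SetLike.coe_subset_coe.mpr le_sup_left))))
      (le_inf (inf_le_left.trans inf_le_left) ?_)
    · rw [← hX]
      exact inf_le_inf_left _ (Subgroup.centralizer_le (SetLike.coe_subset_coe.mpr le_sup_right))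
    · refine le_centralizer_iff.mp (sup_le (le_centralizer_iff.mp inf_le_right) (le_centralizer_iff.mp ?_))
      exact (inf_le_left.trans inf_le_right).trans
        (inf_le_right.trans (Subgroup.centralizer_le (SetLike.coe_subset_coe.mpr hXK)))
  rwa [hDXc, hX] at heq

theorem NonNil.norm_syl_sup (n : NonNil M K) (hD : Cfsg.IsComplIn (syl(M, K)) D (Cfsg.sigmaCore M)) :
    D ⊔ K ≤ normalizer (syl(M, K) : Set G) :=
  sup_le (hD.2.1.trans (NonNil.core_le_normalizer_syl M K)) (n.K_le.trans (NonNil.le_normalizer_syl M K))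

/-- No fixed point of `K` is centralized by an invariant complement. -/
theorem NonNil.fix_free (hG : Cfsg.IsMinSimpleOddOrder G) (n : NonNil M K)
    (hD : Cfsg.IsComplIn (syl(M, K)) D (Cfsg.sigmaCore M)) (hKD : K ≤ normalizer (D : Set G)) :
    fix(M, K) ⊓ centralizer (D : Set G) = ⊥ := by
  haveI := Fact.mk n.prime_fix
  by_contra hne
  obtain ⟨y, hy, hy1⟩ := (Subgroup.bot_or_exists_ne_one _).resolve_left hne
  have hle : fix(M, K) ≤ centralizer (D : Set G) := by
    rw [← line_eq_of_mem rfl hy.1 hy1]; exact zpowers_le.mpr hy.2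
  have h := n.formula hG hD hKD le_rfl n.pair.ne le_rfl (n.norm_syl_sup hD)
  rw [inf_eq_right.mpr (n.fix_le_syl hG), inf_eq_left.mpr hle] at h
  exact n.not_centralized hG hD (n.invariant_nilpotent hG hD hKD) ((Cfsg.Lib.Coprime.eq_of_le_of_card_eq
    inf_le_left (Nat.eq_of_mul_eq_mul_left (pow_pos Nat.card_pos _) h).symm).ge.trans inf_le_right)

/-- Invariant subgroups of the Sylow subgroup meeting the fixed points: the order. -/
theorem NonNil.card_of_fix_le (hG : Cfsg.IsMinSimpleOddOrder G) (n : NonNil M K)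
    (hD : Cfsg.IsComplIn (syl(M, K)) D (Cfsg.sigmaCore M)) (hKD : K ≤ normalizer (D : Set G))
    (hXK : X ≤ K) (hX1 : X ≠ ⊥) (hW : W ≤ syl(M, K)) (hWn : D ⊔ X ≤ normalizer (W : Set G))
    (hf : fix(M, K) ≤ W) :
    Nat.card W = qof(M, K) ^ Nat.card X * Nat.card ↥(W ⊓ centralizer (D : Set G)) := by
  have h := n.formula hG hD hKD hXK hX1 hW hWn
  rwa [inf_eq_right.mpr hf, n.fix_free hG hD hKD, Subgroup.card_bot, one_pow, one_mul] at h

/-- Invariant subgroups of the Sylow subgroup avoiding the fixed points are centralized. -/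
theorem NonNil.le_centralizer_of_fix_not_le (hG : Cfsg.IsMinSimpleOddOrder G) (n : NonNil M K)
    (hD : Cfsg.IsComplIn (syl(M, K)) D (Cfsg.sigmaCore M)) (hKD : K ≤ normalizer (D : Set G))
    (hW : W ≤ syl(M, K)) (hWn : D ⊔ K ≤ normalizer (W : Set G)) (hf : ¬ fix(M, K) ≤ W) :
    W ≤ centralizer (D : Set G) := by
  haveI := Fact.mk n.prime_fix
  have h0 : W ⊓ fix(M, K) = ⊥ := by
    by_contra hne
    obtain ⟨y, hy, hy1⟩ := (Subgroup.bot_or_exists_ne_one _).resolve_left hne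
    exact hf (by rw [← line_eq_of_mem rfl hy.2 hy1]; exact zpowers_le.mpr hy.1)
  have h := n.formula hG hD hKD le_rfl n.pair.ne hW hWn
  rw [h0, bot_inf_eq, Subgroup.card_bot, one_pow, one_mul, one_mul] at h
  exact (Cfsg.Lib.Coprime.eq_of_le_of_card_eq inf_le_left h.symm).ge.trans inf_le_right

theorem NonNil.card_syl (hG : Cfsg.IsMinSimpleOddOrder G) (n : NonNil M K)
    (hD : Cfsg.IsComplIn (syl(M, K)) D (Cfsg.sigmaCore M)) (hKD : K ≤ normalizer (D : Set G)) :
    Nat.card ↥(syl(M, K)) = qof(M, K) ^ Nat.card K * Nat.card ↥(syl(M, K) ⊓ centralizer (D : Set G)) :=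
  n.card_of_fix_le hG hD hKD le_rfl n.pair.ne le_rfl (n.norm_syl_sup hD) (n.fix_le_syl hG)

/-- `|K|` is prime. -/
theorem NonNil.prime_K (hG : Cfsg.IsMinSimpleOddOrder G) (n : NonNil M K) : (Nat.card K).Prime := by
  obtain ⟨D, hD, hKD⟩ := n.exists_invariant_compl hG
  obtain ⟨X, hXK, hXp⟩ := exists_line n.pair.ne
  have hX1 : X ≠ ⊥ := fun e => by rw [e, Subgroup.card_bot] at hXp; exact Nat.not_prime_one hXp
  have h := n.card_of_fix_le hG hD hKD hXK hX1 le_rfl ((sup_le_sup_left hXK D).trans (n.norm_syl_sup hD))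
    (n.fix_le_syl hG)
  rw [n.card_syl hG hD hKD] at h
  exact Nat.pow_right_injective n.prime_fix.two_le (Nat.eq_of_mul_eq_mul_right Nat.card_pos h) ▸ hXp

/-- The fixed points of a complement form a normal subgroup with elementary abelian quotient. -/
theorem NonNil.fixed_normal (hG : Cfsg.IsMinSimpleOddOrder G) (n : NonNil M K)
    (hD : Cfsg.IsComplIn (syl(M, K)) D (Cfsg.sigmaCore M)) (hKD : K ≤ normalizer (D : Set G)) :
    M ≤ normalizer ((syl(M, K) ⊓ centralizer (D : Set G) : Subgroup G) : Set G) ∧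
      syl(M, K) ⊓ centralizer (D : Set G) < syl(M, K) ∧
      ∀ a ∈ syl(M, K), ∀ b ∈ syl(M, K), a ^ qof(M, K) ∈ syl(M, K) ⊓ centralizer (D : Set G) ∧
        a * b * a⁻¹ * b⁻¹ ∈ syl(M, K) ⊓ centralizer (D : Set G) := by
  haveI := Fact.mk n.prime_fix
  set Q := syl(M, K) with hQ
  set C := Q ⊓ centralizer (D : Set G) with hC
  set Φ := (frattini Q).map Q.subtype with hΦ
  have hQp : IsPGroup qof(M, K) Q := n.syl_isPGroup
  have hΦQ : Φ ≤ Q := map_subtype_le _
  have hΦn : M ≤ normalizer (Φ : Set G) :=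
    (NonNil.le_normalizer_syl M K).trans (Cfsg.Lib.CN.normalizer_le_normalizer_char Q (frattini Q))
  have hDK : D ⊔ K ≤ M := sup_le (hD.2.1.trans (sigmaCore_le M)) n.K_le
  have hCQ : C < Q := inf_le_left.lt_of_ne fun e =>
    n.not_centralized hG hD (n.invariant_nilpotent hG hD hKD) (e.ge.trans inf_le_right)
  have hΦC : Φ ≤ C := by
    refine le_inf hΦQ (n.le_centralizer_of_fix_not_le hG hD hKD hΦQ (hDK.trans hΦn) fun hf => hCQ.ne ?_)
    have h1 := n.card_of_fix_le hG hD hKD le_rfl n.pair.ne hΦQ (hDK.trans hΦn) hf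
    have hn : C ≤ normalizer (Φ : Set G) :=
      inf_le_left.trans ((NonNil.syl_le M K).trans ((sigmaCore_le M).trans hΦn))
    have h2 := Cfsg.Lib.Coprime.card_sup_mul_card_inf hn
    have h3 : Φ ⊓ C = Φ ⊓ centralizer (D : Set G) := by rw [hC, ← inf_assoc, inf_eq_left.mpr hΦQ]
    rw [h3, h1, mul_right_comm, ← n.card_syl hG hD hKD] at h2
    have h4 : Φ ⊔ C = Q := Cfsg.Lib.Coprime.eq_of_le_of_card_eq (sup_le hΦQ inf_le_left)
      (Nat.eq_of_mul_eq_mul_right Nat.card_pos h2)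
    have h5 : C.subgroupOf Q ⊔ frattini Q = ⊤ := by
      apply map_injective Q.subtype_injective
      rw [Subgroup.map_sup, map_subgroupOf_eq_of_le inf_le_left, sup_comm, h4, ← MonoidHom.range_eq_map,
        range_subtype]
    exact le_antisymm inf_le_left (subgroupOf_eq_top.mp (frattini_nongenerating h5))
  have hcomm : ∀ a ∈ Q, ∀ b ∈ Q, a * b * a⁻¹ * b⁻¹ ∈ Φ := fun a ha b hb =>
    ⟨⁅(⟨a, ha⟩ : Q), ⟨b, hb⟩⁆, Cfsg.Lib.PGroups.commutator_le_frattini hQp
      (commutator_mem_commutator (mem_top _) (mem_top _)), rfl⟩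
  refine ⟨?_, hCQ, fun a ha b hb => ⟨hΦC ⟨(⟨a, ha⟩ : Q) ^ qof(M, K),
    Cfsg.Lib.PGroups.pow_mem_frattini hQp _, rfl⟩, hΦC (hcomm a ha b hb)⟩⟩
  have hCn : Q ≤ normalizer (C : Set G) := fun a ha => Cfsg.Lib.Coprime.mem_normalizer_of_conj_mem
    (fun y hy => by
      have h1 := mul_mem (hΦC (hcomm a ha y hy.1)) hy
      rwa [inv_mul_cancel_right] at h1)
    (fun y hy => by
      have h1 := mul_mem (hΦC (hcomm a⁻¹ (inv_mem ha) y hy.1)) hy
      rwa [inv_mul_cancel_right, inv_inv] at h1)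
  refine le_of_eq_of_le n.sup.symm (sup_le (fun m hm => ?_) fun k hk => ?_)
  · obtain ⟨u, hu, d, hd, rfl⟩ := n.mem_mul hD hm
    refine mul_mem (hCn hu) (Cfsg.Lib.Coprime.le_normalizer_inf
      (hD.2.1.trans (NonNil.core_le_normalizer_syl M K))
      (le_normalizer.trans (FittingParts.normalizer_centralizer_le D)) hd)
  · exact Cfsg.Lib.Coprime.le_normalizer_inf (n.K_le.trans (NonNil.le_normalizer_syl M K))
      (hKD.trans (FittingParts.normalizer_centralizer_le D)) hk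

end Cfsg.Lib.OddLocal.RankTwoMax
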