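import Cfsg.Agent.OddLocal.SigmaNonNilpotent

/-!
# The structure of a non-nilpotent `σ`-core
-/

set_option linter.unusedSectionVars false
set_option linter.unusedVariables false
set_option linter.style.haveILetI false

namespace Cfsg.Lib.OddLocal.RankTwoMax

open Subgroup Uniqueness Sigma
open Cfsg.Lib.Coprime (conjMap)
open scoped commutatorElement

universe u

variable {G : Type u} [Group G] [Finite G] {M K U D D' N : Subgroup G}

local notation "fix(" M ", " K ")" => Cfsg.sigmaCore M ⊓ centralizer (SetLike.coe K)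
set_option quotPrecheck false in
local notation "qof(" M ", " K ")" => Nat.card ↥(Cfsg.sigmaCore M ⊓ centralizer (SetLike.coe K))
set_option quotPrecheck false in
local notation "syl(" M ", " K ")" => FittingParts.O qof(M, K) (Cfsg.sigmaCore M)

/-- The fixed points in the Sylow subgroup of every complement agree. -/
theorem NonNil.fixed_eq (hG : Cfsg.IsMinSimpleOddOrder G) (n : NonNil M K)
    (hD : Cfsg.IsComplIn (syl(M, K)) D (Cfsg.sigmaCore M)) (hKD : K ≤ normalizer (D : Set G))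
    (hD' : Cfsg.IsComplIn (syl(M, K)) D' (Cfsg.sigmaCore M)) :
    syl(M, K) ⊓ centralizer (D' : Set G) = syl(M, K) ⊓ centralizer (D : Set G) := by
  obtain ⟨u, hu, rfl⟩ := n.compl_conj hG hD hD'
  have huM : u ∈ M := sigmaCore_le M (NonNil.syl_le M K hu)
  have h1 := Cfsg.Lib.Coprime.conjMap_eq_self (H := syl(M, K) ⊓ centralizer (D : Set G))
    ((n.fixed_normal hG hD hKD).1 huM)
  rw [Cfsg.Lib.Coprime.conjMap_inf, Cfsg.Lib.Coprime.conjMap_eq_self (le_normalizer hu)] at h1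
  refine Eq.trans ?_ h1
  congr 1
  ext y
  rw [Cfsg.Lib.Coprime.mem_conjMap]
  constructor
  · intro hy
    refine mem_centralizer_iff.mpr fun d hd => ?_
    have := mem_centralizer_iff.mp hy _ (mem_map_of_mem (MulAut.conj u).toMonoidHom hd)
    simp only [MulEquiv.coe_toMonoidHom, MulAut.conj_apply] at this
    calc d * (u⁻¹ * y * u) = u⁻¹ * ((u * d * u⁻¹) * y) * u := by group
      _ = u⁻¹ * (y * (u * d * u⁻¹)) * u := by rw [this]
      _ = _ := by group
  · intro hy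
    refine mem_centralizer_iff.mpr ?_
    rintro _ ⟨d, hd, rfl⟩
    simp only [MulEquiv.coe_toMonoidHom, MulAut.conj_apply]
    have := mem_centralizer_iff.mp hy d hd
    calc u * d * u⁻¹ * y = u * (d * (u⁻¹ * y * u)) * u⁻¹ := by group
      _ = u * ((u⁻¹ * y * u) * d) * u⁻¹ := by rw [this]
      _ = _ := by group

/-- Nothing normal in `M` lies strictly between the fixed points and the Sylow subgroup. -/
theorem NonNil.minimal (hG : Cfsg.IsMinSimpleOddOrder G) (n : NonNil M K)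
    (hD : Cfsg.IsComplIn (syl(M, K)) D (Cfsg.sigmaCore M)) (hKD : K ≤ normalizer (D : Set G))
    (hN₁ : syl(M, K) ⊓ centralizer (D : Set G) < N) (hN₂ : N < syl(M, K)) :
    ¬ M ≤ normalizer (N : Set G) := fun hn => by
  have hDK : D ⊔ K ≤ M := sup_le (hD.2.1.trans (sigmaCore_le M)) n.K_le
  by_cases hf : fix(M, K) ≤ N
  · have h := n.card_of_fix_le hG hD hKD le_rfl n.pair.ne hN₂.le (hDK.trans hn) hf
    have h2 : N ⊓ centralizer (D : Set G) = syl(M, K) ⊓ centralizer (D : Set G) :=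
      le_antisymm (inf_le_inf_right _ hN₂.le) (le_inf hN₁.le inf_le_right)
    rw [h2, ← n.card_syl hG hD hKD] at h
    exact hN₂.ne (Cfsg.Lib.Coprime.eq_of_le_of_card_eq hN₂.le h)
  · exact hN₁.not_ge (le_inf hN₂.le (n.le_centralizer_of_fix_not_le hG hD hKD hN₂.le (hDK.trans hn) hf))

theorem NonNil.q_beta (hG : Cfsg.IsMinSimpleOddOrder G) (n : NonNil M K) : qof(M, K) ∈ Cfsg.beta M := by
  haveI := Fact.mk n.prime_fix
  by_contra hβ
  have hqM : qof(M, K) ∣ Nat.card M := card_dvd_of_le (inf_le_left.trans (sigmaCore_le M))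
  obtain ⟨-, ⟨P, R, hRn, hRP⟩, -⟩ := beta_theorem hG n.max n.prime_fix hqM hβ
  set D := R.map (Cfsg.sigmaCore M).subtype with hDdef
  have hDle : D ≤ Cfsg.sigmaCore M := map_subtype_le _
  have hRc : Nat.card R = (P : Subgroup ↥(Cfsg.sigmaCore M)).index :=
    Nat.eq_of_mul_eq_mul_right Nat.card_pos (hRP.card_mul.trans
      (((P : Subgroup ↥(Cfsg.sigmaCore M)).card_mul_index).symm.trans (mul_comm _ _)))
  have hDc : (Nat.card D).Coprime qof(M, K) := by
    rw [hDdef, card_map_of_injective (Cfsg.sigmaCore M).subtype_injective, hRc]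
    exact (n.prime_fix.coprime_iff_not_dvd.mpr P.not_dvd_index).symm
  have hQD : (Nat.card ↥(syl(M, K))).Coprime (Nat.card D) := by
    obtain ⟨k, hk⟩ := IsPGroup.iff_card.mp n.syl_isPGroup
    rw [hk]
    exact (hDc.symm).pow_left k
  have hDn : Cfsg.sigmaCore M ≤ normalizer (D : Set G) := fun y hy =>
    Cfsg.Lib.Coprime.conjMap_eq_self_iff.mp ((Cfsg.Lib.Coprime.map_conjMap (Cfsg.sigmaCore M).subtype ⟨y, hy⟩ _).symm.trans
      (congrArg _ (Cfsg.Lib.Coprime.conjMap_eq_self (normalizer_eq_top (H := R) ▸ mem_top _))))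
  have hn : D ≤ normalizer (syl(M, K) : Set G) := hDle.trans (NonNil.core_le_normalizer_syl M K)
  have hsup : syl(M, K) ⊔ D = Cfsg.sigmaCore M := by
    refine le_antisymm (sup_le (NonNil.syl_le M K) hDle) (relIndex_eq_one.mp ?_)
    by_contra h1
    obtain ⟨r, hr, hrd⟩ := Nat.exists_prime_and_dvd h1
    have h2 := hrd.trans (relIndex_dvd_of_le_left _ (le_sup_left (a := syl(M, K)) (b := D)))
    have h3 := hrd.trans (relIndex_dvd_of_le_left _ (le_sup_right (a := syl(M, K)) (b := D)))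
    by_cases hrq : r = qof(M, K)
    · rw [hrq] at h2; exact n.sylow hG h2
    · refine hrq (eq_of_dvd_pgroup P.2 hr ?_)
      have h4 : D.relIndex (Cfsg.sigmaCore M) = R.index := by
        rw [relIndex, subgroupOf, hDdef, comap_map_eq_self_of_injective (Cfsg.sigmaCore M).subtype_injective]
      rw [h4, hRP.symm.index_eq_card] at h3
      exact h3
  have hD : Cfsg.IsComplIn (syl(M, K)) D (Cfsg.sigmaCore M) := by
    refine ⟨NonNil.syl_le M K, hDle, Cfsg.Lib.Coprime.inf_eq_bot_of_coprime hQD, fun m hm => ?_⟩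
    rw [← hsup, Cfsg.Lib.Coprime.mem_sup_of_le_normalizer hn] at hm
    obtain ⟨a, ha, b, hb, rfl⟩ := hm
    exact ⟨a, ha, b, hb, rfl⟩
  exact n.not_centralized hG hD (n.compl_nilpotent hG hD) (FittingParts.le_centralizer_of_disjoint
    ((NonNil.syl_le M K).trans hDn) hn hQD)

theorem NonNil.syl_le_fittingHall (hG : Cfsg.IsMinSimpleOddOrder G) (n : NonNil M K) :
    syl(M, K) ≤ Cfsg.fittingHallOf M := fun y hy => by
  haveI := Fact.mk n.prime_fix
  have hQM : syl(M, K) ≤ M := (NonNil.syl_le M K).trans (sigmaCore_le M)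
  haveI : ((syl(M, K)).subgroupOf M).Normal := normal_subgroupOf_of_le_normalizer (NonNil.le_normalizer_syl M K)
  have hp : IsPGroup qof(M, K) ((syl(M, K)).subgroupOf M) :=
    n.syl_isPGroup.of_equiv (subgroupOfEquivOfLe hQM).symm
  refine ⟨⟨y, hQM hy⟩, (le_sSup (show (syl(M, K)).subgroupOf M ∈ {N : Subgroup M | N.Normal ∧ Group.IsNilpotent N ∧ (Nat.card N).Coprime N.index} from
    ⟨inferInstance, hp.isNilpotent, ?_⟩) : _ ≤ Cfsg.fittingHall M) hy, rfl⟩
  obtain ⟨k, hk⟩ := IsPGroup.iff_card.mp hp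
  rw [hk]
  refine (n.prime_fix.coprime_iff_not_dvd.mpr fun hd => ?_).pow_left k
  change qof(M, K) ∣ (syl(M, K)).relIndex M at hd
  rw [← relIndex_mul_relIndex _ _ M (NonNil.syl_le M K) (sigmaCore_le M)] at hd
  rcases n.prime_fix.dvd_mul.mp hd with h | h
  · exact n.sylow hG h
  · exact (sigmaCore_hall hG n.max).2.2 _ n.prime_fix n.sigma_q h

theorem nonNilpotent_theorem (hG : Cfsg.IsMinSimpleOddOrder G) (hM : IsCoatom M)
    (hKU : Cfsg.IsSigmaDecomposition M K U) (hne : Cfsg.fittingHallOf M ≠ Cfsg.sigmaCore M) :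
    U = ⊥ ∧ Cfsg.sigmaCore M = ⁅M, M⁆ ∧ (Nat.card K).Prime ∧ (qof(M, K)).Prime ∧
      qof(M, K) ∣ Nat.card (Cfsg.fittingHallOf M) ∧ qof(M, K) ∈ Cfsg.beta M ∧
      ∃ Q : Subgroup G, Q ≤ Cfsg.fittingHallOf M ∧ M ≤ normalizer (Q : Set G) ∧ IsPGroup qof(M, K) Q ∧
        ¬ qof(M, K) ∣ Q.relIndex (Cfsg.sigmaCore M) ∧
        ∀ D : Subgroup G, Cfsg.IsComplIn Q D (Cfsg.sigmaCore M) →
          Group.IsNilpotent D ∧ M ≤ normalizer ((Q ⊓ centralizer (D : Set G) : Subgroup G) : Set G) ∧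
          Q ⊓ centralizer (D : Set G) < Q ∧
          Nat.card Q = Nat.card ↥(Q ⊓ centralizer (D : Set G)) * qof(M, K) ^ Nat.card K ∧
          (∀ a ∈ Q, ∀ b ∈ Q, a ^ qof(M, K) ∈ Q ⊓ centralizer (D : Set G) ∧
            a * b * a⁻¹ * b⁻¹ ∈ Q ⊓ centralizer (D : Set G)) ∧
          ∀ N : Subgroup G, Q ⊓ centralizer (D : Set G) < N → N < Q → ¬ M ≤ normalizer (N : Set G) := by
  obtain ⟨hU, n⟩ := nonNil_of_ne hG hM hKU hne
  obtain ⟨D₀, hD₀, hKD₀⟩ := n.exists_invariant_compl hG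
  refine ⟨hU, n.derived.symm, n.prime_K hG, n.prime_fix,
    (card_dvd_of_le ((n.fix_le_syl hG).trans (n.syl_le_fittingHall hG))), n.q_beta hG, syl(M, K),
    n.syl_le_fittingHall hG, NonNil.le_normalizer_syl M K, n.syl_isPGroup, n.sylow hG, fun D hD => ?_⟩
  rw [n.fixed_eq hG hD₀ hKD₀ hD]
  obtain ⟨h1, h2, h3⟩ := n.fixed_normal hG hD₀ hKD₀
  exact ⟨n.compl_nilpotent hG hD, h1, h2, (n.card_syl hG hD₀ hKD₀).trans (mul_comm _ _), h3,
    fun N hN₁ hN₂ => n.minimal hG hD₀ hKD₀ hN₁ hN₂⟩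

end Cfsg.Lib.OddLocal.RankTwoMax
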