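import Cfsg.Agent.OddLocal.NonabelianTauTwo

/-!
# Subgroups of a maximal subgroup of order prime to `σ`
-/

set_option linter.unusedSectionVars false
set_option linter.unusedVariables false
set_option linter.style.haveILetI false

namespace Cfsg.Lib.OddLocal.RankTwoMax

open Subgroup Uniqueness Sigma
open Cfsg.Lib.Coprime (conjMap)
open scoped commutatorElement

universe u

variable {G : Type u} [Group G] [Finite G] {M L A E : Subgroup G} {p : ℕ} [hp : Fact p.Prime]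

theorem coprime_complement (hG : Cfsg.IsMinSimpleOddOrder G) (hM : IsCoatom M)
    (hE : Cfsg.IsComplIn E (Cfsg.sigmaCore M) M) :
    (Nat.card (Cfsg.sigmaCore M)).Coprime (Nat.card E) :=
  Nat.coprime_of_dvd fun r hr h1 h2 => not_sigma_of_dvd hG hM hE hr h2 (sigmaCore_isPi r hr h1)

theorem complement_sup (hE : Cfsg.IsComplIn E (Cfsg.sigmaCore M) M) : Cfsg.sigmaCore M ⊔ E = M := by
  refine le_antisymm (sup_le (sigmaCore_le M) hE.1) fun m hm => ?_
  obtain ⟨a, ha, b, hb, rfl⟩ := hE.2.2.2 m hm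
  exact mul_mem (mem_sup_right ha) (mem_sup_left hb)

theorem isComplIn_conj (hE : Cfsg.IsComplIn E (Cfsg.sigmaCore M) M) {s : G} (hs : s ∈ M) :
    Cfsg.IsComplIn (conjMap s E) (Cfsg.sigmaCore M) M := by
  have h1 : conjMap s M = M := Cfsg.Lib.Coprime.conjMap_eq_self (le_normalizer hs)
  have h2 : conjMap s (Cfsg.sigmaCore M) = Cfsg.sigmaCore M :=
    Cfsg.Lib.Coprime.conjMap_eq_self (le_normalizer_sigmaCore M hs)
  refine ⟨(Cfsg.Lib.Coprime.conjMap_mono hE.1).trans h1.le, hE.2.1, ?_, fun m hm => ?_⟩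
  · rw [← h2, ← Cfsg.Lib.Coprime.conjMap_inf, hE.2.2.1]
    exact map_bot _
  · obtain ⟨a, ha, b, hb, hab⟩ := hE.2.2.2 (s⁻¹ * m * s) (mul_mem (mul_mem (inv_mem hs) hm) hs)
    refine ⟨s * a * s⁻¹, ⟨a, ha, rfl⟩, s * b * s⁻¹, h2.le ⟨b, hb, rfl⟩, ?_⟩
    calc m = s * (s⁻¹ * m * s) * s⁻¹ := by group
      _ = _ := by rw [hab]; group

theorem exists_complement (hG : Cfsg.IsMinSimpleOddOrder G) (hM : IsCoatom M) :
    ∃ E : Subgroup G, Cfsg.IsComplIn E (Cfsg.sigmaCore M) M := by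
  have hn := le_normalizer_sigmaCore M
  have hcop : (Nat.card (Cfsg.sigmaCore M)).Coprime ((Cfsg.sigmaCore M).relIndex M) :=
    Nat.coprime_of_dvd fun r hr h1 h2 => (sigmaCore_hall hG hM).2.2 r hr (sigmaCore_isPi r hr h1) h2
  obtain ⟨E, hEM, hsup, hcard⟩ :=
    Cfsg.Lib.Coprime.exists_complement_in (sigmaCore_le M) hn hcop
  refine ⟨E, hEM, sigmaCore_le M, Cfsg.Lib.Coprime.inf_eq_bot_of_coprime (hcard ▸ hcop.symm), fun m hm => ?_⟩
  obtain ⟨b, hb, a, ha, hab⟩ := (Cfsg.Lib.Coprime.mem_sup_of_le_normalizer (hEM.trans hn)).mp (hsup.ge hm)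
  refine ⟨a, ha, a⁻¹ * b * a, ?_, by rw [← hab]; group⟩
  simpa using (mem_normalizer_iff.mp (hn (inv_mem (hEM ha))) b).mp hb

/-- A subgroup of `M` of order prime to `σ(M)` lies in a complement of `M_σ`. -/
theorem exists_complement_ge (hG : Cfsg.IsMinSimpleOddOrder G) (hM : IsCoatom M) {X : Subgroup G} (hXM : X ≤ M)
    (hX : ∀ r : ℕ, r.Prime → r ∣ Nat.card X → r ∉ Cfsg.sigma M) :
    ∃ E : Subgroup G, Cfsg.IsComplIn E (Cfsg.sigmaCore M) M ∧ X ≤ E := by
  obtain ⟨E, hE⟩ := exists_complement hG hM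
  obtain ⟨s, hs, hle⟩ := Cfsg.Lib.Coprime.exists_conj_le_of_coprime (hE.1.trans (le_normalizer_sigmaCore M))
    (coprime_complement hG hM hE)
    (Or.inl (hG.2.2.2 _ (FittingUniqueness.ne_top_of_le_coatom hM (sigmaCore_le M))))
    ((complement_sup hE).symm ▸ hXM : X ≤ Cfsg.sigmaCore M ⊔ E)
    (Nat.coprime_of_dvd fun r hr h1 h2 => hX r hr h2 (sigmaCore_isPi r hr h1))
  exact ⟨_, isComplIn_conj hE (sigmaCore_le M hs), hle⟩

/-- A Sylow group of a complement is one of `M`. -/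
theorem isSylowOf_complement (hG : Cfsg.IsMinSimpleOddOrder G) (hM : IsCoatom M)
    (hE : Cfsg.IsComplIn E (Cfsg.sigmaCore M) M) (hσ : p ∉ Cfsg.sigma M) (T : Sylow p E) :
    IsSylowOf p ((T : Subgroup E).map E.subtype) M := by
  refine ⟨(map_subtype_le _).trans hE.1, T.2.map _, fun W hW hWM hle => ?_⟩
  refine (eq_of_le_of_card_ge hle ?_).symm
  obtain ⟨j, hj⟩ := IsPGroup.iff_card.mp hW
  rw [card_map_of_injective E.subtype_injective, hj]
  refine Nat.le_of_dvd Nat.card_pos (T.pow_dvd_card_of_pow_dvd_card ?_)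
  have h1 := hj ▸ card_dvd_of_le hWM
  rw [card_eq_mul hE] at h1
  refine Nat.Coprime.dvd_of_dvd_mul_left (Nat.Coprime.pow_left j ?_) h1
  exact hp.out.coprime_iff_not_dvd.mpr fun hd => hσ (sigmaCore_isPi p hp.out hd)

/-- An elementary subgroup of order `p²` in a complement. -/
theorem exists_sq_complement (hG : Cfsg.IsMinSimpleOddOrder G) (hM : IsCoatom M)
    (hE : Cfsg.IsComplIn E (Cfsg.sigmaCore M) M) (hτ : p ∈ Cfsg.tau2 M) :
    ∃ A : Subgroup G, A ≤ E ∧ Cfsg.IsElementaryAbelian p A ∧ Nat.card A = p ^ 2 := by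
  obtain ⟨B, hBM, hB, hBc⟩ := exists_elementary (p := p) (k := 1) (X := M) hτ.2.2.2
  have hBc' : Nat.card B = p ^ 2 := by
    refine le_antisymm ?_ hBc
    have h2 := Cfsg.Lib.OddP.pRankLE_of_injective (inclusion hBM) (inclusion_injective _) hτ.2.2.1 ⊤
      ⟨⟨fun a b => Subtype.ext (Subtype.ext (ThompsonTransitivity.mul_comm_of hB.1 a.1.2 b.1.2))⟩⟩
      (fun a _ => Subtype.ext (hB.2 a a.2))
    rwa [card_top] at h2
  obtain ⟨S, hS, hBS⟩ := exists_sylowOf (isPGroup_of_pow hB.2 : IsPGroup p B) hBM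
  obtain ⟨T⟩ : Nonempty (Sylow p E) := inferInstance
  obtain ⟨m, -, hm⟩ := card_eq_of_sylowOf hS (isSylowOf_complement hG hM hE hτ.2.1 T)
  exact ⟨conjMap m B, ((Cfsg.Lib.Coprime.conjMap_mono hBS).trans hm.le).trans (map_subtype_le _),
    Cfsg.Lib.OddP.isElementaryAbelian_map hB _, by rw [Cfsg.Lib.Coprime.card_conjMap, hBc']⟩

/-- A `p`-subgroup of `M` with `p ∉ σ(M)` is abelian. -/
theorem comm_of_not_sigma (hG : Cfsg.IsMinSimpleOddOrder G) (hM : IsCoatom M) (hσ : p ∉ Cfsg.sigma M)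
    {P : Subgroup G} (hP : IsPGroup p P) (hPM : P ≤ M) : IsMulCommutative P := by
  by_cases hr : Cfsg.PRankLE p 1 M
  · haveI := isCyclic_sylow_of_rank_one hG hP hPM hr
    infer_instance
  obtain ⟨E, hE⟩ := exists_complement hG hM
  obtain ⟨A, hAE, hA, hAc⟩ :=
    exists_sq_complement hG hM hE ⟨hp.out, hσ, pRankLE_of_not_sigma hG hM hσ, hr⟩
  obtain ⟨A₀, h⟩ := exists_exc hG hM hσ (hAE.trans hE.1) hA hAc
  obtain ⟨S, hS, hAS⟩ := exists_sylowOf (h.maxSq hG).isPGroup h.le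
  obtain ⟨R, hR, hPR⟩ := exists_sylowOf hP hPM
  obtain ⟨m, -, rfl⟩ := card_eq_of_sylowOf hS hR
  haveI := h.comm hG hS hAS
  refine ⟨⟨fun a b => Subtype.ext ?_⟩⟩
  obtain ⟨s, hs, hse⟩ := hPR a.2
  obtain ⟨t, ht, hte⟩ := hPR b.2
  show (a : G) * b = b * a
  rw [← hse, ← hte, ← map_mul, ← map_mul, ThompsonTransitivity.mul_comm_of inferInstance hs ht]

/-- Corollary 12.10 (a). -/
theorem comm_of_nilpotent (hG : Cfsg.IsMinSimpleOddOrder G) (hM : IsCoatom M) {N : Subgroup G} (hNM : N ≤ M)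
    (hN : Group.IsNilpotent N) (hσ : ∀ r : ℕ, r.Prime → r ∣ Nat.card N → r ∉ Cfsg.sigma M) :
    IsMulCommutative N := by
  refine ⟨⟨fun a b => Subtype.ext ?_⟩⟩
  suffices h : N ≤ centralizer (N : Set G) from (mem_centralizer_iff.mp (h a.2) b b.2).symm
  refine Cfsg.Lib.Coprime.le_of_forall_sylow fun q hq => ?_
  haveI := Fact.mk hq
  obtain ⟨T⟩ : Nonempty (Sylow q N) := inferInstance
  refine ⟨T, le_centralizer_iff.mp ?_⟩
  by_cases hqN : q ∣ Nat.card N
  swap
  · have h0 : (T : Subgroup N) = ⊥ := by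
      refine eq_bot_of_card_eq _ ?_
      obtain ⟨j, hj⟩ := IsPGroup.iff_card.mp T.2
      rcases j with _ | j
      · rw [hj, pow_zero]
      · exact absurd ((hj ▸ dvd_pow_self q j.succ_ne_zero).trans (card_subgroup_dvd_card _)) hqN
    rw [h0, Subgroup.map_bot]
    exact fun x _ => mem_centralizer_iff.mpr fun y hy => by rw [mem_bot.mp hy, one_mul, mul_one]
  haveI hTn : (T : Subgroup N).Normal :=
    ((Group.isNilpotent_of_finite_tfae (G := N)).out 0 3 rfl rfl).mp hN q inferInstance T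
  set Q := (T : Subgroup N).map N.subtype with hQ
  refine Cfsg.Lib.Coprime.le_of_forall_sylow fun r hr => ?_
  haveI := Fact.mk hr
  by_cases hrq : r = q
  · subst hrq
    refine ⟨T, fun x hx => mem_centralizer_iff.mpr fun y hy => ?_⟩
    exact ThompsonTransitivity.mul_comm_of
      (comm_of_not_sigma hG hM (hσ r hr hqN) (T.2.map _) ((map_subtype_le _).trans hNM)) hy hx
  obtain ⟨U⟩ : Nonempty (Sylow r N) := inferInstance
  haveI hUn : (U : Subgroup N).Normal :=
    ((Group.isNilpotent_of_finite_tfae (G := N)).out 0 3 rfl rfl).mp hN r inferInstance U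
  have hd : Disjoint (U : Subgroup N) (T : Subgroup N) := IsPGroup.disjoint_of_ne r q hrq _ _ U.2 T.2
  refine ⟨U, ?_⟩
  rintro _ ⟨x, hx, rfl⟩
  refine mem_centralizer_iff.mpr ?_
  rintro _ ⟨y, hy, rfl⟩
  rw [← map_mul, ← map_mul, (commute_of_normal_of_disjoint _ _ hUn hTn hd x y hx hy).eq]

/-- An element of prime power order moving an elementary group of order `q²` but fixing a line. -/
theorem lt_of_fixed_line {q r : ℕ} [hq : Fact q.Prime] [hr : Fact r.Prime] (hrq : r ≠ q)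
    (hA : Cfsg.IsElementaryAbelian q A) (hAc : Nat.card A = q ^ 2) {T : Subgroup G} (hT : IsPGroup r T)
    (hTA : T ≤ normalizer (A : Set G)) {v : G} (hv : v ∈ A) (hv1 : v ≠ 1) (hvT : v ∈ centralizer (T : Set G))
    (hne : ¬ T ≤ centralizer (A : Set G)) : r < q := by
  haveI : IsMulCommutative A := hA.1
  have hcop : (Nat.card T).Coprime (Nat.card A) := by
    rw [hAc]
    exact (coprime_of_ne hrq hT).pow_right 2
  obtain ⟨hd, hs⟩ := Cfsg.Lib.Coprime.abelian_coprime_decomp hTA hcop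
  set V := ⁅A, T⁆ with hV
  have hVA : V ≤ A := Cfsg.Lib.Coprime.commutator_le_of_le_normalizer hTA
  have hV1 : V ≠ ⊥ := fun h0 => hne (by
    rw [h0, sup_bot_eq] at hs
    exact le_centralizer_iff.mp (inf_eq_left.mp hs))
  have hVne : V ≠ A := fun h0 => by
    have h1 : v ∈ A ⊓ centralizer (T : Set G) ⊓ V := ⟨⟨hv, hvT⟩, h0 ▸ hv⟩
    rw [hd, mem_bot] at h1
    exact hv1 h1
  have hVc : Nat.card V = q := by
    obtain ⟨i, hi, hic⟩ := (Nat.dvd_prime_pow hq.out).mp (hAc ▸ card_dvd_of_le hVA)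
    rcases (show i = 0 ∨ i = 1 ∨ i = 2 by omega) with rfl | rfl | rfl
    · exact absurd (eq_bot_of_card_eq _ (by rw [hic, pow_zero])) hV1
    · rw [hic, pow_one]
    · exact absurd (Cfsg.Lib.Coprime.eq_of_le_of_card_eq hVA (hic.trans hAc.symm)) hVne
  have hTV : T ≤ normalizer (V : Set G) := Cfsg.Lib.Coprime.le_normalizer_commutator_right T A
  letI : MulAction T V := MulAction.compHom V
    (((normalizerMonoidHom V).comp (inclusion hTV)))
  have hfix : MulAction.fixedPoints T V = {1} := by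
    ext x
    rw [MulAction.mem_fixedPoints, Set.mem_singleton_iff]
    constructor
    · intro hx
      have h1 : (x : G) ∈ A ⊓ centralizer (T : Set G) ⊓ V := ⟨⟨hVA x.2, mem_centralizer_iff.mpr fun t ht => by
        have h2 := congrArg Subtype.val (hx ⟨t, ht⟩)
        change t * (x : G) * t⁻¹ = x at h2
        exact mul_inv_eq_iff_eq_mul.mp h2⟩, x.2⟩
      rw [hd, mem_bot] at h1
      exact Subtype.ext h1
    · rintro rfl t
      refine Subtype.ext ?_
      show (t : G) * 1 * (t : G)⁻¹ = 1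
      group
  have hmod := hT.card_modEq_card_fixedPoints V
  rw [hfix, Nat.card_coe_set_eq, Set.ncard_singleton, hVc] at hmod
  have h1 : r ∣ q - 1 := (Nat.modEq_iff_dvd' hq.out.one_lt.le).mp hmod.symm
  have h2 := Nat.le_of_dvd (Nat.sub_pos_of_lt hq.out.one_lt) h1
  omega

/-- Corollary 12.10 (e). -/
theorem unique_centralizer_of_tau_two (hG : Cfsg.IsMinSimpleOddOrder G) (hM : IsCoatom M) {x : G} (hxM : x ∈ M)
    (hx1 : x ≠ 1) (hτ : ∀ r : ℕ, r.Prime → r ∣ orderOf x → r ∈ Cfsg.tau2 M) {z : G}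
    (hz : z ∈ Cfsg.sigmaCore M) (hz1 : z ≠ 1) (hxz : x * z = z * x) :
    centralizer ({x} : Set G) ≤ M ∧
      ∀ L : Subgroup G, IsCoatom L → centralizer ({x} : Set G) ≤ L → L = M := by
  have ho : orderOf x ≠ 1 := fun h0 => hx1 (orderOf_eq_one_iff.mp h0)
  set q := (orderOf x).minFac with hq
  haveI := Fact.mk (Nat.minFac_prime ho)
  have hqd : q ∣ orderOf x := Nat.minFac_dvd _
  have hqτ := hτ q Fact.out hqd
  set X := zpowers x with hX
  obtain ⟨E, hE, hXE⟩ := exists_complement_ge hG hM (X := X) (zpowers_le.mpr hxM) fun r hr hrd =>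
    (hτ r hr (by rwa [hX, Nat.card_zpowers] at hrd)).2.1
  obtain ⟨A, hAE, hA, hAc⟩ := exists_sq_complement hG hM hE hqτ
  obtain ⟨A₀, h⟩ := exists_exc hG hM hqτ.2.1 (hAE.trans hE.1) hA hAc
  have hn := h.le_normalizer hG hE hAE
  obtain ⟨y, hyX, hyo⟩ : ∃ y ∈ X, orderOf y = q := by
    obtain ⟨⟨y, hy⟩, hyo⟩ := exists_prime_orderOf_dvd_card' (G := X) q (by rwa [hX, Nat.card_zpowers])
    exact ⟨y, hy, by rwa [Subgroup.orderOf_mk] at hyo⟩
  have hyA : y ∈ A := h.order_p_le hG hE hAE (zpowers_le.mpr (hXE hyX))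
    (by rw [Nat.card_zpowers, hyo]) (mem_zpowers y)
  have hy1 : y ≠ 1 := fun h0 => (Fact.out : q.Prime).ne_one (by rw [← hyo, h0, orderOf_one])
  have hxA : X ≤ centralizer (A : Set G) := by
    refine Cfsg.Lib.Coprime.le_of_forall_sylow fun r hr => ?_
    haveI := Fact.mk hr
    obtain ⟨T⟩ : Nonempty (Sylow r X) := inferInstance
    refine ⟨T, ?_⟩
    set R := (T : Subgroup X).map X.subtype with hR
    have hRX : R ≤ X := map_subtype_le _
    have hRA : R ≤ normalizer (A : Set G) := (hRX.trans hXE).trans hn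
    by_cases hrq : r = q
    · subst hrq
      have hp' : IsPGroup q (R ⊔ A : Subgroup G) :=
        (T.2.map _).to_sup_of_normal_right' (h.maxSq hG).isPGroup hRA
      haveI := comm_of_not_sigma hG hM hqτ.2.1 hp' (sup_le ((hRX.trans hXE).trans hE.1) h.le)
      exact fun t ht => mem_centralizer_iff.mpr fun a ha =>
        ThompsonTransitivity.mul_comm_of inferInstance (mem_sup_right ha : a ∈ R ⊔ A) (mem_sup_left ht)
    by_contra hne
    have hR1 : R ≠ ⊥ := fun h0 => hne (h0 ▸ bot_le)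
    have hlt := lt_of_fixed_line hrq hA hAc (T.2.map _) hRA hyA hy1 (mem_centralizer_iff.mpr fun t ht => by
      obtain ⟨i, rfl⟩ := mem_zpowers_iff.mp (hRX ht)
      obtain ⟨j, rfl⟩ := mem_zpowers_iff.mp hyX
      exact (Commute.refl x).zpow_zpow i j) hne
    have hrd : r ∣ orderOf x := by
      have h1 := (dvd_card_of_isPGroup (T.2.map _) hR1).trans (card_dvd_of_le hRX)
      rwa [hX, Nat.card_zpowers] at h1
    have := Nat.minFac_le_of_dvd hr.two_le hrd
    omega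
  have hAC : A ≤ centralizer ({x} : Set G) := by
    rw [← Cfsg.Lib.Coprime.centralizer_zpowers]
    exact le_centralizer_iff.mp hxA
  have huniq : ∀ L : Subgroup G, IsCoatom L → centralizer ({x} : Set G) ≤ L → L = M := fun L hL hle => by
    by_contra hne
    exact hz1 (mem_bot.mp ((h.inf_other hG hL hne (hAC.trans hle)).le
      ⟨hz, hle (mem_centralizer_singleton_iff.mpr hxz.symm)⟩))
  obtain ⟨L, hL, hle⟩ := exists_coatom_ge (MinSimpleTransitivity.normalizer_ne_top hG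
    (fun h0 => hx1 (zpowers_eq_bot.mp h0) : zpowers x ≠ ⊥)
    (FittingUniqueness.ne_top_of_le_coatom hM (zpowers_le.mpr hxM)))
  have hCL : centralizer ({x} : Set G) ≤ L := by
    rw [← Cfsg.Lib.Coprime.centralizer_zpowers]
    exact (centralizer_le_normalizer _).trans hle
  exact ⟨huniq L hL hCL ▸ hCL, huniq⟩

/-- Corollary 12.10. -/
theorem sigma_prime_corollary (hG : Cfsg.IsMinSimpleOddOrder G) (hM : IsCoatom M)
    (hE : Cfsg.IsComplIn E (Cfsg.sigmaCore M) M) :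
    (∀ N : Subgroup G, N ≤ M → Group.IsNilpotent N →
        (∀ p : ℕ, p.Prime → p ∣ Nat.card N → p ∉ Cfsg.sigma M) → IsMulCommutative N) ∧
      IsMulCommutative ↥⁅E, E⁆ ∧
      (∀ (p : ℕ) (P : Subgroup G), p ∈ Cfsg.sigma M → IsPGroup p P → P ≤ M → ¬ IsCyclic P →
        normalizer (P : Set G) ≤ M) ∧
      ∀ x ∈ M, x ≠ 1 → (∀ p : ℕ, p.Prime → p ∣ orderOf x → p ∈ Cfsg.tau2 M) → x ∈ Cfsg.sigmaHat M →
        centralizer ({x} : Set G) ≤ M ∧
          ∀ L : Subgroup G, IsCoatom L → centralizer ({x} : Set G) ≤ L → L = M := by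
  refine ⟨fun N h1 h2 h3 => comm_of_nilpotent hG hM h1 h2 h3, ?_, ?_, fun x hxM hx1 hτ hhat => ?_⟩
  · exact comm_of_nilpotent hG hM ((commutator_le_self E).trans hE.1) (derived_complement_nilpotent hG hM hE)
      fun r hr hd => not_sigma_of_dvd hG hM hE hr (hd.trans (card_dvd_of_le (commutator_le_self E)))
  · intro q P hσ hP hPM hnc
    haveI := Fact.mk hσ.1
    obtain ⟨B, hBP, hB, hBc⟩ := exists_elementary (p := q) (k := 1) (X := P)
      fun hr => hnc (isCyclic_sylow_of_rank_one hG hP le_rfl hr)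
    have hP1 : P ≠ ⊥ := fun h0 => hnc (h0 ▸ inferInstance)
    obtain ⟨j, hj⟩ := IsPGroup.iff_card.mp (hP.to_le hBP)
    obtain ⟨B₂, hB₂B, hB₂c⟩ : ∃ B₂ : Subgroup G, B₂ ≤ B ∧ Nat.card B₂ = q ^ 2 := by
      obtain ⟨H, hH⟩ := Sylow.exists_subgroup_card_pow_prime q (G := B) (n := 2) (hj ▸ pow_dvd_pow q
        ((Nat.pow_le_pow_iff_right hσ.1.one_lt).mp (hj ▸ hBc)))
      exact ⟨H.map B.subtype, map_subtype_le _, by rw [card_map_of_injective B.subtype_injective, hH]⟩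
    have hB₂e : Cfsg.IsElementaryAbelian q B₂ := ⟨⟨⟨fun a b => Subtype.ext
      (ThompsonTransitivity.mul_comm_of hB.1 (hB₂B a.2) (hB₂B b.2))⟩⟩, fun a ha => hB.2 a (hB₂B ha)⟩
    have hC : centralizer (P : Set G) ≤ M := (Subgroup.centralizer_le (hB₂B.trans hBP)).trans
      (rank_two_theorem hG hM ((hB₂B.trans hBP).trans hPM) hB₂e hB₂c).1
    rw [Sigma.normalizer_eq hG hM hσ hP hP1 hPM]
    exact sup_le inf_le_left hC
  · obtain ⟨-, z, hz, hz1, hxz⟩ := hhat
    exact unique_centralizer_of_tau_two hG hM hxM hx1 hτ hz hz1 hxz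

end Cfsg.Lib.OddLocal.RankTwoMax
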