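import Cfsg.Agent.OddLocal.SigmaDisjoint

/-!
# Consequences of the partition by `σ`
-/

set_option linter.unusedSectionVars false
set_option linter.unusedVariables false
set_option linter.style.haveILetI false

namespace Cfsg.Lib.OddLocal.RankTwoMax

open Subgroup Uniqueness Sigma
open Cfsg.Lib.Coprime (conjMap)
open scoped commutatorElement

universe u

variable {G : Type u} [Group G] [Finite G] {M L N P : Subgroup G} {p q : ℕ} [hp : Fact p.Prime]
  [hq : Fact q.Prime]

/-- A maximal subgroup over a centralizer, with the prime in `σ`, is the given one. -/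
theorem eq_of_sigma_centralizer (hG : Cfsg.IsMinSimpleOddOrder G) (hM : IsCoatom M) (hN : IsCoatom N)
    (hσ : q ∈ Cfsg.sigma M) (hσN : q ∈ Cfsg.sigma N) {X : Subgroup G} (hXq : IsPGroup q X) (hX1 : X ≠ ⊥)
    (hXM : X ≤ M) (hXN : X ≤ N) (hC : centralizer (X : Set G) ≤ N) : N = M := by
  obtain ⟨g, hg⟩ := (sigma_partition hG).2 M N hM hN ⟨q, hσ, hσN⟩
  have hg' : N = conjMap g M := hg
  obtain ⟨c, hc, hcN⟩ := conj_transitive hG hM hσ hXq hX1 (a := g) (b := 1) (hg' ▸ hXN)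
    (by rw [Cfsg.Lib.Coprime.conjMap_one]; exact hXM)
  rw [← hg', Cfsg.Lib.Coprime.conjMap_one, Cfsg.Lib.Coprime.conjMap_eq_self (le_normalizer (hC hc))] at hcN
  exact hcN

/-- `σ`-cores of maximal subgroups with a different `σ`-prime meet trivially. -/
theorem sigmaCore_inf_eq_bot (hG : Cfsg.IsMinSimpleOddOrder G) (hM : IsCoatom M) (hL : IsCoatom L)
    (hnc : ∀ g : G, L ≠ conjMap g M) : Cfsg.sigmaCore M ⊓ Cfsg.sigmaCore L = ⊥ :=
  Cfsg.Lib.Coprime.inf_eq_bot_of_coprime (Nat.coprime_of_dvd fun t ht h1 h2 => by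
    obtain ⟨g, hg⟩ := (sigma_partition hG).2 M L hM hL ⟨t, sigmaCore_isPi t ht h1, sigmaCore_isPi t ht h2⟩
    exact hnc g hg)

/-- A maximal subgroup over `N(P)`, `P` of order a rank one prime outside `σ(M)`, is not a conjugate of `M`. -/
theorem not_conj_of_rank_one (hG : Cfsg.IsMinSimpleOddOrder G) (hM : IsCoatom M) (hσ : p ∉ Cfsg.sigma M)
    (hr : Cfsg.PRankLE p 1 M) (hpM : p ∣ Nat.card M) (hL : IsCoatom L) (hPc : Nat.card P = p)
    (hNL : normalizer (P : Set G) ≤ L) (g : G) : L ≠ conjMap g M := by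
  intro hLg
  by_cases hpL : p ∈ Cfsg.sigma L
  · obtain ⟨T, hTL, hNT⟩ := exists_sylow_le hpL
    have hT : ((g⁻¹ • T : Sylow p G) : Subgroup G) = conjMap g⁻¹ (T : Subgroup G) := by
      rw [Sylow.coe_subgroup_smul, Cfsg.Lib.Coprime.conj_smul_eq]
    have h1 : ((g⁻¹ • T : Sylow p G) : Subgroup G) ≤ M := by
      rw [hT]
      exact (Cfsg.Lib.Coprime.conjMap_mono hTL).trans (by rw [hLg, Cfsg.Lib.Coprime.conjMap_inv_conjMap])
    refine sylow_normalizer_not_le hσ hpM (isSylowOf_coe (g⁻¹ • T) h1) ?_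
    rw [hT, Cfsg.Lib.Coprime.normalizer_conjMap]
    exact (Cfsg.Lib.Coprime.conjMap_mono hNT).trans (by rw [hLg, Cfsg.Lib.Coprime.conjMap_inv_conjMap])
  · have hr' : ¬ Cfsg.PRankLE p 1 L := (exists_sq_ge hG hL hpL hPc hNL).1
    obtain ⟨B, hBL, hB, hBc⟩ := exists_elementary hr'
    obtain ⟨C, hCB, hC, hCc⟩ := exists_sq_le hG hL hpL (isPGroup_of_pow hB.2) hBL
      (not_isCyclic_of_card hB.2 hBc)
    exact not_conj_of_rank hr hC hCc (hCB.trans hBL) g hLg

/-- A nonregular line of a rank one prime outside `σ(M)`: over its normalizer the prime is in `σ`. -/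
theorem sigma_of_nonregular (hG : Cfsg.IsMinSimpleOddOrder G) (hM : IsCoatom M) (hσp : p ∉ Cfsg.sigma M)
    (hr : Cfsg.PRankLE p 1 M) (hPc : Nat.card P = p) (hPM : P ≤ M) {x : G} (hx : x ∈ Cfsg.sigmaCore M)
    (hxo : orderOf x = q) (hxP : x ∈ centralizer (P : Set G)) (hL : IsCoatom L)
    (hNL : normalizer (P : Set G) ≤ L) : p ∈ Cfsg.sigma L := by
  by_contra hpL
  set X := zpowers x with hX
  have hXc : Nat.card X = q := by rw [hX, Nat.card_zpowers, hxo]
  have hXq : IsPGroup q X := isPGroup_of_card hXc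
  have hXM : X ≤ M := zpowers_le.mpr (sigmaCore_le M hx)
  have hXP : X ≤ centralizer (P : Set G) := zpowers_le.mpr hxP
  have hσ : q ∈ Cfsg.sigma M :=
    sigmaCore_isPi q hq.out ((dvd_of_eq hXc.symm).trans (card_dvd_of_le (zpowers_le.mpr hx)))
  have hqp : q ≠ p := fun e => hσp (e ▸ hσ)
  have hPp : IsPGroup p P := isPGroup_of_card hPc
  have hpM : p ∣ Nat.card M := (dvd_of_eq hPc.symm).trans (card_dvd_of_le hPM)
  have hPL : P ≤ L := le_normalizer.trans hNL
  have hXL : X ≤ L := hXP.trans ((centralizer_le_normalizer _).trans hNL)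
  have hτL : p ∈ Cfsg.tau2 L :=
    ⟨hp.out, hpL, pRankLE_of_not_sigma hG hL hpL, (exists_sq_ge hG hL hpL hPc hNL).1⟩
  have hqL : q ∉ Cfsg.sigma L := fun h => by
    obtain ⟨g, hg⟩ := (sigma_partition hG).2 M L hM hL ⟨q, hσ, h⟩
    exact not_conj_of_rank_one hG hM hσp hr hpM hL hPc hNL g hg
  have hPX : P ≤ normalizer (X : Set G) :=
    (le_centralizer_iff.mp hXP).trans (centralizer_le_normalizer _)
  obtain ⟨E, hE, hle⟩ := exists_complement_ge hG hL (X := X ⊔ P) (sup_le hXL hPL) fun t ht hd => by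
    rcases dvd_card_sup hPX ht hd with h | h
    · exact eq_of_dvd_pgroup hXq ht h ▸ hqL
    · exact eq_of_dvd_pgroup hPp ht h ▸ hpL
  obtain ⟨A, hAE, hA, hAc⟩ := exists_sq_complement hG hL hE hτL
  obtain ⟨A₀, hexc⟩ := exists_exc hG hL hpL (hAE.trans hE.1) hA hAc
  have hsq := hexc.maxSq hG
  have hPA : P ≤ A := hexc.order_p_le hG hE hAE (le_sup_right.trans hle) hPc
  have hXA : X ≤ normalizer (A : Set G) := (le_sup_left.trans hle).trans (hexc.le_normalizer hG hE hAE)
  by_cases hfix : X ≤ centralizer (A : Set G)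
  · obtain ⟨N, hN, hNX⟩ := exists_coatom_ge (MinSimpleTransitivity.normalizer_ne_top hG (line_ne_bot hXc)
      (FittingUniqueness.ne_top_of_le_coatom hM hXM))
    have hAN : A ≤ N := ((le_centralizer_iff.mp hfix).trans (centralizer_le_normalizer _)).trans hNX
    have hneM : N ≠ M := fun e => not_le_of_rank_one hr hA hAc (e ▸ hAN)
    have hqN : q ∉ Cfsg.sigma N := fun h => hneM (eq_of_sigma_centralizer hG hM hN hσ h hXq (line_ne_bot hXc)
      hXM (le_normalizer.trans hNX) ((centralizer_le_normalizer _).trans hNX))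
    by_cases hpN : p ∈ Cfsg.sigma N
    · exact other_core_false hG hM hN hneM hσ hqN hXq (line_ne_bot hXc) hXM hNX hpN hPp (line_ne_bot hPc) hPM
        (hPA.trans hAN)
    obtain ⟨-, -, E', hE', hE'M⟩ := tau_two_other hG hM hN hσ hqN hXq (line_ne_bot hXc) hXM hNX
    obtain ⟨m, -, hm⟩ := conj_le_complement hG hN hE' hpN hsq.isPGroup hAN
    exact not_le_of_rank_one hr (Cfsg.Lib.OddP.isElementaryAbelian_map hA _)
      (by rw [Cfsg.Lib.Coprime.card_conjMap, hAc]) (hm.trans hE'M)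
  -- `x` moves `A`
  obtain ⟨N, hN, hNA⟩ := exists_coatom_ge (MinSimpleTransitivity.normalizer_ne_top hG hsq.ne_bot
    (FittingUniqueness.ne_top_of_le_coatom hL (hAE.trans hE.1)))
  have hAN : A ≤ N := le_normalizer.trans hNA
  have hpN : p ∈ Cfsg.sigma N := by
    by_contra h
    obtain ⟨F, hF, hAF⟩ := exists_complement_ge hG hN hAN fun t ht hd =>
      eq_of_dvd_pgroup hsq.isPGroup ht hd ▸ h
    exact (tau_two_complement hG hN h hF hAF hA hAc).2.1.2.2 hNA
  have hXN : X ≤ N := hXA.trans hNA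
  have hneM : N ≠ M := fun e => not_le_of_rank_one hr hA hAc (e ▸ hAN)
  have hPN : P ≤ Cfsg.sigmaCore N := le_sigmaCore_of_pgroup hG hN hpN hPp (hPA.trans hAN)
  have hXd : ¬ X ≤ ⁅N, N⁆ := fun h => hfix (centralizes_of_derived hG hN (hsq.not_beta N)
    (sylow_le_derived' hG hN hpN hsq.isPGroup hAN) h hsq.isPGroup (coprime_of_ne hqp hXq) hXA)
  have hqN : q ∉ Cfsg.sigma N := fun h => hXd (sylow_le_derived' hG hN h hXq hXN)
  by_cases hqr : Cfsg.PRankLE q 1 N
  · have hτN : q ∈ Cfsg.tau1 N := ⟨hq.out, hqN,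
      (dvd_of_eq hXc.symm).trans (card_dvd_of_le hXN), fun hd => hXd (le_derived_of_rank_one hG hN hqr hd hXc hXN),
      hqr⟩
    obtain ⟨-, huniq⟩ := tau_one_unique hG hN hτN hXc hXN hPc hPN hXP
    exact hpL (huniq L hL ((centralizer_le_normalizer _).trans hNL) ▸ hpN)
  obtain ⟨z, hz, hzo⟩ := ScnUniqueness.exists_orderOf hPp (line_ne_bot hPc)
  obtain ⟨-, huniq⟩ := unique_centralizer_of_tau_two hG hN (hXN (mem_zpowers x))
    (fun h => hq.out.ne_one (by rw [← hxo, h, orderOf_one]))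
    (fun t ht hd => by
      rw [hxo, Nat.prime_dvd_prime_iff_eq ht hq.out] at hd
      exact hd ▸ ⟨hq.out, hqN, pRankLE_of_not_sigma hG hN hqN, hqr⟩)
    (hPN hz) (fun h => hp.out.ne_one (by rw [← hzo, h, orderOf_one])) (mem_centralizer_iff.mp hxP z hz).symm
  obtain ⟨N', hN', hNX⟩ := exists_coatom_ge (MinSimpleTransitivity.normalizer_ne_top hG (line_ne_bot hXc)
    (FittingUniqueness.ne_top_of_le_coatom hM hXM))
  have hN'N : N' = N := huniq N' hN' (by
    rw [← Cfsg.Lib.Coprime.centralizer_zpowers]; exact (centralizer_le_normalizer _).trans hNX)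
  exact other_core_false hG hM hN hneM hσ hqN hXq (line_ne_bot hXc) hXM (hN'N ▸ hNX) hpN hPp (line_ne_bot hPc)
    hPM (hPA.trans hAN)

/-- The normalizer of a line with centralizer uniquely in `M` lies in `M`. -/
theorem normalizer_le_of_unique (hG : Cfsg.IsMinSimpleOddOrder G) (hM : IsCoatom M) {X : Subgroup G}
    (hX1 : X ≠ ⊥) (hXM : X ≤ M)
    (huniq : ∀ N : Subgroup G, IsCoatom N → centralizer (X : Set G) ≤ N → N = M) :
    normalizer (X : Set G) ≤ M := by
  obtain ⟨N, hN, hle⟩ := exists_coatom_ge (MinSimpleTransitivity.normalizer_ne_top hG hX1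
    (FittingUniqueness.ne_top_of_le_coatom hM hXM))
  exact huniq N hN ((centralizer_le_normalizer _).trans hle) ▸ hle

end Cfsg.Lib.OddLocal.RankTwoMax
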