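import Cfsg.Agent.OddLocal.SupportKappaBase

/-!
# Maximal subgroups supported by a pair with `U ≠ 1`
-/

set_option linter.unusedSectionVars false
set_option linter.unusedVariables false
set_option linter.style.haveILetI false

namespace Cfsg.Lib.OddLocal.RankTwoMax

open Subgroup Uniqueness Sigma
open Cfsg.Lib.Coprime (conjMap)
open scoped commutatorElement

universe u

variable {G : Type u} [Group G] [Finite G] {M N L K E U F A A₀ B B₀ : Subgroup G} {x₁ : G} {p q t : ℕ}
  [hp : Fact p.Prime] [hq : Fact q.Prime] [ht : Fact t.Prime]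

local notation "fix(" M ", " K ")" => Cfsg.sigmaCore M ⊓ centralizer (SetLike.coe K)

/-- `M ∩ N = U K` is a complement of `N_σ` when `M` lies over `U K` and has a supported prime. -/
theorem OverU.centralizes_two (hG : Cfsg.IsMinSimpleOddOrder G) (o : OverU N K L E U M)
    (hF : Cfsg.IsComplIn F (Cfsg.sigmaCore M) M) (hKF : K ≤ F) (hexc : Exc t M B B₀) (hBF : B ≤ F) :
    B ≤ centralizer (K : Set G) := by
  by_cases htp : t = Nat.card K
  · have hKB : K ≤ B := hexc.order_p_le hG hF hBF hKF htp.symm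
    exact fun y hy => mem_centralizer_iff.mpr fun k hk => ThompsonTransitivity.mul_comm_of hexc.ea.1 (hKB hk) hy
  · exact (o.exists_fixed hG hF hKF hBF hexc.ea hexc.card htp hexc.not_sigma).2.2

/-- No prime of `τ₂(M)`. -/
theorem OverU.tau_two_empty (hG : Cfsg.IsMinSimpleOddOrder G) (o : OverU N K L E U M)
    (d : SupportData q M N A A₀ x₁) : Cfsg.tau2 M = ∅ := by
  refine Set.eq_empty_iff_forall_notMem.mpr fun t hτ => ?_
  haveI := Fact.mk hτ.1
  haveI hPp : Fact (Nat.card K).Prime := ⟨o.prime_K hG⟩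
  have hM := o.max
  have hL := o.dual.pair'.max
  have hpL : Nat.card K ∈ Cfsg.sigma L :=
    sigmaCore_isPi _ (o.prime_K hG) (card_dvd_of_le (o.dual.eq.le.trans inf_le_left))
  have htN : t ∉ Cfsg.sigma N := fun h => d.sigma_tau_two hG h hτ
  obtain ⟨F, hF, hKF⟩ := exists_complement_ge hG hM o.K_le fun r hr hd =>
    (Nat.prime_dvd_prime_iff_eq hr (o.prime_K hG)).mp hd ▸ o.prime_not_sigma hG
  obtain ⟨hFL, -⟩ := o.complement_le hG hF hKF
  obtain ⟨B, hBF, hB, hBc⟩ := exists_sq_complement hG hM hF hτ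
  obtain ⟨B₀, hexc⟩ := exists_exc hG hM hτ.2.1 (hBF.trans hF.1) hB hBc
  have hBK := o.centralizes_two hG hF hKF hexc hBF
  have hBL : B ≤ L := hBK.trans (o.line_L hG).1
  have hBp : IsPGroup t B := isPGroup_of_pow hB.2
  obtain ⟨b, hb, hbo, hbe⟩ := o.exists_gen hG
  have hb1 : b ≠ 1 := fun e => (o.prime_K hG).ne_one (by rw [← hbo, e, orderOf_one])
  have hbL : b ∈ Cfsg.sigmaCore L := (o.dual.eq.le hb).1
  obtain ⟨a, ha, ha1, z, hz, hz1, haz⟩ := Exc.exists_nonregular hG hexc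
  have hao : orderOf a = t := orderOf_eq_prime (hB.2 a ha) ha1
  obtain ⟨hCa, hua⟩ := unique_centralizer_of_tau_two hG hM (hexc.le ha) ha1
    (fun r hr hd => (Nat.prime_dvd_prime_iff_eq hr hτ.1).mp (hao ▸ hd) ▸ hτ) hz hz1 haz
  have hLM : L ≠ M := fun e =>
    o.not_conj_L hG 1 ((Cfsg.Lib.Coprime.conjMap_one L).trans e).symm
  have hab₀ : a * b = b * a := (mem_centralizer_iff.mp (hBK ha) b hb).symm
  have htL : t ∈ Cfsg.sigma L := by
    by_contra htL
    rcases centralizer_split hG hL hbL hb1 (y := a) ⟨hBL ha, mem_centralizer_singleton_iff.mpr hab₀⟩ ha1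
      (fun r hr hd => (Nat.prime_dvd_prime_iff_eq hr hτ.1).mp (hao ▸ hd) ▸ htL) with ⟨hh, -⟩ | ⟨-, -, hle, -⟩
    · have hκ := hh t hτ.1 (dvd_of_eq hao.symm)
      refine htN (sigmaCore_isPi t hτ.1 ?_)
      have h1 := hκ.2.1
      rw [← card_mul_relIndex o.dual.pair'.hall.1] at h1
      exact ((hτ.1.dvd_mul.mp h1).resolve_right (o.dual.pair'.hall.2.2 t hτ.1 hκ)).trans
        (card_dvd_of_le inf_le_left)
    · exact hLM (hua L hL hle)
  have haσ : a ∈ Cfsg.sigmaCore L := le_sigmaCore_of_pgroup hG hL htL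
    (isPGroup_of_card (p := t) (by rw [Nat.card_zpowers, hao])) (zpowers_le.mpr (hBL ha)) (mem_zpowers a)
  have hnle : ¬ centralizer ({a} : Set G) ≤ L := fun h => hLM (hua L hL h)
  -- the complement of the dual is trivial
  obtain ⟨E', U', hL'⟩ := exists_kappaSplit hG hL o.dual.pair'.hall
  have hU' : U' = ⊥ := by
    by_contra hne
    exact hnle (hL'.centralizer_le hG hL o.dual.pair'.hall o.dual.pair'.ne hne haσ ha1)
  have hBσ : B ≤ Cfsg.sigmaCore L := le_sigmaCore_of_pgroup hG hL htL hBp hBL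
  have hpM := o.prime_not_sigma hG
  have htβ : t ∉ Cfsg.beta L := (hexc.maxSq hG).not_beta L
  by_cases hab : ∃ T : Sylow t G, IsMulCommutative (T : Subgroup G)
  swap
  · -- a line centralizing `M_σ`
    push Not at hab
    obtain ⟨-, ⟨hZc, -⟩, -⟩ := tau_two_nonabelian hG hM hF hτ hab hBF hB hBc
    obtain ⟨v, hv, hvo⟩ := ScnUniqueness.exists_orderOf
      (hBp.to_le (inf_le_left : B ⊓ centralizer (Cfsg.sigmaCore M : Set G) ≤ B)) (line_ne_bot hZc)
    have hvA : v ∈ centralizer (A : Set G) := Subgroup.centralizer_le (SetLike.coe_subset_coe.mpr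
      ((le_sigmaCore_of_pgroup hG hM d.sigma (isPGroup_of_pow d.exc.ea.2) (d.le.trans inf_le_left)))) hv.2
    have hvMN : v ∈ M ⊓ N := d.centralizer_le hG hvA
    have hvE : v ∈ E := (o.meet_eq hG).le ⟨hvMN.2, hvMN.1⟩
    have htE : t ∣ Nat.card E := hvo ▸ (Nat.card_zpowers v).symm ▸ card_dvd_of_le (zpowers_le.mpr hvE)
    rw [← o.split.prod] at htE
    have htκ : t ∈ Cfsg.kappa N := by
      rcases dvd_card_sup (o.split.memK.trans o.split.normal) hτ.1 htE with hh | hh
      · exact absurd (sigmaCore_isPi t hτ.1 (hh.trans (card_dvd_of_le (o.U_le_core hG)))) hτ.2.1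
      · exact o.dual.pair.hall.2.1 t hτ.1 hh
    refine d.tau.2.2.2 (kappa_rank hG d.maxN (kappa_of_centralizes (p := t) (s := q) hG d.maxN htκ
      (by rw [Nat.card_zpowers, hvo]) (zpowers_le.mpr hvMN.2) d.order (d.exc.le d.mem) d.tau.2.1 ?_))
    rw [Cfsg.Lib.Coprime.centralizer_zpowers]
    exact mem_centralizer_singleton_iff.mpr (mem_centralizer_iff.mp hvA x₁ d.mem)
  obtain ⟨T₁, hT₁⟩ := hab
  obtain ⟨T, hBT⟩ := hBp.exists_le_sylow
  have hTc : IsMulCommutative (T : Subgroup G) := sylow_comm_all hT₁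
  obtain ⟨hTF, hFT⟩ := hexc.sylow_normal hG hF hBF T hTc hBT
  have hTK : (T : Subgroup G) ≤ centralizer (K : Set G) := by
    by_cases htp : t = Nat.card K
    · have hKB : K ≤ B := hexc.order_p_le hG hF hBF hKF htp.symm
      exact fun y hy => mem_centralizer_iff.mpr fun k hk =>
        ThompsonTransitivity.mul_comm_of hTc (hBT (hKB hk)) hy
    haveI := hTc
    have hKT : K ≤ normalizer ((T : Subgroup G) : Set G) := hKF.trans hFT
    obtain ⟨hdis, hsum⟩ := Cfsg.Lib.Coprime.abelian_coprime_decomp hKT (coprime_of_ne htp T.2).symm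
    refine hsum.ge.trans (sup_le inf_le_right ?_)
    by_cases hV : ⁅(T : Subgroup G), K⁆ = ⊥
    · rw [hV]; exact bot_le
    exfalso
    have hVT : ⁅(T : Subgroup G), K⁆ ≤ (T : Subgroup G) := Cfsg.Lib.Coprime.commutator_le_of_le_normalizer hKT
    obtain ⟨y, hy, hyo⟩ := ScnUniqueness.exists_orderOf (T.2.to_le hVT) hV
    have hyB : y ∈ B := hexc.order_p_le hG hF hBF (zpowers_le.mpr (hTF (hVT hy)))
      (by rw [Nat.card_zpowers, hyo]) (mem_zpowers y)
    exact hτ.1.ne_one (by rw [← hyo, mem_bot.mp (hdis.le ⟨⟨hVT hy, hBK hyB⟩, hy⟩), orderOf_one])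
  have hTL : (T : Subgroup G) ≤ L := hTF.trans hFL
  have hCT : centralizer ((T : Subgroup G) : Set G) ≤ M :=
    (Subgroup.centralizer_le (SetLike.coe_subset_coe.mpr hBT)).trans hexc.centralizer_le
  have hKσ : K ≤ Cfsg.sigmaCore L := o.dual.eq.le.trans inf_le_left
  by_cases hpβ : Nat.card K ∈ Cfsg.beta L
  swap
  · -- an abelian Sylow subgroup at `|K|`
    obtain ⟨Q, hQ, hQc⟩ : ∃ Q : Subgroup G, IsSylowOf (Nat.card K) Q L ∧ IsMulCommutative Q := by
      by_cases htp : t = Nat.card K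
      · refine ⟨(T : Subgroup G), ?_, hTc⟩
        have h1 := isSylowOf_coe T hTL
        exact htp ▸ h1
      obtain ⟨Q, hQ, hTQ⟩ := exists_centralized_sylow (p := t) (q := Nat.card K) hG hL (Ne.symm htp) htL hpL htβ hpβ
        T.2 hTL
      have hQM : Q ≤ M := (le_centralizer_iff.mp hTQ).trans hCT
      exact ⟨Q, hQ, comm_of_nilpotent hG hM hQM hQ.2.1.isNilpotent fun r hr hd =>
        eq_of_dvd_pgroup hQ.2.1 hr hd ▸ hpM⟩
    obtain ⟨s, hs, -, hsτ, c, hc, hco⟩ := exists_tau_one_kappa hG hL o.dual.pair'.hall o.dual.pair'.ne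
    haveI := Fact.mk hs
    have hder : K ≤ ⁅Cfsg.sigmaCore L, Cfsg.sigmaCore L⁆ := tau_one_derived (p := Nat.card K) (q := s) hG hL hsτ
      (Q := zpowers c) (by rw [Nat.card_zpowers, hco]) (zpowers_le.mpr (o.dual.pair'.hall.1 hc)) rfl hKσ
      ((zpowers_le.mpr hc).trans inf_le_right) hpβ
    obtain ⟨S₀⟩ : Nonempty (Sylow (Nat.card K) ↥(Cfsg.sigmaCore L)) := inferInstance
    obtain ⟨m, -, hmS⟩ := card_eq_of_sylowOf hQ (isSylowOf_of_sigmaCore hG hL hpL S₀)
    refine derived_free_of_comm hG hL hpL hpβ S₀ ⟨⟨fun u w => Subtype.ext ?_⟩⟩ hbo (hder hb)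
    obtain ⟨u', hu', hue⟩ := hmS.ge u.2
    obtain ⟨w', hw', hwe⟩ := hmS.ge w.2
    show (u : G) * w = w * u
    rw [← hue, ← hwe, ← map_mul, ← map_mul, ThompsonTransitivity.mul_comm_of hQc hu' hw']
  -- an invariant Sylow subgroup at `|K|` in the `β`-core
  have htp : t ≠ Nat.card K := fun e => htβ (e ▸ hpβ)
  set J := fix(N, K) with hJ
  have hJL : J ≤ L := o.dual.pair'.hall.1
  have hJK : J ≤ centralizer (K : Set G) := inf_le_right
  set R := Cfsg.sigmaCore L ⊓ centralizer (K : Set G) with hR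
  have hJR : J ≤ normalizer (R : Set G) := Cfsg.Lib.Coprime.le_normalizer_inf
    (hJL.trans (le_normalizer_sigmaCore L)) (hJK.trans le_normalizer)
  have hJσ : ∀ r : ℕ, r.Prime → r ∣ Nat.card J → r ∉ Cfsg.sigma L := fun r hr hd =>
    (o.dual.pair'.hall.2.1 r hr hd).2.2.1
  haveI : Fact t.Prime := ⟨hτ.1⟩
  obtain ⟨D₀, hD₀⟩ := Cfsg.Lib.Coprime.exists_invariant_sylow hJR
    (coprime_card_of_disjoint fun r hr h1 h2 =>
      hJσ r hr h1 (sigmaCore_isPi r hr (h2.trans (card_dvd_of_le inf_le_left))))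
    (Or.inl (hG.2.2.2 _ (FittingUniqueness.ne_top_of_le_coatom hL hJL))) t
  set D := (D₀ : Subgroup R).map R.subtype with hD
  have hDt : IsPGroup t D := D₀.2.map _
  have hDR : D ≤ R := map_subtype_le _
  obtain ⟨R₁, hR₁, hTR₁⟩ := exists_sylowOf T.2
    (le_inf (le_sigmaCore_of_pgroup hG hL htL T.2 hTL) hTK : (T : Subgroup G) ≤ R)
  obtain ⟨m, -, hmD⟩ := card_eq_of_sylowOf hR₁ (isSylowOf_sylow D₀)
  have hmT : conjMap m (T : Subgroup G) ≤ D := (Cfsg.Lib.Coprime.conjMap_mono hTR₁).trans hmD.le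
  set W := Cfsg.piCoreOf (Cfsg.beta L) L with hW
  have hWL : W ≤ L := PiCoreOf.le _ _
  have hWπ : ∀ r : ℕ, r.Prime → r ∣ Nat.card W → r ∈ Cfsg.beta L := (betaCore_hall hG hL).1.2.1
  have hpW : ∀ Y : Subgroup G, IsPGroup (Nat.card K) Y → Y ≤ L → Y ≤ W := by
    intro Y hY hYL y hy
    obtain ⟨R', hR'⟩ := (hY.comap_subtype (K := L)).exists_le_sylow
    exact ⟨⟨y, hYL hy⟩, sylow_le_betaCore hG hL hpβ R' (hR' hy), rfl⟩
  have hKp : IsPGroup (Nat.card K) K := isPGroup_of_card rfl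
  have hKL : K ≤ L := hKσ.trans (sigmaCore_le L)
  have hDJ : D ⊔ J ≤ L := sup_le ((hDR.trans inf_le_left).trans (sigmaCore_le L)) hJL
  have hDJK : D ⊔ J ≤ centralizer (K : Set G) := sup_le (hDR.trans inf_le_right) hJK
  have hdj : ∀ r : ℕ, r.Prime → r ∣ Nat.card ↥(D ⊔ J) → r = t ∨ r ∉ Cfsg.sigma L := fun r hr hd => by
    rcases dvd_card_sup hD₀ hr hd with hh | hh
    exacts [Or.inl (eq_of_dvd_pgroup hDt hr hh), Or.inr (hJσ r hr hh)]
  obtain ⟨Q₀, hKQ, hQ₀⟩ := Cfsg.Lib.Coprime.exists_invariant_sylow_ge (A := D ⊔ J) (K := W)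
    (hDJ.trans (PiCoreOf.le_normalizer' _ _))
    (coprime_card_of_disjoint fun r hr h1 h2 => by
      rcases hdj r hr h1 with e | e
      · exact htβ (e ▸ hWπ r hr h2)
      · exact e (alpha_subset_sigma hG hL (hWπ r hr h2).1))
    (Or.inl (hG.2.2.2 _ (FittingUniqueness.ne_top_of_le_coatom hL hDJ))) (Nat.card K) (hpW K hKp hKL) hKp
    (hDJK.trans (centralizer_le_normalizer _))
  set Q := (Q₀ : Subgroup W).map W.subtype with hQdef
  have hQW : Q ≤ W := map_subtype_le _
  have hQp : IsPGroup (Nat.card K) Q := Q₀.2.map _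
  have hQσ : Q ≤ Cfsg.sigmaCore L := le_sigmaCore_of_pgroup hG hL hpL hQp (hQW.trans hWL)
  have hfixJ : Cfsg.sigmaCore L ⊓ centralizer (J : Set G) = K := o.dual.fix_eq
  have hQJ : Q ⊓ centralizer (J : Set G) = K := le_antisymm ((inf_le_inf_right _ hQσ).trans hfixJ.le)
    (le_inf hKQ (le_centralizer_iff.mp hJK))
  have hQDJ : Q ⊓ centralizer ((D ⊔ J : Subgroup G) : Set G) = K := le_antisymm
    ((inf_le_inf_left _ (Subgroup.centralizer_le (SetLike.coe_subset_coe.mpr le_sup_right))).trans hQJ.le)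
    (le_inf hKQ (le_centralizer_iff.mp hDJK))
  have hDJ1 : D ⊓ J = ⊥ := le_bot_iff.mp fun y hy => by
    rw [mem_bot]
    by_contra hy1
    obtain ⟨r, hr, hd⟩ := exists_pow_prime hy1
    have h1 := eq_of_dvd_pgroup hDt hr (hd.trans ((Nat.card_zpowers y).symm ▸ card_dvd_of_le (zpowers_le.mpr hy.1)))
    exact hJσ r hr (hd.trans ((Nat.card_zpowers y).symm ▸ card_dvd_of_le (zpowers_le.mpr hy.2))) (h1 ▸ htL)
  have heq := Cfsg.Lib.FixedDim.frobenius_fixed_solvable D J hDJ1 hD₀ (fun e he he1 u hu hc => by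
      have hu' : u ∈ K := by
        rw [← hfixJ, ← kappa_group_fixed hG hL hJL o.dual.pair'.hall.2.1 he he1]
        exact ⟨(hDR hu).1, mem_centralizer_singleton_iff.mpr hc.symm⟩
      exact Cfsg.Lib.Coprime.eq_one_of_coprime (coprime_of_ne htp hDt) hu hu')
    (Nat.card Q) Q le_rfl hQ₀ (hG.2.2.2 Q (FittingUniqueness.ne_top_of_le_coatom hL (hQW.trans hWL)))
    (coprime_card_of_disjoint fun r hr h1 h2 => by
      have hrp := eq_of_dvd_pgroup hQp hr h1
      rcases hdj r hr h2 with e | e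
      · exact htp (e.symm.trans hrp)
      · exact e (hrp ▸ hpL))
  rw [hQDJ, hQJ] at heq
  have hQD : Q ≤ centralizer (D : Set G) := by
    have h2 := Cfsg.Lib.Coprime.eq_of_le_of_card_eq (inf_le_left : Q ⊓ centralizer (D : Set G) ≤ Q)
      (Nat.eq_of_mul_eq_mul_left (pow_pos Nat.card_pos _) heq).symm
    exact h2.ge.trans inf_le_right
  have hQM : Q ≤ conjMap m M := hQD.trans ((Subgroup.centralizer_le (SetLike.coe_subset_coe.mpr hmT)).trans
    fun y hy => Cfsg.Lib.Coprime.conjMap_mono hCT (mem_centralizer_conjMap.mp hy))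
  obtain ⟨B₃, hB₃L, hB₃, hB₃c⟩ := exists_elementary (p := Nat.card K) hpβ.1.2
  obtain ⟨R₃, hR₃, hB₃R⟩ := exists_sylowOf (isPGroup_of_pow hB₃.2) (hpW B₃ (isPGroup_of_pow hB₃.2) hB₃L)
  obtain ⟨c, -, hcQ⟩ := card_eq_of_sylowOf hR₃ (isSylowOf_sylow Q₀)
  have hpMm : Nat.card K ∈ Cfsg.alpha (conjMap m M) := ⟨o.prime_K hG, not_pRankLE_of
    (Cfsg.Lib.OddP.isElementaryAbelian_map hB₃ (MulAut.conj c).toMonoidHom)
    (((Cfsg.Lib.Coprime.conjMap_mono hB₃R).trans hcQ.le).trans hQM)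
    (by
      rw [show B₃.map (MulAut.conj c).toMonoidHom = conjMap c B₃ from rfl, Cfsg.Lib.Coprime.card_conjMap]
      exact hB₃c)⟩
  exact hpM (sigma_conj hM m ▸ alpha_subset_sigma hG (conjMap_coatom hM m) hpMm)

/-- Every nontrivial element of a complement is regular. -/
theorem OverU.regular_all (hG : Cfsg.IsMinSimpleOddOrder G) (o : OverU N K L E U M)
    (d : SupportData q M N A A₀ x₁) (hF : Cfsg.IsComplIn F (Cfsg.sigmaCore M) M) {f : G} (hf : f ∈ F) (hf1 : f ≠ 1) :
    Cfsg.sigmaCore M ⊓ centralizer ({f} : Set G) = ⊥ := by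
  refine le_bot_iff.mp fun z hz => ?_
  rw [mem_bot]
  by_contra hz1
  obtain ⟨b, hb, hbp, hbC⟩ := exists_prime_pow_mem hf1
  haveI := Fact.mk hbp
  have hbF : b ∈ F := zpowers_le.mpr hf hb
  have hbz : b * z = z * b := (mem_centralizer_singleton_iff.mp (hbC (mem_centralizer_singleton_iff.mpr
    (mem_centralizer_singleton_iff.mp hz.2)))).symm
  rcases prime_of_hat (p := orderOf b) hG o.max (u := b) ⟨hF.1 hbF, z, hz.1, hz1, hbz⟩ dvd_rfl
    (not_sigma_of_dvd hG o.max hF hbp ((Nat.card_zpowers b).symm ▸ card_dvd_of_le (zpowers_le.mpr hbF)))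
    with h | h
  · rw [o.tau_two_empty hG d] at h; exact h
  · rw [o.kappa_empty hG] at h; exact h

/-- The primes of a complement have rank one. -/
theorem OverU.rank_one_all (hG : Cfsg.IsMinSimpleOddOrder G) (o : OverU N K L E U M)
    (d : SupportData q M N A A₀ x₁) (hF : Cfsg.IsComplIn F (Cfsg.sigmaCore M) M) {r : ℕ} (hr : r.Prime)
    (hd : r ∣ Nat.card F) : Cfsg.PRankLE r 1 M := by
  haveI := Fact.mk hr
  have hσ := not_sigma_of_dvd hG o.max hF hr hd
  by_contra h1
  have h2 : Cfsg.PRankLE r 2 M := by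
    by_contra h2
    exact hσ (alpha_subset_sigma hG o.max ⟨hr, h2⟩)
  exact (o.tau_two_empty hG d).le (⟨hr, hσ, h2, h1⟩ : r ∈ Cfsg.tau2 M)

/-- A complement containing `K` is cyclic. -/
theorem OverU.complement_cyclic (hG : Cfsg.IsMinSimpleOddOrder G) (o : OverU N K L E U M)
    (d : SupportData q M N A A₀ x₁) (hF : Cfsg.IsComplIn F (Cfsg.sigmaCore M) M) (hKF : K ≤ F) :
    IsCyclic F := by
  haveI hPp : Fact (Nat.card K).Prime := ⟨o.prime_K hG⟩
  have hM := o.max
  have hL := o.dual.pair'.max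
  obtain ⟨hFL, hKfit⟩ := o.complement_le hG hF hKF
  have hKp : IsPGroup (Nat.card K) K := isPGroup_of_card rfl
  have hKO := le_O_of_le_fitting hKp hKfit
  have hKn : F ≤ normalizer (K : Set G) := fun f hf => by
    have hc : IsCyclic ↥(FittingParts.O (Nat.card K) F) := isCyclic_sylow_of_rank_one hG
      (FittingParts.isPGroup F) ((PiCoreOf.le _ _).trans hF.1)
      (o.rank_one_all hG d hF (o.prime_K hG) (card_dvd_of_le hKF))
    exact Cfsg.Lib.Coprime.conjMap_eq_self_iff.mp (eq_of_cyclic hc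
      ((Cfsg.Lib.Coprime.conjMap_mono hKO).trans
        (Cfsg.Lib.Coprime.conjMap_eq_self (PiCoreOf.le_normalizer' _ F hf)).le) hKO
      (Cfsg.Lib.Coprime.card_conjMap _ _))
  obtain ⟨E', U', hL'⟩ := exists_kappaSplit hG hL o.dual.pair'.hall
  haveI := o.dual.pair'.cyclic hG
  have hJc : IsMulCommutative ↥(fix(N, K)) :=
    ⟨⟨fun x y => (IsCyclic.commGroup (α := ↥(fix(N, K)))).mul_comm x y⟩⟩
  obtain ⟨hrel, -, hcent, hder⟩ := hL'.derived_part hG hL o.dual.pair'.hall hJc
  have hfp : (Nat.card ↥(fix(L, fix(N, K)))).Prime := by rw [o.dual.fix_eq]; exact o.prime_K hG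
  obtain ⟨hnorm, hnil⟩ := hL'.normalizer_fix hG hL o.dual.pair'.hall o.dual.pair'.ne hfp
  rw [o.dual.fix_eq] at hnorm hnil hcent
  set D := U' ⊔ Cfsg.sigmaCore L with hD
  have hDn : L ≤ normalizer (D : Set G) := hL'.sup_normal
  set G₀ := F ⊓ D with hG₀
  have hG₀C : G₀ ≤ D ⊓ centralizer (K : Set G) := le_inf inf_le_right
    ((le_inf inf_le_right (inf_le_left.trans hKn)).trans hnorm)
  haveI := hnil
  haveI : Group.IsNilpotent G₀ := Group.nilpotent_of_mulEquiv (subgroupOfEquivOfLe hG₀C)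
  have hrank : ∀ r : ℕ, r.Prime → r ∣ Nat.card G₀ → Cfsg.PRankLE r 1 M := fun r hr hd =>
    o.rank_one_all hG d hF hr (hd.trans (card_dvd_of_le inf_le_left))
  haveI hG₀c : IsCyclic G₀ := isCyclic_of_sylows hG (inf_le_left.trans hF.1) hrank
  have hG₀comm : IsMulCommutative G₀ := ⟨⟨fun x y => (IsCyclic.commGroup (α := G₀)).mul_comm x y⟩⟩
  have hG₀n : F ≤ normalizer (G₀ : Set G) :=
    Cfsg.Lib.Coprime.le_normalizer_inf le_normalizer (hFL.trans hDn)
  haveI : Group.IsSolvable L := hG.2.2.2 L (FittingUniqueness.ne_top_of_le_coatom hL le_rfl)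
  have hhall : Cfsg.IsPiHall (Cfsg.kappa L) ((fix(N, K)).subgroupOf L) := ⟨fun r hr hrd =>
    o.dual.pair'.hall.2.1 r hr
      (hrd.trans (dvd_of_eq (Nat.card_congr (subgroupOfEquivOfLe o.dual.pair'.hall.1).toEquiv))),
    fun r hr hrκ => o.dual.pair'.hall.2.2 r hr hrκ⟩
  have hcentral : F ≤ centralizer (G₀ : Set G) := by
    refine Cfsg.Lib.Coprime.le_of_forall_sylow fun s hs => ?_
    haveI := Fact.mk hs
    obtain ⟨T₀⟩ : Nonempty (Sylow s F) := inferInstance
    refine ⟨T₀, ?_⟩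
    rintro _ ⟨⟨f, hfF⟩, hfT, rfl⟩
    show f ∈ centralizer (G₀ : Set G)
    obtain ⟨j, hj⟩ := IsPGroup.iff_orderOf.mp T₀.2 ⟨_, hfT⟩
    rw [orderOf_mk, orderOf_mk] at hj
    have hfs : IsPGroup s (zpowers f) := IsPGroup.iff_card.mpr ⟨j, by rw [Nat.card_zpowers, hj]⟩
    by_cases hsκ : s ∈ Cfsg.kappa L
    swap
    · have hfD : f ∈ D := mem_of_coprime_relIndex hDn (hFL hfF) fun r hr h1 h2 => by
        rw [hj] at h1
        exact hsκ ((Nat.prime_dvd_prime_iff_eq hr hs).mp (hr.dvd_of_dvd_pow h1) ▸ hrel r hr h2)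
      exact mem_centralizer_iff.mpr fun y hy => ThompsonTransitivity.mul_comm_of hG₀comm hy ⟨hfF, hfD⟩
    refine le_centralizer_iff.mp (?_ : G₀ ≤ centralizer (zpowers f : Set G)) (mem_zpowers f)
    refine Cfsg.Lib.Coprime.le_of_forall_sylow fun r hr => ?_
    haveI := Fact.mk hr
    obtain ⟨S₀⟩ : Nonempty (Sylow r G₀) := inferInstance
    refine ⟨S₀, ?_⟩
    set S := (S₀ : Subgroup G₀).map G₀.subtype with hS
    by_cases hS1 : S = ⊥
    · rw [hS1]; exact bot_le
    have hSp : IsPGroup r S := S₀.2.map _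
    have hSG : S ≤ G₀ := map_subtype_le _
    obtain ⟨x, hx, hxo⟩ := ScnUniqueness.exists_orderOf hSp hS1
    have hrd : r ∣ Nat.card G₀ := hxo ▸ (Nat.card_zpowers x).symm ▸ card_dvd_of_le (zpowers_le.mpr (hSG hx))
    have hrκ : r ∉ Cfsg.kappa L := fun h => by
      haveI := Fact.mk hr
      obtain ⟨w, hw⟩ := Cfsg.Lib.Coprime.le_conj_piHall hhall
        (K := zpowers (⟨x, hFL (hSG hx).1⟩ : L)) fun r' hr' hd' => by
          rw [Nat.card_zpowers, orderOf_mk, hxo] at hd'
          exact (Nat.prime_dvd_prime_iff_eq hr' hr).mp hd' ▸ h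
      obtain ⟨v, hv, hve⟩ := hw (mem_zpowers _)
      have hve' : (w : G) * (v : G) * (w : G)⁻¹ = x := congrArg Subtype.val hve
      have hvD : (v : G) ∈ D := by
        have := (mem_normalizer_iff.mp (hDn (inv_mem w.2)) x).mp (hSG hx).2
        rwa [← hve', show (w : G)⁻¹ * ((w : G) * v * (w : G)⁻¹) * (w : G)⁻¹⁻¹ = v by group] at this
      have hv1 : (v : G) ≠ 1 := fun e => hr.ne_one (by rw [← hxo, ← hve', e, mul_one, mul_inv_cancel, orderOf_one])
      have hvK : (v : G) ∈ K :=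
        (hcent (v : G) hv hv1).le ⟨hvD, mem_centralizer_singleton_iff.mpr rfl⟩
      exact hv1 (mem_bot.mp (o.dual.pair.disjoint.le ⟨hvK, hv⟩))
    have hsr : s ≠ r := fun e => hrκ (e ▸ hsκ)
    have hXF : zpowers x ≤ F := zpowers_le.mpr (hSG hx).1
    have hcyc : IsCyclic S := isCyclic_of_injective (inclusion hSG) (inclusion_injective _)
    have hSn : ∀ g ∈ F, conjMap g S = S := fun g hg => eq_of_cyclic hG₀c
      ((Cfsg.Lib.Coprime.conjMap_mono hSG).trans (Cfsg.Lib.Coprime.conjMap_eq_self (hG₀n hg)).le) hSG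
      (Cfsg.Lib.Coprime.card_conjMap _ _)
    have hXn : ∀ g ∈ F, g ∈ normalizer (zpowers x : Set G) := fun g hg =>
      Cfsg.Lib.Coprime.conjMap_eq_self_iff.mp (eq_of_cyclic hcyc
        ((Cfsg.Lib.Coprime.conjMap_mono (zpowers_le.mpr hx)).trans (hSn g hg).le) (zpowers_le.mpr hx)
        (Cfsg.Lib.Coprime.card_conjMap _ _))
    -- `f` commutes with `x`
    have key : ∀ (i : ℕ) (g : G), g ∈ F → orderOf g = s ^ i → g * x = x * g := by
      intro i
      induction i with
      | zero =>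
        intro g hg hgo
        rw [pow_zero, orderOf_eq_one_iff] at hgo
        rw [hgo, one_mul, mul_one]
      | succ i ih =>
        intro g hg hgo
        have hg1 : g ^ s ∈ F := pow_mem hg _
        have hg1o : orderOf (g ^ s) = s ^ i := by
          rw [orderOf_pow, hgo, Nat.gcd_eq_right (dvd_pow_self s i.succ_ne_zero), pow_succ,
            Nat.mul_div_cancel _ hs.pos]
        rcases i with _ | i
        · -- prime order
          rw [pow_one] at hgo
          by_contra hne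
          have hX : Nat.card (zpowers x) = r := by rw [Nat.card_zpowers, hxo]
          have hfix : zpowers x ⊓ centralizer ({g} : Set G) = ⊥ := le_bot_iff.mp fun y hy => by
            rw [mem_bot]
            by_contra hy1
            refine hne ?_
            have h1 : zpowers x ≤ centralizer ({g} : Set G) := by
              rw [← line_eq_of_mem hX hy.1 hy1]; exact zpowers_le.mpr hy.2
            exact (mem_centralizer_singleton_iff.mp (h1 (mem_zpowers x))).symm
          have hx1 : x ≠ 1 := fun e => hr.ne_one (by rw [← hxo, e, orderOf_one])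
          have hg1' : g ≠ 1 := fun e => hs.ne_one (by rw [← hgo, e, orderOf_one])
          have hcoreM : ∀ r' : ℕ, r'.Prime → r' ∣ Nat.card F → ¬ r' ∣ Nat.card (Cfsg.sigmaCore M) :=
            fun r' hr' h1 h2 => not_sigma_of_dvd hG hM hF hr' h1 (sigmaCore_isPi r' hr' h2)
          have hle := le_centralizer_of_fpf (p := s) hgo
            (hG.2.2.2 _ (FittingUniqueness.ne_top_of_le_coatom hM (sigmaCore_le M))) (zpowers_le.mpr (hXn g hg))
            ((hXF.trans hF.1).trans (le_normalizer_sigmaCore M))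
            (zpowers_le.mpr (le_normalizer_sigmaCore M (hF.1 hg))) (coprime_of_ne hsr.symm (isPGroup_of_card hX))
            (hs.coprime_iff_not_dvd.mpr (hcoreM s hs
              ((dvd_of_eq hgo.symm).trans ((Nat.card_zpowers g).symm ▸ card_dvd_of_le (zpowers_le.mpr hg))))).symm
            (coprime_card_of_disjoint fun r' hr' h1 h2 => hcoreM r' hr' (h2.trans (card_dvd_of_le hXF)) h1)
            hfix (o.regular_all hG d hF hg hg1')
          refine sigmaCore_ne_bot hG hM (le_bot_iff.mp ((le_inf le_rfl (le_centralizer_iff.mp hle)).trans ?_))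
          rw [Cfsg.Lib.Coprime.centralizer_zpowers, o.regular_all hG d hF (hSG hx).1 hx1]
        · have hgs := ih (g ^ s) hg1 hg1o
          obtain ⟨w, hw⟩ := Cfsg.Lib.Coprime.le_conj_piHall hhall (K := zpowers (⟨g, hFL hg⟩ : L))
            fun r' hr' hd' => by
              rw [Nat.card_zpowers, orderOf_mk, hgo] at hd'
              exact (Nat.prime_dvd_prime_iff_eq hr' hs).mp (hr'.dvd_of_dvd_pow hd') ▸ hsκ
          obtain ⟨v, hv, hve⟩ := hw (mem_zpowers _)
          have hve' : (w : G) * (v : G) * (w : G)⁻¹ = g := congrArg Subtype.val hve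
          set x' := (w : G)⁻¹ * x * w with hx'
          have hxD : x' ∈ D := by
            have := (mem_normalizer_iff.mp (hDn (inv_mem w.2)) x).mp (hSG hx).2
            rwa [inv_inv] at this
          have hvs : x' * (v : G) ^ s = (v : G) ^ s * x' := by
            have h1 : (v : G) ^ s = (w : G)⁻¹ * g ^ s * w := by
              rw [← hve', conj_pow]; group
            rw [h1, hx']
            calc (w : G)⁻¹ * x * w * ((w : G)⁻¹ * g ^ s * w) = (w : G)⁻¹ * (x * g ^ s) * w := by group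
              _ = (w : G)⁻¹ * (g ^ s * x) * w := by rw [hgs]
              _ = _ := by group
          have hvs1 : (v : G) ^ s ≠ 1 := fun e => by
            have h1 : g ^ s = 1 := by rw [← hve', conj_pow, e, mul_one, mul_inv_cancel]
            rw [h1, orderOf_one] at hg1o
            exact absurd hg1o.symm (Nat.one_lt_pow i.succ_ne_zero hs.one_lt).ne'
          have hxK : x' ∈ K := (hcent _ (pow_mem hv s) hvs1).le ⟨hxD, mem_centralizer_singleton_iff.mpr hvs⟩
          have hxv : x' * (v : G) = v * x' := mem_centralizer_iff.mp ((inf_le_right : fix(N, K) ≤ _) hv) x' hxK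
          rw [← hve', show x = (w : G) * x' * (w : G)⁻¹ by rw [hx']; group]
          calc (w : G) * v * (w : G)⁻¹ * ((w : G) * x' * (w : G)⁻¹) = (w : G) * (v * x') * (w : G)⁻¹ := by group
            _ = (w : G) * (x' * v) * (w : G)⁻¹ := by rw [hxv]
            _ = _ := by group
    refine ScnUniqueness.le_centralizer_of_cyclic hSp hcyc (zpowers_le.mpr
      (Cfsg.Lib.Coprime.conjMap_eq_self_iff.mp (hSn f hfF)))
      (coprime_card_of_disjoint fun r' hr' h1 h2 => hsr ((eq_of_dvd_pgroup hfs hr' h1).symm.trans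
        (eq_of_dvd_pgroup hSp hr' h2))) hx (fun e => hr.ne_one (by rw [← hxo, e, orderOf_one])) ?_
    rw [Cfsg.Lib.Coprime.centralizer_zpowers]
    exact mem_centralizer_singleton_iff.mpr (key j f hfF hj).symm
  haveI : Group.IsNilpotent F := by
    refine Subgroup.isNilpotent_of_ker_le_center (Abelianization.of (G := F)) ?_
    rw [Abelianization.ker_of]
    intro c hc
    refine mem_center_iff.mpr fun y => Subtype.ext ?_
    have h1 : (c : G) ∈ ⁅F, F⁆ := by rw [← map_subtype_commutator]; exact ⟨c, hc, rfl⟩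
    have h2 : (c : G) ∈ G₀ := ⟨c.2, hder (commutator_mono hFL hFL h1)⟩
    exact (mem_centralizer_iff.mp (hcentral y.2) c h2).symm
  exact isCyclic_of_sylows hG hF.1 fun r hr hd => o.rank_one_all hG d hF hr hd

end Cfsg.Lib.OddLocal.RankTwoMax
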