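import Cfsg.Agent.OddLocal.KappaTypeTwo

/-!
# A supporting subgroup sharing a `σ`-prime with `M`
-/

set_option linter.unusedSectionVars false
set_option linter.unusedVariables false
set_option linter.style.haveILetI false

namespace Cfsg.Lib.OddLocal.RankTwoMax

open Subgroup Uniqueness Sigma
open Cfsg.Lib.Coprime (conjMap)
open scoped commutatorElement

universe u

variable {G : Type u} [Group G] [Finite G] {M N K A : Subgroup G} {x g : G} {p q t : ℕ}
  [hp : Fact p.Prime] [hq : Fact q.Prime] [ht : Fact t.Prime]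

theorem pRankLE_conjMap {k : ℕ} (g : G) (h : Cfsg.PRankLE p k M) : Cfsg.PRankLE p k ↥(conjMap g M) :=
  Cfsg.Lib.OddP.pRankLE_of_injective
    ((Subgroup.equivMapOfInjective M (MulAut.conj g).toMonoidHom (MulEquiv.injective _)).symm.toMonoidHom)
    (MulEquiv.injective _) h

theorem kappa_conjMap (hG : Cfsg.IsMinSimpleOddOrder G) (hM : IsCoatom M) (g : G)
    (hκ : p ∈ Cfsg.kappa M) : p ∈ Cfsg.kappa (conjMap g M) := by
  obtain ⟨a, ha⟩ := exists_prime_orderOf_dvd_card' p hκ.2.1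
  have hao : orderOf (a : G) = p := by rw [orderOf_coe, ha]
  obtain ⟨z, hz, hz1, hzc⟩ := kappa_fixed_ne hG hM hκ a.2 hao
  refine kappa_intro hG (conjMap_coatom hM g) (by rw [sigma_conj hM]; exact hκ.2.2.1)
    (pRankLE_conjMap g (kappa_rank hG hM hκ)) (a := g * a * g⁻¹) ⟨_, a.2, rfl⟩
    ((orderOf_injective (MulAut.conj g).toMonoidHom (MulEquiv.injective _) (a : G)).trans hao)
    (mem_core_conj hG hM hz g) (by rwa [Ne, conj_eq_one_iff]) ?_
  calc g * z * g⁻¹ * (g * a * g⁻¹) = g * (z * a) * g⁻¹ := by group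
    _ = g * (a * z) * g⁻¹ := by rw [hzc]
    _ = _ := by group

/-- Elements of a prime above `p` centralize the Sylow `p`-subgroup of a nilpotent `M_σ`, `p ∉ β(M)`. -/
theorem centralizes_core (hG : Cfsg.IsMinSimpleOddOrder G) (hM : IsCoatom M) (hσ : p ∈ Cfsg.sigma M)
    (hβ : p ∉ Cfsg.beta M) (hlt : p < q) {w : G} (hwM : w ∈ M) (hwo : orderOf w = q) :
    w ∈ centralizer (FittingParts.O p M : Set G) := by
  have hwW : w ∈ Op p M := by
    rw [Op_eq]
    have h1 : (⟨w, hwM⟩ : M) ^ (Cfsg.pPrimeCore p M).index ∈ Cfsg.pPrimeCore p M :=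
      Subgroup.pow_index_mem _ _
    obtain ⟨m, hm⟩ := exists_pow_eq_self_of_coprime (x := (⟨w, hwM⟩ : M))
      (n := (Cfsg.pPrimeCore p M).index) (Nat.coprime_of_dvd fun r hr h2 h3 => by
        rw [orderOf_mk, hwo] at h3
        rw [(Nat.prime_dvd_prime_iff_eq hr hq.out).mp h3] at h2
        exact absurd ((structure_not_beta hG hM hσ.2.1 hβ).1 q hq.out h2) (not_le.mpr hlt))
    refine ⟨⟨w, hwM⟩, ?_, rfl⟩
    rw [← hm]
    exact pow_mem h1 m
  have hn : M ≤ normalizer (Op p M : Set G) := le_normalizer.trans (PiCoreOf.normalizer_le _ _)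
  have hnO : M ≤ normalizer (FittingParts.O p M : Set G) := PiCoreOf.le_normalizer' _ _
  have hOM : FittingParts.O p M ≤ M := PiCoreOf.le _ _
  have hWM : Op p M ≤ M := by rw [Op_eq]; exact map_subtype_le _
  refine mem_centralizer_iff.mpr fun a ha => ?_
  have h1 : ⁅a, w⁆ = 1 := Cfsg.Lib.Coprime.eq_one_of_coprime (N := Op p M) (H := FittingParts.O p M)
    (coprime_card_of_disjoint fun r hr h1 h2 => by
      rw [eq_of_dvd_pgroup (FittingParts.isPGroup M) hr h2] at h1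
      exact hp.out.ne_one (Nat.eq_one_of_dvd_coprimes (coprime_Op M) h1 dvd_rfl))
    (by rw [commutatorElement_def]
        exact mul_mem ((mem_normalizer_iff.mp (hn (hOM ha)) w).mp hwW) (inv_mem hwW))
    (by rw [commutatorElement_def, mul_assoc, mul_assoc, ← mul_assoc w]
        exact mul_mem ha ((mem_normalizer_iff.mp (hnO hwM) _).mp (inv_mem ha)))
  exact commutatorElement_eq_one_iff_mul_comm.mp h1

/-- The data at a prime of `x` in a supporting pair. -/
structure SupportData (q : ℕ) (M N A A₀ : Subgroup G) (x₁ : G) : Prop where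
  max : IsCoatom M
  maxN : IsCoatom N
  not_conj : ∀ g : G, N ≠ conjMap g M
  compl : Cfsg.IsComplIn (M ⊓ N) (Cfsg.sigmaCore N) N
  sigma : q ∈ Cfsg.sigma M
  tau : q ∈ Cfsg.tau2 N
  exc : Exc q N A A₀
  le : A ≤ M ⊓ N
  order : orderOf x₁ = q
  mem : x₁ ∈ A
  not_le : ∃ x ∈ Cfsg.sigmaCore M, x ≠ 1 ∧ ¬ centralizer ({x} : Set G) ≤ M

theorem exists_supportData (hG : Cfsg.IsMinSimpleOddOrder G) {x : G} (h : SupportPair M N x) :
    ∃ (q : ℕ) (_ : Fact q.Prime) (A A₀ : Subgroup G) (x₁ : G), SupportData q M N A A₀ x₁ := by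
  obtain ⟨q, hq, hqx⟩ := exists_pow_prime h.ne_one
  haveI := Fact.mk hq
  have hqτ := h.tau q hq hqx
  obtain ⟨A, hAE, hA, hAc⟩ := exists_sq_complement hG h.maxN h.compl hqτ
  obtain ⟨A₀, hexc⟩ := exists_exc hG h.maxN hqτ.2.1 (hAE.trans h.compl.1) hA hAc
  set x₁ := x ^ (orderOf x / q) with hx₁
  have hx₁o : orderOf x₁ = q := orderOf_pow_orderOf_div (orderOf_pos x).ne' hqx
  have hxN : x ∈ N := h.le (mem_centralizer_singleton_iff.mpr rfl)
  refine ⟨q, ⟨hq⟩, A, A₀, x₁, h.max, h.maxN, h.not_conj, h.compl, prime_of_mem_core h.mem hq hqx, hqτ, hexc, hAE,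
    hx₁o, ?_, ⟨x, h.mem, h.ne_one, h.not_le⟩⟩
  exact hexc.order_p_le hG h.compl hAE
    (zpowers_le.mpr (⟨pow_mem (sigmaCore_le M h.mem) _, pow_mem hxN _⟩ : x₁ ∈ M ⊓ N))
    (by rw [Nat.card_zpowers, hx₁o]) (mem_zpowers _)

variable {A₀ : Subgroup G} {x₁ : G}

theorem SupportData.not_sigma (d : SupportData q M N A A₀ x₁) (hG : Cfsg.IsMinSimpleOddOrder G) {r : ℕ}
    (hrM : r ∈ Cfsg.sigma M) : r ∉ Cfsg.sigma N := fun hrN => by
  obtain ⟨g, hg⟩ := (sigma_partition hG).2 M N d.max d.maxN ⟨r, hrM, hrN⟩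
  exact d.not_conj g hg

theorem SupportData.centralizer_le (hG : Cfsg.IsMinSimpleOddOrder G) (d : SupportData q M N A A₀ x₁) :
    centralizer (A : Set G) ≤ M ⊓ N := by
  obtain ⟨-, ⟨h1, h2, -⟩, -⟩ :=
    tau_two_complement hG d.maxN d.tau.2.1 d.compl d.le d.exc.ea d.exc.card
  exact h1.trans h2.le

theorem SupportData.le_O (hG : Cfsg.IsMinSimpleOddOrder G) (d : SupportData q M N A A₀ x₁)
    (hnil : Group.IsNilpotent (Cfsg.sigmaCore M)) : A ≤ FittingParts.O q M := by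
  have hAp : IsPGroup q A := isPGroup_of_pow d.exc.ea.2
  refine le_O_of_le_fitting hAp ((le_sigmaCore_of_pgroup hG d.max d.sigma hAp (d.le.trans inf_le_left)).trans ?_)
  exact (sigmaCore_eq_fittingHall hG d.max hnil).le.trans (Cfsg.Lib.FittingHall.fittingHallOf_le_fittingOf M)

/-- An element of `M` of a prime above `q` is in `N` when `M_σ` is nilpotent. -/
theorem SupportData.large_mem (hG : Cfsg.IsMinSimpleOddOrder G) (d : SupportData q M N A A₀ x₁)
    (hnil : Group.IsNilpotent (Cfsg.sigmaCore M)) (hlt : q < t) {w : G} (hwM : w ∈ M) (hwo : orderOf w = t) :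
    w ∈ M ⊓ N :=
  d.centralizer_le hG (Subgroup.centralizer_le (SetLike.coe_subset_coe.mpr (d.le_O hG hnil))
    (centralizes_core (p := q) (q := t) hG d.max d.sigma ((d.exc.maxSq hG).not_beta M) hlt hwM hwo))

/-- A prime of `σ(N)` outside `β(N)` exceeds `q`. -/
theorem SupportData.lt_sigma (hG : Cfsg.IsMinSimpleOddOrder G) (d : SupportData q M N A A₀ x₁)
    (hσ : t ∈ Cfsg.sigma N) (hβ : t ∉ Cfsg.beta N) : q < t := by
  by_contra hle
  rcases (not_lt.mp hle).lt_or_eq with hlt | heq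
  swap
  · exact d.tau.2.1 (heq ▸ hσ)
  have hnil := d.exc.nilpotent hG
  have hO : FittingParts.O t N ≠ ⊥ := by
    refine (FittingParts.dvd_fittingOf_iff (r := t) N).mp ?_
    refine dvd_trans ?_ (card_dvd_of_le ((sigmaCore_eq_fittingHall hG d.maxN hnil).le.trans
      (Cfsg.Lib.FittingHall.fittingHallOf_le_fittingOf N)))
    have h1 := hσ.2.1
    rw [← card_mul_relIndex (sigmaCore_le N)] at h1
    exact (ht.out.dvd_mul.mp h1).resolve_right ((sigmaCore_hall hG d.maxN).2.2 t ht.out hσ)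
  refine hO (le_bot_iff.mp ((le_inf (le_sigmaCore_of_pgroup hG d.maxN hσ (FittingParts.isPGroup N)
    (PiCoreOf.le _ _)) (le_centralizer_iff.mp ?_)).trans (d.exc.inf_centralizer_eq_bot hG).le))
  intro a ha
  by_cases ha1 : a = 1
  · rw [ha1]; exact one_mem _
  · exact centralizes_core (p := t) (q := q) hG d.maxN hσ hβ hlt (d.exc.le ha)
      (orderOf_eq_prime (d.exc.ea.2 a ha) ha1)

theorem SupportData.dvd_sigma_absurd (hG : Cfsg.IsMinSimpleOddOrder G) (d : SupportData q M N A A₀ x₁)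
    {w : G} (hw : w ∈ M ⊓ N) (hwo : orderOf w = t) : t ∉ Cfsg.sigma N :=
  not_sigma_of_dvd hG d.maxN d.compl ht.out
    (hwo ▸ (Nat.card_zpowers w).symm ▸ card_dvd_of_le (zpowers_le.mpr hw))

/-- No prime is in `σ(N)` and `τ₂(M)`. -/
theorem SupportData.sigma_tau_two (hG : Cfsg.IsMinSimpleOddOrder G) (d : SupportData q M N A A₀ x₁)
    (hσ : t ∈ Cfsg.sigma N) (hτ : t ∈ Cfsg.tau2 M) : False := by
  obtain ⟨E, hE⟩ := exists_complement hG d.max
  obtain ⟨B, hBE, hB, hBc⟩ := exists_sq_complement hG d.max hE hτ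
  obtain ⟨B₀, hexc⟩ := exists_exc hG d.max hτ.2.1 (hBE.trans hE.1) hB hBc
  obtain ⟨b, hb, hbo⟩ := ScnUniqueness.exists_orderOf (isPGroup_of_pow hB.2 : IsPGroup t B)
    (hexc.maxSq hG).ne_bot
  have hlt := d.lt_sigma hG hσ ((hexc.maxSq hG).not_beta N)
  exact d.dvd_sigma_absurd hG (d.large_mem hG (hexc.nilpotent hG) hlt (hexc.le hb) hbo) hbo hσ

/-- A prime of `σ(N)` dividing `|M|` makes `κ(M)` empty. -/
theorem SupportData.kappa_empty_of_dvd (hG : Cfsg.IsMinSimpleOddOrder G) (d : SupportData q M N A A₀ x₁)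
    (hσ : t ∈ Cfsg.sigma N) (hd : t ∣ Nat.card M) : Cfsg.kappa M = ∅ := by
  refine Set.not_nonempty_iff_eq_empty.mp fun ⟨s, hs⟩ => ?_
  obtain ⟨K, hK⟩ := exists_kappa_hall hG d.max
  have hK1 : K ≠ ⊥ := fun e => hK.2.2 s hs.1 hs (by rw [e, relIndex_bot_left]; exact hs.2.1)
  obtain ⟨E, U, hEU⟩ := exists_kappaSplit hG d.max hK
  by_cases hU : U = ⊥
  swap
  · obtain ⟨x, hx, hx1, hxM⟩ := d.not_le
    exact hxM (hEU.centralizer_le hG d.max hK hK1 hU hx hx1)
  have htK : t ∣ Nat.card K := by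
    have h1 := hd
    rw [card_eq_mul hEU.compl] at h1
    have h2 := (ht.out.dvd_mul.mp h1).resolve_left fun hh =>
      d.not_sigma hG (sigmaCore_isPi t ht.out hh) hσ
    rwa [← hEU.prod, hU, bot_sup_eq] at h2
  obtain ⟨L, dd⟩ := (KappaPair.mk d.max hK hK1).exists_dual hG
  obtain ⟨g, hg⟩ := (sigma_partition hG).2 L N dd.pair'.max d.maxN
    ⟨t, sigmaCore_isPi t ht.out (htK.trans (card_dvd_of_le (dd.eq.le.trans inf_le_left))), hσ⟩
  have hg' : N = conjMap g L := hg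
  have hqL : q ∣ Nat.card L := by
    have h1 : q ∣ Nat.card N :=
      (dvd_of_eq (d.order.symm.trans (Nat.card_zpowers x₁).symm)).trans
        (card_dvd_of_le (zpowers_le.mpr (d.exc.le d.mem)))
    rwa [hg', Cfsg.Lib.Coprime.card_conjMap] at h1
  have hqW : q ∈ Cfsg.kappa L := by
    rw [← card_mul_relIndex (dd.hall_sigma hG).1] at hqL
    exact dd.pair'.hall.2.1 q hq.out ((hq.out.dvd_mul.mp hqL).resolve_right
      ((dd.hall_sigma hG).2.2 q hq.out d.sigma))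
  exact d.tau.2.2.2 (hg'.symm ▸ pRankLE_conjMap g (kappa_rank hG dd.pair'.max hqW))

/-- A prime of `σ(N)` dividing `|M|` makes `τ₂(M)` empty. -/
theorem SupportData.tau_two_empty_of_dvd {r : ℕ} [hr : Fact r.Prime] (hG : Cfsg.IsMinSimpleOddOrder G)
    (d : SupportData q M N A A₀ x₁) (hσ : r ∈ Cfsg.sigma N) (hd : r ∣ Nat.card M) : Cfsg.tau2 M = ∅ := by
  have hM := d.max
  have hκ0 := d.kappa_empty_of_dvd (t := r) hG hσ hd
  refine Set.eq_empty_iff_forall_notMem.mpr fun t hτ => ?_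
  haveI := Fact.mk hτ.1
  have htN : t ∉ Cfsg.sigma N := fun h => d.sigma_tau_two hG h hτ
  have hrM : r ∉ Cfsg.sigma M := fun h => d.not_sigma hG h hσ
  obtain ⟨y, hy⟩ := exists_prime_orderOf_dvd_card' r hd
  have hyo : orderOf (y : G) = r := by rw [orderOf_coe, hy]
  have hyc : Nat.card (zpowers (y : G)) = r := by rw [Nat.card_zpowers, hyo]
  have hy1 : (y : G) ≠ 1 := fun e => hr.out.ne_one (by rw [← hyo, e, orderOf_one])
  obtain ⟨E, hE, hyE⟩ := exists_complement_ge hG hM (zpowers_le.mpr y.2) fun s hs hsd =>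
    (Nat.prime_dvd_prime_iff_eq hs hr.out).mp (hyc ▸ hsd) ▸ hrM
  obtain ⟨B, hBE, hB, hBc⟩ := exists_sq_complement hG hM hE hτ
  obtain ⟨B₀, hexc⟩ := exists_exc hG hM hτ.2.1 (hBE.trans hE.1) hB hBc
  have hnil := hexc.nilpotent hG
  -- `r` is ideal
  have hrβ : r ∈ Cfsg.beta N := by
    by_contra hβ
    exact d.dvd_sigma_absurd hG (d.large_mem hG hnil (d.lt_sigma hG hσ hβ) y.2 hyo) hyo hσ
  obtain ⟨g, hg⟩ := exists_conj_le_sigmaCore hG d.maxN (Y := zpowers (y : G))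
    (fun h => hy1 (zpowers_eq_bot.mp h)) fun s hs hsd =>
      (Nat.prime_dvd_prime_iff_eq hs hr.out).mp (hyc ▸ hsd) ▸ hσ
  set H := conjMap g⁻¹ N with hH
  have hHm : IsCoatom H := conjMap_coatom d.maxN _
  have hσH : r ∈ Cfsg.sigma H := by rw [hH, sigma_conj d.maxN]; exact hσ
  have hyH : (y : G) ∈ Cfsg.sigmaCore H := by
    rw [hH, sigmaCore_conj hG d.maxN, Cfsg.Lib.Coprime.mem_conjMap, inv_inv]
    exact hg ⟨y, mem_zpowers _, rfl⟩
  have hne : H ≠ M := fun e => hrM (e ▸ hσH)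
  obtain ⟨-, huy⟩ := unique_centralizer_of_ideal (q := r) hG hHm hrβ.2 hσH (sigmaCore_le H hyH) hyo
  have hyfree : Cfsg.sigmaCore M ⊓ centralizer ({(y : G)} : Set G) = ⊥ := le_bot_iff.mp fun z hz => by
    rw [mem_bot]
    by_contra hz1
    rcases prime_of_hat (p := r) hG hM (u := (y : G))
      ⟨y.2, z, hz.1, hz1, (mem_centralizer_singleton_iff.mp hz.2).symm⟩ (dvd_of_eq hyo.symm) hrM with h | h
    · obtain ⟨E', hE'⟩ := exists_complement hG hM
      obtain ⟨R, hRE, hR, hRc⟩ := exists_sq_complement hG hM hE' h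
      exact (MaxSq.of_not_sigma hG hM hrM (hRE.trans hE'.1) hR hRc).not_ideal hrβ.2
    · rw [hκ0] at h; exact h
  have hyB : zpowers (y : G) ≤ normalizer (B : Set G) := hyE.trans (hexc.le_normalizer hG hE hBE)
  have hBp : IsPGroup t B := isPGroup_of_pow hB.2
  have htr : t ≠ r := fun e => htN (e ▸ hσ)
  have hfpf : ∀ V : Subgroup G, V ≤ B → zpowers (y : G) ≤ normalizer (V : Set G) →
      V ⊓ centralizer ({(y : G)} : Set G) = ⊥ → V ≤ centralizer (Cfsg.sigmaCore M : Set G) := fun V hVB hn hV =>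
    le_centralizer_of_fpf (p := r) hyo
      (hG.2.2.2 _ (FittingUniqueness.ne_top_of_le_coatom hM (sigmaCore_le M))) hn
      ((hVB.trans hexc.le).trans (le_normalizer_sigmaCore M))
      (zpowers_le.mpr (le_normalizer_sigmaCore M y.2)) (coprime_of_ne htr (hBp.to_le hVB))
      (hr.out.coprime_iff_not_dvd.mpr fun hd => hrM (sigmaCore_isPi r hr.out hd)).symm
      ((hexc.coprime_sigmaCore).symm.coprime_dvd_right (card_dvd_of_le hVB)) hV hyfree
  haveI : IsMulCommutative B := hB.1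
  obtain ⟨hdis, hsum⟩ := Cfsg.Lib.Coprime.abelian_coprime_decomp hyB
    (by rw [hyc, hBc]; exact ((Nat.coprime_primes hr.out hτ.1).mpr htr.symm).pow_right 2)
  set V := ⁅B, zpowers (y : G)⁆ with hV
  have hVB : V ≤ B := Cfsg.Lib.Coprime.commutator_le_of_le_normalizer hyB
  have hVn : zpowers (y : G) ≤ normalizer (V : Set G) := Cfsg.Lib.Coprime.le_normalizer_commutator_right _ B
  have hVy : V ⊓ centralizer ({(y : G)} : Set G) = ⊥ := by
    rw [← Cfsg.Lib.Coprime.centralizer_zpowers]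
    exact le_bot_iff.mp fun v hv => hdis.le ⟨⟨hVB hv.1, hv.2⟩, hv.1⟩
  have hVC := hfpf V hVB hVn hVy
  have hWne : B ⊓ centralizer (zpowers (y : G) : Set G) ≠ ⊥ := fun h0 => by
    have hBV : B ≤ V := hsum.ge.trans (by rw [h0, bot_sup_eq])
    exact sigmaCore_ne_bot hG hM (le_bot_iff.mp ((le_inf le_rfl
      (le_centralizer_iff.mp (hBV.trans hVC))).trans (hexc.inf_centralizer_eq_bot hG).le))
  obtain ⟨a, ha, ha1⟩ := (Subgroup.bot_or_exists_ne_one _).resolve_left hWne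
  have hao : orderOf a = t := orderOf_eq_prime (hB.2 a ha.1) ha1
  have hay : a * (y : G) = y * a := by
    have := ha.2
    rw [Cfsg.Lib.Coprime.centralizer_zpowers] at this
    exact mem_centralizer_singleton_iff.mp this
  have hCy : centralizer ({(y : G)} : Set G) ≤ H :=
    (unique_centralizer_of_ideal (q := r) hG hHm hrβ.2 hσH (sigmaCore_le H hyH) hyo).1
  have haH : a ∈ H := hCy (mem_centralizer_singleton_iff.mpr hay)
  have htH : t ∉ Cfsg.sigma H := by rw [hH, sigma_conj d.maxN]; exact htN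
  have hsplit := centralizer_split hG hHm hyH hy1 (y := a) ⟨haH, mem_centralizer_singleton_iff.mpr hay⟩ ha1
    (fun s hs hsd => (Nat.prime_dvd_prime_iff_eq hs hτ.1).mp (hao ▸ hsd) ▸ htH)
  by_cases hV1 : V = ⊥
  · -- `y` centralizes `B`
    have hBy : B ≤ centralizer ({(y : G)} : Set G) := by
      rw [← Cfsg.Lib.Coprime.centralizer_zpowers]
      exact hsum.ge.trans (by rw [hV1, sup_bot_eq]; exact inf_le_right)
    have hex : ∃ c ∈ B, c ≠ 1 ∧ ∃ z ∈ Cfsg.sigmaCore M, z ≠ 1 ∧ c * z = z * c := by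
      by_contra hno
      push Not at hno
      have h1 := Cfsg.Lib.Coprime.centralizerJoin_eq (A := B) (hexc.maxSq hG).not_isCyclic
        (hexc.le.trans (le_normalizer_sigmaCore M)) hexc.coprime_sigmaCore
      refine sigmaCore_ne_bot hG hM (le_bot_iff.mp (h1.ge.trans (iSup₂_le fun c hc z hz => ?_)))
      rw [mem_bot]
      by_contra hz1
      exact hno c hc.1 hc.2 z hz.1 hz1 (mem_centralizer_singleton_iff.mp hz.2).symm
    obtain ⟨c, hc, hc1, z, hz, hz1, hcz⟩ := hex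
    have hco : orderOf c = t := orderOf_eq_prime (hB.2 c hc) hc1
    rcases centralizer_split hG hHm hyH hy1 (y := c) ⟨hCy (hBy hc), hBy hc⟩ hc1
        (fun s hs hsd => (Nat.prime_dvd_prime_iff_eq hs hτ.1).mp (hco ▸ hsd) ▸ htH) with ⟨hh, -⟩ | ⟨-, -, -, hu⟩
    · exact not_pRankLE_of hB (hBy.trans hCy) (k := 1) hBc.ge
        (kappa_rank hG hHm (hh t hτ.1 (dvd_of_eq hco.symm)))
    · exact hne (hu M hM (unique_centralizer_of_tau_two hG hM (hexc.le hc) hc1
        (fun s hs hsd => (Nat.prime_dvd_prime_iff_eq hs hτ.1).mp (hco ▸ hsd) ▸ hτ) hz hz1 hcz).1).symm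
  rcases hsplit with ⟨hh, -⟩ | ⟨-, -, hCa, -⟩
  swap
  · -- `B ≤ H`
    refine hV1 (le_bot_iff.mp fun v hv => ?_)
    have hBH : B ≤ H := fun b hb => hCa (mem_centralizer_singleton_iff.mpr
      (ThompsonTransitivity.mul_comm_of hB.1 hb ha.1))
    have hBy : B ≤ centralizer (zpowers (y : G) : Set G) := fun b hb => by
      rw [Cfsg.Lib.Coprime.centralizer_zpowers]
      refine mem_centralizer_singleton_iff.mpr (commutatorElement_eq_one_iff_mul_comm.mp ?_)
      refine Cfsg.Lib.Coprime.eq_one_of_coprime (N := B) (H := Cfsg.sigmaCore H) ?_ ?_ ?_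
      · exact coprime_card_of_disjoint fun s hs h1 h2 => htH (eq_of_dvd_pgroup hBp hs h1 ▸ sigmaCore_isPi s hs h2)
      · rw [commutatorElement_def, mul_assoc, mul_assoc, ← mul_assoc (y : G)]
        exact mul_mem hb ((mem_normalizer_iff.mp (hyB (mem_zpowers _)) _).mp (inv_mem hb))
      · rw [commutatorElement_def]
        exact mul_mem ((mem_normalizer_iff.mp (le_normalizer_sigmaCore H (hBH hb)) _).mp hyH) (inv_mem hyH)
    exact hdis.le ⟨⟨hVB hv, hBy (hVB hv)⟩, hv⟩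
  -- a line centralizing `M_σ` lies in `N`
  have htκ : t ∈ Cfsg.kappa N := by
    have h1 := kappa_conjMap hG hHm g (hh t hτ.1 (dvd_of_eq hao.symm))
    rwa [hH, Cfsg.Lib.Coprime.conjMap_mul, mul_inv_cancel, Cfsg.Lib.Coprime.conjMap_eq_self (one_mem _)] at h1
  obtain ⟨v, hv, hvo⟩ := ScnUniqueness.exists_orderOf (hBp.to_le hVB) hV1
  have hvA : v ∈ centralizer (A : Set G) := Subgroup.centralizer_le (SetLike.coe_subset_coe.mpr
    ((le_sigmaCore_of_pgroup hG hM d.sigma (isPGroup_of_pow d.exc.ea.2) (d.le.trans inf_le_left)))) (hVC hv)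
  have hvN : v ∈ N := (d.centralizer_le hG hvA).2
  refine d.tau.2.2.2 (kappa_rank hG d.maxN (kappa_of_centralizes (p := t) (s := q) hG d.maxN htκ
    (by rw [Nat.card_zpowers, hvo]) (zpowers_le.mpr hvN) d.order (d.exc.le d.mem) d.tau.2.1 ?_))
  rw [Cfsg.Lib.Coprime.centralizer_zpowers]
  exact mem_centralizer_singleton_iff.mpr (mem_centralizer_iff.mp hvA x₁ d.mem)

theorem support_sigma_dvd (hG : Cfsg.IsMinSimpleOddOrder G) (hM : IsCoatom M) (hx : x ∈ Cfsg.sigmaCore M)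
    (hx1 : x ≠ 1) (hxM : ¬ centralizer ({x} : Set G) ≤ M) (hN : IsCoatom N)
    (hxN : centralizer ({x} : Set G) ≤ N) (h : ∃ r ∈ Cfsg.sigma N, r ∣ Nat.card M) :
    Cfsg.kappa M = ∅ ∧ Cfsg.tau2 M = ∅ := by
  obtain ⟨N', hsp⟩ := exists_supportPair hG hM hx hx1 hxM
  obtain rfl : N = N' := hsp.unique N hN hxN
  obtain ⟨q, hq, A, A₀, x₁, d⟩ := exists_supportData hG hsp
  obtain ⟨r, hσ, hd⟩ := h
  haveI := hq
  haveI := Fact.mk hσ.1
  exact ⟨d.kappa_empty_of_dvd (t := r) hG hσ hd, d.tau_two_empty_of_dvd (r := r) hG hσ hd⟩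

/-- Supporting subgroups conjugate in `G` are conjugate in `M`. -/
theorem support_conj (hG : Cfsg.IsMinSimpleOddOrder G) (hM : IsCoatom M) (hx : x ∈ Cfsg.sigmaCore M)
    (hx1 : x ≠ 1) (hxM : ¬ centralizer ({x} : Set G) ≤ M) (hN : IsCoatom N)
    (hxN : centralizer ({x} : Set G) ≤ N) {y g : G} {N' : Subgroup G} (hy : y ∈ Cfsg.sigmaCore M) (hy1 : y ≠ 1)
    (hyM : ¬ centralizer ({y} : Set G) ≤ M) (hN' : IsCoatom N') (hyN : centralizer ({y} : Set G) ≤ N')
    (hg : conjMap g N' = N) : ∃ m ∈ M, conjMap m N' = N := by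
  obtain ⟨N₁, hsp⟩ := exists_supportPair hG hM hx hx1 hxM
  obtain rfl : N = N₁ := hsp.unique N hN hxN
  obtain ⟨N₂, hsp'⟩ := exists_supportPair hG hM hy hy1 hyM
  obtain rfl : N' = N₂ := hsp'.unique N' hN' hyN
  have hle : conjMap g (M ⊓ N') ≤ N := (Cfsg.Lib.Coprime.conjMap_mono inf_le_right).trans hg.le
  have hσ : Cfsg.sigma N = Cfsg.sigma N' := hg ▸ sigma_conj hN' g
  obtain ⟨n, hn, hnle⟩ := Cfsg.Lib.Coprime.exists_conj_le_of_coprime
    (hsp.compl.1.trans (le_normalizer_sigmaCore N)) (coprime_complement hG hN hsp.compl)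
    (Or.inl (hG.2.2.2 _ (FittingUniqueness.ne_top_of_le_coatom hN (sigmaCore_le N))))
    ((complement_sup hsp.compl).symm ▸ hle : conjMap g (M ⊓ N') ≤ Cfsg.sigmaCore N ⊔ (M ⊓ N))
    (Nat.coprime_of_dvd fun r hr h1 h2 => not_sigma_of_dvd hG hN' hsp'.compl hr
      (by rwa [Cfsg.Lib.Coprime.card_conjMap] at h2) (hσ ▸ sigmaCore_isPi r hr h1))
  have hyd : y ∈ conjMap (g⁻¹ * n) M := by
    have h1 : g * y * g⁻¹ ∈ conjMap n (M ⊓ N) := hnle ⟨y, ⟨sigmaCore_le M hy,
      hyN (mem_centralizer_singleton_iff.mpr rfl)⟩, rfl⟩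
    rw [← Cfsg.Lib.Coprime.conjMap_mul, Cfsg.Lib.Coprime.mem_conjMap, inv_inv]
    exact Cfsg.Lib.Coprime.conjMap_mono inf_le_left h1
  obtain ⟨c, hc, hcM⟩ := exists_centralizer_conj hG hM hy hy1 hyd
  have hm : n⁻¹ * (g * c) ∈ M := eq_of_conj_fix hG hM (by
    rw [← Cfsg.Lib.Coprime.conjMap_mul, ← Cfsg.Lib.Coprime.conjMap_mul, hcM, Cfsg.Lib.Coprime.conjMap_mul g,
      ← mul_assoc g, mul_inv_cancel, one_mul, Cfsg.Lib.Coprime.conjMap_inv_conjMap])
  refine ⟨_, hm, ?_⟩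
  rw [← Cfsg.Lib.Coprime.conjMap_mul, ← Cfsg.Lib.Coprime.conjMap_mul,
    Cfsg.Lib.Coprime.conjMap_eq_self (le_normalizer (hyN hc)), hg,
    Cfsg.Lib.Coprime.conjMap_eq_self (le_normalizer (inv_mem (sigmaCore_le N hn)))]

end Cfsg.Lib.OddLocal.RankTwoMax
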