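import Cfsg.Agent.OddLocal.KappaTypeTwoNormalizer
import Cfsg.Agent.OddLocal.KappaHat
import Cfsg.Agent.OddLocal.SupportSigma

/-!
# The dual of a pair over a maximal subgroup on `U K`: normalizers of `K`
-/

set_option linter.unusedSectionVars false
set_option linter.unusedVariables false
set_option linter.style.haveILetI false

namespace Cfsg.Lib.OddLocal.RankTwoMax

open Subgroup Uniqueness Sigma
open Cfsg.Lib.Coprime (conjMap)
open scoped commutatorElement

universe u

variable {G : Type u} [Group G] [Finite G] {M N L K J E U F A A₀ : Subgroup G} {p : ℕ} [hp : Fact p.Prime] {b : G}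

local notation "fix(" M ", " K ")" => Cfsg.sigmaCore M ⊓ centralizer (SetLike.coe K)

/-- Some element of an exceptional `A` has a fixed point in `M_σ`. -/
theorem Exc.exists_nonregular (hG : Cfsg.IsMinSimpleOddOrder G) (h : Exc p M A A₀) :
    ∃ a ∈ A, a ≠ 1 ∧ ∃ z ∈ Cfsg.sigmaCore M, z ≠ 1 ∧ a * z = z * a := by
  by_contra hno
  push Not at hno
  haveI : IsMulCommutative A := h.ea.1
  have h1 := Cfsg.Lib.Coprime.centralizerJoin_eq (A := A) (h.maxSq hG).not_isCyclic
    (h.le.trans (le_normalizer_sigmaCore M)) h.coprime_sigmaCore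
  refine sigmaCore_ne_bot hG h.coatom (le_bot_iff.mp (h1.ge.trans (iSup₂_le fun c hc z hz => ?_)))
  rw [mem_bot]
  by_contra hz1
  exact hno c hc.1 hc.2 z hz.1 hz1 (mem_centralizer_singleton_iff.mp hz.2).symm

/-- A group with a central subgroup of fixed points of an element of prime order is nilpotent. -/
theorem nilpotent_of_central_fixed {C K : Subgroup G} (hb : orderOf b = p) (hbC : b ∈ normalizer (C : Set G))
    (hKC : K ≤ C) (hcent : C ≤ centralizer (K : Set G)) (hfix : C ⊓ centralizer ({b} : Set G) = K)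
    (hcop : (Nat.card K).Coprime p) : Group.IsNilpotent C := by
  set K' := K.subgroupOf C with hK'
  have hKc : K' ≤ center C := fun x hx => mem_center_iff.mpr fun y =>
    Subtype.ext (mem_centralizer_iff.mp (hcent y.2) (x : G) (mem_subgroupOf.mp hx)).symm
  haveI : K'.Normal := ⟨fun n hn g => by
    rwa [mem_center_iff.mp (hKc hn) g, mul_inv_cancel_right]⟩
  have hmem : ∀ x : C, b * x * b⁻¹ ∈ C := fun x => (mem_normalizer_iff.mp hbC _).mp x.2
  let φ : C →* C := MonoidHom.mk' (fun x => ⟨b * x * b⁻¹, hmem x⟩) fun x y => Subtype.ext (by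
    simp only [Subgroup.coe_mul]; group)
  have hbK : ∀ k ∈ K, b * k = k * b := fun k hk =>
    (mem_centralizer_singleton_iff.mp (hfix.ge hk).2).symm
  have hφK : K' ≤ K'.comap φ := fun x hx => by
    show (φ x : G) ∈ K
    show b * x * b⁻¹ ∈ K
    rw [hbK _ (mem_subgroupOf.mp hx), mul_inv_cancel_right]
    exact mem_subgroupOf.mp hx
  let ψ : C ⧸ K' →* C ⧸ K' := QuotientGroup.map K' K' φ hφK
  have hnil : Group.IsNilpotent (C ⧸ K') := by
    refine Cfsg.Lib.Thompson.isNilpotent_of_fpf ψ (fun x => ?_) hp.out (funext fun x => ?_)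
    · obtain ⟨y, rfl⟩ := QuotientGroup.mk_surjective x
      intro hy
      have h1 : (y : G)⁻¹ * (b * y * b⁻¹) ∈ K := by
        have h0 : (QuotientGroup.mk (φ y) : C ⧸ K') = QuotientGroup.mk y := hy
        have := mem_subgroupOf.mp ((QuotientGroup.eq).mp h0.symm)
        exact this
      set k := (y : G)⁻¹ * (b * y * b⁻¹) with hk
      have hkb : Commute k b := (hbK k h1).symm
      have h2 : (k * b) ^ p = 1 := by
        rw [show k * b = (y : G)⁻¹ * b * y by rw [hk]; group,
          show (y : G)⁻¹ * b * y = (y : G)⁻¹ * b * ((y : G)⁻¹)⁻¹ by group, conj_pow, ← hb, pow_orderOf_eq_one,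
          mul_one, mul_inv_cancel]
      rw [hkb.mul_pow, ← hb, pow_orderOf_eq_one, mul_one, hb] at h2
      have hk1 : k = 1 := orderOf_eq_one_iff.mp (Nat.eq_one_of_dvd_coprimes hcop
        ((Nat.card_zpowers k).symm ▸ card_dvd_of_le (zpowers_le.mpr h1)) (orderOf_dvd_of_pow_eq_one h2))
      refine (QuotientGroup.eq_one_iff y).mpr (mem_subgroupOf.mpr (hfix.le ⟨y.2, ?_⟩))
      refine mem_centralizer_singleton_iff.mpr ?_
      calc (y : G) * b = (y : G) * (k * b) := by rw [hk1, one_mul]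
        _ = b * y := by rw [hk]; group
    · have key : ∀ (n : ℕ) (y : C), (ψ : C ⧸ K' → C ⧸ K')^[n] (QuotientGroup.mk y) =
          QuotientGroup.mk ((φ : C → C)^[n] y) := by
        intro n
        induction n with
        | zero => intro y; rfl
        | succ n ih =>
          intro y
          rw [Function.iterate_succ_apply', Function.iterate_succ_apply', ih]
          rfl
      have key2 : ∀ (n : ℕ) (y : C), ((((φ : C → C)^[n] y) : C) : G) = b ^ n * y * (b ^ n)⁻¹ := by
        intro n y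
        induction n with
        | zero => simp
        | succ n ih =>
          rw [Function.iterate_succ_apply']
          show b * _ * b⁻¹ = _
          rw [ih, pow_succ']
          group
      obtain ⟨y, rfl⟩ := QuotientGroup.mk_surjective x
      rw [key]
      refine congrArg QuotientGroup.mk (Subtype.ext ?_)
      rw [key2, ← hb, pow_orderOf_eq_one]
      simp
  haveI := hnil
  exact Subgroup.isNilpotent_of_ker_le_center (QuotientGroup.mk' K') (by rw [QuotientGroup.ker_mk']; exact hKc)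

/-- The derived group of a product of a commutative and a normal subgroup lies in the latter. -/
theorem commutator_le_of_prod {W D : Subgroup G} {T : Subgroup G} (hW : IsMulCommutative W)
    (hn : T ≤ normalizer (D : Set G)) (hWT : W ≤ T) (hDT : D ≤ T) (h : ∀ a ∈ T, ∃ w ∈ W, ∃ d ∈ D, a = w * d) :
    ⁅T, T⁆ ≤ D := by
  rw [commutator_le]
  intro a ha c hc
  obtain ⟨w, hw, d, hd, rfl⟩ := h a ha
  obtain ⟨w', hw', d', hd', rfl⟩ := h c hc
  have hww : w * w' * w⁻¹ = w' := by
    rw [ThompsonTransitivity.mul_comm_of hW hw hw', mul_inv_cancel_right]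
  rw [show ⁅w * d, w' * d'⁆ = (w * d * w⁻¹) * (w * w' * (d' * d⁻¹) * w'⁻¹ * w⁻¹) *
      ((w * w' * w⁻¹) * d'⁻¹ * w'⁻¹) by simp only [commutatorElement_def]; group, hww]
  have hcj : ∀ {x y : G}, x ∈ T → y ∈ D → x * y * x⁻¹ ∈ D := fun hx hy =>
    (mem_normalizer_iff.mp (hn hx) _).mp hy
  refine mul_mem (mul_mem (hcj (hWT hw) hd) ?_) (hcj (hWT hw') (inv_mem hd'))
  have h1 := hcj (mul_mem (hWT hw) (hWT hw')) (mul_mem hd' (inv_mem hd))
  rwa [show w * w' * (d' * d⁻¹) * (w * w')⁻¹ = w * w' * (d' * d⁻¹) * w'⁻¹ * w⁻¹ by group] at h1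

/-- A regular complement of `M_σ` is a Frobenius complement. -/
theorem frobenius_of_regular (hG : Cfsg.IsMinSimpleOddOrder G) (hM : IsCoatom M)
    (hF : Cfsg.IsComplIn F (Cfsg.sigmaCore M) M) (hF1 : F ≠ ⊥)
    (hreg : ∀ y ∈ F, y ≠ 1 → Cfsg.sigmaCore M ⊓ centralizer ({y} : Set G) = ⊥) :
    Cfsg.IsFrobeniusComplement (F.subgroupOf M) := by
  refine ⟨fun h => hF1 (le_bot_iff.mp ?_), fun h => sigmaCore_ne_bot hG hM (le_bot_iff.mp ?_), fun g hg => ?_⟩
  · intro y hy
    have : (⟨y, hF.1 hy⟩ : M) ∈ (⊥ : Subgroup M) := h ▸ mem_subgroupOf.mpr hy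
    rw [mem_bot] at this
    exact mem_bot.mpr (congrArg Subtype.val this)
  · exact (le_inf ((sigmaCore_le M).trans (subgroupOf_eq_top.mp h)) le_rfl).trans hF.2.2.1.le
  obtain ⟨f, hf, z, hz, hgz⟩ := hF.2.2.2 g g.2
  have hz1 : z ≠ 1 := fun e => hg (mem_subgroupOf.mpr (by rw [hgz, e, mul_one]; exact hf))
  refine le_bot_iff.mp fun y hy => ?_
  rw [mem_bot]
  obtain ⟨e, he, heq⟩ := hy.2
  have hey : (g : G) * (e : G) * (g : G)⁻¹ = (y : G) := congrArg Subtype.val heq
  set y' := f⁻¹ * (y : G) * f with hy'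
  have hy'F : y' ∈ F := mul_mem (mul_mem (inv_mem hf) (mem_subgroupOf.mp hy.1)) hf
  have heF : (e : G) ∈ F := mem_subgroupOf.mp he
  have hy'e : y' = z * e * z⁻¹ := by rw [hy', ← hey, hgz]; group
  by_contra hy1
  have h1 : z * (e : G) * z⁻¹ * (e : G)⁻¹ = 1 := mem_bot.mp (hF.2.2.1.le
    ⟨by rw [← hy'e]; exact Subgroup.mul_mem _ hy'F (Subgroup.inv_mem _ heF), by
      rw [mul_assoc, mul_assoc, ← mul_assoc (e : G)]
      exact Subgroup.mul_mem _ hz ((mem_normalizer_iff.mp (le_normalizer_sigmaCore M (hF.1 heF)) _).mp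
        (inv_mem hz))⟩)
  have hze : z * (e : G) = (e : G) * z := commutatorElement_eq_one_iff_mul_comm.mp
    (by rw [commutatorElement_def]; exact h1)
  have he1 : (e : G) ≠ 1 := fun e0 => hy1 (Subtype.ext (by rw [← hey, e0]; group; rfl))
  exact hz1 (mem_bot.mp ((hreg e heF he1).le ⟨hz, mem_centralizer_singleton_iff.mpr hze⟩))

/-- The normal subgroup `U M_σ` of the first member of a pair. -/
theorem KappaSplit.derived_part (hG : Cfsg.IsMinSimpleOddOrder G) (hM : IsCoatom M) (h : KappaSplit M K E U)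
    (hK : Cfsg.IsPiHallOf (Cfsg.kappa M) K M) (hKc : IsMulCommutative K) :
    (∀ t : ℕ, t.Prime → t ∣ (U ⊔ Cfsg.sigmaCore M).relIndex M → t ∈ Cfsg.kappa M) ∧
      (∀ t : ℕ, t.Prime → t ∣ Nat.card ↥(U ⊔ Cfsg.sigmaCore M) → t ∉ Cfsg.kappa M) ∧
      (∀ k ∈ K, k ≠ 1 → (U ⊔ Cfsg.sigmaCore M) ⊓ centralizer ({k} : Set G) =
        Cfsg.sigmaCore M ⊓ centralizer (K : Set G)) ∧ ⁅M, M⁆ ≤ U ⊔ Cfsg.sigmaCore M := by
  have hUn : U ≤ normalizer (Cfsg.sigmaCore M : Set G) := h.hallU.1.trans (le_normalizer_sigmaCore M)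
  refine ⟨fun t ht htd => ?_, fun t ht htd => ?_, fun k hk hk1 => ?_, ?_⟩
  · have hσ : t ∉ Cfsg.sigma M := fun hσ => (sigmaCore_hall hG hM).2.2 t ht hσ
      (htd.trans (relIndex_dvd_of_le_left M le_sup_right))
    by_contra hκ
    exact h.hallU.2.2 t ht ⟨ht, hκ, hσ⟩ (htd.trans (relIndex_dvd_of_le_left M le_sup_left))
  · rw [sup_comm] at htd
    rcases dvd_card_sup hUn ht htd with hh | hh
    · exact fun hκ => hκ.2.2.1 (sigmaCore_isPi t ht hh)
    · exact (h.hallU.2.1 t ht hh).2.1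
  · refine le_antisymm (fun m hm => ?_) (le_inf (inf_le_left.trans le_sup_right)
      (inf_le_right.trans (Subgroup.centralizer_le (Set.singleton_subset_iff.mpr hk))))
    have hm' := hm.1
    rw [sup_comm] at hm'
    obtain ⟨u, hu, z, hz, rfl⟩ := (Cfsg.Lib.Coprime.mem_sup_of_le_normalizer' hUn).mp hm'
    obtain ⟨h1, h2⟩ := compl_factor_centralizes h.compl (le_normalizer_sigmaCore M) (h.memK hk) (h.memU hu) hz
      (mem_centralizer_singleton_iff.mp hm.2)
    rw [mem_bot.mp ((h.free k hk hk1).le ⟨hu, mem_centralizer_singleton_iff.mpr h2⟩), one_mul,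
      ← kappa_group_fixed hG hM hK.1 hK.2.1 hk hk1]
    exact ⟨hz, mem_centralizer_singleton_iff.mpr h1⟩
  · refine commutator_le_of_prod hKc h.sup_normal hK.1 (sup_le h.hallU.1 (sigmaCore_le M)) fun a ha => ?_
    obtain ⟨e, he, z, hz, rfl⟩ := h.compl.2.2.2 a ha
    rw [← h.prod] at he
    obtain ⟨k, hk, u, hu, rfl⟩ :=
      (Cfsg.Lib.Coprime.mem_sup_of_le_normalizer' (h.memK.trans h.normal)).mp he
    exact ⟨k, hk, u * z, mul_mem_sup hu hz, mul_assoc _ _ _⟩

/-- In a pair, the elements of `U M_σ` normalizing the fixed points centralize them. -/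
theorem KappaSplit.normalizer_fix (hG : Cfsg.IsMinSimpleOddOrder G) (hM : IsCoatom M) (h : KappaSplit M K E U)
    (hK : Cfsg.IsPiHallOf (Cfsg.kappa M) K M) (hK1 : K ≠ ⊥) (hfp : (Nat.card ↥(fix(M, K))).Prime) :
    (U ⊔ Cfsg.sigmaCore M) ⊓ normalizer ((fix(M, K) : Subgroup G) : Set G) ≤ centralizer (SetLike.coe (fix(M, K))) ∧
      Group.IsNilpotent ↥((U ⊔ Cfsg.sigmaCore M) ⊓ centralizer (SetLike.coe (fix(M, K)))) := by
  haveI := kappa_hall_cyclic hG hM hK
  have hKc : IsMulCommutative K := ⟨⟨fun x y => (IsCyclic.commGroup (α := K)).mul_comm x y⟩⟩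
  obtain ⟨hrel, hcard, hcent, -⟩ := h.derived_part hG hM hK hKc
  obtain ⟨k₀, hk₀, hk₀1⟩ := (Subgroup.bot_or_exists_ne_one K).resolve_left hK1
  set D := U ⊔ Cfsg.sigmaCore M with hD
  set W := fix(M, K) with hW
  set R := D ⊓ normalizer (W : Set G) with hR
  have hDM : D ≤ M := sup_le h.hallU.1 (sigmaCore_le M)
  have hKW : K ≤ centralizer (W : Set G) := le_centralizer_iff.mp inf_le_right
  have hKn : K ≤ normalizer (R : Set G) := Cfsg.Lib.Coprime.le_normalizer_inf (hK.1.trans h.sup_normal)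
    ((hKW.trans (centralizer_le_normalizer _)).trans le_normalizer)
  have hcop : ∀ S : Subgroup G, S ≤ D → (Nat.card K).Coprime (Nat.card S) := fun S hS =>
    coprime_card_of_disjoint fun t ht h1 h2 => hcard t ht (h2.trans (card_dvd_of_le hS)) (hK.2.1 t ht h1)
  have hfixR : R ⊓ centralizer (K : Set G) ≤ W := by
    refine le_trans ?_ (hcent k₀ hk₀ hk₀1).le
    exact inf_le_inf inf_le_left (Subgroup.centralizer_le (Set.singleton_subset_iff.mpr hk₀))
  have hcomm : ⁅R, K⁆ ≤ centralizer (W : Set G) := by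
    rw [commutator_le]
    intro r hr w hw
    refine mem_centralizer_iff.mpr fun x hx => ?_
    have hrx : r⁻¹ * x * r ∈ W := by
      have := (mem_normalizer_iff.mp (inv_mem hr.2) x).mp hx
      rwa [inv_inv] at this
    have h1 : w * (r⁻¹ * x * r) = r⁻¹ * x * r * w := (mem_centralizer_iff.mp (hKW hw) _ hrx).symm
    have h2 : w * x = x * w := (mem_centralizer_iff.mp (hKW hw) x hx).symm
    rw [commutatorElement_def]
    calc x * (r * w * r⁻¹ * w⁻¹) = r * (r⁻¹ * x * r * w) * r⁻¹ * w⁻¹ := by group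
      _ = r * (w * (r⁻¹ * x * r)) * r⁻¹ * w⁻¹ := by rw [h1]
      _ = r * w * r⁻¹ * (x * w⁻¹) := by group
      _ = r * w * r⁻¹ * (w⁻¹ * x) := by rw [show x * w⁻¹ = w⁻¹ * x from ((show Commute w x from h2).inv_left.eq).symm]
      _ = _ := by group
  have hRsol : Group.IsSolvable R :=
    hG.2.2.2 R (FittingUniqueness.ne_top_of_le_coatom hM (inf_le_left.trans hDM))
  have hsum := Cfsg.Lib.Coprime.commutator_sup_centralizer hKn (hcop R inf_le_left) (Or.inr hRsol)
  have hWcomm : W ≤ centralizer (W : Set G) := fun a ha => mem_centralizer_iff.mpr fun c hc => by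
    haveI := Fact.mk hfp
    haveI := isCyclic_of_prime_card (α := W) (p := Nat.card W) rfl
    exact congrArg Subtype.val ((IsCyclic.commGroup (α := W)).mul_comm ⟨c, hc⟩ ⟨a, ha⟩)
  refine ⟨hsum.ge.trans (sup_le hcomm (hfixR.trans hWcomm)), ?_⟩
  obtain ⟨b, hbz, hbp, -⟩ := exists_prime_pow_mem hk₀1
  haveI := Fact.mk hbp
  have hb : b ∈ K := zpowers_le.mpr hk₀ hbz
  have hb1 : b ≠ 1 := fun e => hbp.ne_one (by rw [e, orderOf_one])
  refine nilpotent_of_central_fixed (K := W) rfl (Cfsg.Lib.Coprime.le_normalizer_inf (hK.1.trans h.sup_normal)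
    (hKW.trans le_normalizer) hb) (le_inf (inf_le_left.trans le_sup_right) hWcomm) inf_le_right ?_ ?_
  · refine le_antisymm ?_ (le_inf (le_inf (inf_le_left.trans le_sup_right) hWcomm)
      (inf_le_right.trans (Subgroup.centralizer_le (Set.singleton_subset_iff.mpr hb))))
    exact (inf_le_inf_right _ inf_le_left).trans (hcent b hb hb1).le
  · refine Nat.coprime_of_dvd fun t ht h1 h2 => ?_
    exact (hK.2.1 t ht (h2.trans ((Nat.card_zpowers b).symm ▸ card_dvd_of_le (zpowers_le.mpr hb)))).2.2.1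
      (sigmaCore_isPi t ht (h1.trans (card_dvd_of_le inf_le_left)))

end Cfsg.Lib.OddLocal.RankTwoMax
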