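import Cfsg.Agent.OddLocal.TauOneBeta

/-!
# Containment of centralizers for `τ₁(M)`
-/

set_option linter.unusedSectionVars false
set_option linter.unusedVariables false
set_option linter.style.haveILetI false

namespace Cfsg.Lib.OddLocal.RankTwoMax

open Subgroup Uniqueness Sigma
open Cfsg.Lib.Coprime (conjMap)
open scoped commutatorElement

universe u

variable {G : Type u} [Group G] [Finite G] {M L N P E : Subgroup G} {p q : ℕ} [hp : Fact p.Prime]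
  [hq : Fact q.Prime]

/-- A group fixing a line of a rank two group has derived group acting trivially. -/
theorem commutator_le_centralizer_sq {A Q R : Subgroup G} (hA : MaxSq p A) (hPA : P ≤ A) (hPc : Nat.card P = p)
    (hQA : Q ≤ normalizer (A : Set G)) (hRA : R ≤ normalizer (A : Set G)) (hQP : Q ≤ centralizer (P : Set G))
    (hRP : R ≤ centralizer (P : Set G)) (hcop : (Nat.card ↥⁅Q, R⁆).Coprime (Nat.card A))
    (hsol : Group.IsSolvable A) : ⁅Q, R⁆ ≤ centralizer (A : Set G) := by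
  obtain ⟨x₀, hx₀A, hx₀P⟩ := SetLike.not_le_iff_exists.mp fun h : A ≤ P => by
    have h1 := card_dvd_of_le h
    rw [hA.card, hPc] at h1
    have h2 := Nat.le_of_dvd hp.out.pos h1
    exact absurd ((Nat.pow_le_pow_iff_right (n := 2) (m := 1) hp.out.one_lt).mp (by simpa using h2)) (by norm_num)
  have hx₁ : x₀ ≠ 1 := fun h => hx₀P (h ▸ one_mem P)
  have hYc : Nat.card (zpowers x₀) = p := by
    rw [Nat.card_zpowers, orderOf_eq_prime (hA.ea.2 x₀ hx₀A) hx₁]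
  have hAeq : P ⊔ zpowers x₀ = A := card_line_sup hA hPA hPc (zpowers_le.mpr hx₀A) hYc
    fun e => hx₀P (e ▸ mem_zpowers x₀)
  have hcomm : ∀ u ∈ P, ∀ i : ℤ, Commute u (x₀ ^ i) := fun u hu i =>
    hA.comm_of_mem (hPA hu) (zpow_mem hx₀A i)
  have hdec : ∀ x ∈ A, ∃ u ∈ P, ∃ i : ℤ, x = u * x₀ ^ i := by
    intro x hx
    have hn : zpowers x₀ ≤ normalizer (P : Set G) :=
      (zpowers_le.mpr hx₀A).trans fun b hb => centralizer_le_normalizer _
        (mem_centralizer_iff.mpr fun w hw => hA.comm_of_mem (hPA hw) hb)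
    obtain ⟨u, hu, y, hy, rfl⟩ := (Cfsg.Lib.Coprime.mem_sup_of_le_normalizer hn).mp (hAeq.ge hx)
    obtain ⟨i, rfl⟩ := mem_zpowers_iff.mp hy
    exact ⟨u, hu, i, rfl⟩
  have hfix : ∀ g ∈ centralizer (P : Set G), ∀ u ∈ P, g * u * g⁻¹ = u := fun g hg u hu => by
    rw [← mem_centralizer_iff.mp hg u hu, mul_inv_cancel_right]
  let K : Subgroup G :=
    { carrier := {c | c ∈ centralizer (P : Set G) ∧ c * x₀ * c⁻¹ * x₀⁻¹ ∈ P}
      one_mem' := ⟨one_mem _, by simp⟩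
      mul_mem' := fun {c d} hc hd => ⟨mul_mem hc.1 hd.1, by
        rw [show c * d * x₀ * (c * d)⁻¹ * x₀⁻¹ =
          c * (d * x₀ * d⁻¹ * x₀⁻¹) * c⁻¹ * (c * x₀ * c⁻¹ * x₀⁻¹) by group, hfix c hc.1 _ hd.2]
        exact mul_mem hd.2 hc.2⟩
      inv_mem' := fun {c} hc => ⟨inv_mem hc.1, by
        rw [show c⁻¹ * x₀ * c⁻¹⁻¹ * x₀⁻¹ = c⁻¹ * (c * x₀ * c⁻¹ * x₀⁻¹)⁻¹ * c⁻¹⁻¹ by group,
          hfix _ (inv_mem hc.1) _ (inv_mem hc.2)]
        exact inv_mem hc.2⟩ }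
  have hscalar : ∀ g ∈ normalizer (A : Set G), g ∈ centralizer (P : Set G) →
      ∃ u ∈ P, ∃ k : ℤ, ∀ i : ℤ, g * x₀ ^ i * g⁻¹ = u ^ i * x₀ ^ (k * i) := by
    intro g hgA hgP
    obtain ⟨u, hu, k, hk⟩ := hdec _ ((mem_normalizer_iff.mp hgA _).mp hx₀A)
    refine ⟨u, hu, k, fun i => ?_⟩
    rw [← conj_zpow, hk, (hcomm u hu k).mul_zpow, ← zpow_mul]
  have hV : ⁅Q, R⁆ ≤ K := by
    rw [commutator_le]
    intro a ha b hb
    obtain ⟨u, hu, k, hk⟩ := hscalar _ (inv_mem (hQA ha)) (inv_mem (hQP ha))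
    obtain ⟨v, hv, l, hl⟩ := hscalar _ (inv_mem (hRA hb)) (inv_mem (hRP hb))
    have e1 : (a⁻¹ * b⁻¹) * x₀ * (a⁻¹ * b⁻¹)⁻¹ = v * u ^ l * x₀ ^ (k * l) := by
      have h1 := hl 1
      have h2 := hk l
      rw [zpow_one, zpow_one, mul_one] at h1
      rw [show a⁻¹ * b⁻¹ * x₀ * (a⁻¹ * b⁻¹)⁻¹ = a⁻¹ * (b⁻¹ * x₀ * b⁻¹⁻¹) * a⁻¹⁻¹ by group, h1,
        show a⁻¹ * (v * x₀ ^ l) * a⁻¹⁻¹ = (a⁻¹ * v * a⁻¹⁻¹) * (a⁻¹ * x₀ ^ l * a⁻¹⁻¹) by group,
        hfix _ (inv_mem (hQP ha)) v hv, h2, mul_assoc]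
    have e2 : (b⁻¹ * a⁻¹) * x₀ * (b⁻¹ * a⁻¹)⁻¹ = u * v ^ k * x₀ ^ (k * l) := by
      have h1 := hk 1
      have h2 := hl k
      rw [zpow_one, zpow_one, mul_one] at h1
      rw [show b⁻¹ * a⁻¹ * x₀ * (b⁻¹ * a⁻¹)⁻¹ = b⁻¹ * (a⁻¹ * x₀ * a⁻¹⁻¹) * b⁻¹⁻¹ by group, h1,
        show b⁻¹ * (u * x₀ ^ k) * b⁻¹⁻¹ = (b⁻¹ * u * b⁻¹⁻¹) * (b⁻¹ * x₀ ^ k * b⁻¹⁻¹) by group,
        hfix _ (inv_mem (hRP hb)) u hu, h2, mul_assoc, mul_comm l k]
    set w := (v * u ^ l) * (u * v ^ k)⁻¹ with hw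
    have hwP : w ∈ P := mul_mem (mul_mem hv (zpow_mem hu _)) (inv_mem (mul_mem hu (zpow_mem hv _)))
    have hd : b⁻¹ * a⁻¹ ∈ centralizer (P : Set G) := mul_mem (inv_mem (hRP hb)) (inv_mem (hQP ha))
    have hab : ⁅a, b⁆ = (b⁻¹ * a⁻¹)⁻¹ * (a⁻¹ * b⁻¹) := by simp only [commutatorElement_def]; group
    refine ⟨hab ▸ mul_mem (inv_mem hd) (mul_mem (inv_mem (hQP ha)) (inv_mem (hRP hb))), ?_⟩
    have key : ⁅a, b⁆ * x₀ * ⁅a, b⁆⁻¹ = w * x₀ := by
      rw [hab, show ((b⁻¹ * a⁻¹)⁻¹ * (a⁻¹ * b⁻¹)) * x₀ * ((b⁻¹ * a⁻¹)⁻¹ * (a⁻¹ * b⁻¹))⁻¹ =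
        (b⁻¹ * a⁻¹)⁻¹ * ((a⁻¹ * b⁻¹) * x₀ * (a⁻¹ * b⁻¹)⁻¹) * (b⁻¹ * a⁻¹) by group, e1,
        show v * u ^ l * x₀ ^ (k * l) = w * (u * v ^ k * x₀ ^ (k * l)) by rw [hw]; group, ← e2]
      have h3 := hfix _ (inv_mem hd) w hwP
      rw [inv_inv] at h3
      conv_rhs => rw [← h3]
      group
    rw [key, mul_inv_cancel_right]
    exact hwP
  have hn : ⁅Q, R⁆ ≤ normalizer (A : Set G) := by
    rw [commutator_le]
    exact fun a ha b hb => by
      rw [commutatorElement_def]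
      exact mul_mem (mul_mem (mul_mem (hQA ha) (hRA hb)) (inv_mem (hQA ha))) (inv_mem (hRA hb))
  have hle : ⁅A, ⁅Q, R⁆⁆ ≤ P := by
    rw [commutator_le]
    intro x hx c hc
    obtain ⟨u, hu, i, rfl⟩ := hdec x hx
    obtain ⟨hcP, hcx⟩ := hV hc
    set w := c * x₀ * c⁻¹ * x₀⁻¹ with hw
    have h1 : c * x₀ ^ i * c⁻¹ = w ^ i * x₀ ^ i := by
      have h2 : c * x₀ * c⁻¹ = w * x₀ := by rw [hw, inv_mul_cancel_right]
      rw [← conj_zpow, h2, (show Commute w x₀ from hA.comm_of_mem (hPA hcx) hx₀A).mul_zpow]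
    rw [show ⁅u * x₀ ^ i, c⁆ = u * x₀ ^ i * (c * u * c⁻¹ * (c * x₀ ^ i * c⁻¹))⁻¹ by
      simp only [commutatorElement_def]; group, hfix c hcP u hu, h1,
      show u * x₀ ^ i * (u * (w ^ i * x₀ ^ i))⁻¹ = u * (w ^ i)⁻¹ * u⁻¹ by group]
    exact mul_mem (mul_mem hu (inv_mem (zpow_mem hcx i))) (inv_mem hu)
  have h2 : ⁅⁅A, ⁅Q, R⁆⁆, ⁅Q, R⁆⁆ = ⊥ := commutator_eq_bot_iff_le_centralizer.mpr
    (hle.trans (le_centralizer_iff.mp fun c hc => (hV hc).1))
  rw [Cfsg.Lib.Coprime.commutator_commutator_eq hn hcop (Or.inr hsol)] at h2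
  exact le_centralizer_iff.mp (commutator_eq_bot_iff_le_centralizer.mp h2)

/-- For `p ∈ σ(L) ∖ β(L)` no nontrivial `q`-subgroup of `L'` in `M` is centralized by `P`. -/
theorem tau_one_case_sigma (hG : Cfsg.IsMinSimpleOddOrder G) (hM : IsCoatom M) (hτ : p ∈ Cfsg.tau1 M)
    (hL : IsCoatom L) (hPc : Nat.card P = p) (hPM : P ≤ M) (hNL : normalizer (P : Set G) ≤ L)
    (hne : M ≠ L) (hσ : q ∈ Cfsg.sigma M) {V : Subgroup G} (hVq : IsPGroup q V) (hV1 : V ≠ ⊥) (hVM : V ≤ M)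
    (hVP : V ≤ centralizer (P : Set G)) (hVL' : V ≤ ⁅L, L⁆)
    (hpL : p ∈ Cfsg.sigma L) (hβ : p ∉ Cfsg.beta L) : False := by
  have hqp : q ≠ p := fun e => hτ.2.1 (e ▸ hσ)
  have hPp : IsPGroup p P := isPGroup_of_card hPc
  have hPL : P ≤ L := le_normalizer.trans hNL
  have hVL : V ≤ L := hVL'.trans (commutator_le_self L)
  by_cases hqL : q ∈ Cfsg.sigma L
  · exact sigma_pair_false hG hM hτ hσ hL hpL hqL hβ fun h =>
      hne (eq_of_beta hG hM hL hσ h hVq hV1 hVM hVL)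
  by_cases hqr : Cfsg.PRankLE q 1 L
  swap
  · obtain ⟨v, hv, hvo⟩ := ScnUniqueness.exists_orderOf hVq hV1
    obtain ⟨z, hz, hzo⟩ := ScnUniqueness.exists_orderOf hPp (line_ne_bot hPc)
    have hv1 : v ≠ 1 := fun h => hq.out.ne_one (by rw [← hvo, h, orderOf_one])
    obtain ⟨-, huniq⟩ := unique_centralizer_of_tau_two hG hL (hVL hv) hv1
      (fun t ht hd => by
        rw [hvo, Nat.prime_dvd_prime_iff_eq ht hq.out] at hd
        exact hd ▸ ⟨hq.out, hqL, pRankLE_of_not_sigma hG hL hqL, hqr⟩)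
      (le_sigmaCore_of_pgroup hG hL hpL hPp hPL hz) (fun h => hp.out.ne_one (by rw [← hzo, h, orderOf_one]))
      (mem_centralizer_iff.mp (hVP hv) z hz).symm
    have hX1 : zpowers v ≠ ⊥ := line_ne_bot (p := q) (by rw [Nat.card_zpowers, hvo])
    obtain ⟨N, hN, hNv⟩ := exists_coatom_ge (MinSimpleTransitivity.normalizer_ne_top hG hX1
      (FittingUniqueness.ne_top_of_le_coatom hM (zpowers_le.mpr (hVM hv))))
    have hNL' : N = L := huniq N hN (by
      rw [← Cfsg.Lib.Coprime.centralizer_zpowers]; exact (centralizer_le_normalizer _).trans hNv)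
    exact other_core_false hG hM hL hne.symm hσ hqL (hVq.to_le (zpowers_le.mpr hv)) hX1
      (zpowers_le.mpr (hVM hv)) (hNL' ▸ hNv) hpL hPp (line_ne_bot hPc) hPM hPL
  obtain ⟨k, hk⟩ := IsPGroup.iff_card.mp hVq
  have hVc : (Nat.card V).Coprime (Nat.card (Cfsg.sigmaCore L)) := by
    rw [hk]
    exact (hq.out.coprime_iff_not_dvd.mpr fun hd => hqL (sigmaCore_isPi q hq.out hd)).pow_left k
  obtain ⟨T₀, hVT⟩ := Cfsg.Lib.Coprime.exists_invariant_sylow (hVL.trans (le_normalizer_sigmaCore L)) hVc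
    (Or.inl (hG.2.2.2 _ (FittingUniqueness.ne_top_of_le_coatom hM hVM))) p
  obtain ⟨T, hT⟩ := exists_sylow_eq hpL (isSylowOf_of_sigmaCore hG hL hpL T₀)
  rw [← hT] at hVT
  have hTL : (T : Subgroup G) ≤ L := by
    rw [hT]; exact (map_subtype_le _).trans (sigmaCore_le L)
  have hVT' : V ≤ centralizer ((T : Subgroup G) : Set G) := centralizes_of_derived hG hL hβ
    (sylow_le_derived' hG hL hpL T.2 hTL) hVL' T.2 (coprime_of_ne hqp hVq) hVT
  obtain ⟨N, hN, hNV⟩ := exists_coatom_ge (MinSimpleTransitivity.normalizer_ne_top hG hV1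
    (FittingUniqueness.ne_top_of_le_coatom hM hVM))
  have hTN : (T : Subgroup G) ≤ N :=
    ((le_centralizer_iff.mp hVT').trans (centralizer_le_normalizer _)).trans hNV
  have hneL : N ≠ L := fun e =>
    (tau_two_other hG hM hL hσ hqL hVq hV1 hVM (e ▸ hNV)).1.2.2.2 hqr
  have hT1 : (T : Subgroup G) ≠ ⊥ := fun h0 => by
    have h1 := T.dvd_card_of_dvd_card (hτ.2.2.1.trans (card_subgroup_dvd_card M))
    rw [h0, card_bot] at h1
    exact hp.out.not_dvd_one h1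
  have hPN : P ≤ N := ((le_centralizer_iff.mp hVP).trans (centralizer_le_normalizer _)).trans hNV
  have hVN : V ≤ N := le_normalizer.trans hNV
  by_cases hpN : p ∈ Cfsg.sigma N
  · have hneM : N ≠ M := fun e => hτ.2.1 (e ▸ hpN)
    by_cases hqN : q ∈ Cfsg.sigma N
    · exact sigma_pair_false hG hM hτ hσ hN hpN hqN
        (fun h => hneL.symm (eq_of_beta hG hL hN hpL h T.2 hT1 hTL hTN))
        fun h => hneM.symm (eq_of_beta hG hM hN hσ h hVq hV1 hVM hVN)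
    · exact other_core_false hG hM hN hneM hσ hqN hVq hV1 hVM hNV hpN hPp (line_ne_bot hPc) hPM hPN
  have hTc : IsMulCommutative (T : Subgroup G) := comm_of_not_sigma hG hN hpN T.2 hTN
  obtain ⟨S, hS, hVS⟩ := exists_sylowOf hVq hVT'
  have hCL : centralizer ((T : Subgroup G) : Set G) ≤ L :=
    (centralizer_le_normalizer _).trans (Sigma.normalizer_le hpL (isSylowOf_coe T hTL))
  have hScyc : IsCyclic S := isCyclic_sylow_of_rank_one hG hS.2.1 (hS.1.trans hCL) hqr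
  have hTd : (T : Subgroup G) ≤ ⁅N, N⁆ := le_derived_of_centralized_sylow hG T hTc hS
    (inf_le_left.trans ((normalizer_le_of_cyclic hScyc hVS).trans hNV))
  have hpd : p ∣ Nat.card ↥⁅N, N⁆ := (dvd_card_of_isPGroup T.2 hT1).trans (card_dvd_of_le hTd)
  by_cases hqN : q ∈ Cfsg.sigma N
  swap
  · obtain ⟨-, -, E', hE', hE'M⟩ := tau_two_other hG hM hN hσ hqN hVq hV1 hVM hNV
    exact hτ.2.2.2.1 ((dvd_derived_complement hG hN hE' hp.out hpN hpd).trans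
      (card_dvd_of_le (commutator_mono hE'M hE'M)))
  by_cases hneM : N = M
  · exact hτ.2.2.2.1 (hneM ▸ hpd)
  have hqNβ : q ∉ Cfsg.beta N := fun h => hneM (eq_of_beta hG hM hN hσ h hVq hV1 hVM hVN).symm
  obtain ⟨j, hj⟩ := IsPGroup.iff_card.mp T.2
  have hTc' : (Nat.card (T : Subgroup G)).Coprime (Nat.card (Cfsg.sigmaCore N)) := by
    rw [hj]
    exact (hp.out.coprime_iff_not_dvd.mpr fun hd => hpN (sigmaCore_isPi p hp.out hd)).pow_left j
  obtain ⟨S₀, hTS⟩ := Cfsg.Lib.Coprime.exists_invariant_sylow (hTN.trans (le_normalizer_sigmaCore N)) hTc'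
    (Or.inl (hG.2.2.2 _ (FittingUniqueness.ne_top_of_le_coatom hN hTN))) q
  have hS₀ := isSylowOf_of_sigmaCore hG hN hqN S₀
  obtain ⟨S', hS'⟩ := exists_sylow_eq hqN hS₀
  refine centralized_sylows_false hG hM hτ hσ T S' (hS'.symm ▸ ?_)
  exact centralizes_of_derived hG hN hqNβ (sylow_le_derived' hG hN hqN hS₀.2.1 hS₀.1) hTd hS₀.2.1
    (coprime_of_ne hqp.symm T.2) hTS

/-- For `p ∉ σ(L)` no moved `q`-group is centralized by `P`. -/
theorem tau_one_case_outside (hG : Cfsg.IsMinSimpleOddOrder G) (hM : IsCoatom M) (hτ : p ∈ Cfsg.tau1 M)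
    (hL : IsCoatom L) (hPc : Nat.card P = p) (hPM : P ≤ M) (hNL : normalizer (P : Set G) ≤ L)
    (hne : M ≠ L) (hσ : q ∈ Cfsg.sigma M) {r : ℕ} [hr : Fact r.Prime] (hrL : r ∉ Cfsg.sigma L)
    {Q R : Subgroup G} (hRc : Nat.card R = r) (hRP : R ≤ centralizer (P : Set G)) (hQq : IsPGroup q Q)
    (hQM : Q ≤ M) (hQP : Q ≤ centralizer (P : Set G)) (hRQ : R ≤ normalizer (Q : Set G)) (hV1 : ⁅Q, R⁆ ≠ ⊥)
    (hpL : p ∉ Cfsg.sigma L) : False := by
  have hqp : q ≠ p := fun e => hτ.2.1 (e ▸ hσ)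
  have hr1M : Cfsg.PRankLE p 1 M := hτ.2.2.2.2
  have hPp : IsPGroup p P := isPGroup_of_card hPc
  have hPL : P ≤ L := le_normalizer.trans hNL
  have hQL : Q ≤ L := hQP.trans ((centralizer_le_normalizer _).trans hNL)
  have hRL : R ≤ L := hRP.trans ((centralizer_le_normalizer _).trans hNL)
  set V := ⁅Q, R⁆ with hV
  have hVQ : V ≤ Q := Cfsg.Lib.Coprime.commutator_le_of_le_normalizer hRQ
  have hVq : IsPGroup q V := hQq.to_le hVQ
  have hτL : p ∈ Cfsg.tau2 L :=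
    ⟨hp.out, hpL, pRankLE_of_not_sigma hG hL hpL, (exists_sq_ge hG hL hpL hPc hNL).1⟩
  have hqL : q ∉ Cfsg.sigma L := fun h => by
    obtain ⟨E₀, hE₀⟩ := exists_complement hG hL
    obtain ⟨A₀, hA₀E, hA₀, hA₀c⟩ := exists_sq_complement hG hL hE₀ hτL
    obtain ⟨A₁, hx⟩ := exists_exc hG hL hpL (hA₀E.trans hE₀.1) hA₀ hA₀c
    obtain ⟨g, hg⟩ := conj_of_nilpotent_left hG hM hL (hx.nilpotent hG) hσ h
    exact not_conj_of_tau_one hG hM hτ hL hPc hNL g hg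
  have hPn : P ≤ normalizer ((Q ⊔ R : Subgroup G) : Set G) :=
    (le_centralizer_iff.mp (sup_le hQP hRP)).trans (centralizer_le_normalizer _)
  obtain ⟨E, hE, hle⟩ := exists_complement_ge hG hL (X := Q ⊔ R ⊔ P) (sup_le (sup_le hQL hRL) hPL)
    fun t ht hd => by
      rcases dvd_card_sup hPn ht hd with h | h
      · rcases dvd_card_sup hRQ ht h with h | h
        · exact eq_of_dvd_pgroup hQq ht h ▸ hqL
        · exact eq_of_dvd_pgroup (isPGroup_of_card (p := r) hRc) ht h ▸ hrL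
      · exact eq_of_dvd_pgroup hPp ht h ▸ hpL
  obtain ⟨A, hAE, hA, hAc⟩ := exists_sq_complement hG hL hE hτL
  obtain ⟨A₀, hx⟩ := exists_exc hG hL hpL (hAE.trans hE.1) hA hAc
  have hsq := hx.maxSq hG
  have hEA := hx.le_normalizer hG hE hAE
  have hPA : P ≤ A := hx.order_p_le hG hE hAE (le_sup_right.trans hle) hPc
  have hcop : (Nat.card V).Coprime (Nat.card A) := by
    rw [hAc]; exact (coprime_of_ne hqp hVq).pow_right 2
  have hVA : V ≤ centralizer (A : Set G) := commutator_le_centralizer_sq hsq hPA hPc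
    ((le_sup_left.trans (le_sup_left.trans hle)).trans hEA)
    ((le_sup_right.trans (le_sup_left.trans hle)).trans hEA) hQP hRP hcop
    (hG.2.2.2 _ (FittingUniqueness.ne_top_of_le_coatom hL (hAE.trans hE.1)))
  obtain ⟨N, hN, hNV⟩ := exists_coatom_ge (MinSimpleTransitivity.normalizer_ne_top hG hV1
    (FittingUniqueness.ne_top_of_le_coatom hM (hVQ.trans hQM)))
  have hAN : A ≤ N := ((le_centralizer_iff.mp hVA).trans (centralizer_le_normalizer _)).trans hNV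
  have hneM : N ≠ M := fun e => not_le_of_rank_one hr1M hA hAc (e ▸ hAN)
  have hVN : V ≤ N := le_normalizer.trans hNV
  by_cases hqN : q ∈ Cfsg.sigma N
  · by_cases hpN : p ∈ Cfsg.sigma N
    · exact sigma_pair_false hG hM hτ hσ hN hpN hqN (hsq.not_beta N)
        fun h => hneM.symm (eq_of_beta hG hM hN hσ h hVq hV1 (hVQ.trans hQM) hVN)
    obtain ⟨A₂, hy⟩ := exists_exc hG hN hpN hAN hA hAc
    exact hV1 (le_bot_iff.mp ((le_inf (le_sigmaCore_of_pgroup hG hN hqN hVq hVN) hVA).trans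
      (hy.inf_centralizer_eq_bot hG).le))
  by_cases hpN : p ∈ Cfsg.sigma N
  · exact other_core_false hG hM hN hneM hσ hqN hVq hV1 (hVQ.trans hQM) hNV hpN hPp (line_ne_bot hPc) hPM
      (hPA.trans hAN)
  obtain ⟨-, -, E', hE', hE'M⟩ := tau_two_other hG hM hN hσ hqN hVq hV1 (hVQ.trans hQM) hNV
  obtain ⟨m, -, hm⟩ := conj_le_complement hG hN hE' hpN hsq.isPGroup hAN
  exact not_le_of_rank_one hr1M (Cfsg.Lib.OddP.isElementaryAbelian_map hA _)
    (by rw [Cfsg.Lib.Coprime.card_conjMap, hAc]) (hm.trans hE'M)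

/-- Lemma: `C_{M_σ}(P) ≤ C(R)` for `P` of order in `τ₁(M)`. -/
theorem tau_one_centralizer (hG : Cfsg.IsMinSimpleOddOrder G) (hM : IsCoatom M)
    (hE : Cfsg.IsComplIn E (Cfsg.sigmaCore M) M) (hτ : p ∈ Cfsg.tau1 M) (hPE : P ≤ E) (hPc : Nat.card P = p)
    {R : Subgroup G} (hRE : R ≤ E ⊓ centralizer (P : Set G)) (hR : (Nat.card R).Prime) :
    Cfsg.sigmaCore M ⊓ centralizer (P : Set G) ≤ Cfsg.sigmaCore M ⊓ centralizer (R : Set G) := by
  refine le_inf inf_le_left ?_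
  obtain ⟨r, hRc⟩ : ∃ r, Nat.card R = r := ⟨_, rfl⟩
  haveI hr : Fact r.Prime := ⟨hRc ▸ hR⟩
  have hPM : P ≤ M := hPE.trans hE.1
  have hRM : R ≤ M := (hRE.trans inf_le_left).trans hE.1
  have hRP : R ≤ centralizer (P : Set G) := hRE.trans inf_le_right
  have hPp : IsPGroup p P := isPGroup_of_card hPc
  have hRp : IsPGroup r R := isPGroup_of_card hRc
  by_cases hrp : r = p
  · subst hrp
    have hcyc : IsCyclic ↥(P ⊔ R) := isCyclic_sylow_of_rank_one hG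
      (hPp.to_sup_of_normal_left' hRp (hRP.trans (centralizer_le_normalizer _))) (sup_le hPM hRM) hτ.2.2.2.2
    rw [eq_of_cyclic hcyc (le_sup_right : R ≤ P ⊔ R) le_sup_left (hRc.trans hPc.symm)]
    exact inf_le_right
  set K := Cfsg.sigmaCore M ⊓ centralizer (P : Set G) with hK
  have hRK : R ≤ normalizer (K : Set G) := Cfsg.Lib.Coprime.le_normalizer_inf
    (hRM.trans (le_normalizer_sigmaCore M)) (hRP.trans le_normalizer)
  have hRE' : r ∣ Nat.card E := (dvd_of_eq hRc.symm).trans (card_dvd_of_le (hRE.trans inf_le_left))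
  have hcop : (Nat.card R).Coprime (Nat.card K) :=
    ((coprime_complement hG hM hE).coprime_dvd_left (card_dvd_of_le inf_le_left)).symm.coprime_dvd_left
      (hRc ▸ hRE')
  have hsolR : Group.IsSolvable R := hG.2.2.2 R (FittingUniqueness.ne_top_of_le_coatom hM hRM)
  refine Cfsg.Lib.Coprime.le_of_forall_sylow fun q hq => ?_
  haveI := Fact.mk hq
  obtain ⟨T, hT⟩ := Cfsg.Lib.Coprime.exists_invariant_sylow hRK hcop (Or.inl hsolR) q
  refine ⟨T, ?_⟩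
  set Q := (T : Subgroup K).map K.subtype with hQ
  rw [← commutator_eq_bot_iff_le_centralizer]
  by_contra hV1
  set V := ⁅Q, R⁆ with hV
  have hQK : Q ≤ K := map_subtype_le _
  have hQq : IsPGroup q Q := T.2.map _
  have hQM : Q ≤ M := hQK.trans (inf_le_left.trans (sigmaCore_le M))
  have hQP : Q ≤ centralizer (P : Set G) := hQK.trans inf_le_right
  have hVQ : V ≤ Q := Cfsg.Lib.Coprime.commutator_le_of_le_normalizer hT
  have hVq : IsPGroup q V := hQq.to_le hVQ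
  have hσ : q ∈ Cfsg.sigma M := sigmaCore_isPi q hq
    ((dvd_card_of_isPGroup hVq hV1).trans (card_dvd_of_le (hVQ.trans (hQK.trans inf_le_left))))
  have hrq : r ≠ q := fun e => not_sigma_of_dvd hG hM hE hr.out hRE' (e ▸ hσ)
  obtain ⟨L, hL, hNL⟩ := exists_coatom_ge (MinSimpleTransitivity.normalizer_ne_top hG (line_ne_bot hPc)
    (FittingUniqueness.ne_top_of_le_coatom hM hPM))
  have hne : M ≠ L := fun e => (exists_sq_ge hG hM hτ.2.1 hPc (e ▸ hNL)).1 hτ.2.2.2.2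
  have hCL : centralizer (P : Set G) ≤ L := (centralizer_le_normalizer _).trans hNL
  have hQL : Q ≤ L := hQP.trans hCL
  have hRL : R ≤ L := hRP.trans hCL
  have hRV : R ≤ normalizer (V : Set G) := Cfsg.Lib.Coprime.le_normalizer_commutator_right _ _
  have hVV : ⁅V, R⁆ = V :=
    Cfsg.Lib.Coprime.commutator_commutator_eq hT (hcop.coprime_dvd_right (card_dvd_of_le hQK)) (Or.inl hsolR)
  have hVL' : V ≤ ⁅L, L⁆ := commutator_mono hQL hRL
  have hqβ : q ∉ Cfsg.beta L := fun h =>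
    hne (eq_of_beta hG hM hL hσ h hVq hV1 (hVQ.trans hQM) (hVQ.trans hQL))
  -- `r ∉ σ(L)`
  have hrL : r ∉ Cfsg.sigma L := fun h => by
    have h1 := centralizes_of_derived hG hL hqβ hVL' (sylow_le_derived' hG hL h hRp hRL) hVq
      (coprime_of_ne hrq hRp) hRV
    exact hV1 (hVV ▸ commutator_eq_bot_iff_le_centralizer.mpr (le_centralizer_iff.mp h1))
  by_cases hpL : p ∈ Cfsg.sigma L
  swap
  · exact tau_one_case_outside hG hM hτ hL hPc hPM hNL hne hσ hrL hRc hRP hQq hQM hQP hT hV1 hpL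
  by_cases hβ : p ∈ Cfsg.beta L
  swap
  · exact tau_one_case_sigma hG hM hτ hL hPc hPM hNL hne hσ hVq hV1 (hVQ.trans hQM) (hVQ.trans hQP) hVL'
      hpL hβ
  -- `r` has rank one in `L`
  have hrr : Cfsg.PRankLE r 1 L := by
    by_contra h1
    have hτr : r ∈ Cfsg.tau2 L := ⟨hr.out, hrL, pRankLE_of_not_sigma hG hL hrL, h1⟩
    by_cases hqL : q ∈ Cfsg.sigma L
    · obtain ⟨E₀, hE₀⟩ := exists_complement hG hL
      obtain ⟨A₀, hA₀E, hA₀, hA₀c⟩ := exists_sq_complement hG hL hE₀ hτr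
      obtain ⟨A₁, hx⟩ := exists_exc hG hL hrL (hA₀E.trans hE₀.1) hA₀ hA₀c
      obtain ⟨g, hg⟩ := conj_of_nilpotent_left hG hM hL (hx.nilpotent hG) hσ hqL
      exact not_conj_of_tau_one hG hM hτ hL hPc hNL g hg
    obtain ⟨E', hE', hle⟩ := exists_complement_ge hG hL (X := Q ⊔ R) (sup_le hQL hRL) fun t ht hd => by
      rcases dvd_card_sup hT ht hd with h | h
      · exact eq_of_dvd_pgroup hQq ht h ▸ hqL
      · exact eq_of_dvd_pgroup hRp ht h ▸ hrL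
    obtain ⟨B, hBE, hB, hBc⟩ := exists_sq_complement hG hL hE' hτr
    obtain ⟨B₀, hx⟩ := exists_exc hG hL hrL (hBE.trans hE'.1) hB hBc
    have hRB : R ≤ B := hx.order_p_le hG hE' hBE (le_sup_right.trans hle) hRc
    have h2 : V ≤ B := (commutator_mono le_rfl hRB).trans ((commutator_comm Q B).le.trans
      (Cfsg.Lib.Coprime.commutator_le_of_le_normalizer
        ((le_sup_left.trans hle).trans (hx.le_normalizer hG hE' hBE))))
    exact hV1 (le_bot_iff.mp ((le_inf hVQ h2).trans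
      (Cfsg.Lib.Coprime.inf_eq_bot_of_coprime (by
        rw [hBc]; exact (coprime_of_ne hrq.symm hQq).pow_right 2)).le))
  exact tau_one_case_beta hG hM hτ hL hPc hPM hNL hne hσ hrp hrq hrL hrr hRc hRL hRP hVq hV1 (hVQ.trans hQM)
    (hVQ.trans hQP) hRV hVV hβ

end Cfsg.Lib.OddLocal.RankTwoMax
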