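import Cfsg.Agent.OddLocal.TauOneLemmas
import Cfsg.Agent.OddLocal.SigmaIntersections

/-!
# The case `p ∈ β(L)` of the containment for `τ₁(M)`
-/

set_option linter.unusedSectionVars false
set_option linter.unusedVariables false
set_option linter.style.haveILetI false

namespace Cfsg.Lib.OddLocal.RankTwoMax

open Subgroup Uniqueness Sigma
open Cfsg.Lib.Coprime (conjMap)
open scoped commutatorElement

universe u

variable {G : Type u} [Group G] [Finite G] {M L N P : Subgroup G} {p q : ℕ} [hp : Fact p.Prime]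
  [hq : Fact q.Prime]

theorem coprime_card_of_disjoint {X Y : Subgroup G}
    (h : ∀ t : ℕ, t.Prime → t ∣ Nat.card X → ¬ t ∣ Nat.card Y) : (Nat.card X).Coprime (Nat.card Y) :=
  Nat.coprime_of_dvd fun t ht h1 h2 => h t ht h1 h2

theorem dvd_card_sup {X Y : Subgroup G} (h : Y ≤ normalizer (X : Set G)) {t : ℕ} (ht : t.Prime)
    (hd : t ∣ Nat.card ↥(X ⊔ Y)) : t ∣ Nat.card X ∨ t ∣ Nat.card Y :=
  ht.dvd_mul.mp (Cfsg.Lib.Coprime.card_sup_mul_card_inf h ▸ hd.mul_right _)

theorem eq_of_dvd_pgroup {X : Subgroup G} (hX : IsPGroup p X) {t : ℕ} (ht : t.Prime)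
    (hd : t ∣ Nat.card X) : t = p := by
  obtain ⟨j, hj⟩ := IsPGroup.iff_card.mp hX
  exact (Nat.prime_dvd_prime_iff_eq ht hp.out).mp (ht.dvd_of_dvd_pow (hj ▸ hd))

/-- For `p ∈ β(L)` no moved `q`-group is centralized by `P`. -/
theorem tau_one_case_beta (hG : Cfsg.IsMinSimpleOddOrder G) (hM : IsCoatom M) (hτ : p ∈ Cfsg.tau1 M)
    (hL : IsCoatom L) (hPc : Nat.card P = p) (hPM : P ≤ M) (hNL : normalizer (P : Set G) ≤ L)
    (hne : M ≠ L) (hσ : q ∈ Cfsg.sigma M) {r : ℕ} [hr : Fact r.Prime] (hrp : r ≠ p) (hrq : r ≠ q)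
    (hrL : r ∉ Cfsg.sigma L) (hrr : Cfsg.PRankLE r 1 L) {R V : Subgroup G} (hRc : Nat.card R = r)
    (hRL : R ≤ L) (hRP : R ≤ centralizer (P : Set G)) (hVq : IsPGroup q V) (hV1 : V ≠ ⊥) (hVM : V ≤ M)
    (hVP : V ≤ centralizer (P : Set G)) (hRV : R ≤ normalizer (V : Set G)) (hVV : ⁅V, R⁆ = V)
    (hβ : p ∈ Cfsg.beta L) : False := by
  have hqp : q ≠ p := fun e => hτ.2.1 (e ▸ hσ)
  have hPp : IsPGroup p P := isPGroup_of_card hPc
  have hp2 : p ≠ 2 := ne_two hG hPp (line_ne_bot hPc)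
  have hPL : P ≤ L := le_normalizer.trans hNL
  have hVL : V ≤ L := hVP.trans ((centralizer_le_normalizer _).trans hNL)
  have hpL : p ∈ Cfsg.sigma L := alpha_subset_sigma hG hL hβ.1
  have hqβ : q ∉ Cfsg.beta L := fun h => hne (eq_of_beta hG hM hL hσ h hVq hV1 hVM hVL)
  obtain ⟨x, hxP, hxo⟩ := ScnUniqueness.exists_orderOf hPp (line_ne_bot hPc)
  have hPx : zpowers x = P := line_eq_of_mem hPc hxP fun h => hp.out.ne_one (by rw [← hxo, h, orderOf_one])
  -- the normal `β`-subgroup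
  set W := Cfsg.piCoreOf (Cfsg.beta L) L with hW
  have hWL : W ≤ L := PiCoreOf.le _ _
  have hLW : L ≤ normalizer (W : Set G) := PiCoreOf.le_normalizer' _ _
  have hWπ : ∀ t : ℕ, t.Prime → t ∣ Nat.card W → t ∈ Cfsg.beta L := (betaCore_hall hG hL).1.2.1
  have hpW : ∀ Y : Subgroup G, IsPGroup p Y → Y ≤ L → Y ≤ W := by
    intro Y hY hYL y hy
    obtain ⟨S, hS⟩ := (hY.comap_subtype (K := L)).exists_le_sylow
    exact ⟨⟨y, hYL hy⟩, sylow_le_betaCore hG hL hβ S (hS hy), rfl⟩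
  have hfull : ∀ T : Sylow p W, ∃ T' : Sylow p G, (T' : Subgroup G) = (T : Subgroup W).map W.subtype := by
    intro T
    refine exists_sylow_eq hpL ⟨(map_subtype_le _).trans hWL, T.2.map _, fun Y hY hYL hle => ?_⟩
    exact (isSylowOf_sylow T).2.2 Y hY (hpW Y hY hYL) hle
  -- `V` is abelian
  have hVc : IsMulCommutative V := by
    by_contra hna
    exact hne ((nonabelian_unique hG hVq hna).unique ⟨hM, hVM⟩ ⟨hL, hVL⟩)
  -- `V` centralizes a Sylow group containing `P`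
  have hRp : IsPGroup r R := isPGroup_of_card hRc
  have hcop : (Nat.card ↥(V ⊔ R)).Coprime (Nat.card W) := coprime_card_of_disjoint fun t ht h1 h2 => by
    rcases dvd_card_sup hRV ht h1 with h | h
    · exact hqβ (eq_of_dvd_pgroup hVq ht h ▸ hWπ t ht h2)
    · exact hrL (eq_of_dvd_pgroup hRp ht h ▸ alpha_subset_sigma hG hL (hWπ t ht h2).1)
  obtain ⟨T₁, hPT₁, hT₁⟩ := Cfsg.Lib.Coprime.exists_invariant_sylow_ge
    ((sup_le hVL hRL).trans hLW) hcop (Or.inl (hG.2.2.2 _ (FittingUniqueness.ne_top_of_le_coatom hL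
      (sup_le hVL hRL)))) p (hpW P hPp hPL) hPp
    ((sup_le hVP hRP).trans (centralizer_le_normalizer _))
  obtain ⟨T₁', hT₁'⟩ := hfull T₁
  rw [← hT₁'] at hPT₁ hT₁
  have hT₁L : (T₁' : Subgroup G) ≤ L := by rw [hT₁']; exact (map_subtype_le _).trans hWL
  have hVT₁ : V ≤ centralizer ((T₁' : Subgroup G) : Set G) := by
    obtain ⟨a, haR, hao⟩ := ScnUniqueness.exists_orderOf hRp (line_ne_bot hRc)
    have haR' : zpowers a = R := line_eq_of_mem hRc haR fun h => hr.out.ne_one (by rw [← hao, h, orderOf_one])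
    have h1 := commutator_centralizes hp2 hVc hao (haR'.le.trans hRV) (coprime_of_ne hrq.symm hVq)
      (coprime_of_ne hqp hVq) hrp T₁'.2 (le_sup_left.trans hT₁) ((haR'.le.trans le_sup_right).trans hT₁)
      (fun y hy hyp hya => by
        have h2 := fixed_mem_line hG hL hβ hrL hrr (hRL haR) hao
          (mem_centralizer_iff.mp (hRP haR) x hxP) hxo T₁'.2 hT₁L (hPT₁ hxP) y hy hyp hya
        rw [hPx] at h2
        exact le_centralizer_iff.mp hVP h2)
    rwa [haR', hVV] at h1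
  -- `N(V) ≤ L`
  obtain ⟨N, hN, hNV⟩ := exists_coatom_ge (MinSimpleTransitivity.normalizer_ne_top hG hV1
    (FittingUniqueness.ne_top_of_le_coatom hM hVM))
  have hT₁1 : (T₁' : Subgroup G) ≠ ⊥ := fun h0 => line_ne_bot hPc (le_bot_iff.mp (h0 ▸ hPT₁))
  have hT₁N : (T₁' : Subgroup G) ≤ N :=
    ((le_centralizer_iff.mp hVT₁).trans (centralizer_le_normalizer _)).trans hNV
  have hVN : normalizer (V : Set G) ≤ L := by
    by_cases hNe : N = L
    · exact hNe ▸ hNV
    obtain ⟨-, hr1⟩ := rank_one_of_ideal hG hL hN hNe hβ T₁'.2 hT₁1 hT₁L hT₁N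
    have h1 := pRankLE_one_of_sylow_cyclic (isSylowOf_coe T₁' hT₁L)
      (isCyclic_sylow_of_rank_one hG T₁'.2 hT₁N hr1)
    refine absurd ?_ hβ.1.2
    exact fun B hB hBe => (h1 B hB hBe).trans (Nat.pow_le_pow_right hp.out.pos one_le_two)
  by_cases hqL : q ∈ Cfsg.sigma L
  swap
  · exact other_core_false hG hM hL hne.symm hσ hqL hVq hV1 hVM hVN hpL hPp (line_ne_bot hPc) hPM hPL
  -- a full Sylow group of `M ⊓ L` centralized by `P`
  set K := Cfsg.sigmaCore M ⊓ L with hK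
  have hPK : P ≤ normalizer (K : Set G) := Cfsg.Lib.Coprime.le_normalizer_inf
    (hPM.trans (le_normalizer_sigmaCore M)) (hPL.trans le_normalizer)
  have hPKc : (Nat.card P).Coprime (Nat.card K) := coprime_card_of_disjoint fun t ht h1 h2 => hτ.2.1
    (eq_of_dvd_pgroup hPp ht h1 ▸ sigmaCore_isPi t ht (h2.trans (card_dvd_of_le inf_le_left)))
  obtain ⟨S₁, hVS, hPS⟩ := Cfsg.Lib.Coprime.exists_invariant_sylow_ge hPK hPKc
    (Or.inl (hG.2.2.2 _ (FittingUniqueness.ne_top_of_le_coatom hL hPL))) q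
    (le_inf (le_sigmaCore_of_pgroup hG hM hσ hVq hVM) hVL) hVq
    ((le_centralizer_iff.mp hVP).trans (centralizer_le_normalizer _))
  set S := (S₁ : Subgroup K).map K.subtype with hS
  have hSK : IsSylowOf q S (M ⊓ L) := ⟨(map_subtype_le _).trans (inf_le_inf_right _ (sigmaCore_le M)),
    S₁.2.map _, fun Y hY hYle hle => (isSylowOf_sylow S₁).2.2 Y hY
      (le_inf (le_sigmaCore_of_pgroup hG hM hσ hY (hYle.trans inf_le_left)) (hYle.trans inf_le_right)) hle⟩
  obtain ⟨hNS, hSL, -⟩ := sylow_inf hG hM hσ hVN hSK hVS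
  have hSM : S ≤ M := hSK.1.trans inf_le_left
  have hSp : IsPGroup q S := hSK.2.1
  have hSc : IsMulCommutative S := by
    by_contra hna
    exact hne ((nonabelian_unique hG hSp hna).unique ⟨hM, hSM⟩ ⟨hL, hSL.1⟩)
  have hPS' : P ≤ centralizer (S : Set G) := by
    rw [← commutator_eq_bot_iff_le_centralizer, ← le_bot_iff]
    refine (le_inf ?_ ?_).trans (Cfsg.Lib.Coprime.inf_eq_bot_of_coprime (N := S) (H := W) ?_).le
    · rw [commutator_comm]
      exact Cfsg.Lib.Coprime.commutator_le_of_le_normalizer hPS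
    · exact (commutator_mono (hpW P hPp hPL) le_rfl).trans
        (Cfsg.Lib.Coprime.commutator_le_of_le_normalizer (hSL.1.trans hLW))
    · exact coprime_card_of_disjoint fun t ht h1 h2 => hqβ (eq_of_dvd_pgroup hSp ht h1 ▸ hWπ t ht h2)
  -- a complement normalizing `S`
  set H := Cfsg.sigmaCore L with hH
  obtain ⟨E₀, hE₀⟩ := exists_complement hG hL
  obtain ⟨S₀, hE₀S⟩ := Cfsg.Lib.Coprime.exists_invariant_sylow
    (hE₀.1.trans (le_normalizer_sigmaCore L)) (coprime_complement hG hL hE₀).symm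
    (Or.inl (hG.2.2.2 _ (FittingUniqueness.ne_top_of_le_coatom hL hE₀.1))) q
  obtain ⟨m, hm, hmS⟩ := card_eq_of_sylowOf (isSylowOf_of_sigmaCore hG hL hqL S₀) hSL
  set E := conjMap m E₀ with hEdef
  have hE : Cfsg.IsComplIn E H L := isComplIn_conj hE₀ hm
  have hES : E ≤ normalizer (S : Set G) := by
    rw [← hmS, Cfsg.Lib.Coprime.normalizer_conjMap]
    exact Cfsg.Lib.Coprime.conjMap_mono hE₀S
  have hEM : E ≤ M := hES.trans hNS
  have hEσ : ∀ t : ℕ, t.Prime → t ∣ Nat.card E → t ∉ Cfsg.sigma L := fun t ht hd =>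
    not_sigma_of_dvd hG hL hE ht hd
  have hsolE : Group.IsSolvable E := hG.2.2.2 _ (FittingUniqueness.ne_top_of_le_coatom hL hE.1)
  -- a line centralized by `S` and `E`
  set K₂ := W ⊓ centralizer (S : Set G) with hK₂
  have hEW : (Nat.card E).Coprime (Nat.card W) := coprime_card_of_disjoint fun t ht h1 h2 =>
    hEσ t ht h1 (alpha_subset_sigma hG hL (hWπ t ht h2).1)
  obtain ⟨Z₀, hEZ⟩ := Cfsg.Lib.Coprime.exists_invariant_sylow (A := E) (K := K₂)
    (Cfsg.Lib.Coprime.le_normalizer_inf (hE.1.trans hLW) (hES.trans (FittingParts.normalizer_centralizer_le S)))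
    (hEW.coprime_dvd_right (card_dvd_of_le inf_le_left)) (Or.inl hsolE) p
  set Z := (Z₀ : Subgroup K₂).map K₂.subtype with hZ
  have hpK₂ : p ∣ Nat.card K₂ :=
    (dvd_of_eq hPc.symm).trans (card_dvd_of_le (le_inf (hpW P hPp hPL) hPS'))
  have hZ1 : Z ≠ ⊥ := by
    intro h0
    have h1 : p ∣ Nat.card (Z₀ : Subgroup K₂) := Z₀.dvd_card_of_dvd_card hpK₂
    rw [← card_map_of_injective K₂.subtype_injective (K := (Z₀ : Subgroup K₂)), ← hZ, h0, card_bot] at h1
    exact hp.out.not_dvd_one h1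
  have hZp : IsPGroup p Z := Z₀.2.map _
  have hZS : Z ≤ centralizer (S : Set G) := (map_subtype_le _).trans inf_le_right
  have hZM : Z ≤ M := (hZS.trans (centralizer_le_normalizer _)).trans hNS
  have hEZc : E ≤ centralizer (Z : Set G) := by
    rw [← commutator_eq_bot_iff_le_centralizer, commutator_comm]
    by_contra h1
    refine hτ.2.2.2.1 ((dvd_card_of_isPGroup ?_ h1).trans (card_dvd_of_le (commutator_mono hZM hEM)))
    exact hZp.to_le (Cfsg.Lib.Coprime.commutator_le_of_le_normalizer hEZ)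
  obtain ⟨z, hzZ, hzo⟩ := ScnUniqueness.exists_orderOf hZp hZ1
  have hzC : S ⊔ E ≤ centralizer (zpowers z : Set G) :=
    (sup_le (le_centralizer_iff.mp hZS) hEZc).trans (Subgroup.centralizer_le (zpowers_le.mpr hzZ))
  have hzW : z ∈ W := ((map_subtype_le _).trans inf_le_left : Z ≤ W) hzZ
  obtain ⟨T₂, hzT₂, hT₂⟩ := Cfsg.Lib.Coprime.exists_invariant_sylow_ge (A := S ⊔ E) (K := W)
    ((sup_le hSL.1 hE.1).trans hLW) (coprime_card_of_disjoint fun t ht h1 h2 => by
      rcases dvd_card_sup hES ht h1 with h | h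
      · exact hqβ (eq_of_dvd_pgroup hSp ht h ▸ hWπ t ht h2)
      · exact hEσ t ht h (alpha_subset_sigma hG hL (hWπ t ht h2).1))
    (Or.inl (hG.2.2.2 _ (FittingUniqueness.ne_top_of_le_coatom hL (sup_le hSL.1 hE.1)))) p
    (U := zpowers z) (zpowers_le.mpr hzW) (hZp.to_le (zpowers_le.mpr hzZ))
    (hzC.trans (centralizer_le_normalizer _))
  obtain ⟨T, hT⟩ := hfull T₂
  rw [← hT] at hzT₂ hT₂
  have hTL : (T : Subgroup G) ≤ L := by rw [hT]; exact (map_subtype_le _).trans hWL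
  set C := centralizer ((T : Subgroup G) : Set G) with hC
  have hSC : S ≤ normalizer (C : Set G) :=
    (le_sup_left.trans hT₂).trans (FittingParts.normalizer_centralizer_le _)
  have hEC : E ≤ normalizer (C : Set G) :=
    (le_sup_right.trans hT₂).trans (FittingParts.normalizer_centralizer_le _)
  -- `[S, E]` centralizes `T`
  let Y : Subgroup G :=
    { carrier := {e | e ∈ E ∧ ∀ s ∈ S, ⁅s, e⁆ ∈ C}
      one_mem' := ⟨one_mem _, fun s _ => by simp⟩
      mul_mem' := fun {e f} he hf => ⟨mul_mem he.1 hf.1, fun s hs => by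
        rw [show ⁅s, e * f⁆ = ⁅s, e⁆ * (e * ⁅s, f⁆ * e⁻¹) by simp only [commutatorElement_def]; group]
        exact mul_mem (he.2 s hs) ((mem_normalizer_iff.mp (hEC he.1) _).mp (hf.2 s hs))⟩
      inv_mem' := fun {e} he => ⟨inv_mem he.1, fun s hs => by
        rw [show ⁅s, e⁻¹⁆ = e⁻¹ * (⁅s, e⁆)⁻¹ * e⁻¹⁻¹ by simp only [commutatorElement_def]; group]
        exact (mem_normalizer_iff.mp (hEC (inv_mem he.1)) _).mp (inv_mem (he.2 s hs))⟩ }
  have hEY : E ≤ Y := by
    refine Cfsg.Lib.Coprime.le_of_forall_sylow fun t ht => ?_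
    haveI := Fact.mk ht
    obtain ⟨Et⟩ : Nonempty (Sylow t E) := inferInstance
    refine ⟨Et, fun a haT => ⟨(map_subtype_le _) haT, fun s hs => ?_⟩⟩
    by_cases ha1 : a = 1
    · rw [ha1]; simp
    have htE : t ∣ Nat.card E := (dvd_card_of_isPGroup (Et.2.map E.subtype) fun h0 =>
      ha1 (mem_bot.mp (h0 ▸ haT))).trans (card_dvd_of_le (map_subtype_le _))
    have htL := hEσ t ht htE
    have hts : IsSylowOf t ((Et : Subgroup E).map E.subtype) L := isSylowOf_complement hG hL hE htL Et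
    have htr : Cfsg.PRankLE t 1 L := by
      by_contra h1
      obtain ⟨B, hBE, hB, hBc⟩ := exists_sq_complement hG hL hE ⟨ht, htL, pRankLE_of_not_sigma hG hL htL, h1⟩
      obtain ⟨B₀, hx⟩ := exists_exc hG hL htL (hBE.trans hE.1) hB hBc
      obtain ⟨g, hg⟩ := conj_of_nilpotent_left hG hM hL (hx.nilpotent hG) hσ hqL
      exact not_conj_of_tau_one hG hM hτ hL hPc hNL g hg
    have htp : t ≠ p := fun e => htL (e ▸ hpL)
    have htq : t ≠ q := fun e => htL (e ▸ hqL)
    have hcyc := isCyclic_sylow_of_rank_one hG hts.2.1 hts.1 htr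
    obtain ⟨a', ha', ha'o⟩ := ScnUniqueness.exists_orderOf (hts.2.1.to_le (zpowers_le.mpr haT))
      fun h0 => ha1 (zpowers_eq_bot.mp h0)
    have ha'E : zpowers a' ≤ E := zpowers_le.mpr ((map_subtype_le _) (zpowers_le.mpr haT ha'))
    have ha'1 : a' ≠ 1 := fun h => ht.ne_one (by rw [← ha'o, h, orderOf_one])
    have hfix : H ⊓ centralizer ({a'} : Set G) = H ⊓ centralizer ({a} : Set G) := by
      rw [prime_action hG hL htL hts hcyc (zpowers_le.mpr haT ha') ha'1, prime_action hG hL htL hts hcyc haT ha1]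
    haveI := hSc
    obtain ⟨-, hsup⟩ := Cfsg.Lib.Coprime.abelian_coprime_decomp (A := zpowers a') (V := S) (ha'E.trans hES)
      (by rw [Nat.card_zpowers, ha'o]; exact (coprime_of_ne htq.symm hSp).symm)
    have hD : ⁅S, zpowers a'⁆ ≤ C := by
      refine commutator_centralizes hp2 hSc ha'o (ha'E.trans hES) (coprime_of_ne htq.symm hSp)
        (coprime_of_ne hqp hSp) htp T.2 (le_sup_left.trans hT₂)
        ((ha'E.trans le_sup_right).trans hT₂) fun y hy hyp hya => ?_
      refine zpowers_le.mpr (hZS hzZ) (fixed_mem_line hG hL hβ htL htr (hE.1 (ha'E (mem_zpowers a'))) ha'o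
        ?_ hzo T.2 hTL (hzT₂ (mem_zpowers z)) y hy hyp hya)
      exact mem_centralizer_iff.mp (hEZc (ha'E (mem_zpowers a'))) z hzZ
    have hDa : a ∈ normalizer ((⁅S, zpowers a'⁆ : Subgroup G) : Set G) := by
      refine Cfsg.Lib.Coprime.conjMap_eq_self_iff.mp ?_
      show (⁅S, zpowers a'⁆).map (MulAut.conj a).toMonoidHom = _
      rw [Subgroup.map_commutator]
      refine congrArg₂ _ (Cfsg.Lib.Coprime.conjMap_eq_self (hES ((map_subtype_le _) haT))) ?_
      refine Cfsg.Lib.Coprime.conjMap_eq_self (centralizer_le_normalizer _ ?_)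
      refine mem_centralizer_iff.mpr fun b hb => ?_
      obtain ⟨i, rfl⟩ := mem_zpowers_iff.mp (zpowers_le.mpr ha' hb : b ∈ zpowers a)
      exact ((Commute.refl a).zpow_left i).eq
    have hn : ⁅S, zpowers a'⁆ ≤ normalizer ((S ⊓ centralizer (zpowers a' : Set G) : Subgroup G) : Set G) :=
      fun y hy => centralizer_le_normalizer _ (mem_centralizer_iff.mpr fun w (hw : w ∈ S ⊓ _) =>
        ThompsonTransitivity.mul_comm_of hSc hw.1
          (Cfsg.Lib.Coprime.commutator_le_of_le_normalizer (ha'E.trans hES) hy))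
    obtain ⟨c, hc, d, hd, rfl⟩ := (Cfsg.Lib.Coprime.mem_sup_of_le_normalizer hn).mp (hsup.ge hs)
    have hca : c ∈ centralizer ({a} : Set G) := (hfix.le ⟨le_sigmaCore_of_pgroup hG hL hqL hSp hSL.1 hc.1,
      by rw [← Cfsg.Lib.Coprime.centralizer_zpowers]; exact hc.2⟩).2
    rw [show ⁅c * d, a⁆ = c * ⁅d, a⁆ * c⁻¹ * ⁅c, a⁆ by simp only [commutatorElement_def]; group,
      commutatorElement_eq_one_iff_mul_comm.mpr (mem_centralizer_singleton_iff.mp hca), mul_one]
    refine (mem_normalizer_iff.mp (hSC hc.1) _).mp (hD ?_)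
    rw [commutatorElement_def, mul_assoc, mul_assoc, ← mul_assoc a]
    exact mul_mem hd ((mem_normalizer_iff.mp hDa _).mp (inv_mem hd))
  have hSE : ⁅S, E⁆ ≤ C := by
    rw [commutator_le]
    exact fun s hs e he => (hEY he).2 s hs
  -- `[S, E] = S`
  set K₁ := Op q H with hK₁
  have hH' : H ≤ ⁅L, L⁆ := sigmaCore_le_derived hG hL
  have hSH : S ≤ H := le_sigmaCore_of_pgroup hG hL hqL hSp hSL.1
  have hpn : PNil q H := pnil_of_le_derived hG hL hqL.2.1 hqβ hH'
  have hLK₁ : L ≤ normalizer (K₁ : Set G) :=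
    (le_normalizer_sigmaCore L).trans (PiCoreOf.normalizer_le _ _)
  have hcov : H ≤ K₁ ⊔ S := by
    refine Cfsg.Lib.Coprime.le_of_forall_sylow fun t ht => ?_
    haveI := Fact.mk ht
    by_cases htq : t = q
    · subst htq
      obtain ⟨S', hS'⟩ := (show IsSylowOf t S H from
        ⟨hSH, hSp, fun Y hY hYH hle => hSL.2.2 Y hY (hYH.trans (sigmaCore_le L)) hle⟩).exists_sylow
      exact ⟨S', hS'.le.trans le_sup_right⟩
    · obtain ⟨S'⟩ : Nonempty (Sylow t H) := inferInstance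
      refine ⟨S', ?_⟩
      rintro _ ⟨y, hy, rfl⟩
      refine mem_sup_left ?_
      rw [hK₁, Op_eq]
      refine mem_map_of_mem _ (hpn y ?_)
      obtain ⟨j, hj⟩ := IsPGroup.iff_card.mp (S'.2.to_le (zpowers_le.mpr hy))
      rw [← Nat.card_zpowers, hj]
      exact ((Nat.coprime_primes ht hq.out).mpr htq).pow_left j
  set D := ⁅S, E⁆ with hD
  have hDS : D ≤ S := Cfsg.Lib.Coprime.commutator_le_of_le_normalizer hES
  have hHE : H ≤ K₁ ⊔ D := by
    refine le_trans (commutator_complement hG hL hE).ge ?_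
    rw [commutator_le]
    intro y hy e he
    obtain ⟨k, hk, s, hs, rfl⟩ := (Cfsg.Lib.Coprime.mem_sup_of_le_normalizer (hSL.1.trans hLK₁)).mp (hcov hy)
    rw [show ⁅k * s, e⁆ = k * ⁅s, e⁆ * k⁻¹ * ⁅k, e⁆ by simp only [commutatorElement_def]; group]
    refine mul_mem (mul_mem (mul_mem (mem_sup_left hk) (mem_sup_right (commutator_mem_commutator hs he)))
      (inv_mem (mem_sup_left hk))) (mem_sup_left ?_)
    exact Cfsg.Lib.Coprime.commutator_le_of_le_normalizer (hE.1.trans hLK₁) (commutator_mem_commutator hk he)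
  have hST : S ≤ C := by
    refine fun s hs => hSE ?_
    obtain ⟨k, hk, d, hd, hkd⟩ :=
      (Cfsg.Lib.Coprime.mem_sup_of_le_normalizer ((hDS.trans hSL.1).trans hLK₁)).mp (hHE (hSH hs))
    have hk1 : k = 1 := Cfsg.Lib.Coprime.eq_one_of_coprime (N := K₁) (H := S) (coprime_card_of_disjoint
      fun t ht h1 h2 => ht.not_dvd_one ((Nat.dvd_gcd h1 (dvd_of_eq (eq_of_dvd_pgroup hSp ht h2))).trans
        (dvd_of_eq (coprime_Op H)))) hk (by
      rw [show k = s * d⁻¹ by rw [← hkd, mul_inv_cancel_right]]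
      exact mul_mem hs (inv_mem (hDS hd)))
    rwa [← hkd, hk1, one_mul]
  obtain ⟨S', hS'⟩ := exists_sylow_eq hqL hSL
  exact centralized_sylows_false hG hM hτ hσ T S' (hS' ▸ le_centralizer_iff.mp hST)

end Cfsg.Lib.OddLocal.RankTwoMax
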