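import Cfsg.Agent.OddLocal.TauOne

/-!
# Uniqueness of centralizers dual to `τ₁`
-/

set_option linter.unusedSectionVars false
set_option linter.unusedVariables false
set_option linter.style.haveILetI false

namespace Cfsg.Lib.OddLocal.RankTwoMax

open Subgroup Uniqueness Sigma
open Cfsg.Lib.Coprime (conjMap)
open scoped commutatorElement

universe u

variable {G : Type u} [Group G] [Finite G] {M L N P Q E : Subgroup G} {p q : ℕ} [hp : Fact p.Prime]
  [hq : Fact q.Prime]

/-- An element of prime order of a rank one prime dividing the derived order is in the derived group. -/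
theorem le_derived_of_rank_one (hG : Cfsg.IsMinSimpleOddOrder G) (hM : IsCoatom M)
    (hr : Cfsg.PRankLE q 1 M) (hd : q ∣ Nat.card ↥⁅M, M⁆) {X : Subgroup G} (hX : Nat.card X = q) (hXM : X ≤ M) :
    X ≤ ⁅M, M⁆ := by
  obtain ⟨y, hy⟩ := exists_prime_orderOf_dvd_card' q hd
  have hyc : Nat.card (zpowers (y : G)) = q := by rw [Nat.card_zpowers, orderOf_coe, hy]
  obtain ⟨S, hS, hXS⟩ := exists_sylowOf (isPGroup_of_card hX) hXM
  obtain ⟨S', hS', hyS⟩ := exists_sylowOf (isPGroup_of_card hyc)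
    (zpowers_le.mpr (commutator_le_self M y.2))
  obtain ⟨m, hm, hmS⟩ := card_eq_of_sylowOf hS' hS
  have hcyc := isCyclic_sylow_of_rank_one hG hS.2.1 hS.1 hr
  rw [eq_of_cyclic hcyc hXS ((Cfsg.Lib.Coprime.conjMap_mono hyS).trans hmS.le)
    (by rw [Cfsg.Lib.Coprime.card_conjMap, hX, hyc])]
  exact (Cfsg.Lib.Coprime.conjMap_mono (zpowers_le.mpr y.2)).trans
    (Cfsg.Lib.Coprime.conjMap_eq_self (commutator_normal M hm)).le

/-- For `q ∈ τ₁(N)` a complement is generated by its derived group and the centralizer of a `q`-line. -/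
theorem complement_le_sup (hG : Cfsg.IsMinSimpleOddOrder G) (hN : IsCoatom N) (hτ : q ∈ Cfsg.tau1 N)
    (hE : Cfsg.IsComplIn E (Cfsg.sigmaCore N) N) (hQE : Q ≤ E) (hQc : Nat.card Q = q) :
    E ≤ ⁅E, E⁆ ⊔ (E ⊓ centralizer (Q : Set G)) := by
  intro e he
  set D := ⁅E, E⁆ with hD
  have hDE : D ≤ E := commutator_le_self E
  have hED : E ≤ normalizer (D : Set G) := commutator_normal E
  have hQD : Q ≤ normalizer (D : Set G) := hQE.trans hED
  have hqD : (Nat.card D).Coprime q := (hq.out.coprime_iff_not_dvd.mpr fun hd => hτ.2.2.2.1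
    (hd.trans (card_dvd_of_le (commutator_mono hE.1 hE.1)))).symm
  have hXE : D ⊔ Q ≤ E := sup_le hDE hQE
  have hXn : conjMap e Q ≤ D ⊔ Q := by
    rintro _ ⟨y, hy, rfl⟩
    show e * y * e⁻¹ ∈ D ⊔ Q
    rw [show e * y * e⁻¹ = ⁅e, y⁆ * y by simp only [commutatorElement_def]; group]
    exact mul_mem (mem_sup_left (commutator_mem_commutator he (hQE hy))) (mem_sup_right hy)
  have hcard : Nat.card ↥(D ⊔ Q) = Nat.card D * q := by
    have h1 := Cfsg.Lib.Coprime.card_sup_mul_card_inf (N := D) (H := Q) hQD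
    rwa [Cfsg.Lib.Coprime.inf_eq_bot_of_coprime (by rw [hQc]; exact hqD), card_bot, mul_one, hQc] at h1
  have hsyl : ∀ Y : Subgroup G, Nat.card Y = q → Y ≤ D ⊔ Q → IsSylowOf q Y (D ⊔ Q) := by
    refine fun Y hYc hY => ⟨hY, isPGroup_of_card hYc, fun Z hZ hZX hle => (eq_of_le_of_card_ge hle ?_).symm⟩
    obtain ⟨j, hj⟩ := IsPGroup.iff_card.mp hZ
    rw [hYc]
    refine Nat.le_of_dvd hq.out.pos (Nat.Coprime.dvd_of_dvd_mul_left ?_ (hcard ▸ card_dvd_of_le hZX))
    rw [hj]
    exact (hqD.pow_right j).symm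
  obtain ⟨f, hf, hfQ⟩ := card_eq_of_sylowOf (hsyl Q hQc le_sup_right)
    (hsyl _ (by rw [Cfsg.Lib.Coprime.card_conjMap, hQc]) hXn)
  set n := f⁻¹ * e with hn
  have hnE : n ∈ E := mul_mem (inv_mem (hXE hf)) he
  have hnQ : n ∈ normalizer (Q : Set G) := Cfsg.Lib.Coprime.conjMap_eq_self_iff.mp (by
    rw [hn, ← Cfsg.Lib.Coprime.conjMap_mul, ← hfQ, Cfsg.Lib.Coprime.conjMap_inv_conjMap])
  have hnC : n ∈ centralizer (Q : Set G) := by
    refine mem_centralizer_iff.mpr fun y hy => ?_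
    have h1 : ⁅n, y⁆ = 1 := Cfsg.Lib.Coprime.eq_one_of_coprime (N := D) (H := Q) (by rw [hQc]; exact hqD)
      (commutator_mem_commutator hnE (hQE hy)) (by
        rw [commutatorElement_def]
        exact mul_mem ((mem_normalizer_iff.mp hnQ y).mp hy) (inv_mem hy))
    exact (commutatorElement_eq_one_iff_mul_comm.mp h1).symm
  obtain ⟨d, hd, y, hy, rfl⟩ := (Cfsg.Lib.Coprime.mem_sup_of_le_normalizer hQD).mp hf
  have hyC : y ∈ E ⊓ centralizer (Q : Set G) := ⟨hQE hy, mem_centralizer_iff.mpr fun w hw => by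
    haveI : IsCyclic Q := isCyclic_of_prime_card hQc
    exact ThompsonTransitivity.mul_comm_of inferInstance hw hy⟩
  rw [show e = d * y * n by rw [hn]; group]
  exact mul_mem (mul_mem (mem_sup_left hd) (mem_sup_right hyC)) (mem_sup_right ⟨hnE, hnC⟩)

/-- A line of `N_σ` centralized by a `τ₁(N)` element lies in `N_σ'`. -/
theorem tau_one_derived (hG : Cfsg.IsMinSimpleOddOrder G) (hN : IsCoatom N) (hτ : q ∈ Cfsg.tau1 N)
    (hQc : Nat.card Q = q) (hQN : Q ≤ N) (hPc : Nat.card P = p) (hP : P ≤ Cfsg.sigmaCore N)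
    (hQP : Q ≤ centralizer (P : Set G)) (hβ : p ∉ Cfsg.beta N) :
    P ≤ ⁅Cfsg.sigmaCore N, Cfsg.sigmaCore N⁆ := by
  have hPp : IsPGroup p P := isPGroup_of_card hPc
  have hpσ : p ∈ Cfsg.sigma N := sigmaCore_isPi p hp.out ((dvd_of_eq hPc.symm).trans (card_dvd_of_le hP))
  have hqp : q ≠ p := fun e => hτ.2.1 (e ▸ hpσ)
  obtain ⟨E, hE, hQE⟩ := exists_complement_ge hG hN hQN fun t ht hd => by
    rw [hQc, Nat.prime_dvd_prime_iff_eq ht hq.out] at hd
    exact hd ▸ hτ.2.1
  set H := Cfsg.sigmaCore N with hH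
  have hEH : E ≤ normalizer (H : Set G) := hE.1.trans (le_normalizer_sigmaCore N)
  have hcop := coprime_complement hG hN hE
  have hsolE : Group.IsSolvable E := hG.2.2.2 E (FittingUniqueness.ne_top_of_le_coatom hN hE.1)
  have hsolQ : Group.IsSolvable Q := hG.2.2.2 Q (FittingUniqueness.ne_top_of_le_coatom hN hQN)
  obtain ⟨T₀, hET⟩ := Cfsg.Lib.Coprime.exists_invariant_sylow hEH hcop.symm (Or.inl hsolE) p
  set T := (T₀ : Subgroup H).map H.subtype with hT
  have hQcop : (Nat.card Q).Coprime (Nat.card H) := hcop.symm.coprime_dvd_left (card_dvd_of_le hQE)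
  obtain ⟨T₁, hPT₁, hQT₁⟩ := Cfsg.Lib.Coprime.exists_invariant_sylow_ge (hQE.trans hEH) hQcop (Or.inl hsolQ)
    p hP hPp (hQP.trans (centralizer_le_normalizer _))
  obtain ⟨c, hcQ, hcT⟩ := Cfsg.Lib.Coprime.invariant_sylow_conj (hQE.trans hEH) hQcop (Or.inl hsolQ) p T₁ T₀
    hQT₁ (hQE.trans hET)
  set P' := conjMap (c : G) P with hP'
  have hP'T : P' ≤ T := by
    rw [hT, ← hcT, Cfsg.Lib.Coprime.map_subtype_smul]
    exact Cfsg.Lib.Coprime.conjMap_mono hPT₁
  have hTN : T ≤ N := (map_subtype_le _).trans (sigmaCore_le N)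
  have hTp : IsPGroup p T := T₀.2.map _
  have hP'H : P' ≤ H := hP'T.trans (map_subtype_le _)
  -- `E'` centralizes `T`
  have hDT : ⁅E, E⁆ ≤ centralizer (T : Set G) := by
    refine centralizes_of_derived hG hN hβ (sylow_le_derived' hG hN hpσ hTp hTN) (commutator_mono hE.1 hE.1)
      hTp ?_ ((commutator_le_self E).trans hET)
    exact (hp.out.coprime_iff_not_dvd.mpr fun hd => not_sigma_of_dvd hG hN hE hp.out
      (hd.trans (card_dvd_of_le (commutator_le_self E))) hpσ).symm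
  have hDP : ⁅E, E⁆ ≤ centralizer (P' : Set G) := hDT.trans (Subgroup.centralizer_le hP'T)
  -- the fixed points of `Q`
  set K := H ⊓ centralizer (Q : Set G) with hK
  have hP'K : P' ≤ K := by
    rintro _ ⟨y, hy, rfl⟩
    exact ⟨hP'H (mem_map_of_mem _ hy),
      Subgroup.mul_mem _ (Subgroup.mul_mem _ hcQ (le_centralizer_iff.mp hQP hy)) (Subgroup.inv_mem _ hcQ)⟩
  -- lines of `C_E(Q)` fix `K`
  have hline : ∀ a ∈ E ⊓ centralizer (Q : Set G), (orderOf a).Prime → K ≤ centralizer ({a} : Set G) := by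
    intro a ha hao
    have h1 := tau_one_centralizer hG hN hE hτ hQE hQc (R := zpowers a) (zpowers_le.mpr ha)
      (by rwa [Nat.card_zpowers])
    rw [← Cfsg.Lib.Coprime.centralizer_zpowers]
    exact h1.trans inf_le_right
  have hEP : E ≤ centralizer (P' : Set G) := by
    refine (complement_le_sup hG hN hτ hE hQE hQc).trans (sup_le hDP ?_)
    set C := E ⊓ centralizer (Q : Set G) with hC
    refine Cfsg.Lib.Coprime.le_of_forall_sylow fun t ht => ?_
    haveI := Fact.mk ht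
    obtain ⟨Ct⟩ : Nonempty (Sylow t C) := inferInstance
    refine ⟨Ct, fun a haT => ?_⟩
    by_cases ha1 : a = 1
    · rw [ha1]; exact one_mem _
    have haC : a ∈ C := map_subtype_le _ haT
    obtain ⟨a', ha', ha'o⟩ := ScnUniqueness.exists_orderOf ((Ct.2.map C.subtype).to_le (zpowers_le.mpr haT))
      fun h0 => ha1 (zpowers_eq_bot.mp h0)
    have ha'C : a' ∈ C := zpowers_le.mpr haC ha'
    have ha'1 : a' ≠ 1 := fun h => ht.ne_one (by rw [← ha'o, h, orderOf_one])
    have htE : t ∣ Nat.card E := by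
      rw [← ha'o, ← Nat.card_zpowers]
      exact card_dvd_of_le (zpowers_le.mpr ha'C.1)
    have htN := not_sigma_of_dvd hG hN hE ht htE
    by_cases htr : Cfsg.PRankLE t 1 N
    · obtain ⟨S, hS, haS⟩ := exists_sylowOf ((Ct.2.map C.subtype).to_le (zpowers_le.mpr haT))
        (zpowers_le.mpr (hE.1 haC.1) : zpowers a ≤ N)
      have hcyc := isCyclic_sylow_of_rank_one hG hS.2.1 hS.1 htr
      have h1 := prime_action hG hN htN hS hcyc (haS ha') ha'1
      refine mem_centralizer_iff.mpr fun y hy => ?_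
      have h2 := h1.le ⟨(hP'K hy).1, hline a' ha'C (ha'o ▸ ht) (hP'K hy)⟩
      exact (mem_centralizer_iff.mp h2.2 a (haS (mem_zpowers a))).symm
    · obtain ⟨B, hBE, hB, hBc⟩ := exists_sq_complement hG hN hE ⟨ht, htN, pRankLE_of_not_sigma hG hN htN, htr⟩
      obtain ⟨B₀, hx⟩ := exists_exc hG hN htN (hBE.trans hE.1) hB hBc
      have hQB : Q ≤ normalizer (B : Set G) := hQE.trans (hx.le_normalizer hG hE hBE)
      have htq : t ≠ q := fun e => htr (e ▸ hτ.2.2.2.2)
      haveI := hB.1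
      obtain ⟨-, hsup⟩ := Cfsg.Lib.Coprime.abelian_coprime_decomp hQB
        (by rw [hQc, hBc]; exact ((Nat.coprime_primes hq.out ht).mpr htq.symm).pow_right 2)
      have hBP : B ≤ centralizer (P' : Set G) := by
        rw [← hsup]
        refine sup_le (fun b hb => ?_) ((commutator_mono hBE hQE).trans hDP)
        by_cases hb1 : b = 1
        · rw [hb1]; exact one_mem _
        refine mem_centralizer_iff.mpr fun y hy => mem_centralizer_singleton_iff.mp
          (hline b ⟨hBE hb.1, hb.2⟩ ?_ (hP'K hy))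
        rw [orderOf_eq_prime (hB.2 b hb.1) hb1]
        exact ht
      refine absurd ((le_inf hP'H (le_centralizer_iff.mp hBP)).trans (hx.inf_centralizer_eq_bot hG).le)
        fun h0 => line_ne_bot (p := p) (X := P') ?_ (le_bot_iff.mp h0)
      rw [hP', Cfsg.Lib.Coprime.card_conjMap, hPc]
  have h2 := (le_inf hP'H (le_centralizer_iff.mp hEP)).trans (inf_centralizer_complement hG hN hE)
  intro y hy
  have h3 := h2 (mem_map_of_mem (MulAut.conj (c : G)).toMonoidHom hy)
  exact (mem_normalizer_iff.mp (commutator_normal H c.2) y).mpr h3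

/-- A line of `N_σ` centralized by a `τ₁(N)` element has its centralizer uniquely in `N`. -/
theorem tau_one_unique (hG : Cfsg.IsMinSimpleOddOrder G) (hN : IsCoatom N) (hτ : q ∈ Cfsg.tau1 N)
    (hQc : Nat.card Q = q) (hQN : Q ≤ N) (hPc : Nat.card P = p) (hP : P ≤ Cfsg.sigmaCore N)
    (hQP : Q ≤ centralizer (P : Set G)) :
    centralizer (P : Set G) ≤ N ∧ ∀ L : Subgroup G, IsCoatom L → centralizer (P : Set G) ≤ L → L = N := by
  obtain ⟨S⟩ : Nonempty (Sylow p ↥(Cfsg.sigmaCore N)) := inferInstance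
  exact (sigma_order_p_theorem hG hN (sigmaCore_isPi p hp.out ((dvd_of_eq hPc.symm).trans (card_dvd_of_le hP)))
    (hP.trans (sigmaCore_le N)) hPc S
    (Classical.em _ |>.imp id fun h => tau_one_derived hG hN hτ hQc hQN hPc hP hQP h)).1

/-- A maximal subgroup over `N(P)`, for a nonregular `P` of order in `τ₁(M)`, has `p` in `σ`. -/
theorem sigma_of_fixed (hG : Cfsg.IsMinSimpleOddOrder G) (hM : IsCoatom M) (hτ : p ∈ Cfsg.tau1 M)
    (hPc : Nat.card P = p) (hPM : P ≤ M) {x : G} (hx : x ∈ Cfsg.sigmaCore M) (hxo : orderOf x = q)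
    (hxP : x ∈ centralizer (P : Set G)) (hL : IsCoatom L) (hNL : normalizer (P : Set G) ≤ L) :
    p ∈ Cfsg.sigma L := by
  by_contra hpL
  set X := zpowers x with hX
  have hXc : Nat.card X = q := by rw [hX, Nat.card_zpowers, hxo]
  have hXq : IsPGroup q X := isPGroup_of_card hXc
  have hXM : X ≤ M := zpowers_le.mpr (sigmaCore_le M hx)
  have hXP : X ≤ centralizer (P : Set G) := zpowers_le.mpr hxP
  have hσ : q ∈ Cfsg.sigma M :=
    sigmaCore_isPi q hq.out ((dvd_of_eq hXc.symm).trans (card_dvd_of_le (zpowers_le.mpr hx)))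
  have hqp : q ≠ p := fun e => hτ.2.1 (e ▸ hσ)
  have hr1M : Cfsg.PRankLE p 1 M := hτ.2.2.2.2
  have hPp : IsPGroup p P := isPGroup_of_card hPc
  have hPL : P ≤ L := le_normalizer.trans hNL
  have hXL : X ≤ L := hXP.trans ((centralizer_le_normalizer _).trans hNL)
  have hτL : p ∈ Cfsg.tau2 L :=
    ⟨hp.out, hpL, pRankLE_of_not_sigma hG hL hpL, (exists_sq_ge hG hL hpL hPc hNL).1⟩
  have hqL : q ∉ Cfsg.sigma L := fun h => by
    obtain ⟨E₀, hE₀⟩ := exists_complement hG hL
    obtain ⟨A₀, hA₀E, hA₀, hA₀c⟩ := exists_sq_complement hG hL hE₀ hτL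
    obtain ⟨A₁, hy⟩ := exists_exc hG hL hpL (hA₀E.trans hE₀.1) hA₀ hA₀c
    obtain ⟨g, hg⟩ := conj_of_nilpotent_left hG hM hL (hy.nilpotent hG) hσ h
    exact not_conj_of_tau_one hG hM hτ hL hPc hNL g hg
  have hPX : P ≤ normalizer (X : Set G) :=
    (le_centralizer_iff.mp hXP).trans (centralizer_le_normalizer _)
  obtain ⟨E, hE, hle⟩ := exists_complement_ge hG hL (X := X ⊔ P) (sup_le hXL hPL) fun t ht hd => by
    rcases dvd_card_sup hPX ht hd with h | h
    · exact eq_of_dvd_pgroup hXq ht h ▸ hqL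
    · exact eq_of_dvd_pgroup hPp ht h ▸ hpL
  obtain ⟨A, hAE, hA, hAc⟩ := exists_sq_complement hG hL hE hτL
  obtain ⟨A₀, hexc⟩ := exists_exc hG hL hpL (hAE.trans hE.1) hA hAc
  have hsq := hexc.maxSq hG
  have hPA : P ≤ A := hexc.order_p_le hG hE hAE (le_sup_right.trans hle) hPc
  have hXA : X ≤ normalizer (A : Set G) := (le_sup_left.trans hle).trans (hexc.le_normalizer hG hE hAE)
  by_cases hfix : X ≤ centralizer (A : Set G)
  · obtain ⟨N, hN, hNX⟩ := exists_coatom_ge (MinSimpleTransitivity.normalizer_ne_top hG (line_ne_bot hXc)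
      (FittingUniqueness.ne_top_of_le_coatom hM hXM))
    have hAN : A ≤ N := ((le_centralizer_iff.mp hfix).trans (centralizer_le_normalizer _)).trans hNX
    have hneM : N ≠ M := fun e => not_le_of_rank_one hr1M hA hAc (e ▸ hAN)
    have hXN : X ≤ N := le_normalizer.trans hNX
    by_cases hqN : q ∈ Cfsg.sigma N
    · by_cases hpN : p ∈ Cfsg.sigma N
      · exact sigma_pair_false hG hM hτ hσ hN hpN hqN (hsq.not_beta N)
          fun h => hneM.symm (eq_of_beta hG hM hN hσ h hXq (line_ne_bot hXc) hXM hXN)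
      obtain ⟨A₂, hy⟩ := exists_exc hG hN hpN hAN hA hAc
      exact line_ne_bot hXc (le_bot_iff.mp ((le_inf (le_sigmaCore_of_pgroup hG hN hqN hXq hXN) hfix).trans
        (hy.inf_centralizer_eq_bot hG).le))
    by_cases hpN : p ∈ Cfsg.sigma N
    · exact other_core_false hG hM hN hneM hσ hqN hXq (line_ne_bot hXc) hXM hNX hpN hPp (line_ne_bot hPc) hPM
        (hPA.trans hAN)
    obtain ⟨-, -, E', hE', hE'M⟩ := tau_two_other hG hM hN hσ hqN hXq (line_ne_bot hXc) hXM hNX
    obtain ⟨m, -, hm⟩ := conj_le_complement hG hN hE' hpN hsq.isPGroup hAN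
    exact not_le_of_rank_one hr1M (Cfsg.Lib.OddP.isElementaryAbelian_map hA _)
      (by rw [Cfsg.Lib.Coprime.card_conjMap, hAc]) (hm.trans hE'M)
  -- `x` moves `A`
  obtain ⟨N, hN, hNA⟩ := exists_coatom_ge (MinSimpleTransitivity.normalizer_ne_top hG hsq.ne_bot
    (FittingUniqueness.ne_top_of_le_coatom hL (hAE.trans hE.1)))
  have hAN : A ≤ N := le_normalizer.trans hNA
  have hpN : p ∈ Cfsg.sigma N := by
    by_contra h
    obtain ⟨F, hF, hAF⟩ := exists_complement_ge hG hN hAN fun t ht hd =>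
      eq_of_dvd_pgroup hsq.isPGroup ht hd ▸ h
    exact (tau_two_complement hG hN h hF hAF hA hAc).2.1.2.2 hNA
  have hXN : X ≤ N := hXA.trans hNA
  have hneM : N ≠ M := fun e => not_le_of_rank_one hr1M hA hAc (e ▸ hAN)
  have hPN : P ≤ Cfsg.sigmaCore N := le_sigmaCore_of_pgroup hG hN hpN hPp (hPA.trans hAN)
  have hXd : ¬ X ≤ ⁅N, N⁆ := fun h => hfix (centralizes_of_derived hG hN (hsq.not_beta N)
    (sylow_le_derived' hG hN hpN hsq.isPGroup hAN) h hsq.isPGroup (coprime_of_ne hqp hXq) hXA)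
  have hqN : q ∉ Cfsg.sigma N := fun h => hXd (sylow_le_derived' hG hN h hXq hXN)
  by_cases hqr : Cfsg.PRankLE q 1 N
  · have hτN : q ∈ Cfsg.tau1 N := ⟨hq.out, hqN,
      (dvd_of_eq hXc.symm).trans (card_dvd_of_le hXN), fun hd => hXd (le_derived_of_rank_one hG hN hqr hd hXc hXN),
      hqr⟩
    obtain ⟨-, huniq⟩ := tau_one_unique hG hN hτN hXc hXN hPc hPN hXP
    exact hpL (huniq L hL ((centralizer_le_normalizer _).trans hNL) ▸ hpN)
  obtain ⟨z, hz, hzo⟩ := ScnUniqueness.exists_orderOf hPp (line_ne_bot hPc)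
  obtain ⟨-, huniq⟩ := unique_centralizer_of_tau_two hG hN (hXN (mem_zpowers x))
    (fun h => hq.out.ne_one (by rw [← hxo, h, orderOf_one]))
    (fun t ht hd => by
      rw [hxo, Nat.prime_dvd_prime_iff_eq ht hq.out] at hd
      exact hd ▸ ⟨hq.out, hqN, pRankLE_of_not_sigma hG hN hqN, hqr⟩)
    (hPN hz) (fun h => hp.out.ne_one (by rw [← hzo, h, orderOf_one])) (mem_centralizer_iff.mp hxP z hz).symm
  obtain ⟨N', hN', hNX⟩ := exists_coatom_ge (MinSimpleTransitivity.normalizer_ne_top hG (line_ne_bot hXc)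
    (FittingUniqueness.ne_top_of_le_coatom hM hXM))
  have hN'N : N' = N := huniq N' hN' (by
    rw [← Cfsg.Lib.Coprime.centralizer_zpowers]; exact (centralizer_le_normalizer _).trans hNX)
  exact other_core_false hG hM hN hneM hσ hqN hXq (line_ne_bot hXc) hXM (hN'N ▸ hNX) hpN hPp (line_ne_bot hPc)
    hPM (hPA.trans hAN)

end Cfsg.Lib.OddLocal.RankTwoMax
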