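import Cfsg.Agent.OddLocal.PrimeAction
import Cfsg.Agent.PGroups.Basic
import Cfsg.Agent.PGroups.Commutators

/-!
# Frobenius groups acting on `p`-groups, and centralized full Sylow groups
-/

set_option linter.unusedSectionVars false
set_option linter.unusedVariables false
set_option linter.style.haveILetI false

namespace Cfsg.Lib.OddLocal.RankTwoMax

open Subgroup Uniqueness Sigma
open Cfsg.Lib.Coprime (conjMap)
open scoped commutatorElement

universe u

variable {G : Type u} [Group G] [Finite G] {M : Subgroup G} {p : ℕ} [hp : Fact p.Prime]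

/-- A Frobenius kernel centralizes a `p`-group if it centralizes all fixed elements of order `p` of
the complement. -/
theorem centralizes_of_fixed_small (hp2 : p ≠ 2) {r : ℕ} [hr : Fact r.Prime] {U : Subgroup G} {a : G}
    (ha : orderOf a = r) (haU : zpowers a ≤ normalizer (U : Set G)) (hUr : (Nat.card U).Coprime r)
    (hUp : (Nat.card U).Coprime p) (hrp : r ≠ p) (hU : U ⊓ centralizer ({a} : Set G) = ⊥) :
    ∀ (n : ℕ) (T : Subgroup G), Nat.card T ≤ n → IsPGroup p T → U ≤ normalizer (T : Set G) →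
      zpowers a ≤ normalizer (T : Set G) →
      (∀ x ∈ T, x ^ p = 1 → x * a = a * x → x ∈ centralizer (U : Set G)) →
      U ≤ centralizer (T : Set G) := by
  intro n
  induction n with
  | zero => exact fun T hn => absurd hn (by have := Nat.card_pos (α := T); omega)
  | succ n ih =>
  intro T hn hT hUT haT hfix
  haveI : Group.IsNilpotent T := hT.isNilpotent
  have hsolT : Group.IsSolvable T := inferInstance
  obtain ⟨k, hk⟩ := IsPGroup.iff_card.mp hT
  have hTU : (Nat.card T).Coprime (Nat.card U) := hk ▸ hUp.symm.pow_left k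
  have hTr : (Nat.card T).Coprime r := by
    rw [hk]
    exact ((Nat.coprime_primes hp.out hr.out).mpr hrp.symm).pow_left k
  set W := T ⊓ centralizer (U : Set G) with hW
  have hproper : ∀ T' : Subgroup G, T' < T → U ≤ normalizer (T' : Set G) →
      zpowers a ≤ normalizer (T' : Set G) → T' ≤ W := by
    intro T' hlt h1 h2
    have hlt' : Nat.card T' < Nat.card T :=
      lt_of_le_of_ne (Nat.le_of_dvd Nat.card_pos (card_dvd_of_le hlt.le))
        fun e => hlt.ne (eq_of_le_of_card_ge hlt.le e.ge)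
    exact le_inf hlt.le (le_centralizer_iff.mp
      (ih T' (by omega) (hT.to_le hlt.le) h1 h2 fun x hx => hfix x (hlt.le hx)))
  -- the commutator with `U`
  set D := ⁅T, U⁆ with hD
  have hDT : D ≤ T := Cfsg.Lib.Coprime.commutator_le_of_le_normalizer hUT
  have hUD : U ≤ normalizer (D : Set G) := Cfsg.Lib.Coprime.le_normalizer_commutator_right U T
  have hDD : ⁅D, U⁆ = D := Cfsg.Lib.Coprime.commutator_commutator_eq hUT hTU.symm (Or.inr hsolT)
  rcases hDT.lt_or_eq with hlt | hDTe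
  · have haD : zpowers a ≤ normalizer (D : Set G) := fun x hx => by
      refine Cfsg.Lib.Coprime.conjMap_eq_self_iff.mp ?_
      show (⁅T, U⁆).map (MulAut.conj x).toMonoidHom = _
      rw [Subgroup.map_commutator]
      exact congrArg₂ _ (Cfsg.Lib.Coprime.conjMap_eq_self (haT hx)) (Cfsg.Lib.Coprime.conjMap_eq_self (haU hx))
    have h1 := (hproper D hlt hUD haD).trans inf_le_right
    have h2 : D = ⊥ := by
      rw [← hDD, commutator_eq_bot_iff_le_centralizer]
      exact h1
    exact le_centralizer_iff.mp (commutator_eq_bot_iff_le_centralizer.mp h2)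
  by_cases hT1 : T = ⊥
  · rw [hT1]
    exact fun u _ => mem_centralizer_iff.mpr fun y hy => by rw [mem_bot.mp hy, one_mul, mul_one]
  -- the Frattini subgroup
  set F := (frattini T).map T.subtype with hF
  have hFn : normalizer (T : Set G) ≤ normalizer (F : Set G) :=
    Cfsg.Lib.OddP.le_normalizer_map_of_char (frattini T)
  have hFlt : F < T := lt_of_le_of_ne (map_subtype_le _) fun h0 => hT1 (by
    have h1 : frattini T = ⊤ := map_injective T.subtype_injective
      (by rw [← hF, h0, ← MonoidHom.range_eq_map, range_subtype])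
    have h2 : (⊥ : Subgroup T) = ⊤ := frattini_nongenerating (K := ⊥) (by rw [h1, bot_sup_eq])
    rw [← range_subtype T, MonoidHom.range_eq_map, ← h2, Subgroup.map_bot])
  have hFW := hproper F hFlt (hUT.trans hFn) (haT.trans hFn)
  have hder : ∀ x ∈ T, ∀ y ∈ T, ⁅x, y⁆ ∈ F := fun x hx y hy =>
    ⟨⁅(⟨x, hx⟩ : T), ⟨y, hy⟩⁆, Cfsg.Lib.PGroups.commutator_le_frattini hT
      (commutator_mem_commutator (mem_top _) (mem_top _)), rfl⟩
  have hpowF : ∀ x ∈ T, x ^ p ∈ F := fun x hx =>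
    ⟨(⟨x, hx⟩ : T) ^ p, Cfsg.Lib.PGroups.pow_mem_frattini hT _, rfl⟩
  -- `W` is central
  have hcen : W ≤ centralizer (T : Set G) := by
    have h1 : ⁅⁅U, W⁆, T⁆ = ⊥ := by
      rw [commutator_eq_bot_iff_le_centralizer.mpr (le_centralizer_iff.mp inf_le_right), commutator_bot_left]
    have h2 : ⁅⁅W, T⁆, U⁆ = ⊥ := by
      rw [commutator_eq_bot_iff_le_centralizer]
      refine le_trans ?_ (hFW.trans inf_le_right)
      rw [commutator_le]
      exact fun w hw t ht => hder w hw.1 t ht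
    have h3 : ⁅⁅T, U⁆, W⁆ = ⊥ := commutator_commutator_eq_bot_of_rotate h1 h2
    rw [← hD, hDTe, commutator_eq_bot_iff_le_centralizer] at h3
    exact le_centralizer_iff.mp h3
  have hWc : ∀ w ∈ W, ∀ t ∈ T, Commute w t := fun w hw t ht => (mem_centralizer_iff.mp (hcen hw) t ht).symm
  have hmulpow : ∀ x ∈ T, ∀ y ∈ T, (x * y) ^ p = x ^ p * y ^ p := by
    intro x hx y hy
    have hc := hFW (hder y hy x hx)
    have h1 : Commute ⁅y, x⁆ x := hWc _ hc x hx
    have h2 : Commute ⁅y, x⁆ y := hWc _ hc y hy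
    have h3 : ⁅y, x⁆ ^ p = 1 := by
      rw [← Cfsg.Lib.PGroups.commutator_pow_left_of_commute h2 p, commutatorElement_eq_one_iff_mul_comm]
      exact hWc _ (hFW (hpowF y hy)) x hx
    obtain ⟨l, hl⟩ := Cfsg.Lib.PGroups.dvd_choose_two hp.out hp2
    rw [Cfsg.Lib.PGroups.mul_pow_of_commute_commutator h1 h2, hl, pow_mul, h3, one_pow, mul_one]
  let S₁ : Subgroup G :=
    { carrier := {x | x ∈ T ∧ x ^ p = 1}
      one_mem' := ⟨one_mem _, one_pow _⟩
      mul_mem' := fun {x y} hx hy => ⟨mul_mem hx.1 hy.1, by rw [hmulpow x hx.1 y hy.1, hx.2, hy.2, one_mul]⟩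
      inv_mem' := fun {x} hx => ⟨inv_mem hx.1, by rw [inv_pow, hx.2, inv_one]⟩ }
  have hexp : ∀ x ∈ T, x ^ p = 1 := by
    have h1 : ⁅T, U⁆ ≤ S₁ := by
      rw [commutator_le]
      intro t ht u hu
      refine ⟨hDT (commutator_mem_commutator ht hu), ?_⟩
      have h2 : u * t⁻¹ * u⁻¹ ∈ T := (mem_normalizer_iff.mp (hUT hu) _).mp (inv_mem ht)
      have h3 := mem_centralizer_iff.mp (hFW (hpowF _ (inv_mem ht))).2 u hu
      rw [show ⁅t, u⁆ = t * (u * t⁻¹ * u⁻¹) by simp [commutatorElement_def, mul_assoc], hmulpow t ht _ h2,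
        conj_pow, h3, mul_inv_cancel_right, inv_pow, mul_inv_cancel]
    exact fun x hx => (h1 (hDTe.ge hx)).2
  have hfixW : ∀ x ∈ T, x * a = a * x → x ∈ W := fun x hx hxa => ⟨hx, hfix x hx (hexp x hx) hxa⟩
  -- pass to the quotient by `W`
  have hUW : U ≤ normalizer (W : Set G) :=
    Cfsg.Lib.Coprime.le_normalizer_inf hUT (Subgroup.le_normalizer.trans (FittingParts.normalizer_centralizer_le U))
  have haW : zpowers a ≤ normalizer (W : Set G) :=
    Cfsg.Lib.Coprime.le_normalizer_inf haT (haU.trans (FittingParts.normalizer_centralizer_le U))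
  have hTW : T ≤ normalizer (W : Set G) := (le_centralizer_iff.mp hcen).trans (centralizer_le_normalizer _)
  set N := normalizer (W : Set G) with hN
  haveI : (W.subgroupOf N).Normal := normal_in_normalizer
  set π := QuotientGroup.mk' (W.subgroupOf N) with hπ
  have haN : a ∈ N := haW (mem_zpowers a)
  set a' := π ⟨a, haN⟩ with ha'
  set U' := (U.subgroupOf N).map π with hU'
  set T' := (T.subgroupOf N).map π with hT'
  have hNW : ∀ x : N, π x = 1 ↔ (x : G) ∈ W := fun x =>
    (QuotientGroup.eq_one_iff _).trans mem_subgroupOf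
  have haWn : a ∉ W := fun h => hr.out.ne_one (by
    rw [← ha, orderOf_eq_one_iff]
    exact Cfsg.Lib.Coprime.eq_one_of_coprime (N := T) (H := zpowers a)
      (by rw [Nat.card_zpowers, ha]; exact hTr) h.1 (mem_zpowers a))
  have hao : orderOf a' = r := by
    refine orderOf_eq_prime ?_ fun h => haWn ((hNW _).mp h)
    rw [ha', ← map_pow, hNW]
    simpa [← ha, pow_orderOf_eq_one] using one_mem W
  have hza : (zpowers (⟨a, haN⟩ : N)).map π = zpowers a' := MonoidHom.map_zpowers _ _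
  have hnorm : ∀ X Y : Subgroup G, Y ≤ N → X ≤ normalizer (Y : Set G) →
      (X.subgroupOf N).map π ≤ normalizer ((Y.subgroupOf N).map π : Set (N ⧸ W.subgroupOf N)) := by
    intro X Y _ hXY
    refine (map_mono ?_).trans (le_normalizer_map π)
    exact fun y hy => mem_normalizer_iff.mpr fun w => mem_normalizer_iff.mp (hXY hy) w
  have hzasub : zpowers (⟨a, haN⟩ : N) ≤ (zpowers a).subgroupOf N :=
    zpowers_le.mpr (mem_subgroupOf.mpr (mem_zpowers a))
  have hUc : Nat.card U' ∣ Nat.card U := (card_map_dvd _ π).trans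
    (dvd_of_eq (Nat.card_congr (subgroupOfEquivOfLe hUW).toEquiv))
  have hTc : Nat.card T' ∣ Nat.card T := (card_map_dvd _ π).trans
    (dvd_of_eq (Nat.card_congr (subgroupOfEquivOfLe hTW).toEquiv))
  have hfixU : U' ⊓ centralizer ({a'} : Set (N ⧸ W.subgroupOf N)) = ⊥ := by
    refine le_bot_iff.mp fun v hv => ?_
    obtain ⟨u, hu, rfl⟩ := mem_map.mp hv.1
    rw [mem_bot, hNW]
    have h1 : π ⁅u, ⟨a, haN⟩⁆ = 1 := by
      rw [map_commutatorElement, commutatorElement_eq_one_iff_mul_comm]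
      exact mem_centralizer_singleton_iff.mp hv.2
    have h2 : ⁅(u : G), a⁆ ∈ W := (hNW _).mp h1
    have h3 : ⁅(u : G), a⁆ ∈ U :=
      Cfsg.Lib.Coprime.commutator_le_of_le_normalizer haU (commutator_mem_commutator hu (mem_zpowers a))
    have h4 := Cfsg.Lib.Coprime.eq_one_of_coprime hTU h2.1 h3
    have h5 : (u : G) ∈ U ⊓ centralizer ({a} : Set G) :=
      ⟨hu, mem_centralizer_singleton_iff.mpr (commutatorElement_eq_one_iff_mul_comm.mp h4)⟩
    rw [hU, mem_bot] at h5
    rw [h5]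
    exact one_mem _
  have hfixT : T' ⊓ centralizer ({a'} : Set (N ⧸ W.subgroupOf N)) = ⊥ := by
    refine le_bot_iff.mp fun v hv => ?_
    obtain ⟨t, ht, rfl⟩ := mem_map.mp hv.1
    rw [mem_bot, hNW]
    have hC : (⟨a, haN⟩ : N) * t * (⟨a, haN⟩ : N)⁻¹ * t⁻¹ ∈ W.subgroupOf N := by
      refine (QuotientGroup.eq_one_iff _).mp ?_
      show π (⟨a, haN⟩ * t * (⟨a, haN⟩ : N)⁻¹ * t⁻¹) = 1
      rw [map_mul, map_mul, map_mul, map_inv, map_inv, ← ha',
        show a' * π t = π t * a' from (mem_centralizer_singleton_iff.mp hv.2).symm]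
      group
    have hCW : ∀ b ∈ zpowers a, b * (t : G) * b⁻¹ * (t : G)⁻¹ ∈ W := by
      let S₂ : Subgroup G :=
        { carrier := {b | b ∈ N ∧ b * (t : G) * b⁻¹ * (t : G)⁻¹ ∈ W}
          one_mem' := ⟨one_mem _, by simp⟩
          mul_mem' := fun {b c} hb hc => ⟨mul_mem hb.1 hc.1, by
            rw [show b * c * (t : G) * (b * c)⁻¹ * (t : G)⁻¹ =
              (b * (c * (t : G) * c⁻¹ * (t : G)⁻¹) * b⁻¹) * (b * (t : G) * b⁻¹ * (t : G)⁻¹) by group]
            exact mul_mem ((mem_normalizer_iff.mp hb.1 _).mp hc.2) hb.2⟩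
          inv_mem' := fun {b} hb => ⟨inv_mem hb.1, by
            rw [show b⁻¹ * (t : G) * b⁻¹⁻¹ * (t : G)⁻¹ =
              b⁻¹ * (b * (t : G) * b⁻¹ * (t : G)⁻¹)⁻¹ * b⁻¹⁻¹ by group]
            exact (mem_normalizer_iff.mp (inv_mem hb.1) _).mp (inv_mem hb.2)⟩ }
      exact fun b hb => ((zpowers_le (H := S₂)).mpr ⟨haN, mem_subgroupOf.mp hC⟩ hb).2
    obtain ⟨w, hw, hwc⟩ := Cfsg.Lib.Coprime.exists_fixed_of_commutator_mem haW
      (by rw [Nat.card_zpowers, ha]; exact (hTr.coprime_dvd_left (card_dvd_of_le inf_le_left)).symm)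
      (Or.inl inferInstance) t.2 hCW
    have h6 : (t : G) * w ∈ W := hfixW _ (mul_mem ht hw.1)
      ((mem_centralizer_iff.mp hwc a (mem_zpowers a)).symm)
    simpa using mul_mem h6 (inv_mem hw)
  haveI : Group.IsSolvable ↥(T.subgroupOf N) := by
    haveI : Group.IsNilpotent ↥(T.subgroupOf N) := Group.nilpotent_of_mulEquiv (subgroupOfEquivOfLe hTW).symm
    infer_instance
  have hsol' : Group.IsSolvable T' := Group.isSolvable_of_surjective (π.subgroupMap_surjective _)
  have hres := le_centralizer_of_fpf (p := r) hao hsol'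
    (hza ▸ (map_mono hzasub).trans (hnorm _ _ hUW haU))
    (hnorm _ _ hTW hUT) (hza ▸ (map_mono hzasub).trans (hnorm _ _ hTW haT))
    (hUr.coprime_dvd_left hUc) (hTr.coprime_dvd_left hTc)
    ((hTU.coprime_dvd_left hTc).coprime_dvd_right hUc) hfixU hfixT
  -- conclude
  have hTle : T ≤ W := by
    rw [← hDTe, hD, commutator_le]
    intro t ht u hu
    have h1 : π ⁅(⟨t, hTW ht⟩ : N), ⟨u, hUW hu⟩⁆ = 1 := by
      rw [map_commutatorElement, commutatorElement_eq_one_iff_mul_comm]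
      exact mem_centralizer_iff.mp (hres (mem_map_of_mem π (mem_subgroupOf.mpr hu : (⟨u, hUW hu⟩ : N) ∈ _))) _
        (mem_map_of_mem π (mem_subgroupOf.mpr ht : (⟨t, hTW ht⟩ : N) ∈ _))
    exact (hNW _).mp h1
  exact le_centralizer_iff.mp (hTle.trans inf_le_right)

/-- A full abelian Sylow group centralizing a Sylow group `S` of its centralizer. -/
theorem le_derived_of_centralized_sylow (hG : Cfsg.IsMinSimpleOddOrder G) {q : ℕ} [hq : Fact q.Prime]
    (T : Sylow p G) (hTc : IsMulCommutative (T : Subgroup G)) {S X : Subgroup G}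
    (hS : IsSylowOf q S (centralizer ((T : Subgroup G) : Set G)))
    (hX : normalizer (S : Set G) ⊓ normalizer ((T : Subgroup G) : Set G) ≤ X) :
    (T : Subgroup G) ≤ ⁅X, X⁆ := by
  set T₀ := (T : Subgroup G) with hT₀
  set H := normalizer (T₀ : Set G) with hH
  set W := normalizer (S : Set G) ⊓ H with hW
  set C := centralizer (T₀ : Set G) with hC
  have hTC : T₀ ≤ C := fun a ha => mem_centralizer_iff.mpr fun b hb =>
    ThompsonTransitivity.mul_comm_of hTc hb ha
  have hTS : T₀ ≤ normalizer (S : Set G) := fun t ht => centralizer_le_normalizer _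
    (mem_centralizer_iff.mpr fun s hs => (mem_centralizer_iff.mp (hS.1 hs) t ht).symm)
  have hTW : T₀ ≤ W := le_inf hTS Subgroup.le_normalizer
  -- Frattini
  have hfr : ∀ h ∈ H, ∃ c ∈ C, ∃ w ∈ W, h = c * w := by
    intro h hh
    have hCn : conjMap h C = C :=
      Cfsg.Lib.Coprime.conjMap_eq_self (FittingParts.normalizer_centralizer_le T₀ hh)
    obtain ⟨c, hc, hcS⟩ := card_eq_of_sylowOf hS (show IsSylowOf q (conjMap h S) C from
      ⟨(Cfsg.Lib.Coprime.conjMap_mono hS.1).trans hCn.le, hS.2.1.map _, fun Y hY hYC hle => by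
        have h1 : conjMap h⁻¹ Y ≤ C := (Cfsg.Lib.Coprime.conjMap_mono hYC).trans
          (by rw [← hCn, Cfsg.Lib.Coprime.conjMap_inv_conjMap, hCn])
        have h2 := hS.2.2 (conjMap h⁻¹ Y) (hY.map _) h1 (by
          have h3 := Cfsg.Lib.Coprime.conjMap_mono (g := h⁻¹) hle
          rwa [Cfsg.Lib.Coprime.conjMap_inv_conjMap] at h3)
        rw [← h2, Cfsg.Lib.Coprime.conjMap_conjMap_inv]⟩)
    refine ⟨c, hc, c⁻¹ * h, ⟨Cfsg.Lib.Coprime.conjMap_eq_self_iff.mp ?_,
      Subgroup.mul_mem _ (Subgroup.inv_mem _ (centralizer_le_normalizer _ hc)) hh⟩, by group⟩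
    rw [← Cfsg.Lib.Coprime.conjMap_mul, ← hcS, Cfsg.Lib.Coprime.conjMap_inv_conjMap]
  -- a complement of `T` in its normalizer
  have hTn : H ≤ normalizer (T₀ : Set G) := le_rfl
  have hidx : ¬ p ∣ T₀.relIndex H := fun hd =>
    T.not_dvd_index (hd.trans (Dvd.intro _ (relIndex_mul_index (Subgroup.le_normalizer : T₀ ≤ H))))
  obtain ⟨k, hk⟩ := IsPGroup.iff_card.mp T.2
  have hcop : (Nat.card T₀).Coprime (T₀.relIndex H) := by
    rw [hk]
    exact (hp.out.coprime_iff_not_dvd.mpr hidx).pow_left k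
  obtain ⟨U, hUH, hsup, hUc⟩ := Cfsg.Lib.Coprime.exists_complement_in Subgroup.le_normalizer hTn hcop
  have hUT : U ≤ normalizer (T₀ : Set G) := hUH
  haveI := hTc
  obtain ⟨hd, hs⟩ := Cfsg.Lib.Coprime.abelian_coprime_decomp hUT (by rw [hUc]; exact hcop.symm)
  set D := ⁅T₀, U⁆ with hD
  have hDT : D ≤ T₀ := Cfsg.Lib.Coprime.commutator_le_of_le_normalizer hUT
  -- `D` is in `[W, W]`
  have hDW : D ≤ ⁅W, W⁆ := by
    rw [hD, commutator_le]
    intro t ht u hu
    obtain ⟨c, hc, w, hw, rfl⟩ := hfr u (hUH hu)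
    have h1 : Commute t c := mem_centralizer_iff.mp hc t ht
    have h2 : ⁅t, w⁆ ∈ T₀ := Cfsg.Lib.Coprime.commutator_le_of_le_normalizer (le_refl H)
      (commutator_mem_commutator ht hw.2)
    rw [show ⁅t, c * w⁆ = ⁅t, c⁆ * (c * ⁅t, w⁆ * c⁻¹) by simp only [commutatorElement_def]; group,
      commutatorElement_eq_one_iff_mul_comm.mpr h1.eq, one_mul,
      ← mem_centralizer_iff.mp hc _ h2, mul_inv_cancel_right]
    exact commutator_mem_commutator (hTW ht) hw
  -- `T = D`
  have hTH : T₀ ≤ ⁅H, H⁆ := le_derived_normalizer hG T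
  haveI hDn : (D.subgroupOf H).Normal := by
    refine (normal_subgroupOf_iff_le_normalizer (hDT.trans Subgroup.le_normalizer)).mpr ?_
    rw [← hsup]
    exact sup_le (fun t ht => centralizer_le_normalizer _ (Subgroup.centralizer_le hDT (hTC ht)))
      (Cfsg.Lib.Coprime.le_normalizer_commutator_right U T₀)
  set π := QuotientGroup.mk' (D.subgroupOf H)
  have hTle : T₀ ≤ D := by
    intro t ht
    have hcen : ∀ x ∈ T₀, ∀ y : H, ∀ hx : x ∈ H, π ⟨x, hx⟩ * π y = π y * π ⟨x, hx⟩ := by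
      intro x hx y hxH
      rw [← commutatorElement_eq_one_iff_mul_comm, ← map_commutatorElement]
      refine (QuotientGroup.eq_one_iff _).mpr (mem_subgroupOf.mpr ?_)
      show ⁅x, (y : G)⁆ ∈ D
      obtain ⟨t', ht', u, hu, hy⟩ := (Cfsg.Lib.Coprime.mem_sup_of_le_normalizer hUT).mp (hsup.ge y.2)
      rw [← hy, show ⁅x, t' * u⁆ = ⁅x, t'⁆ * (t' * ⁅x, u⁆ * t'⁻¹) by
        simp only [commutatorElement_def]; group,
        commutatorElement_eq_one_iff_mul_comm.mpr (ThompsonTransitivity.mul_comm_of hTc hx ht'), one_mul]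
      exact (mem_normalizer_iff.mp (centralizer_le_normalizer _ (Subgroup.centralizer_le hDT (hTC ht'))) _).mp
        (commutator_mem_commutator hx hu)
    have hder : ∀ y ∈ (commutator H), ∃ u ∈ ⁅U, U⁆, ∃ hu : u ∈ H, π y = π ⟨u, hu⟩ := by
      let S₂ : Subgroup H :=
        { carrier := {y | ∃ u ∈ ⁅U, U⁆, ∃ hu : u ∈ H, π y = π ⟨u, hu⟩}
          one_mem' := ⟨1, one_mem _, one_mem _, rfl⟩
          mul_mem' := fun {x y} ⟨u, hu, huH, hxu⟩ ⟨v, hv, hvH, hyv⟩ =>
            ⟨u * v, mul_mem hu hv, mul_mem huH hvH, by rw [map_mul, hxu, hyv, ← map_mul]; rfl⟩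
          inv_mem' := fun {x} ⟨u, hu, huH, hxu⟩ =>
            ⟨u⁻¹, inv_mem hu, inv_mem huH, by rw [map_inv, hxu, ← map_inv]; rfl⟩ }
      suffices h : commutator H ≤ S₂ from fun y hy => h hy
      rw [_root_.commutator_def, commutator_le]
      intro x _ y _
      obtain ⟨t₁, ht₁, u, hu, hxu⟩ := (Cfsg.Lib.Coprime.mem_sup_of_le_normalizer hUT).mp (hsup.ge x.2)
      obtain ⟨t₂, ht₂, v, hv, hyv⟩ := (Cfsg.Lib.Coprime.mem_sup_of_le_normalizer hUT).mp (hsup.ge y.2)
      refine ⟨⁅u, v⁆, commutator_mem_commutator hu hv, hUH (commutator_le_self U (commutator_mem_commutator hu hv)),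
        ?_⟩
      have hx' : x = ⟨t₁, Subgroup.le_normalizer ht₁⟩ * ⟨u, hUH hu⟩ := Subtype.ext hxu.symm
      have hy' : y = ⟨t₂, Subgroup.le_normalizer ht₂⟩ * ⟨v, hUH hv⟩ := Subtype.ext hyv.symm
      show π ⁅x, y⁆ = π ⁅(⟨u, hUH hu⟩ : H), ⟨v, hUH hv⟩⁆
      have c1 : ∀ z, Commute (π ⟨t₁, Subgroup.le_normalizer ht₁⟩) (π z) := fun z => hcen t₁ ht₁ z _
      have c2 : ∀ z, Commute (π ⟨t₂, Subgroup.le_normalizer ht₂⟩) (π z) := fun z => hcen t₂ ht₂ z _
      rw [hx', hy', map_commutatorElement, map_commutatorElement, map_mul, map_mul]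
      set A := π ⟨t₁, Subgroup.le_normalizer ht₁⟩
      set B := π (⟨u, hUH hu⟩ : H)
      set A' := π ⟨t₂, Subgroup.le_normalizer ht₂⟩
      set B' := π (⟨v, hUH hv⟩ : H)
      have e1 : Commute A (B * (A' * B') * B⁻¹) :=
        ((c1 _).mul_right ((c1 _).mul_right (c1 _))).mul_right (c1 _).inv_right
      have e2 : Commute A' B := c2 _
      rw [commutatorElement_def, commutatorElement_def]
      calc A * B * (A' * B') * (A * B)⁻¹ * (A' * B')⁻¹
          = A * (B * (A' * B') * B⁻¹) * A⁻¹ * (A' * B')⁻¹ := by group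
        _ = B * (A' * B') * B⁻¹ * (A' * B')⁻¹ := by rw [e1.eq, mul_inv_cancel_right]
        _ = (B * A') * B' * B⁻¹ * B'⁻¹ * A'⁻¹ := by group
        _ = (A' * B) * B' * B⁻¹ * B'⁻¹ * A'⁻¹ := by rw [e2.eq]
        _ = A' * (B * B' * B⁻¹ * B'⁻¹) * A'⁻¹ := by group
        _ = B * B' * B⁻¹ * B'⁻¹ := by
            have e3 : Commute A' (B * B' * B⁻¹ * B'⁻¹) :=
              (((c2 _).mul_right (c2 _)).mul_right (c2 _).inv_right).mul_right (c2 _).inv_right
            rw [e3.eq, mul_inv_cancel_right]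
    obtain ⟨t', ht', htt⟩ := (map_subtype_commutator H).ge (hTH ht)
    obtain ⟨u, hu, huH, hπ⟩ := hder t' ht'
    have h1 : (t')⁻¹ * ⟨u, huH⟩ ∈ D.subgroupOf H := QuotientGroup.eq.mp hπ
    have h2 : t⁻¹ * u ∈ D := by
      have h3 : ((t' : G))⁻¹ * u ∈ D := h1
      rwa [show (t' : G) = t from htt] at h3
    have h4 : u = 1 := Cfsg.Lib.Coprime.eq_one_of_coprime (N := U) (H := T₀) (by rw [hUc]; exact hcop.symm)
      (commutator_le_self U hu) (by simpa using mul_mem ht (hDT h2))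
    rw [h4, mul_one] at h2
    simpa using inv_mem h2
  exact (hTle.trans hDW).trans (commutator_mono hX hX)

end Cfsg.Lib.OddLocal.RankTwoMax
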