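import Cfsg.Agent.OddLocal.TauOneFrobenius
import Cfsg.Agent.OddLocal.SigmaOrderP
import Cfsg.Agent.OddLocal.FittingSigma

/-!
# Lemmas on `τ₁(M)` primes
-/

set_option linter.unusedSectionVars false
set_option linter.unusedVariables false
set_option linter.style.haveILetI false

namespace Cfsg.Lib.OddLocal.RankTwoMax

open Subgroup Uniqueness Sigma
open Cfsg.Lib.Coprime (conjMap)
open scoped commutatorElement

universe u

variable {G : Type u} [Group G] [Finite G] {M L N P : Subgroup G} {p q : ℕ} [hp : Fact p.Prime]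
  [hq : Fact q.Prime]

/-- A full Sylow group inside a maximal subgroup for a `σ` prime. -/
theorem exists_sylow_eq (hσ : p ∈ Cfsg.sigma M) {R : Subgroup G} (hR : IsSylowOf p R M) :
    ∃ T : Sylow p G, (T : Subgroup G) = R := by
  obtain ⟨T, hT⟩ := hR.2.1.exists_le_sylow
  exact ⟨T, sylow_max hσ hR T.2 hT⟩

/-- Full Sylow groups for `p ∈ τ₁(M)` and `q ∈ σ(M)` do not centralize each other. -/
theorem centralized_sylows_false (hG : Cfsg.IsMinSimpleOddOrder G) (hM : IsCoatom M) (hτ : p ∈ Cfsg.tau1 M)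
    (hσ : q ∈ Cfsg.sigma M) (T : Sylow p G) (S : Sylow q G)
    (h : (T : Subgroup G) ≤ centralizer ((S : Subgroup G) : Set G)) : False := by
  obtain ⟨Q, hQM, hNQ⟩ := exists_sylow_le hσ
  obtain ⟨g, hg⟩ := MulAction.exists_smul_eq G S Q
  have hQ : (Q : Subgroup G) = conjMap g (S : Subgroup G) := by
    rw [← hg, Sylow.coe_subgroup_smul, Cfsg.Lib.Coprime.conj_smul_eq]
  have hT : ((g • T : Sylow p G) : Subgroup G) = conjMap g (T : Subgroup G) := by
    rw [Sylow.coe_subgroup_smul, Cfsg.Lib.Coprime.conj_smul_eq]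
  have hTC : ((g • T : Sylow p G) : Subgroup G) ≤ centralizer ((Q : Subgroup G) : Set G) := by
    rw [hT, hQ]
    exact fun x hx => mem_centralizer_conjMap.mpr (Cfsg.Lib.Coprime.conjMap_mono h hx)
  have hTM : ((g • T : Sylow p G) : Subgroup G) ≤ M := (hTC.trans (centralizer_le_normalizer _)).trans hNQ
  haveI hc : IsCyclic ↥((g • T : Sylow p G) : Subgroup G) :=
    isCyclic_sylow_of_rank_one hG (g • T).2 hTM hτ.2.2.2.2
  have h1 := le_derived_of_centralized_sylow hG (g • T) inferInstance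
    (S := (Q : Subgroup G)) (X := M) (isSylowOf_coe Q (le_centralizer_iff.mp hTC)) (inf_le_left.trans hNQ)
  refine hτ.2.2.2.1 (dvd_trans ?_ (card_dvd_of_le h1))
  exact (g • T).dvd_card_of_dvd_card (hτ.2.2.1.trans (card_subgroup_dvd_card M))

/-- A prime of `τ₁(M)` and a prime of `σ(M)` are not both in `σ(N)` outside `β(N)`. -/
theorem sigma_pair_false (hG : Cfsg.IsMinSimpleOddOrder G) (hM : IsCoatom M) (hτ : p ∈ Cfsg.tau1 M)
    (hσ : q ∈ Cfsg.sigma M) (hN : IsCoatom N) (hpN : p ∈ Cfsg.sigma N) (hqN : q ∈ Cfsg.sigma N)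
    (hpβ : p ∉ Cfsg.beta N) (hqβ : q ∉ Cfsg.beta N) : False := by
  have hqp : q ≠ p := fun e => hτ.2.1 (e ▸ hσ)
  obtain ⟨T, hTN, -⟩ := exists_sylow_le hpN
  obtain ⟨Q, hQ, hTQ⟩ := exists_centralized_sylow hG hN hqp hpN hqN hpβ hqβ T.2 hTN
  obtain ⟨S, hS⟩ := exists_sylow_eq hqN hQ
  exact centralized_sylows_false hG hM hτ hσ T S (hS ▸ hTQ)

/-- A prime `q ∈ σ(M) ∖ σ(L)` with a normalizer in `L` kills `σ(L)`-subgroups of `M`. -/
theorem other_core_false (hG : Cfsg.IsMinSimpleOddOrder G) (hM : IsCoatom M) (hL : IsCoatom L) (hne : L ≠ M)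
    (hσ : q ∈ Cfsg.sigma M) (hqL : q ∉ Cfsg.sigma L) {X : Subgroup G} (hXq : IsPGroup q X) (hX1 : X ≠ ⊥)
    (hXM : X ≤ M) (hNX : normalizer (X : Set G) ≤ L) (hpL : p ∈ Cfsg.sigma L) (hPp : IsPGroup p P)
    (hP1 : P ≠ ⊥) (hPM : P ≤ M) (hPL : P ≤ L) : False := by
  obtain ⟨hτ, -, E, hE, hEM⟩ := tau_two_other hG hM hL hσ hqL hXq hX1 hXM hNX
  obtain ⟨B, hBE, hB, hBc⟩ := exists_sq_complement hG hL hE hτ
  obtain ⟨B₀, h⟩ := exists_exc hG hL hqL (hBE.trans hE.1) hB hBc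
  exact hP1 (le_bot_iff.mp ((le_inf (le_sigmaCore_of_pgroup hG hL hpL hPp hPL) hPM).trans
    (h.inf_other hG hM hne.symm (hBE.trans hEM)).le))

/-- A maximal subgroup containing `N(P)` for `p ∈ τ₁(M)` is not conjugate to `M`. -/
theorem not_conj_of_tau_one (hG : Cfsg.IsMinSimpleOddOrder G) (hM : IsCoatom M) (hτ : p ∈ Cfsg.tau1 M)
    (hL : IsCoatom L) (hPc : Nat.card P = p) (hNL : normalizer (P : Set G) ≤ L) (g : G) :
    L ≠ conjMap g M := by
  intro hLg
  by_cases hpL : p ∈ Cfsg.sigma L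
  · obtain ⟨T, hTL, hNT⟩ := exists_sylow_le hpL
    have hT : ((g⁻¹ • T : Sylow p G) : Subgroup G) = conjMap g⁻¹ (T : Subgroup G) := by
      rw [Sylow.coe_subgroup_smul, Cfsg.Lib.Coprime.conj_smul_eq]
    have h1 : ((g⁻¹ • T : Sylow p G) : Subgroup G) ≤ M := by
      rw [hT]
      exact (Cfsg.Lib.Coprime.conjMap_mono hTL).trans (by rw [hLg, Cfsg.Lib.Coprime.conjMap_inv_conjMap])
    refine sylow_normalizer_not_le hτ.2.1 hτ.2.2.1 (isSylowOf_coe (g⁻¹ • T) h1) ?_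
    rw [hT, Cfsg.Lib.Coprime.normalizer_conjMap]
    exact (Cfsg.Lib.Coprime.conjMap_mono hNT).trans (by rw [hLg, Cfsg.Lib.Coprime.conjMap_inv_conjMap])
  · have hr : ¬ Cfsg.PRankLE p 1 L := (exists_sq_ge hG hL hpL hPc hNL).1
    obtain ⟨B, hBL, hB, hBc⟩ := exists_elementary hr
    obtain ⟨C, hCB, hC, hCc⟩ := exists_sq_le hG hL hpL (isPGroup_of_pow hB.2) hBL
      (not_isCyclic_of_card hB.2 hBc)
    exact not_conj_of_rank hτ.2.2.2.2 hC hCc (hCB.trans hBL) g hLg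

/-- Outside the maximal subgroup of an ideal prime the rank is one. -/
theorem rank_one_of_ideal (hG : Cfsg.IsMinSimpleOddOrder G) (hL : IsCoatom L) (hN : IsCoatom N)
    (hne : N ≠ L) (hβ : p ∈ Cfsg.beta L) {Z : Subgroup G} (hZp : IsPGroup p Z) (hZ1 : Z ≠ ⊥)
    (hZL : Z ≤ L) (hZN : Z ≤ N) : p ∉ Cfsg.sigma N ∧ Cfsg.PRankLE p 1 N := by
  have hσ : p ∉ Cfsg.sigma N := fun h => hne (eq_of_beta hG hN hL h hβ hZp hZ1 hZN hZL)
  exact ⟨hσ, by_contra fun h => not_ideal hG hN (pRankLE_of_not_sigma hG hN hσ) h hβ.2⟩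

/-- Fixed elements of order `p` of an element of `τ₁`-type lie on a given line. -/
theorem fixed_mem_line (hG : Cfsg.IsMinSimpleOddOrder G) (hL : IsCoatom L) (hβ : p ∈ Cfsg.beta L)
    {s : ℕ} [hs : Fact s.Prime] (hsL : s ∉ Cfsg.sigma L) (hr : Cfsg.PRankLE s 1 L) {a z : G}
    (haL : a ∈ L) (has : orderOf a = s) (hz : z * a = a * z) (hzo : orderOf z = p) {T : Subgroup G}
    (hTp : IsPGroup p T) (hTL : T ≤ L) (hzT : z ∈ T) :
    ∀ x ∈ T, x ^ p = 1 → x * a = a * x → x ∈ zpowers z := by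
  intro x hx hxp hxa
  by_cases hx1 : x = 1
  · rw [hx1]; exact one_mem _
  have hac : Nat.card (zpowers a) = s := by rw [Nat.card_zpowers, has]
  obtain ⟨N, hN, hNa⟩ := exists_coatom_ge (MinSimpleTransitivity.normalizer_ne_top hG (line_ne_bot hac)
    (FittingUniqueness.ne_top_of_le_coatom hL (zpowers_le.mpr haL)))
  have hne : N ≠ L := fun e => (exists_sq_ge hG hL hsL hac (e ▸ hNa)).1 hr
  have hC : ∀ y : G, y * a = a * y → y ∈ N := fun y hy => hNa (centralizer_le_normalizer _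
    (by rw [Cfsg.Lib.Coprime.centralizer_zpowers]; exact mem_centralizer_singleton_iff.mpr hy))
  have hzN : zpowers z ≤ N := zpowers_le.mpr (hC z hz)
  have hz1 : zpowers z ≠ ⊥ := line_ne_bot (p := p) (by rw [Nat.card_zpowers, hzo])
  obtain ⟨-, hr1⟩ := rank_one_of_ideal hG hL hN hne hβ (hTp.to_le (zpowers_le.mpr hzT)) hz1
    (zpowers_le.mpr (hTL hzT)) hzN
  have hcyc : IsCyclic ↥(T ⊓ N) := isCyclic_sylow_of_rank_one hG (hTp.to_le inf_le_left) inf_le_right hr1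
  have := eq_of_cyclic hcyc (H := zpowers x) (K := zpowers z) (zpowers_le.mpr ⟨hx, hC x hxa⟩)
    (zpowers_le.mpr ⟨hzT, hC z hz⟩)
    (by rw [Nat.card_zpowers, Nat.card_zpowers, hzo, orderOf_eq_prime hxp hx1])
  exact this ▸ mem_zpowers x

/-- The moved part of an abelian group centralizes a `p`-group with small fixed part. -/
theorem commutator_centralizes (hp2 : p ≠ 2) {s : ℕ} [hs : Fact s.Prime] {U T : Subgroup G} {a : G}
    (hUc : IsMulCommutative U) (has : orderOf a = s) (haU : zpowers a ≤ normalizer (U : Set G))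
    (hUs : (Nat.card U).Coprime s) (hUp : (Nat.card U).Coprime p) (hsp : s ≠ p) (hT : IsPGroup p T)
    (hUT : U ≤ normalizer (T : Set G)) (haT : zpowers a ≤ normalizer (T : Set G))
    (hfix : ∀ x ∈ T, x ^ p = 1 → x * a = a * x → x ∈ centralizer (U : Set G)) :
    ⁅U, zpowers a⁆ ≤ centralizer (T : Set G) := by
  haveI := hUc
  set U' := ⁅U, zpowers a⁆ with hU'
  have hle : U' ≤ U := Cfsg.Lib.Coprime.commutator_le_of_le_normalizer haU
  obtain ⟨hd, -⟩ := Cfsg.Lib.Coprime.abelian_coprime_decomp haU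
    (by rw [Nat.card_zpowers, has]; exact hUs.symm)
  refine centralizes_of_fixed_small hp2 has (Cfsg.Lib.Coprime.le_normalizer_commutator_right _ _)
    (hUs.coprime_dvd_left (card_dvd_of_le hle)) (hUp.coprime_dvd_left (card_dvd_of_le hle)) hsp ?_ _ T
    le_rfl hT (hle.trans hUT) haT fun x hx hxp hxa => Subgroup.centralizer_le hle (hfix x hx hxp hxa)
  refine le_bot_iff.mp ((le_inf (inf_le_inf hle ?_) inf_le_left).trans hd.le)
  rw [Cfsg.Lib.Coprime.centralizer_zpowers]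

end Cfsg.Lib.OddLocal.RankTwoMax
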