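import Cfsg.Agent.OddLocal.RankTwoCentralizer

/-!
# The structure of a maximal subgroup at a prime of `τ₂`
-/

set_option linter.unusedSectionVars false
set_option linter.unusedVariables false
set_option linter.style.haveILetI false

namespace Cfsg.Lib.OddLocal.RankTwoMax

open Subgroup Uniqueness Sigma
open Cfsg.Lib.Coprime (conjMap)
open scoped commutatorElement

universe u

variable {G : Type u} [Group G] [Finite G] {M L A A₀ : Subgroup G} {p : ℕ} [hp : Fact p.Prime]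

theorem commutator_normal (M : Subgroup G) : M ≤ normalizer ((⁅M, M⁆ : Subgroup G) : Set G) := fun x hx => by
  refine Cfsg.Lib.Coprime.conjMap_eq_self_iff.mp ?_
  show (⁅M, M⁆).map (MulAut.conj x).toMonoidHom = _
  rw [Subgroup.map_commutator]
  exact congrArg₂ _ (Cfsg.Lib.Coprime.conjMap_eq_self (le_normalizer hx))
    (Cfsg.Lib.Coprime.conjMap_eq_self (le_normalizer hx))

theorem le_normalizer_sigmaCore (M : Subgroup G) : M ≤ normalizer (Cfsg.sigmaCore M : Set G) :=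
  PiCoreOf.le_normalizer' (Cfsg.sigma M) M

/-- A noncyclic `q`-subgroup outside `σ` contains an elementary subgroup of order `q²`. -/
theorem exists_sq_le (hG : Cfsg.IsMinSimpleOddOrder G) (hM : IsCoatom M) {q : ℕ} [hq : Fact q.Prime]
    (hσ : q ∉ Cfsg.sigma M) {R : Subgroup G} (hRq : IsPGroup q R) (hRM : R ≤ M) (hnc : ¬ IsCyclic R) :
    ∃ B : Subgroup G, B ≤ R ∧ Cfsg.IsElementaryAbelian q B ∧ Nat.card B = q ^ 2 := by
  obtain ⟨B, hBR, hB, hBc⟩ := exists_elementary (p := q) (k := 1) (X := R)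
    fun hr => hnc (isCyclic_sylow_of_rank_one hG hRq le_rfl hr)
  refine ⟨B, hBR, hB, le_antisymm ?_ hBc⟩
  have h2 := Cfsg.Lib.OddP.pRankLE_of_injective (inclusion (hBR.trans hRM)) (inclusion_injective _)
    (pRankLE_of_not_sigma hG hM hσ) ⊤ ⟨⟨fun a b => Subtype.ext (Subtype.ext
      (ThompsonTransitivity.mul_comm_of hB.1 a.1.2 b.1.2))⟩⟩ (fun a _ => Subtype.ext (hB.2 a a.2))
  rwa [card_top] at h2

/-- Invariant `q`-subgroups of `M`, `q ∉ σ(M)`, are centralized. -/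
theorem Exc.centralizes_outside (hG : Cfsg.IsMinSimpleOddOrder G) (h : Exc p M A A₀) {q : ℕ}
    [hq : Fact q.Prime] (hqp : q ≠ p) (hσ : q ∉ Cfsg.sigma M) {R : Subgroup G} (hRq : IsPGroup q R)
    (hRM : R ≤ M) (hAR : A ≤ normalizer (R : Set G)) : A ≤ centralizer (R : Set G) := by
  by_contra hne
  have hsq := h.maxSq hG
  have hM := h.coatom
  have hβ : q ∉ Cfsg.beta M := fun hb => hσ (alpha_subset_sigma hG hM hb.1)
  obtain ⟨Q, hQ, hRQ, hAQ⟩ := exists_invariant_sylowOf hG hM hsq h.le hqp hβ hRq hRM hAR hne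
  have hneQ : ¬ A ≤ centralizer (Q : Set G) := fun hc => hne (hc.trans (Subgroup.centralizer_le hRQ))
  have hY := exists_fixed hG h hqp hσ hQ hAQ hneQ
  have hcop : (Nat.card A).Coprime (Nat.card Q) := by
    obtain ⟨j, hj⟩ := IsPGroup.iff_card.mp hQ.2.1
    rw [h.card, hj]
    exact (((Nat.coprime_primes hp.out hq.out).mpr hqp.symm).pow_left 2).pow_right j
  have hnc : ¬ IsCyclic Q := fun hc => by
    obtain ⟨v, hv, hv1⟩ := (Subgroup.ne_bot_iff_exists_ne_one.mp hY : ∃ a : ↥(Q ⊓ centralizer (A : Set G)), a ≠ 1)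
      |> fun ⟨v, hv⟩ => (⟨v, v.2, fun h0 => hv (Subtype.ext h0)⟩ : ∃ v ∈ Q ⊓ centralizer (A : Set G), v ≠ 1)
    exact hneQ (le_centralizer_iff.mp
      (ScnUniqueness.le_centralizer_of_cyclic hQ.2.1 hc hAQ hcop hv.1 hv1 hv.2))
  obtain ⟨B, hBQ, hB, hBc⟩ := exists_sq_le hG hM hσ hQ.2.1 hQ.1 hnc
  have hBsq := MaxSq.of_not_sigma hG hM hσ (hBQ.trans hQ.1) hB hBc
  have hQ1 : Q ≠ ⊥ := fun h0 => hnc (h0 ▸ inferInstance)
  obtain ⟨N, hN, hQN⟩ := exists_coatom_ge (MinSimpleTransitivity.normalizer_ne_top hG hQ1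
    (FittingUniqueness.ne_top_of_le_coatom hM hQ.1))
  have hQN' : Q ≤ N := le_normalizer.trans hQN
  have hAN : A ≤ N := hAQ.trans hQN
  have hσN : q ∈ Cfsg.sigma N := by
    by_contra hσN
    obtain ⟨B₀, hexc⟩ := exists_exc hG hN hσN (hBQ.trans hQN') hB hBc
    obtain ⟨S, hS, hQS⟩ := exists_sylowOf hQ.2.1 hQN'
    haveI := hexc.comm hG hS (hBQ.trans hQS)
    have hSM : S ≤ M := fun x hx => (rank_two_theorem hG hM (hBQ.trans hQ.1) hB hBc).1
      (mem_centralizer_iff.mpr fun b hb => ThompsonTransitivity.mul_comm_of inferInstance (hBQ.trans hQS hb) hx)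
    have hSQ : S = Q := hQ.2.2 S hS.2.1 hSM hQS
    exact sylow_normalizer_not_le hσN (hBsq.dvd (hBQ.trans hQN')) hS (hSQ ▸ hQN)
  by_cases hpN : p ∈ Cfsg.sigma N
  · refine hneQ ?_
    have hle : ⁅Q, A⁆ ≤ Q := Cfsg.Lib.Coprime.commutator_le_of_le_normalizer hAQ
    have hc := centralizes_of_derived hG hN (hBsq.not_beta N) (X := ⁅Q, A⁆) (Y := A) (commutator_mono hQN' hAN)
      (sylow_le_derived' hG hN hpN hsq.isPGroup hAN) (hQ.2.1.to_le hle) (coprime_of_ne hqp.symm hsq.isPGroup)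
      (Cfsg.Lib.Coprime.le_normalizer_commutator_right _ _)
    have hbot : ⁅Q, A⁆ = ⊥ := by
      rw [← Cfsg.Lib.Coprime.commutator_commutator_eq hAQ hcop
        (Or.inl (hG.2.2.2 A (FittingUniqueness.ne_top_of_le_coatom hM h.le))), commutator_eq_bot_iff_le_centralizer]
      exact le_centralizer_iff.mp hc
    exact le_centralizer_iff.mp (commutator_eq_bot_iff_le_centralizer.mp hbot)
  · obtain ⟨A₁, hexc⟩ := exists_exc hG hN hpN hAN h.ea h.card
    refine hY (le_bot_iff.mp ((inf_le_inf_right _ ?_).trans (hexc.inf_centralizer_eq_bot hG).le))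
    exact le_sigmaCore_of_pgroup hG hN hσN hQ.2.1 hQN'

/-- `M` normalizes `M_σ A`. -/
theorem Exc.normalizes_sup (hG : Cfsg.IsMinSimpleOddOrder G) (h : Exc p M A A₀) :
    M ≤ normalizer ((Cfsg.sigmaCore M ⊔ A : Subgroup G) : Set G) := by
  have hsq := h.maxSq hG
  have hM := h.coatom
  set W := Cfsg.sigmaCore M ⊔ A with hW
  have hσA : Cfsg.sigmaCore M ≤ normalizer (W : Set G) := le_sup_left.trans le_normalizer
  have hCA : ∀ X : Subgroup G, X ≤ M → X ≤ normalizer (A : Set G) → X ≤ normalizer (W : Set G) :=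
    fun X hXM hXA => Cfsg.Lib.Coprime.le_normalizer_sup (hXM.trans (le_normalizer_sigmaCore M)) hXA
  obtain ⟨S, hS, hAS⟩ := exists_sylowOf hsq.isPGroup h.le
  have hSC := h.central hG hS hAS
  set D := ⁅M, M⁆ with hD
  have hDM : D ≤ M := commutator_le_self M
  have hDn : M ≤ normalizer (D : Set G) := commutator_normal M
  have hDW : D ≤ normalizer (W : Set G) := by
    refine Cfsg.Lib.Coprime.le_of_forall_sylow fun q hq => ?_
    haveI := Fact.mk hq
    by_cases hσ : q ∈ Cfsg.sigma M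
    · obtain ⟨T⟩ : Nonempty (Sylow q D) := inferInstance
      exact ⟨T, (le_sigmaCore_of_pgroup hG hM hσ (T.2.map _) ((map_subtype_le _).trans hDM)).trans hσA⟩
    by_cases hqp : q = p
    · subst hqp
      obtain ⟨T, hT⟩ := ((hS.2.1.to_le (inf_le_left : S ⊓ D ≤ S)).comap_subtype (K := D)).exists_le_sylow
      obtain ⟨S', hS', hTS'⟩ := exists_sylowOf (T.2.map D.subtype) ((map_subtype_le _).trans hDM)
      obtain ⟨m, hm, hmS⟩ := card_eq_of_sylowOf hS' hS
      refine ⟨T, fun x hx => hCA S hS.1 (hSC.trans (centralizer_le_normalizer _)) ?_⟩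
      have h1 : (T : Subgroup D).map D.subtype = S ⊓ D := by
        refine (eq_of_le_of_card_ge (fun y hy => mem_map.mpr ⟨⟨y, hy.2⟩, hT hy, rfl⟩) ?_).symm
        rw [← Cfsg.Lib.Coprime.card_conjMap m ((T : Subgroup D).map D.subtype)]
        refine Nat.le_of_dvd Nat.card_pos (card_dvd_of_le (le_inf ?_ ?_))
        · exact (Cfsg.Lib.Coprime.conjMap_mono hTS').trans hmS.le
        · exact (Cfsg.Lib.Coprime.conjMap_mono (map_subtype_le _)).trans
            (Cfsg.Lib.Coprime.conjMap_eq_self (hDn hm)).le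
      exact (h1.le hx).1
    -- the normal `p`-complement of `D`
    set K := Cfsg.piCoreOf (Cfsg.primesNotDvd p) D with hK
    have hKD : K ≤ D := PiCoreOf.le _ _
    obtain ⟨P, N, hN, hNP⟩ := (beta_theorem hG hM hp.out (hsq.dvd h.le) (hsq.not_beta M)).1
    haveI := hN
    have hqK : ∀ Y : Subgroup G, IsPGroup q Y → Y ≤ D → Y ≤ K := by
      intro Y hY hYD
      obtain ⟨i, hi⟩ := IsPGroup.iff_card.mp P.2
      obtain ⟨j, hj⟩ := IsPGroup.iff_card.mp hY
      have hidx : N.index = p ^ i := by rw [hNP.symm.index_eq_card, ← hi]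
      have h1 : Y.subgroupOf D ≤ N := le_of_coprime_index (by
        rw [Nat.card_congr (subgroupOfEquivOfLe hYD).toEquiv, hj, hidx]
        exact (((Nat.coprime_primes hq hp.out).mpr hqp).pow_left j).pow_right i)
      have h2 : N.map D.subtype ≤ K := by
        refine PiCoreOf.le_piCoreOf (map_subtype_le _) (fun x hx => ?_) (PiCoreOf.isPiNat_of_coprime ?_)
        · refine Cfsg.Lib.Coprime.conjMap_eq_self_iff.mp
            (Cfsg.Lib.Coprime.eq_of_le_of_card_eq ?_ (Cfsg.Lib.Coprime.card_conjMap _ _))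
          rintro _ ⟨_, ⟨y, hy, rfl⟩, rfl⟩
          exact ⟨⟨x, hx⟩ * y * ⟨x, hx⟩⁻¹, hN.conj_mem y hy _, rfl⟩
        rw [card_map_of_injective D.subtype_injective]
        refine hp.out.coprime_iff_not_dvd.mpr fun hd => P.not_dvd_index ?_
        rwa [hNP.index_eq_card]
      exact fun y hy => h2 ⟨⟨y, hYD hy⟩, h1 hy, rfl⟩
    have hcop : (Nat.card A).Coprime (Nat.card K) := by
      rw [h.card]
      exact (PiCoreOf.coprime_card p D).pow_left 2
    obtain ⟨T, hT⟩ := Cfsg.Lib.Coprime.exists_invariant_sylow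
      (h.le.trans (hDn.trans (PiCoreOf.normalizer_le _ D))) hcop
      (Or.inl (hG.2.2.2 A (FittingUniqueness.ne_top_of_le_coatom hM h.le))) q
    obtain ⟨T', hT'⟩ := (((T.2.map K.subtype)).comap_subtype (K := D)).exists_le_sylow
    refine ⟨T', ?_⟩
    have h1 : (T' : Subgroup D).map D.subtype = (T : Subgroup K).map K.subtype := by
      have hle := hqK _ (T'.2.map D.subtype) (map_subtype_le _)
      have h2 : ((T' : Subgroup D).map D.subtype).subgroupOf K = T :=
        T.3 (T'.2.map D.subtype).comap_subtype fun x hx => mem_subgroupOf.mpr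
          (mem_map.mpr ⟨⟨x, hKD x.2⟩, hT' (mem_map_of_mem K.subtype hx), rfl⟩)
      rw [← h2, map_subgroupOf_eq_of_le hle]
    rw [h1]
    exact hCA _ ((map_subtype_le _).trans (hKD.trans hDM))
      ((le_centralizer_iff.mp (h.centralizes_outside hG hqp hσ (T.2.map _)
        ((map_subtype_le _).trans (hKD.trans hDM)) hT)).trans (centralizer_le_normalizer _))
  -- Frattini argument
  intro m hm
  set J := S ⊔ D with hJ
  have hJM : J ≤ M := sup_le hS.1 hDM
  have hSJ : IsSylowOf p S J := ⟨le_sup_left, hS.2.1, fun T hT hTJ hle => hS.2.2 T hT (hTJ.trans hJM) hle⟩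
  have hSJ' : IsSylowOf p (conjMap m S) J := by
    refine ⟨?_, hS.2.1.map _, fun T hT hTJ hle => ?_⟩
    · intro x hx
      obtain ⟨s, hs, rfl⟩ := mem_map.mp hx
      show m * s * m⁻¹ ∈ J
      rw [show m * s * m⁻¹ = ⁅m, s⁆ * s by simp [commutatorElement_def]]
      exact mul_mem (mem_sup_right (commutator_mem_commutator hm (hS.1 hs))) (mem_sup_left hs)
    · refine eq_of_le_of_card_ge hle ?_ |>.symm
      obtain ⟨S', hS', hTS'⟩ := exists_sylowOf hT (hTJ.trans hJM)
      obtain ⟨k, -, rfl⟩ := card_eq_of_sylowOf hS hS'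
      rw [Cfsg.Lib.Coprime.card_conjMap, ← Cfsg.Lib.Coprime.card_conjMap k S]
      exact Nat.le_of_dvd Nat.card_pos (card_dvd_of_le hTS')
  obtain ⟨j, hj, hjS⟩ := card_eq_of_sylowOf hSJ hSJ'
  have hjn : j⁻¹ * m ∈ normalizer (S : Set G) := by
    refine Cfsg.Lib.Coprime.conjMap_eq_self_iff.mp ?_
    rw [← Cfsg.Lib.Coprime.conjMap_mul, show conjMap m S = conjMap j S from hjS.symm,
      Cfsg.Lib.Coprime.conjMap_inv_conjMap]
  have h1 : j⁻¹ * m ∈ normalizer (W : Set G) := by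
    have hA := h.normalizer_le_normalizer hG hS hAS hjn
    have hM' : j⁻¹ * m ∈ M := mul_mem (inv_mem (hJM hj)) hm
    exact hCA (zpowers (j⁻¹ * m)) (zpowers_le.mpr hM') (zpowers_le.mpr hA) (mem_zpowers _)
  have h2 : j ∈ normalizer (W : Set G) :=
    sup_le (hCA S hS.1 (hSC.trans (centralizer_le_normalizer _))) hDW hj
  rw [show m = j * (j⁻¹ * m) by group]
  exact mul_mem h2 h1

/-- `M_σ` meets every other maximal subgroup containing `A` trivially. -/
theorem Exc.inf_other (hG : Cfsg.IsMinSimpleOddOrder G) (h : Exc p M A A₀) (hL : IsCoatom L) (hne : L ≠ M)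
    (hAL : A ≤ L) : Cfsg.sigmaCore M ⊓ L = ⊥ := by
  refine eq_bot_of_card_eq _ ?_
  by_contra h1
  obtain ⟨q, hq, hqd⟩ := Nat.exists_prime_and_dvd h1
  haveI := Fact.mk hq
  have hσ : q ∈ Cfsg.sigma M := sigmaCore_isPi q hq (hqd.trans (card_dvd_of_le inf_le_left))
  have hqp := h.ne_of_sigma hσ
  have hsq := h.maxSq hG
  set W := Cfsg.sigmaCore M ⊓ L with hW
  obtain ⟨T, hT⟩ := Cfsg.Lib.Coprime.exists_invariant_sylow
    (show A ≤ normalizer (W : Set G) from Cfsg.Lib.Coprime.le_normalizer_inf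
      (h.le.trans (le_normalizer_sigmaCore M)) (hAL.trans le_normalizer))
    (h.coprime_sigmaCore.coprime_dvd_right (card_dvd_of_le inf_le_left))
    (Or.inl (hG.2.2.2 A (FittingUniqueness.ne_top_of_le_coatom hL hAL))) q
  set R := (T : Subgroup W).map W.subtype with hR
  have hRσ : R ≤ Cfsg.sigmaCore M := (map_subtype_le _).trans inf_le_left
  have hR1 : R ≠ ⊥ := fun h0 => T.ne_bot_of_dvd_card hqd (by
    rwa [hR, map_eq_bot_iff_of_injective _ W.subtype_injective] at h0)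
  have hmove : ¬ A ≤ centralizer (R : Set G) := fun hc => hR1 (le_bot_iff.mp
    ((le_inf hRσ (le_centralizer_iff.mp hc)).trans (h.inf_centralizer_eq_bot hG).le))
  have hRM := hRσ.trans (sigmaCore_le M)
  have hRL : R ≤ L := (map_subtype_le _).trans inf_le_right
  have hpL := not_sigma_of_move hG h.coatom hL hne.symm hsq hAL hqp hσ (T.2.map _) hRM hRL hT hmove
  obtain ⟨A₁, hexc⟩ := exists_exc hG hL hpL hAL h.ea h.card
  obtain ⟨S, hS, -, hSn, -⟩ := sylow_sigma_normal hG h.coatom (h.nilpotent hG) hσ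
  refine inf_centralizer_ne_bot_of_dvd hG hsq hqp
    (dvd_centralizer_of_move hG h.coatom hexc hne.symm h.le hqp hσ (Or.inr (h.nilpotent hG)) (T.2.map _) hRM
      hRL hT hmove) (mem_max_of_sylowOf hσ hS (h.le.trans hSn)) (le_bot_iff.mp ?_)
  exact (inf_le_inf_right _ (le_sigmaCore_of_pgroup hG h.coatom hσ hS.2.1 hS.1)).trans
    (h.inf_centralizer_eq_bot hG).le

/-- Theorem 12.5. -/
theorem tau_two_theorem (hG : Cfsg.IsMinSimpleOddOrder G) (hM : IsCoatom M) (hσ : p ∉ Cfsg.sigma M)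
    (hAM : A ≤ M) (hA : Cfsg.IsElementaryAbelian p A) (hAc : Nat.card A = p ^ 2) :
    Group.IsNilpotent (Cfsg.sigmaCore M) ∧
      (∀ P : Sylow p M, IsMulCommutative (P : Subgroup M) ∧
        (A ≤ (P : Subgroup M).map M.subtype →
          (∀ x ∈ (P : Subgroup M).map M.subtype, x ^ p = 1 ↔ x ∈ A) ∧
          ¬ normalizer ((((P : Subgroup M).map M.subtype : Subgroup G)) : Set G) ≤ M)) ∧
      M ≤ normalizer ((Cfsg.sigmaCore M ⊔ A : Subgroup G) : Set G) ∧
      Cfsg.sigmaCore M ⊓ centralizer (A : Set G) = ⊥ ∧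
      (∀ L : Subgroup G, IsCoatom L → L ≠ M → A ≤ L → Cfsg.sigmaCore M ⊓ L = ⊥) ∧
      ∃ A₁ : Subgroup G, A₁ ≤ A ∧ Nat.card A₁ = p ∧ Cfsg.sigmaCore M ⊓ centralizer (A₁ : Set G) = ⊥ := by
  obtain ⟨A₀, h⟩ := exists_exc hG hM hσ hAM hA hAc
  have hsq := h.maxSq hG
  refine ⟨h.nilpotent hG, fun P => ⟨?_, fun hAP => ⟨fun x hx => h.mem_iff hG (isSylowOf_sylow P) hAP hx,
    sylow_normalizer_not_le hσ (hsq.dvd hAM) (isSylowOf_sylow P)⟩⟩, h.normalizes_sup hG,
    h.inf_centralizer_eq_bot hG, fun L hL hne hAL => h.inf_other hG hL hne hAL, ?_⟩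
  · obtain ⟨S, hS, hAS⟩ := exists_sylowOf hsq.isPGroup hAM
    haveI := h.comm hG hS hAS
    obtain ⟨m, -, hm⟩ := card_eq_of_sylowOf hS (isSylowOf_sylow P)
    have key : ∀ x ∈ (P : Subgroup M).map M.subtype, ∀ y ∈ (P : Subgroup M).map M.subtype, x * y = y * x := by
      rw [← hm]
      rintro _ ⟨a, ha, rfl⟩ _ ⟨b, hb, rfl⟩
      rw [← map_mul, ← map_mul, ThompsonTransitivity.mul_comm_of inferInstance ha hb]
    exact ⟨⟨fun a b => Subtype.ext (Subtype.ext
      (key _ (mem_map_of_mem M.subtype a.2) _ (mem_map_of_mem M.subtype b.2)))⟩⟩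
  · obtain ⟨a, -, ha, -, hao, -, haf, -, -⟩ := h.exists_fpf hG
    exact ⟨zpowers a, zpowers_le.mpr ha, by rw [Nat.card_zpowers, hao],
      by rwa [Cfsg.Lib.Coprime.centralizer_zpowers]⟩

end Cfsg.Lib.OddLocal.RankTwoMax
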