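import Cfsg.Agent.OddLocal.KappaHall

/-!
# The abelian normal subgroup of a complement carrying the `τ₂(M)`-elements
-/

set_option linter.unusedSectionVars false
set_option linter.unusedVariables false
set_option linter.style.haveILetI false

namespace Cfsg.Lib.OddLocal.RankTwoMax

open Subgroup Uniqueness Sigma
open Cfsg.Lib.Coprime (conjMap)
open scoped commutatorElement

universe u

variable {G : Type u} [Group G] [Finite G] {M E A A₀ : Subgroup G} {p r : ℕ} [hp : Fact p.Prime]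
  [hr : Fact r.Prime]

/-- An abelian Sylow group of `G` over `A` is normal in the complement. -/
theorem Exc.sylow_normal (hG : Cfsg.IsMinSimpleOddOrder G) (h : Exc p M A A₀)
    (hE : Cfsg.IsComplIn E (Cfsg.sigmaCore M) M) (hAE : A ≤ E) (T : Sylow p G)
    (hTc : IsMulCommutative (T : Subgroup G)) (hAT : A ≤ (T : Subgroup G)) :
    (T : Subgroup G) ≤ E ∧ E ≤ normalizer ((T : Subgroup G) : Set G) := by
  obtain ⟨⟨hEA, -⟩, ⟨hCM, hMN, -⟩, -⟩ := tau_two_complement hG h.coatom h.not_sigma hE hAE h.ea h.card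
  set C := centralizer (A : Set G) with hC
  set T₀ := (T : Subgroup G) with hT₀
  have hCE : C ≤ E := hCM.trans hMN.le
  have hTC : T₀ ≤ C := fun t ht => mem_centralizer_iff.mpr fun a ha =>
    ThompsonTransitivity.mul_comm_of hTc (hAT ha) ht
  have hTE : T₀ ≤ E := hTC.trans hCE
  refine ⟨hTE, ?_⟩
  have hTS : IsSylowOf p T₀ M := isSylowOf_coe T (hTE.trans hE.1)
  have hTSC : IsSylowOf p T₀ C := isSylowOf_coe T hTC
  set D := ⁅C, C⁆ with hD
  have hDC : D ≤ C := commutator_le_self C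
  have hDab : ∀ x ∈ D, ∀ y ∈ D, x * y = y * x := fun x hx y hy => ThompsonTransitivity.mul_comm_of
    (sigma_prime_corollary hG h.coatom hE).2.1 (commutator_mono hCE hCE hx) (commutator_mono hCE hCE hy)
  set N := normalizer (T₀ : Set G) with hN
  have hNA : N ≤ normalizer (A : Set G) := h.normalizer_le_normalizer hG hTS hAT
  have hND : N ≤ normalizer (D : Set G) := fun g hg => by
    refine Cfsg.Lib.Coprime.conjMap_eq_self_iff.mp ?_
    show (⁅C, C⁆).map _ = _
    rw [map_commutator, show C.map (MulAut.conj g).toMonoidHom = C from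
      Cfsg.Lib.Coprime.conjMap_eq_self (FittingParts.normalizer_centralizer_le A (hNA hg))]
  have hTN : T₀ ≤ ⁅N, N⁆ := le_derived_normalizer hG T
  have hDT : D ≤ centralizer (T₀ : Set G) := by
    refine Cfsg.Lib.Coprime.le_of_forall_sylow fun t ht => ?_
    haveI := Fact.mk ht
    obtain ⟨R₀⟩ : Nonempty (Sylow t D) := inferInstance
    refine ⟨R₀, ?_⟩
    set R := (R₀ : Subgroup D).map D.subtype with hR
    have hRD : R ≤ D := map_subtype_le _
    have hRS : IsSylowOf t R D := isSylowOf_sylow R₀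
    have huniq : ∀ X : Subgroup G, IsPGroup t X → X ≤ D → X ≤ R := fun X hX hXD x hx =>
      hRS.mem_of_centralizes (hXD hx) (centralizer_le_normalizer _ (mem_centralizer_iff.mpr fun y hy =>
        hDab y (hRD hy) x (hXD hx))) (hX.to_le (zpowers_le.mpr hx))
    have hNR : N ≤ normalizer (R : Set G) := fun g hg =>
      Cfsg.Lib.Coprime.conjMap_eq_self_iff.mp (Cfsg.Lib.Coprime.eq_of_le_of_card_eq
        (huniq _ (hRS.2.1.map _) ((Cfsg.Lib.Coprime.conjMap_mono hRD).trans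
          (Cfsg.Lib.Coprime.conjMap_eq_self (hND hg)).le)) (Cfsg.Lib.Coprime.card_conjMap g R))
    by_cases htp : t = p
    · subst htp
      have hRT : R ≤ T₀ := fun x hx => hTSC.mem_of_centralizes (hDC (hRD hx)) (by
        have h1 : IsPGroup t ↥(R ⊔ T₀) := hRS.2.1.to_sup_of_normal_left' T.2 (Subgroup.le_normalizer.trans hNR)
        have h2 : R ⊔ T₀ = T₀ := hTSC.2.2 _ h1 (sup_le (hRD.trans hDC) hTC) le_sup_right
        exact Subgroup.le_normalizer (h2.le (mem_sup_left hx))) (hRS.2.1.to_le (zpowers_le.mpr hx))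
      exact hRT.trans fun x hx => mem_centralizer_iff.mpr fun y hy => ThompsonTransitivity.mul_comm_of hTc hy hx
    by_cases hR1 : R = ⊥
    · rw [hR1]; exact bot_le
    have hRM : R ≤ M := ((hRD.trans hDC).trans hCE).trans hE.1
    have htσ : t ∉ Cfsg.sigma M := not_sigma_of_dvd hG h.coatom hE ht
      ((dvd_card_of_isPGroup hRS.2.1 hR1).trans (card_dvd_of_le ((hRD.trans hDC).trans hCE)))
    haveI : Group.IsSolvable N := hG.2.2.2 N (MinSimpleTransitivity.normalizer_ne_top hG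
      (fun h0 => (h.maxSq hG).ne_bot (le_bot_iff.mp (hAT.trans h0.le)))
      (FittingUniqueness.ne_top_of_le_coatom h.coatom hTS.1))
    refine le_centralizer_iff.mp fun x hx => Cfsg.Lib.OddP.derived_centralizes_rankTwo (p := t)
      (Uniqueness.ne_two hG hRS.2.1 hR1) hRS.2.1
      (Cfsg.Lib.OddP.pRankLE_of_injective (inclusion hRM) (inclusion_injective _)
        (pRankLE_of_not_sigma hG h.coatom htσ)) hNR (hG.1.of_dvd_nat (card_subgroup_dvd_card N)) (hTN hx) ?_
    obtain ⟨j, hj⟩ := IsPGroup.iff_card.mp (T.2.to_le (zpowers_le.mpr hx))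
    rw [← Nat.card_zpowers, hj]
    exact ((Nat.coprime_primes hp.out ht).mpr fun e => htp e.symm).pow_left j
  have hTnC : C ≤ N := fun c hc => by
    refine Cfsg.Lib.Coprime.conjMap_eq_self_iff.mp (Cfsg.Lib.Coprime.eq_of_le_of_card_eq ?_
      (Cfsg.Lib.Coprime.card_conjMap c T₀))
    rintro _ ⟨t, ht, rfl⟩
    show c * t * c⁻¹ ∈ T₀
    have hd : ⁅c, t⁆ ∈ D := commutator_mem_commutator hc (hTC ht)
    refine hTSC.mem_of_centralizes (mul_mem (mul_mem hc (hTC ht)) (inv_mem hc))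
      (centralizer_le_normalizer _ ?_) ?_
    · rw [show c * t * c⁻¹ = ⁅c, t⁆ * t by rw [commutatorElement_def]; group]
      exact mul_mem (hDT hd) (mem_centralizer_iff.mpr fun y hy => ThompsonTransitivity.mul_comm_of hTc hy ht)
    · have h1 := (T.2.to_le (zpowers_le.mpr ht)).map (MulAut.conj c).toMonoidHom
      rwa [MonoidHom.map_zpowers] at h1
  intro e he
  refine Cfsg.Lib.Coprime.conjMap_eq_self_iff.mp ?_
  have hsub : conjMap e T₀ ≤ C := (Cfsg.Lib.Coprime.conjMap_mono hTC).trans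
    (Cfsg.Lib.Coprime.conjMap_eq_self (FittingParts.normalizer_centralizer_le A (hEA he))).le
  have h1 : IsPGroup p ↥(T₀ ⊔ conjMap e T₀) := T.2.to_sup_of_normal_left' (T.2.map _) (hsub.trans hTnC)
  exact Cfsg.Lib.Coprime.eq_of_le_of_card_eq
    (le_sup_right.trans (T.3 h1 le_sup_left).le) (Cfsg.Lib.Coprime.card_conjMap e T₀)

/-- With a nonabelian Sylow group, `τ₂`-elements with fixed points in `M_σ` lie in `A`. -/
theorem tau_two_hat_nonabelian (hG : Cfsg.IsMinSimpleOddOrder G) (hM : IsCoatom M)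
    (hE : Cfsg.IsComplIn E (Cfsg.sigmaCore M) M) (hτ : p ∈ Cfsg.tau2 M)
    (hna : ∀ T : Sylow p G, ¬ IsMulCommutative (T : Subgroup G)) (hAE : A ≤ E)
    (hA : Cfsg.IsElementaryAbelian p A) (hAc : Nat.card A = p ^ 2) {u z : G} (huE : u ∈ E)
    (hup : IsPGroup p (zpowers u)) (hz : z ∈ Cfsg.sigmaCore M) (hz1 : z ≠ 1) (huz : u * z = z * u) : u ∈ A := by
  have hord := (sigma_prime_corollary hG hM hE)
  obtain ⟨⟨-, hline⟩, -, -⟩ := tau_two_complement hG hM hτ.2.1 hE hAE hA hAc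
  obtain ⟨j, hj⟩ := IsPGroup.iff_card.mp hup
  rw [Nat.card_zpowers] at hj
  rcases j with _ | j
  · rw [pow_zero, orderOf_eq_one_iff] at hj
    rw [hj]; exact one_mem _
  rcases j with _ | i
  · exact hline (zpowers u) (zpowers_le.mpr huE) (by rw [Nat.card_zpowers, hj, zero_add, pow_one]) (mem_zpowers u)
  exfalso
  set w := u ^ p ^ i with hw
  have hwo : orderOf (w ^ p) = p := by
    rw [hw, ← pow_mul, ← pow_succ, orderOf_pow' u (pow_ne_zero _ hp.out.ne_zero), hj,
      Nat.gcd_eq_right (pow_dvd_pow p (by omega)), Nat.pow_div (by omega) hp.out.pos,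
      show i + 1 + 1 - (i + 1) = 1 by omega, pow_one]
  have hwE : w ∈ E := pow_mem huE _
  obtain ⟨A₀, hexc⟩ := exists_exc hG hM hτ.2.1 (hAE.trans hE.1) hA hAc
  obtain ⟨S, hS, hAwS⟩ : ∃ S : Subgroup G, IsSylowOf p S M ∧ A ⊔ zpowers w ≤ S := by
    refine exists_sylowOf ((hexc.maxSq hG).isPGroup.to_sup_of_normal_left' (hup.to_le (zpowers_le.mpr
      (pow_mem (mem_zpowers u) _))) (zpowers_le.mpr (hexc.le_normalizer hG hE hAE hwE)))
      ((sup_le hAE (zpowers_le.mpr hwE)).trans hE.1)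
  have hAS : A ≤ S := le_sup_left.trans hAwS
  have hwS : w ∈ S := hAwS (mem_sup_right (mem_zpowers w))
  obtain ⟨P, hP⟩ := hS.2.1.exists_le_sylow
  obtain ⟨-, ⟨hZ0, -⟩, hlines⟩ := tau_two_nonabelian hG hM hE hτ hna hAE hA hAc
  obtain ⟨-, -, g, hgS, hgP, hgZ⟩ := hexc.nonabelian_lines hG hS hAS P hP (hna P)
  set Z := A ⊓ centralizer (Cfsg.sigmaCore M : Set G) with hZ
  have hwz : zpowers (w ^ p) = Z := by
    by_contra hne
    have h1 := (hlines (zpowers (w ^ p)) (zpowers_le.mpr (pow_mem hwE _)) (by rw [Nat.card_zpowers, hwo]) hne).1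
    rw [Cfsg.Lib.Coprime.centralizer_zpowers] at h1
    refine hz1 (mem_bot.mp (h1.le ⟨hz, mem_centralizer_singleton_iff.mpr ?_⟩))
    exact (((show Commute z u from huz.symm).pow_right _).pow_right _).eq
  obtain ⟨D, hD, hpow⟩ := (hexc.maxSq hG).pow_cyclic hG P (hAS.trans hP) (hna P)
  have hmem : ∀ x ∈ S, x ∈ (P : Subgroup G) ⊓ centralizer (A : Set G) := fun x hx =>
    ⟨hP hx, hexc.central hG hS hAS hx⟩
  have h1 : conjMap g Z ≤ D := by
    rw [← hwz, show conjMap g (zpowers (w ^ p)) = (zpowers (w ^ p)).map (MulAut.conj g).toMonoidHom from rfl,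
      MonoidHom.map_zpowers]
    refine zpowers_le.mpr ?_
    show g * w ^ p * g⁻¹ ∈ D
    rw [← conj_pow]
    exact hpow _ (hmem _ ((mem_normalizer_iff.mp hgS w).mp hwS))
  exact hgZ (eq_of_cyclic hD h1 (hwz ▸ zpowers_le.mpr (hpow w (hmem w hwS)))
    (Cfsg.Lib.Coprime.card_conjMap g Z))

/-- A complement has a normal abelian subgroup containing its `τ₂`-elements with fixed points. -/
theorem exists_tau_two_core (hG : Cfsg.IsMinSimpleOddOrder G) (hM : IsCoatom M)
    (hE : Cfsg.IsComplIn E (Cfsg.sigmaCore M) M) :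
    ∃ B : Subgroup G, B ≤ E ∧ E ≤ normalizer (B : Set G) ∧ IsMulCommutative B ∧
      (∀ t : ℕ, t ∈ Cfsg.tau2 M → ∀ X : Subgroup G, X ≤ E → Cfsg.IsElementaryAbelian t X →
        Nat.card X = t ^ 2 → X ≤ B) ∧
      ∀ u ∈ E, (∀ t : ℕ, t.Prime → t ∣ orderOf u → t ∈ Cfsg.tau2 M) → u ∈ Cfsg.sigmaHat M → u ∈ B := by
  by_cases hab : ∀ t : ℕ, t ∈ Cfsg.tau2 M → ∃ T : Sylow t G, IsMulCommutative (T : Subgroup G)
  · set Ts : Set (Subgroup G) := {T | ∃ t ∈ Cfsg.tau2 M, IsSylowOf t T E} with hTs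
    have key : ∀ t : ℕ, ∀ T : Subgroup G, t ∈ Cfsg.tau2 M → IsSylowOf t T E →
        IsMulCommutative T ∧ E ≤ normalizer (T : Set G) ∧
          ∀ X : Subgroup G, IsPGroup t X → X ≤ E → X ≤ T := by
      intro t T hτ hT
      haveI := Fact.mk hτ.1
      obtain ⟨X, hXE, hX, hXc⟩ := exists_sq_complement hG hM hE hτ
      obtain ⟨X₀, hexc⟩ := exists_exc hG hM hτ.2.1 (hXE.trans hE.1) hX hXc
      have hXT : X ≤ T := by
        have h1 : IsPGroup t ↥(X ⊔ T) := (hexc.maxSq hG).isPGroup.to_sup_of_normal_left' hT.2.1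
          (hT.1.trans (hexc.le_normalizer hG hE hXE))
        exact le_sup_left.trans (hT.2.2 _ h1 (sup_le hXE hT.1) le_sup_right).le
      obtain ⟨P, hP⟩ := hT.2.1.exists_le_sylow
      obtain ⟨Q, hQ⟩ := hab t hτ
      have hPc : IsMulCommutative (P : Subgroup G) := by
        obtain ⟨g, hg⟩ := MulAction.exists_smul_eq G Q P
        haveI := hQ
        have h2 : (P : Subgroup G) = conjMap g (Q : Subgroup G) := by
          rw [← hg, Sylow.coe_subgroup_smul, Cfsg.Lib.Coprime.conj_smul_eq]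
        rw [h2]
        refine ⟨⟨fun a b => Subtype.ext ?_⟩⟩
        obtain ⟨a', ha, hae⟩ := a.2
        obtain ⟨b', hb, hbe⟩ := b.2
        show (a : G) * b = b * a
        rw [← hae, ← hbe, ← map_mul, ← map_mul, ThompsonTransitivity.mul_comm_of hQ ha hb]
      obtain ⟨hPE, hEP⟩ := hexc.sylow_normal hG hE hXE P hPc (hXT.trans hP)
      have hTP : (P : Subgroup G) = T := hT.2.2 _ P.2 hPE hP
      refine ⟨hTP ▸ hPc, hTP ▸ hEP, fun Y hY hYE => ?_⟩
      have h1 : IsPGroup t ↥(T ⊔ Y) := hT.2.1.to_sup_of_normal_left' hY (hYE.trans (hTP ▸ hEP))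
      exact le_sup_right.trans (hT.2.2 _ h1 (sup_le hT.1 hYE) le_sup_left).le
    have hpair : ∀ T ∈ Ts, ∀ T' ∈ Ts, T ≤ centralizer (T' : Set G) := by
      rintro T ⟨t, ht, hT⟩ T' ⟨t', ht', hT'⟩
      obtain ⟨hc, hn, hu⟩ := key t T ht hT
      obtain ⟨hc', hn', hu'⟩ := key t' T' ht' hT'
      by_cases he : t = t'
      · subst he
        exact fun x hx => mem_centralizer_iff.mpr fun y hy =>
          ThompsonTransitivity.mul_comm_of hc' hy (hu' T hT.2.1 hT.1 hx)
      haveI := Fact.mk ht.1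
      haveI := Fact.mk ht'.1
      have hd : Disjoint T T' := IsPGroup.disjoint_of_ne t t' he _ _ hT.2.1 hT'.2.1
      intro x hx
      refine mem_centralizer_iff.mpr fun y hy => ?_
      refine (commutatorElement_eq_one_iff_mul_comm.mp (mem_bot.mp (hd.eq_bot.le ⟨?_, ?_⟩))).symm
      · show _ ∈ T
        rw [commutatorElement_def, mul_assoc, mul_assoc, ← mul_assoc y]
        exact mul_mem hx ((mem_normalizer_iff.mp (hn (hT'.1 hy)) _).mp (inv_mem hx))
      · show _ ∈ T'
        rw [commutatorElement_def]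
        exact mul_mem ((mem_normalizer_iff.mp (hn' (hT.1 hx)) _).mp hy) (inv_mem hy)
    have hBc : IsMulCommutative ↥(sSup Ts) := by
      have h1 : sSup Ts ≤ centralizer ((sSup Ts : Subgroup G) : Set G) := sSup_le fun T hT =>
        le_centralizer_iff.mp (sSup_le fun T' hT' => hpair T' hT' T hT)
      exact ⟨⟨fun a b => Subtype.ext ((mem_centralizer_iff.mp (h1 a.2)) b b.2).symm⟩⟩
    refine ⟨sSup Ts, sSup_le fun T ⟨_, _, hT⟩ => hT.1, fun e he => ?_, hBc, ?_, ?_⟩
    · refine Cfsg.Lib.Coprime.conjMap_eq_self_iff.mp (Cfsg.Lib.Coprime.eq_of_le_of_card_eq ?_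
        (Cfsg.Lib.Coprime.card_conjMap e _))
      refine map_le_iff_le_comap.mpr (sSup_le fun T hT => map_le_iff_le_comap.mp ?_)
      obtain ⟨t, ht, hT'⟩ := hT
      refine (Cfsg.Lib.Coprime.conjMap_eq_self ((key t T ht hT').2.1 he)).le.trans ?_
      exact le_sSup ⟨t, ht, hT'⟩
    · intro t ht X hXE hX _
      haveI := Fact.mk ht.1
      obtain ⟨T, hT, hXT⟩ := exists_sylowOf (isPGroup_of_pow hX.2) hXE
      exact hXT.trans (le_sSup ⟨t, ht, hT⟩)
    · intro u hu hτ _
      refine zpowers_le.mp (Cfsg.Lib.Coprime.le_of_forall_sylow fun t ht => ?_)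
      haveI := Fact.mk ht
      obtain ⟨R⟩ : Nonempty (Sylow t (zpowers u)) := inferInstance
      refine ⟨R, ?_⟩
      set R' := (R : Subgroup (zpowers u)).map (zpowers u).subtype with hR'
      by_cases hR1 : R' = ⊥
      · rw [hR1]; exact bot_le
      have hRp : IsPGroup t R' := R.2.map _
      have htτ := hτ t ht ((Nat.card_zpowers u) ▸
        (dvd_card_of_isPGroup hRp hR1).trans (card_dvd_of_le (map_subtype_le _)))
      obtain ⟨T, hT, hRT⟩ := exists_sylowOf hRp ((map_subtype_le _).trans (zpowers_le.mpr hu))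
      exact hRT.trans (le_sSup ⟨t, htτ, hT⟩)
  push Not at hab
  obtain ⟨t, hτ, hna⟩ := hab
  haveI := Fact.mk hτ.1
  obtain ⟨X, hXE, hX, hXc⟩ := exists_sq_complement hG hM hE hτ
  obtain ⟨hone, -, -⟩ := tau_two_nonabelian hG hM hE hτ hna hXE hX hXc
  obtain ⟨X₀, hexc⟩ := exists_exc hG hM hτ.2.1 (hXE.trans hE.1) hX hXc
  refine ⟨X, hXE, hexc.le_normalizer hG hE hXE, hX.1, ?_, fun u hu huτ hhat => ?_⟩
  · intro t' ht' Y hYE hY hYc
    obtain rfl : t' = t := hone.le ht'
    intro y hy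
    by_cases hy1 : y = 1
    · rw [hy1]; exact one_mem _
    exact hexc.order_p_le hG hE hXE (zpowers_le.mpr (hYE hy))
      (by rw [Nat.card_zpowers, orderOf_eq_prime (hY.2 y hy) hy1]) (mem_zpowers y)
  · obtain ⟨-, z, hz, hz1, huz⟩ := hhat
    refine tau_two_hat_nonabelian hG hM hE hτ hna hXE hX hXc hu ?_ hz hz1 huz
    refine isPGroup_zpowers_of_primes fun t' ht' hd => hone.le (huτ t' ht' hd)
where
  isPGroup_zpowers_of_primes {G : Type u} [Group G] [Finite G] {t : ℕ} [Fact t.Prime] {u : G}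
      (h : ∀ t' : ℕ, t'.Prime → t' ∣ orderOf u → t' = t) : IsPGroup t (zpowers u) :=
    IsPGroup.iff_card.mpr ⟨(orderOf u).primeFactorsList.length, by
      rw [Nat.card_zpowers]
      exact Nat.eq_prime_pow_of_unique_prime_dvd (orderOf_pos u).ne' fun {q} hq hd => h q hq hd⟩

end Cfsg.Lib.OddLocal.RankTwoMax
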