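import Cfsg.Agent.OddLocal.KappaDecomposition
import Cfsg.Agent.Coprime.CyclicQuotient

/-!
# An invariant line of `A` acting without fixed points on `M_σ`
-/

set_option linter.unusedSectionVars false
set_option linter.unusedVariables false
set_option linter.style.haveILetI false

namespace Cfsg.Lib.OddLocal.RankTwoMax

open Subgroup Uniqueness Sigma
open Cfsg.Lib.Coprime (conjMap)
open scoped commutatorElement

universe u

variable {G : Type u} [Group G] [Finite G] {M E U A A₀ : Subgroup G} {p r : ℕ} [hp : Fact p.Prime]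
  [hr : Fact r.Prime]

theorem sylow_comm_all {P Q : Sylow p G} (hQ : IsMulCommutative (Q : Subgroup G)) :
    IsMulCommutative (P : Subgroup G) := by
  obtain ⟨g, hg⟩ := MulAction.exists_smul_eq G Q P
  have h2 : (P : Subgroup G) = conjMap g (Q : Subgroup G) := by
    rw [← hg, Sylow.coe_subgroup_smul, Cfsg.Lib.Coprime.conj_smul_eq]
  rw [h2]
  refine ⟨⟨fun a b => Subtype.ext ?_⟩⟩
  obtain ⟨a', ha, hae⟩ := a.2
  obtain ⟨b', hb, hbe⟩ := b.2
  show (a : G) * b = b * a
  rw [← hae, ← hbe, ← map_mul, ← map_mul, ThompsonTransitivity.mul_comm_of hQ ha hb]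

/-- Another prime of `τ₂(M)` has abelian Sylow groups. -/
theorem tau_two_abelian_of_ne (hG : Cfsg.IsMinSimpleOddOrder G) (hM : IsCoatom M)
    (hE : Cfsg.IsComplIn E (Cfsg.sigmaCore M) M) (hr : r ∈ Cfsg.tau2 M) (hτ : p ∈ Cfsg.tau2 M) (hne : p ≠ r)
    (P : Sylow r G) : IsMulCommutative (P : Subgroup G) := by
  by_contra hna
  obtain ⟨B, hBE, hB, hBc⟩ := exists_sq_complement hG hM hE hr
  exact hne ((tau_two_nonabelian hG hM hE hr (fun T hT => hna (sylow_comm_all hT)) hBE hB hBc).1.le hτ)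

/-- A subgroup of `p`-power order normalizing `A` centralizes it, `A` in an abelian Sylow group. -/
theorem mem_centralizer_of_pgroup (T : Sylow p G) (hTc : IsMulCommutative (T : Subgroup G))
    (hAT : A ≤ (T : Subgroup G)) {x : G} (hx : x ∈ normalizer (A : Set G)) (hxp : IsPGroup p (zpowers x)) :
    x ∈ centralizer (A : Set G) := by
  set N := normalizer (A : Set G)
  set C := centralizer (A : Set G) with hC
  have hCN : C ≤ N := centralizer_le_normalizer _
  have hTC : (T : Subgroup G) ≤ C := fun t ht => mem_centralizer_iff.mpr fun a ha =>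
    ThompsonTransitivity.mul_comm_of hTc (hAT ha) ht
  haveI : (C.subgroupOf N).Normal :=
    (normal_subgroupOf_iff_le_normalizer hCN).mpr (FittingParts.normalizer_centralizer_le A)
  set f := QuotientGroup.mk' (C.subgroupOf N) with hf
  suffices hone : orderOf (f ⟨x, hx⟩) = 1 from
    mem_subgroupOf.mp ((QuotientGroup.eq_one_iff (⟨x, hx⟩ : N)).mp (orderOf_eq_one_iff.mp hone))
  obtain ⟨j, hj⟩ := IsPGroup.iff_card.mp hxp
  refine Nat.eq_one_of_dvd_coprimes (?_ : (p ^ j).Coprime (C.subgroupOf N).index) ?_ ?_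
  · refine (hp.out.coprime_iff_not_dvd.mpr fun hd => T.not_dvd_index ?_).pow_left j
    exact hd.trans ((C.relIndex_dvd_index_of_le hCN).trans (Subgroup.index_dvd_of_le hTC))
  · refine (orderOf_map_dvd f _).trans ?_
    rw [← hj, Nat.card_zpowers, Subgroup.orderOf_mk]
  · rw [Subgroup.index_eq_card]; exact orderOf_dvd_natCard _

/-- `N(A)/C(A)` is abelian. -/
theorem Exc.gamma_comm (hG : Cfsg.IsMinSimpleOddOrder G) (h : Exc p M A A₀) (T : Sylow p G)
    (hTc : IsMulCommutative (T : Subgroup G)) (hAT : A ≤ (T : Subgroup G)) {x y : G}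
    (hx : x ∈ normalizer (A : Set G)) (hy : y ∈ normalizer (A : Set G)) : ⁅x, y⁆ ∈ centralizer (A : Set G) := by
  set N := normalizer (A : Set G) with hN
  haveI : Group.IsSolvable N := hG.2.2.2 N (MinSimpleTransitivity.normalizer_ne_top hG (h.maxSq hG).ne_bot
    (FittingUniqueness.ne_top_of_le_coatom h.coatom h.le))
  set c := ⁅x, y⁆ with hc
  have hcD : c ∈ ⁅N, N⁆ := commutator_mem_commutator hx hy
  have hcN : c ∈ N := commutator_le_self N hcD
  refine zpowers_le.mp (Cfsg.Lib.Coprime.le_of_forall_sylow fun t ht => ?_)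
  haveI := Fact.mk ht
  obtain ⟨R₀⟩ : Nonempty (Sylow t (zpowers c)) := inferInstance
  refine ⟨R₀, fun w hw => ?_⟩
  have hwc : w ∈ zpowers c := map_subtype_le _ hw
  have hwt : IsPGroup t (zpowers w) := (R₀.2.map (zpowers c).subtype).to_le (zpowers_le.mpr hw)
  by_cases htp : t = p
  · subst htp
    exact mem_centralizer_of_pgroup T hTc hAT (zpowers_le.mpr hcN hwc) hwt
  refine Cfsg.Lib.OddP.derived_centralizes_rankTwo (p := p) (Uniqueness.ne_two hG (h.maxSq hG).isPGroup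
    (h.maxSq hG).ne_bot) (h.maxSq hG).isPGroup ?_ le_rfl (hG.1.of_dvd_nat (card_subgroup_dvd_card N))
    (zpowers_le.mpr hcD hwc) ?_
  · exact Cfsg.Lib.OddP.pRankLE_of_injective (inclusion h.le) (inclusion_injective _)
      (pRankLE_of_not_sigma hG h.coatom h.not_sigma)
  · obtain ⟨j, hj⟩ := IsPGroup.iff_card.mp hwt
    rw [← Nat.card_zpowers, hj]
    exact ((Nat.coprime_primes ht hp.out).mpr htp).pow_left j

/-- The fixed points of an element of `N(A)` are invariant under `N(A)`. -/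
theorem Exc.fixed_invariant (hG : Cfsg.IsMinSimpleOddOrder G) (h : Exc p M A A₀) (T : Sylow p G)
    (hTc : IsMulCommutative (T : Subgroup G)) (hAT : A ≤ (T : Subgroup G)) {x : G}
    (hx : x ∈ normalizer (A : Set G)) :
    normalizer (A : Set G) ≤ normalizer ((A ⊓ centralizer ({x} : Set G) : Subgroup G) : Set G) := fun y hy => by
  refine Cfsg.Lib.Coprime.conjMap_eq_self_iff.mp (Cfsg.Lib.Coprime.eq_of_le_of_card_eq ?_
    (Cfsg.Lib.Coprime.card_conjMap y _))
  rintro _ ⟨v, hv, rfl⟩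
  show y * v * y⁻¹ ∈ A ⊓ centralizer ({x} : Set G)
  have hw : y * v * y⁻¹ ∈ A := (mem_normalizer_iff.mp hy v).mp hv.1
  refine ⟨hw, mem_centralizer_singleton_iff.mpr ?_⟩
  have hvx : x * v = v * x := (mem_centralizer_singleton_iff.mp hv.2).symm
  have hcw : ⁅x, y⁆ * (y * v * y⁻¹) = y * v * y⁻¹ * ⁅x, y⁆ :=
    (mem_centralizer_iff.mp (h.gamma_comm hG T hTc hAT hx hy) _ hw).symm
  have h1 : x * (y * v * y⁻¹) * x⁻¹ = y * v * y⁻¹ :=
    calc x * (y * v * y⁻¹) * x⁻¹ = ⁅x, y⁆ * (y * (x * v * x⁻¹) * y⁻¹) * ⁅x, y⁆⁻¹ := by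
          rw [commutatorElement_def]; group
      _ = ⁅x, y⁆ * (y * v * y⁻¹) * ⁅x, y⁆⁻¹ := by rw [hvx, mul_inv_cancel_right]
      _ = y * v * y⁻¹ := by rw [hcw, mul_inv_cancel_right]
  exact (mul_inv_eq_iff_eq_mul.mp h1).symm

/-- A subgroup of a complement with rank one primes fixed point free leaves a line of `A` invariant. -/
theorem Exc.invariant_line (hG : Cfsg.IsMinSimpleOddOrder G) (h : Exc p M A A₀)
    (hE : Cfsg.IsComplIn E (Cfsg.sigmaCore M) M) (hAE : A ≤ E) (T : Sylow p G)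
    (hTc : IsMulCommutative (T : Subgroup G)) (hAT : A ≤ (T : Subgroup G)) (hUE : U ≤ E)
    (hfree : ∀ t : ℕ, t.Prime → t ∉ Cfsg.sigma M → Cfsg.PRankLE t 1 M → ∀ a ∈ U, orderOf a = t →
      Cfsg.sigmaCore M ⊓ centralizer ({a} : Set G) = ⊥) :
    ∃ X : Subgroup G, X ≤ A ∧ Nat.card X = p ∧ U ≤ normalizer (X : Set G) := by
  by_contra hno
  push Not at hno
  have hM := h.coatom
  obtain ⟨⟨hEA, -⟩, ⟨hCM, hMN, -⟩, -⟩ := tau_two_complement hG hM h.not_sigma hE hAE h.ea h.card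
  have hUA : U ≤ normalizer (A : Set G) := hUE.trans hEA
  have hCA : centralizer (A : Set G) ≤ M := hCM.trans inf_le_left
  have hAp : IsPGroup p A := (h.maxSq hG).isPGroup
  have key : ∀ x ∈ normalizer (A : Set G), x ∉ centralizer (A : Set G) →
      A ⊓ centralizer ({x} : Set G) = ⊥ := by
    intro x hx hxC
    set Z := A ⊓ centralizer ({x} : Set G) with hZ
    obtain ⟨i, hi, hic⟩ := (Nat.dvd_prime_pow hp.out).mp (h.card ▸ card_dvd_of_le (inf_le_left : Z ≤ A))
    rcases (show i = 0 ∨ i = 1 ∨ i = 2 by omega) with rfl | rfl | rfl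
    · exact eq_bot_of_card_eq _ (by rw [hic, pow_zero])
    · exact absurd (hUA.trans (h.fixed_invariant hG T hTc hAT hx))
        (hno Z inf_le_left (by rw [hic, pow_one]))
    · refine absurd (mem_centralizer_iff.mpr fun a ha => ?_) hxC
      exact mem_centralizer_singleton_iff.mp ((Cfsg.Lib.Coprime.eq_of_le_of_card_eq
        (inf_le_left : Z ≤ A) (hic.trans h.card.symm)).ge ha).2
  -- an element of `U` of prime power order moving `A`
  have hUC : ¬ U ≤ centralizer (A : Set G) := fun hle => by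
    refine hno A₀ h.line_le h.line_card ?_
    exact hle.trans ((Subgroup.centralizer_le (SetLike.coe_subset_coe.mpr h.line_le)).trans (centralizer_le_normalizer _))
  obtain ⟨t, ht, htR⟩ : ∃ t : ℕ, t.Prime ∧ ∀ R : Sylow t U,
      ¬ (R : Subgroup U).map U.subtype ≤ centralizer (A : Set G) := by
    by_contra h1
    push Not at h1
    exact hUC (Cfsg.Lib.Coprime.le_of_forall_sylow h1)
  haveI := Fact.mk ht
  obtain ⟨R₀⟩ : Nonempty (Sylow t U) := inferInstance
  obtain ⟨x, hxR, hxC⟩ := SetLike.not_le_iff_exists.mp (htR R₀)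
  have hxU : x ∈ U := map_subtype_le _ hxR
  obtain ⟨k, hk⟩ := IsPGroup.iff_card.mp ((R₀.2.map U.subtype).to_le (zpowers_le.mpr hxR))
  have hex : ∃ j, x ^ t ^ j ∈ centralizer (A : Set G) :=
    ⟨k, by rw [← hk, Nat.card_zpowers, pow_orderOf_eq_one]; exact one_mem _⟩
  classical
  obtain ⟨i, hi⟩ : ∃ i, Nat.find hex = i + 1 := ⟨Nat.find hex - 1, by
    have : Nat.find hex ≠ 0 := fun h0 => hxC (by simpa [h0] using Nat.find_spec hex)
    omega⟩
  set e := x ^ t ^ i with he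
  have heU : e ∈ U := pow_mem hxU _
  have heC : e ∉ centralizer (A : Set G) := Nat.find_min hex (by omega)
  have herC : e ^ t ∈ centralizer (A : Set G) := by
    rw [he, ← pow_mul, ← pow_succ, ← hi]; exact Nat.find_spec hex
  have hep : IsPGroup t (zpowers e) := ((R₀.2.map U.subtype).to_le (zpowers_le.mpr hxR)).to_le
    (zpowers_le.mpr (pow_mem (mem_zpowers x) _))
  have heA : e ∈ normalizer (A : Set G) := hUA heU
  have htp : t ≠ p := fun e' => by
    subst e'
    exact heC (mem_centralizer_of_pgroup T hTc hAT heA hep)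
  have he1 : e ≠ 1 := fun e' => heC (e' ▸ one_mem _)
  have htσ : t ∉ Cfsg.sigma M := not_sigma_of_dvd hG hM hE ht ((dvd_card_of_isPGroup hep (fun h0 =>
    he1 (zpowers_eq_bot.mp h0))).trans (card_dvd_of_le (zpowers_le.mpr (hUE heU))))
  have hpτ : p ∈ Cfsg.tau2 M := ⟨hp.out, h.not_sigma, pRankLE_of_not_sigma hG hM h.not_sigma,
    not_pRankLE_of h.ea h.le (k := 1) h.card.ge⟩
  have hnorm : ∀ R : Subgroup G, IsPGroup t R → A ≤ normalizer (R : Set G) → e ∈ R → False := by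
    intro R hR hAR heR
    refine heC (mem_centralizer_iff.mpr fun a ha => ?_)
    refine (commutatorElement_eq_one_iff_mul_comm.mp (Cfsg.Lib.Coprime.eq_one_of_coprime (N := R) (H := A)
      ?_ ?_ ?_)).symm
    · rw [h.card]; exact (coprime_of_ne htp hR).pow_right 2
    · rw [commutatorElement_def, mul_assoc, mul_assoc, ← mul_assoc a]
      exact mul_mem heR ((mem_normalizer_iff.mp (hAR ha) _).mp (inv_mem heR))
    · rw [commutatorElement_def]
      exact mul_mem ((mem_normalizer_iff.mp heA a).mp ha) (inv_mem ha)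
  have htr : Cfsg.PRankLE t 1 M := by
    by_contra hh
    have htτ : t ∈ Cfsg.tau2 M := ⟨ht, htσ, pRankLE_of_not_sigma hG hM htσ, hh⟩
    obtain ⟨B, hBE, hB, hBc⟩ := exists_sq_complement hG hM hE htτ
    obtain ⟨B₀, hexr⟩ := exists_exc hG hM htσ (hBE.trans hE.1) hB hBc
    have heB : zpowers e ≤ normalizer (B : Set G) :=
      (zpowers_le.mpr (hUE heU)).trans (hexr.le_normalizer hG hE hBE)
    obtain ⟨P, hP⟩ := ((isPGroup_of_pow hB.2).to_sup_of_normal_left' hep heB).exists_le_sylow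
    obtain ⟨-, hEP⟩ := hexr.sylow_normal hG hE hBE P (tau_two_abelian_of_ne hG hM hE htτ hpτ htp.symm P)
      (le_sup_left.trans hP)
    exact hnorm _ P.2 (hAE.trans hEP) (hP (mem_sup_right (mem_zpowers e)))
  by_cases her : e ^ t = 1
  · have heo : orderOf e = t := orderOf_eq_prime her he1
    have hfA : A ⊓ centralizer ({e} : Set G) = ⊥ := key e heA heC
    have hH := sigmaCore_ne_bot hG hM
    have hcoσ : (Nat.card (Cfsg.sigmaCore M)).Coprime (Nat.card A) :=
      (h.coprime_sigmaCore).symm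
    have hcent : A ≤ centralizer (Cfsg.sigmaCore M : Set G) := le_centralizer_of_fpf (p := t) heo
      (hG.2.2.2 _ (FittingUniqueness.ne_top_of_le_coatom hM (sigmaCore_le M))) (zpowers_le.mpr heA)
      (h.le.trans (le_normalizer_sigmaCore M))
      (zpowers_le.mpr (le_normalizer_sigmaCore M (hE.1 (hUE heU)))) (coprime_of_ne htp.symm hAp)
      (ht.coprime_iff_not_dvd.mpr fun hd => htσ (sigmaCore_isPi t ht hd)).symm hcoσ hfA
      (hfree t ht htσ htr e heU heo)
    refine hH ?_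
    rw [← h.inf_centralizer_eq_bot hG, inf_eq_left.mpr (le_centralizer_iff.mp hcent)]
  -- an element of order `t` centralizing `A`
  obtain ⟨e₁, he₁, he₁o⟩ := ScnUniqueness.exists_orderOf (hep.to_le (zpowers_le.mpr (pow_mem (mem_zpowers e) t)))
    (fun h0 => her (zpowers_eq_bot.mp h0))
  have he₁C : e₁ ∈ centralizer (A : Set G) := zpowers_le.mpr herC he₁
  have he₁c : Nat.card (zpowers e₁) = t := by rw [Nat.card_zpowers, he₁o]
  obtain ⟨L, hL, hNL⟩ := exists_coatom_ge (MinSimpleTransitivity.normalizer_ne_top hG (line_ne_bot he₁c)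
    (FittingUniqueness.ne_top_of_le_coatom hM (zpowers_le.mpr (hCA he₁C))))
  have hCL : centralizer ({e₁} : Set G) ≤ L := by
    rw [← Cfsg.Lib.Coprime.centralizer_zpowers]; exact (centralizer_le_normalizer _).trans hNL
  have hAL : A ≤ L := fun a ha => hCL (mem_centralizer_singleton_iff.mpr (mem_centralizer_iff.mp he₁C a ha))
  have heL : e ∈ L := by
    refine hCL (mem_centralizer_singleton_iff.mpr ?_)
    obtain ⟨n, hn⟩ := mem_zpowers_iff.mp he₁
    rw [← hn, ← zpow_natCast, ← zpow_mul]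
    exact (Commute.self_zpow e _).eq
  have hpβ : p ∉ Cfsg.beta L := fun hβ => by
    obtain ⟨B, hBT, hB, hAB⟩ := hβ.2.2.2 T A hAT h.ea h.card
    have hTM : (T : Subgroup G) ≤ M := fun x hx => hCA (mem_centralizer_iff.mpr fun a ha =>
      ThompsonTransitivity.mul_comm_of hTc (hAT ha) hx)
    exact hAB.not_ge fun b hb => (h.mem_iff hG (isSylowOf_coe T hTM) hAT (hBT hb)).mp (hB.2 b hb)
  by_cases htL : t ∈ Cfsg.sigma L
  · have heσ : e ∈ Cfsg.sigmaCore L :=
      le_sigmaCore_of_pgroup hG hL htL hep (zpowers_le.mpr heL) (mem_zpowers e)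
    have hpL : p ∈ Cfsg.sigma L := by
      by_contra hpL
      refine heC (mem_centralizer_iff.mpr fun a ha => (commutatorElement_eq_one_iff_mul_comm.mp
        (Cfsg.Lib.Coprime.eq_one_of_coprime (N := Cfsg.sigmaCore L) (H := A) ?_ ?_ ?_)).symm)
      · exact coprime_card_of_disjoint fun s hs h1 h2 =>
          hpL (eq_of_dvd_pgroup hAp hs h2 ▸ sigmaCore_isPi s hs h1)
      · rw [commutatorElement_def, mul_assoc, mul_assoc, ← mul_assoc a]
        exact mul_mem heσ ((mem_normalizer_iff.mp (le_normalizer_sigmaCore L (hAL ha)) _).mp (inv_mem heσ))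
      · rw [commutatorElement_def]
        exact mul_mem ((mem_normalizer_iff.mp heA a).mp ha) (inv_mem ha)
    have hpn : PNil p ↥(Cfsg.sigmaCore L) :=
      pnil_of_le_derived hG hL hpL.2.1 hpβ (sigmaCore_le_derived hG hL)
    have heK : e ∈ Op p (Cfsg.sigmaCore L) := by
      rw [Op_eq]
      refine ⟨⟨e, heσ⟩, hpn ⟨e, heσ⟩ ?_, rfl⟩
      obtain ⟨j, hj⟩ := IsPGroup.iff_card.mp hep
      rw [Subgroup.orderOf_mk, ← Nat.card_zpowers, hj]
      exact ((Nat.coprime_primes ht hp.out).mpr htp).pow_left j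
    refine heC (mem_centralizer_iff.mpr fun a ha => (commutatorElement_eq_one_iff_mul_comm.mp
      (Cfsg.Lib.Coprime.eq_one_of_coprime (N := Op p (Cfsg.sigmaCore L)) (H := A) ?_ ?_ ?_)).symm)
    · rw [h.card]; exact (coprime_Op _).pow_right 2
    · rw [commutatorElement_def, mul_assoc, mul_assoc, ← mul_assoc a]
      exact mul_mem heK ((mem_normalizer_iff.mp (((le_normalizer_sigmaCore L).trans
        (PiCoreOf.normalizer_le _ _)) (hAL ha)) _).mp (inv_mem heK))
    · rw [commutatorElement_def]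
      exact mul_mem ((mem_normalizer_iff.mp heA a).mp ha) (inv_mem ha)
  have htτL : t ∈ Cfsg.tau2 L :=
    ⟨ht, htL, pRankLE_of_not_sigma hG hL htL, (exists_sq_ge hG hL htL he₁c hNL).1⟩
  have hAe : zpowers e ≤ normalizer (A : Set G) := zpowers_le.mpr heA
  by_cases hpL : p ∈ Cfsg.sigma L
  swap
  · obtain ⟨F, hF, hleF⟩ := exists_complement_ge hG hL (X := A ⊔ zpowers e)
      (sup_le hAL (zpowers_le.mpr heL)) fun s hs hd => by
        rcases dvd_card_sup hAe hs hd with hh | hh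
        · exact eq_of_dvd_pgroup hAp hs hh ▸ hpL
        · exact eq_of_dvd_pgroup hep hs hh ▸ htL
    have hpτL : p ∈ Cfsg.tau2 L := ⟨hp.out, hpL, pRankLE_of_not_sigma hG hL hpL,
      not_pRankLE_of h.ea hAL (k := 1) h.card.ge⟩
    obtain ⟨B, hBF, hB, hBc⟩ := exists_sq_complement hG hL hF htτL
    obtain ⟨B₀, hexr⟩ := exists_exc hG hL htL (hBF.trans hF.1) hB hBc
    have heB : zpowers e ≤ normalizer (B : Set G) :=
      (le_sup_right.trans hleF).trans (hexr.le_normalizer hG hF hBF)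
    obtain ⟨P, hP⟩ := ((isPGroup_of_pow hB.2).to_sup_of_normal_left' hep heB).exists_le_sylow
    obtain ⟨-, hFP⟩ := hexr.sylow_normal hG hF hBF P (tau_two_abelian_of_ne hG hL hF htτL hpτL htp.symm P)
      (le_sup_left.trans hP)
    exact hnorm _ P.2 ((le_sup_left.trans hleF).trans hFP) (hP (mem_sup_right (mem_zpowers e)))
  obtain ⟨F, hF, hleF⟩ := exists_complement_ge hG hL (zpowers_le.mpr heL) fun s hs hd =>
    eq_of_dvd_pgroup hep hs hd ▸ htL
  obtain ⟨B, hBF, hB, hBc⟩ := exists_sq_complement hG hL hF htτL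
  obtain ⟨B₀, hexr⟩ := exists_exc hG hL htL (hBF.trans hF.1) hB hBc
  have heB : zpowers e ≤ normalizer (B : Set G) := hleF.trans (hexr.le_normalizer hG hF hBF)
  set Q := B ⊔ zpowers e with hQ
  have hQp : IsPGroup t Q := (isPGroup_of_pow hB.2).to_sup_of_normal_left' hep heB
  haveI hQc : IsMulCommutative Q :=
    comm_of_not_sigma hG hL htL hQp (sup_le (hBF.trans hF.1) (zpowers_le.mpr heL))
  -- `B` normalizes `A`
  obtain ⟨P₁, hP₁, hAP₁⟩ := exists_sylowOf (M := Cfsg.sigmaCore L) hAp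
    (le_sigmaCore_of_pgroup hG hL hpL hAp hAL)
  have hPL : IsSylowOf p P₁ L := ⟨hP₁.1.trans (sigmaCore_le L), hP₁.2.1, fun S hS hSL hle =>
    hP₁.2.2 S hS (le_sigmaCore_of_pgroup hG hL hpL hS hSL) hle⟩
  obtain ⟨P, hP⟩ := hP₁.2.1.exists_le_sylow
  have hPP : (P : Subgroup G) = P₁ := sylow_max hpL hPL P.2 hP
  have hP₁c : IsMulCommutative P₁ := hPP ▸ sylow_comm_all hTc
  have hP₁M : P₁ ≤ M := fun x hx => hCA (mem_centralizer_iff.mpr fun a ha =>
    ThompsonTransitivity.mul_comm_of hP₁c (hAP₁ ha) hx)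
  have hP₁S : IsSylowOf p P₁ M := hPP ▸ isSylowOf_coe P (hPP ▸ hP₁M)
  have hLn : L ≤ normalizer (P₁ : Set G) := by
    intro l hl
    have hlS : IsSylowOf p (conjMap l P₁) (Cfsg.sigmaCore L) :=
      ⟨(Cfsg.Lib.Coprime.conjMap_mono hP₁.1).trans
          (Cfsg.Lib.Coprime.conjMap_eq_self (le_normalizer_sigmaCore L hl)).le, hP₁.2.1.map _,
        fun S hS hSC hle => by
          have h1 : conjMap l⁻¹ S ≤ Cfsg.sigmaCore L := (Cfsg.Lib.Coprime.conjMap_mono hSC).trans
            (Cfsg.Lib.Coprime.conjMap_eq_self (le_normalizer_sigmaCore L (inv_mem hl))).le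
          have h2 := hP₁.2.2 (conjMap l⁻¹ S) (hS.map _) h1 (by
            have h3 := Cfsg.Lib.Coprime.conjMap_mono (g := l⁻¹) hle
            rwa [Cfsg.Lib.Coprime.conjMap_inv_conjMap] at h3)
          rw [← h2, Cfsg.Lib.Coprime.conjMap_conjMap_inv]⟩
    obtain ⟨S, hS⟩ := hP₁.exists_sylow
    have hnil : Group.IsNilpotent (Cfsg.sigmaCore L) :=
      (tau_two_theorem hG hL htL (hBF.trans hF.1) hB hBc).1
    haveI hSn : (S : Subgroup (Cfsg.sigmaCore L)).Normal :=
      ((Group.isNilpotent_of_finite_tfae (G := Cfsg.sigmaCore L)).out 0 3 rfl rfl).mp hnil p inferInstance S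
    obtain ⟨m, hm, hmP⟩ := card_eq_of_sylowOf hP₁ hlS
    refine Cfsg.Lib.Coprime.conjMap_eq_self_iff.mp ?_
    rw [← hmP, ← hS]
    refine Cfsg.Lib.Coprime.eq_of_le_of_card_eq ?_ (Cfsg.Lib.Coprime.card_conjMap m _)
    rintro _ ⟨_, ⟨v, hv, rfl⟩, rfl⟩
    exact ⟨_, hSn.conj_mem v hv ⟨m, hm⟩, rfl⟩
  have hQA : Q ≤ normalizer (A : Set G) := sup_le (fun y hy => by
    refine Cfsg.Lib.Coprime.conjMap_eq_self_iff.mp (Cfsg.Lib.Coprime.eq_of_le_of_card_eq ?_
      (Cfsg.Lib.Coprime.card_conjMap y A))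
    rintro _ ⟨a, ha, rfl⟩
    refine (h.mem_iff hG hP₁S hAP₁ ((mem_normalizer_iff.mp (hLn (hF.1 (hBF hy))) a).mp (hAP₁ ha))).mp ?_
    show (y * a * y⁻¹) ^ p = 1
    rw [conj_pow, h.ea.2 a ha, mul_one, mul_inv_cancel]) hAe
  have hjoin := Cfsg.Lib.Coprime.le_join_cyclicQuot (A := Q) _ ⊥ A le_rfl bot_le hQA
    (by rw [h.card]; exact (coprime_of_ne htp hQp).pow_right 2) bot_le
  obtain ⟨D, ⟨hDQ, a, haQ, hDa⟩, hDC⟩ : ∃ D ∈ Cfsg.Lib.Coprime.cyclicQuot Q, D ≤ centralizer (A : Set G) := by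
    by_contra h1
    push Not at h1
    refine (h.maxSq hG).ne_bot (le_bot_iff.mp (hjoin.trans (iSup₂_le fun D hD => ?_)))
    obtain ⟨y, hy, hyC⟩ := SetLike.not_le_iff_exists.mp (h1 D hD)
    exact ((inf_le_inf_left A (Subgroup.centralizer_le (Set.singleton_subset_iff.mpr hy))).trans
      (key y (hQA (hD.1 hy)) hyC).le)
  have hcomm : ∀ u ∈ Q, ∀ v ∈ Q, u * v = v * u := fun u hu v hv => ThompsonTransitivity.mul_comm_of hQc hu hv
  have hQn : ∀ S : Subgroup G, S ≤ Q → Q ≤ normalizer (S : Set G) := fun S hS u hu =>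
    centralizer_le_normalizer _ (mem_centralizer_iff.mpr fun v hv => hcomm v (hS hv) u hu)
  have hatC : a ^ t ∈ centralizer (A : Set G) := by
    obtain ⟨b, hb, w, hw, rfl⟩ := (Cfsg.Lib.Coprime.mem_sup_of_le_normalizer heB).mp haQ
    rw [(show Commute b w from hcomm b (mem_sup_left hb) w (mem_sup_right hw)).mul_pow, hB.2 b hb, one_mul]
    obtain ⟨n, rfl⟩ := mem_zpowers_iff.mp hw
    rw [← zpow_natCast, ← zpow_mul, mul_comm, zpow_mul, zpow_natCast]
    exact zpow_mem herC n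
  obtain ⟨c, hc, w, hw, hcw⟩ := (Cfsg.Lib.Coprime.mem_sup_of_le_normalizer
    ((zpowers_le.mpr haQ).trans (hQn D hDQ))).mp (hDa.ge (mem_sup_right (mem_zpowers e)))
  obtain ⟨n, rfl⟩ := mem_zpowers_iff.mp hw
  have hn : ¬ (t : ℤ) ∣ n := by
    rintro ⟨m, rfl⟩
    refine heC (hcw ▸ mul_mem (hDC hc) ?_)
    rw [zpow_mul, zpow_natCast]
    exact zpow_mem hatC m
  obtain ⟨u, v, huv⟩ := ((Nat.prime_iff_prime_int.mp ht).coprime_iff_not_dvd).mpr hn
  have haM : a ∈ M := by
    have h2 : a ^ n ∈ M := by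
      rw [show a ^ n = c⁻¹ * e by rw [← hcw, inv_mul_cancel_left]]
      exact mul_mem (inv_mem (hCA (hDC hc))) (hE.1 (hUE heU))
    rw [show a = (a ^ (t : ℤ)) ^ u * (a ^ n) ^ v by
      rw [← zpow_mul, ← zpow_mul, ← zpow_add, mul_comm (t : ℤ), mul_comm n, huv, zpow_one]]
    exact mul_mem (zpow_mem (by rw [zpow_natCast]; exact hCA hatC) u) (zpow_mem h2 v)
  exact not_le_of_rank_one htr hB hBc (le_sup_left.trans (hDa.ge.trans
    (sup_le (hDC.trans hCA) (zpowers_le.mpr haM))))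

/-- An invariant line of `A` without fixed points on `M_σ`. -/
theorem Exc.free_line (hG : Cfsg.IsMinSimpleOddOrder G) (h : Exc p M A A₀)
    (hE : Cfsg.IsComplIn E (Cfsg.sigmaCore M) M) (hAE : A ≤ E) (T : Sylow p G)
    (hTc : IsMulCommutative (T : Subgroup G)) (hAT : A ≤ (T : Subgroup G)) (hUE : U ≤ E)
    (hfree : ∀ t : ℕ, t.Prime → t ∉ Cfsg.sigma M → Cfsg.PRankLE t 1 M → ∀ a ∈ U, orderOf a = t →
      Cfsg.sigmaCore M ⊓ centralizer ({a} : Set G) = ⊥) :
    ∃ X : Subgroup G, X ≤ A ∧ Nat.card X = p ∧ U ≤ normalizer (X : Set G) ∧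
      Cfsg.sigmaCore M ⊓ centralizer (X : Set G) = ⊥ := by
  obtain ⟨Z, hZA, hZc, hZn⟩ := h.invariant_line hG hE hAE T hTc hAT hUE hfree
  by_cases hfix : Cfsg.sigmaCore M ⊓ centralizer (Z : Set G) = ⊥
  · exact ⟨Z, hZA, hZc, hZn, hfix⟩
  obtain ⟨⟨hEA, -⟩, ⟨-, -, hnle⟩, huniq⟩ :=
    tau_two_complement hG h.coatom h.not_sigma hE hAE h.ea h.card
  obtain ⟨g, hgA, hgM⟩ := SetLike.not_le_iff_exists.mp hnle
  have hgA' : conjMap g Z ≤ A := (Cfsg.Lib.Coprime.conjMap_mono hZA).trans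
    (Cfsg.Lib.Coprime.conjMap_eq_self hgA).le
  refine ⟨conjMap g Z, hgA', by rw [Cfsg.Lib.Coprime.card_conjMap, hZc], fun x hx => ?_, ?_⟩
  · rw [Cfsg.Lib.Coprime.normalizer_conjMap, Cfsg.Lib.Coprime.mem_conjMap,
      show g⁻¹ * x * g = x * ⁅x⁻¹, g⁻¹⁆ by rw [commutatorElement_def]; group]
    exact mul_mem (hZn hx) (centralizer_le_normalizer _ (Subgroup.centralizer_le (SetLike.coe_subset_coe.mpr hZA)
      (h.gamma_comm hG T hTc hAT (inv_mem (hEA (hUE hx))) (inv_mem hgA))))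
  · by_contra hfix'
    have h1 := (huniq (conjMap g Z) hgA' (by rw [Cfsg.Lib.Coprime.card_conjMap, hZc]) hfix').1
    have h2 := huniq Z hZA hZc hfix
    have h3 : centralizer (Z : Set G) ≤ conjMap g⁻¹ M := by
      intro y hy
      rw [Cfsg.Lib.Coprime.mem_conjMap, inv_inv]
      refine h1 (mem_centralizer_conjMap.mpr ?_)
      exact ⟨y, hy, rfl⟩
    have h4 := eq_of_conj_fix hG h.coatom (h2.2 _ (conjMap_coatom h.coatom g⁻¹) h3)
    exact hgM (by simpa using inv_mem h4)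

end Cfsg.Lib.OddLocal.RankTwoMax
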