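import Cfsg.Agent.OddLocal.PiCoreOf

/-!
# Thompson transitivity
-/

set_option linter.unusedSectionVars false
set_option linter.style.haveILetI false

namespace Cfsg.Lib.OddLocal.ThompsonTransitivity

open Subgroup
open Transitivity (ConjUnder)
open scoped commutatorElement

universe u

variable {G : Type u} [Group G] [Finite G] {p : ℕ} [hp : Fact p.Prime]

theorem class_two (hS : ∀ S : Sylow p G, Group.IsNilpotent (S : Subgroup G) ∧
      Group.nilpotencyClass (S : Subgroup G) ≤ 2)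
    {S : Subgroup G} (h : IsPGroup p S) : ∀ x ∈ S, ∀ y ∈ S, ∀ z ∈ S,
      (x⁻¹ * (y * x * y⁻¹)) * z = z * (x⁻¹ * (y * x * y⁻¹)) := by
  intro x hx y hy z hz
  obtain ⟨T, hT⟩ := h.exists_le_sylow
  haveI := (hS T).1
  have h2 := Subgroup.lowerCentralSeries_eq_bot_iff_nilpotencyClass_le.mpr (hS T).2
  let x' : (T : Subgroup G) := ⟨x, hT hx⟩
  let y' : (T : Subgroup G) := ⟨y, hT hy⟩
  let z' : (T : Subgroup G) := ⟨z, hT hz⟩
  have h3 : ⁅⁅x'⁻¹, y'⁆, z'⁆ = 1 := by
    rw [← mem_bot, ← h2, Subgroup.lowerCentralSeries_succ, Subgroup.lowerCentralSeries_succ]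
    exact commutator_mem_commutator (commutator_mem_commutator (mem_top _) (mem_top _)) (mem_top _)
  have h4 := congrArg Subtype.val (commutatorElement_eq_one_iff_mul_comm.mp h3)
  simpa [x', y', z', commutatorElement_def, mul_assoc] using h4

theorem mul_comm_of {A : Subgroup G} (hA : IsMulCommutative A) {a b : G} (ha : a ∈ A) (hb : b ∈ A) :
    a * b = b * a :=
  haveI := hA
  setLike_mul_comm ha hb

/-- Transitivity, given that invariant `p'`-subgroups of the local subgroups are in their cores. -/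
theorem transitive_of_local {A E : Subgroup G} (hAp : IsPGroup p A) (hAc : IsMulCommutative A)
    (hEA : E ≤ A) (hE : Cfsg.IsElementaryAbelian p E) (hE3 : p ^ 3 ≤ Nat.card E)
    (hc : ∀ T : Subgroup G, IsPGroup p T → T ≠ ⊥ →
      InvariantCore.QuotientConstrained p (normalizer (T : Set G)))
    (h2 : p = 2 → ∀ S : Subgroup G, IsPGroup p S → ∀ x ∈ S, ∀ y ∈ S, ∀ z ∈ S,
      (x⁻¹ * (y * x * y⁻¹)) * z = z * (x⁻¹ * (y * x * y⁻¹)))
    (hAfull : ∀ x ∈ centralizer (A : Set G), IsPGroup p (zpowers x) → x ∈ A)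
    {K : Subgroup G} (hKc : K ≤ centralizer (A : Set G))
    (hK : ∀ c ∈ centralizer (A : Set G), (orderOf c).Coprime (Nat.card A) → c ∈ K)
    {q : ℕ} [Fact q.Prime] (hqp : q ≠ p) :
    ∀ Q₁ ∈ Cfsg.maxInvSubgroups ⊤ A {q}, ∀ Q₂ ∈ Cfsg.maxInvSubgroups ⊤ A {q}, ConjUnder K Q₁ Q₂ := by
  obtain ⟨k, hk⟩ := IsPGroup.iff_card.mp hAp
  have hk1 : k ≠ 0 := by
    rintro rfl
    have := (Nat.one_lt_pow (by norm_num) hp.out.one_lt : 1 < p ^ 3).trans_le
      (hE3.trans (Nat.le_of_dvd Nat.card_pos (card_dvd_of_le hEA)))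
    rw [hk, pow_zero] at this
    exact lt_irrefl 1 this
  have hAsol : Group.IsSolvable A := by
    haveI := hAp.isNilpotent
    infer_instance
  have hqA : ¬ q ∣ Nat.card A := fun h =>
    hqp ((Nat.prime_dvd_prime_iff_eq (Fact.out : q.Prime) hp.out).mp
      ((Fact.out : q.Prime).dvd_of_dvd_pow (hk ▸ h)))
  have hAC : ∀ e ∈ E, A ≤ centralizer ({e} : Set G) := fun e he a ha =>
    mem_centralizer_singleton_iff.mpr (mul_comm_of hAc ha (hEA he))
  have hCN : ∀ e : G, centralizer ({e} : Set G) ≤ normalizer (zpowers e : Set G) := fun e => by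
    rw [← Cfsg.Lib.Coprime.centralizer_zpowers]
    exact centralizer_le_normalizer _
  refine Transitivity.transitive hAsol hEA hE hE3
    (fun a ha => mem_centralizer_iff.mpr fun e he => mul_comm_of hAc (hEA he) ha) hKc hK
    (fun e => Cfsg.piCoreOf (Cfsg.primesNotDvd (Nat.card A)) (normalizer (zpowers e : Set G)))
    (fun e he _ => (hAC e he).trans ((hCN e).trans (PiCoreOf.le_normalizer' _ _)))
    (fun e _ _ => PiCoreOf.coprime_card _ _) ?_ hqA
  intro e he he1 Y hY hcop hAY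
  have hep : IsPGroup p (zpowers e) := hAp.to_le (zpowers_le.mpr (hEA he))
  refine PiCoreOf.le_of_constrained (p := p) (fun r hr hrd => ?_) (hc _ hep (by simpa using he1)) h2
    ((hAC e he).trans (hCN e)) (hY.trans (hCN e)) hAp hAfull ?_ hAY
  · rw [hk] at hrd
    exact (Nat.prime_dvd_prime_iff_eq hr hp.out).mp (hr.dvd_of_dvd_pow hrd)
  · rw [hk] at hcop
    exact ((Nat.coprime_pow_left_iff (Nat.pos_of_ne_zero hk1) _ _).mp hcop).symm

/-- If an abelian `p`-group contains the `p`-elements centralizing it, the elements of order prime to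
`p` of its centralizer form the `p'`-core. -/
theorem mem_core_of_full {A : Subgroup G} (hAp : IsPGroup p A) (hAc : IsMulCommutative A)
    (hAfull : ∀ x ∈ centralizer (A : Set G), IsPGroup p (zpowers x) → x ∈ A) {c : G}
    (hc : c ∈ centralizer (A : Set G)) (hcop : (orderOf c).Coprime p) :
    c ∈ Cfsg.piCoreOf (Cfsg.primesNotDvd p) (centralizer (A : Set G)) := by
  set C := centralizer (A : Set G) with hC
  have hAC : A ≤ C := fun a ha =>
    mem_centralizer_iff.mpr fun b hb => mul_comm_of hAc hb ha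
  set A' := A.subgroupOf C with hA'
  have hcentral : ∀ a ∈ A', ∀ x : C, x * a = a * x := fun a ha x =>
    Subtype.ext (mem_centralizer_iff.mp x.2 (a : G) ha).symm
  haveI : A'.Normal := ⟨fun a ha x => by rw [hcentral a ha x, mul_inv_cancel_right]; exact ha⟩
  have hA'p : IsPGroup p A' := hAp.comap_subtype
  obtain ⟨S, hS⟩ := hA'p.exists_le_sylow
  have hSA : (S : Subgroup C) ≤ A' := fun x hx => hAfull _ x.2 (by
    have h1 := (S.2.to_le (zpowers_le.mpr hx)).map C.subtype
    rwa [MonoidHom.map_zpowers] at h1)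
  have heq : A' = (S : Subgroup C) := le_antisymm hS hSA
  obtain ⟨K, hK⟩ := exists_right_complement'_of_coprime (N := A') (heq ▸ S.card_coprime_index)
  haveI : K.Normal := ⟨fun k hk x => by
    obtain ⟨a, ha, l, hl, rfl⟩ := mem_sup_of_normal_left.mp (hK.sup_eq_top.symm ▸ mem_top x)
    rw [show a * l * k * (a * l)⁻¹ = a * (l * k * l⁻¹) * a⁻¹ by group,
      ← hcentral a ha (l * k * l⁻¹), mul_inv_cancel_right]
    exact mul_mem (mul_mem hl hk) (inv_mem hl)⟩
  have hKcop : (Nat.card K).Coprime p := by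
    have h1 : Nat.card K = A'.index := by
      rw [hK.symm.index_eq_card]
    rw [h1, heq]
    exact (hp.out.coprime_iff_not_dvd.mpr S.not_dvd_index).symm
  refine ⟨⟨c, hc⟩, ?_, rfl⟩
  refine Cfsg.Lib.Elementary.le_piCore (N := K)
    (PiCoreOf.isPiNat_of_coprime hKcop.symm) ?_
  obtain ⟨a, ha, l, hl, hal⟩ := mem_sup_of_normal_left.mp (hK.sup_eq_top.symm ▸ mem_top (⟨c, hc⟩ : C))
  have hord : orderOf (⟨c, hc⟩ : C) = orderOf c := orderOf_mk c hc
  have h1 : a ^ orderOf c * l ^ orderOf c = 1 := by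
    rw [← (show Commute a l from (hcentral a ha l).symm).mul_pow, hal, ← hord, pow_orderOf_eq_one]
  have h2 : a ^ orderOf c = 1 := by
    have : a ^ orderOf c ∈ K := by
      rw [eq_inv_of_mul_eq_one_left h1]; exact inv_mem (pow_mem hl _)
    exact (mem_bot).mp (hK.disjoint.le_bot ⟨pow_mem ha _, this⟩)
  obtain ⟨j, hj⟩ := hA'p ⟨a, ha⟩
  have h3 : a = 1 := orderOf_eq_one_iff.mp (Nat.dvd_one.mp
    ((hcop.pow_right j) ▸ Nat.dvd_gcd (orderOf_dvd_of_pow_eq_one h2)
      (orderOf_dvd_of_pow_eq_one (congrArg Subtype.val hj))))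
  rw [h3, one_mul] at hal
  exact hal ▸ hl

/-- Thompson's transitivity theorem for constrained local subgroups. -/
theorem transitive_constrained
    (hloc : ∀ T : Subgroup G, IsPGroup p T → T ≠ ⊥ → Cfsg.IsPConstrained p ↥(normalizer (T : Set G)))
    (h2 : p = 2 → ∀ S : Sylow p G, Group.IsNilpotent (S : Subgroup G) ∧
      Group.nilpotencyClass (S : Subgroup G) ≤ 2)
    {E : Subgroup G} (hEp : IsPGroup p E) (hEc : IsMulCommutative E) (hE3 : ¬ Cfsg.PRankLE p 2 E)
    (hEfull : ∀ x ∈ centralizer (E : Set G), IsPGroup p (zpowers x) → x ∈ E)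
    {q : ℕ} [Fact q.Prime] (hqp : q ≠ p) :
    ∀ Q₁ ∈ Cfsg.maxInvSubgroups ⊤ E {q}, ∀ Q₂ ∈ Cfsg.maxInvSubgroups ⊤ E {q},
      ConjUnder (Cfsg.piCoreOf (Cfsg.primesNotDvd p) (centralizer (E : Set G))) Q₁ Q₂ := by
  simp only [Cfsg.PRankLE, not_forall, not_le] at hE3
  obtain ⟨F, hFc, hFp, hF⟩ := hE3
  have hF3 : p ^ 3 ≤ Nat.card (F.map E.subtype) := by
    rw [Subgroup.card_map_of_injective E.subtype_injective]
    obtain ⟨j, hj⟩ := IsPGroup.iff_card.mp (hEp.to_subgroup F)
    rw [hj] at hF ⊢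
    exact Nat.pow_le_pow_right hp.out.pos ((Nat.pow_lt_pow_iff_right hp.out.one_lt).mp hF)
  have hFe : Cfsg.IsElementaryAbelian p (F.map E.subtype) :=
    ⟨⟨⟨fun a b => Subtype.ext (mul_comm_of hEc (map_subtype_le _ a.2) (map_subtype_le _ b.2))⟩⟩,
      by rintro _ ⟨x, hx, rfl⟩; simpa using congrArg Subtype.val (hFp x hx)⟩
  refine transitive_of_local hEp hEc (map_subtype_le F) hFe hF3
    (fun T hT hT1 => InvariantCore.quotientConstrained_of_isPConstrained (hloc T hT hT1))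
    (fun hp2 S hS => class_two (h2 hp2) hS) hEfull (PiCoreOf.le _ _) (fun c hc hcop => ?_) hqp
  refine mem_core_of_full hEp hEc hEfull hc (hcop.coprime_dvd_right ?_)
  have h1 : p ^ 3 ∣ Nat.card (F.map E.subtype) := by
    obtain ⟨j, hj⟩ := IsPGroup.iff_card.mp (hEp.to_le (map_subtype_le F))
    rw [hj] at hF3 ⊢
    exact pow_dvd_pow p ((Nat.pow_le_pow_iff_right hp.out.one_lt).mp hF3)
  exact (dvd_pow_self p (by norm_num)).trans (h1.trans (card_dvd_of_le (map_subtype_le F)))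

end Cfsg.Lib.OddLocal.ThompsonTransitivity
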