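import Cfsg.Agent.OddLocal.ThompsonTransitivity

/-!
# Thompson transitivity in a group of odd order
-/

set_option linter.unusedSectionVars false
set_option linter.style.haveILetI false

namespace Cfsg.Lib.OddLocal.ThompsonTransitivity

open Subgroup

universe u

variable {X : Type u} [Group X] [Finite X] {p : ℕ} [hp : Fact p.Prime]

theorem transitive_odd (hX : Odd (Nat.card X))
    (hloc : ∀ T : Subgroup X, IsPGroup p T → T ≠ ⊥ → Group.IsSolvable (normalizer (T : Set X)))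
    (P : Sylow p X) {B : Subgroup X} (hBP : B ≤ (P : Subgroup X))
    (hBn : ∀ x ∈ (P : Subgroup X), ∀ b ∈ B, x * b * x⁻¹ ∈ B) (hBa : IsMulCommutative B)
    (hBc : (P : Subgroup X) ⊓ centralizer (B : Set X) = B)
    (hB3 : ∃ E : Subgroup X, E ≤ B ∧ (∀ e ∈ E, e ^ p = 1) ∧ p ^ 3 ≤ Nat.card E)
    {q : ℕ} [Fact q.Prime] (hqp : q ≠ p) {Q₁ Q₂ : Subgroup X}
    (h₁ : Q₁ ∈ Cfsg.maxInvSubgroups ⊤ B {q}) (h₂ : Q₂ ∈ Cfsg.maxInvSubgroups ⊤ B {q}) :
    ∃ c ∈ centralizer (B : Set X), Q₂ = Q₁.map (MulAut.conj c).toMonoidHom := by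
  obtain ⟨E, hEB, hEp, hE3⟩ := hB3
  have hBp : IsPGroup p B := P.2.to_le hBP
  have hp2 : p ≠ 2 := by
    rintro rfl
    obtain ⟨j, hj⟩ := IsPGroup.iff_card.mp (hBp.to_le hEB)
    have hj0 : j ≠ 0 := by
      rintro rfl
      rw [hj] at hE3
      norm_num at hE3
    exact Nat.not_even_iff_odd.mpr hX (even_iff_two_dvd.mpr
      ((hj ▸ dvd_pow_self 2 hj0 : 2 ∣ Nat.card E).trans (card_subgroup_dvd_card E)))
  have hnorm : (P : Subgroup X) ≤ normalizer (B : Set X) := fun x hx => by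
    refine mem_normalizer_iff.mpr fun b => ⟨hBn x hx b, fun hb => ?_⟩
    simpa [mul_assoc] using hBn x⁻¹ (inv_mem hx) _ hb
  exact transitive_of_local hBp hBa hEB
    ⟨⟨⟨fun a b => Subtype.ext (mul_comm_of hBa (hEB a.2) (hEB b.2))⟩⟩, hEp⟩ hE3
    (fun T hT hT1 => by
      haveI := hloc T hT hT1
      exact InvariantCore.quotientConstrained_of_solvable)
    (fun h => absurd h hp2) (fun x hx hxp => PiCoreOf.mem_of_scn P hnorm hBc hx hxp) le_rfl
    (fun c hc _ => hc) hqp Q₁ h₁ Q₂ h₂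

end Cfsg.Lib.OddLocal.ThompsonTransitivity
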