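import Cfsg.Agent.OddLocal.FittingNonTI
import Cfsg.Agent.OddLocal.KappaHat
import Cfsg.Agent.OddLocal.KappaTypeTwoNormalizer
import Cfsg.Agent.OddChar.PF.TypeMap

/-!
# The data of the types of maximal subgroups
-/

set_option linter.unusedSectionVars false
set_option linter.unusedVariables false
set_option linter.style.haveILetI false

namespace Cfsg.Lib.OddLocal.RankTwoMax

open Subgroup Uniqueness Sigma
open Cfsg.Lib.Coprime (conjMap)
open scoped commutatorElement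

universe u

variable {G : Type u} [Group G] [Finite G] {M X H K U U' U₀ U₁ E D W₁ W₂ : Subgroup G} {g x y : G}

local notation "fix(" M ", " K ")" => Cfsg.sigmaCore M ⊓ centralizer (SetLike.coe K)

theorem coe_mem_fittingHallOf {m : X} : (m : G) ∈ Cfsg.fittingHallOf X ↔ m ∈ Cfsg.fittingHall X :=
  mem_map_iff_mem X.subtype_injective

/-- Frobenius type from data inside `G`. -/
theorem isOfTypeF_of (hsol : Group.IsSolvable X) (hodd : Odd (Nat.card X))
    (hH : Cfsg.fittingHallOf X ≠ ⊥) (hne : U ≠ ⊥) (hc : Cfsg.IsComplIn (Cfsg.fittingHallOf X) U X)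
    (h₁ : U₁ ≤ U) (h₁n : U ≤ normalizer (U₁ : Set G)) (h₁c : IsMulCommutative U₁)
    (h₁x : ∀ x ∈ Cfsg.fittingHallOf X, x ≠ 1 → U ⊓ centralizer ({x} : Set G) ≤ U₁)
    (h₀ : U₀ ≤ U) (h₀e : Monoid.exponent U₀ = Monoid.exponent U)
    (h₀f : ∀ u ∈ U₀, u ≠ 1 → ∀ x ∈ Cfsg.fittingHallOf X, u * x = x * u → x = 1) : Cfsg.IsOfTypeF X := by
  have hUX := hc.2.1
  have hcard : ∀ {V : Subgroup G}, V ≤ X → Nat.card (V.subgroupOf X) = Nat.card V := fun h =>
    Nat.card_congr (subgroupOfEquivOfLe h).toEquiv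
  have hF : Nat.card (Cfsg.fittingHall X) = Nat.card (Cfsg.fittingHallOf X) :=
    (card_map_of_injective X.subtype_injective).symm
  refine ⟨hsol, hodd, fun h => hH (by rw [Cfsg.fittingHallOf, h, Subgroup.map_bot]), fun h => hne ?_,
    U.subgroupOf X, fun h => hne ?_, ?_, ⟨U₁.subgroupOf X, fun u hu => h₁ hu, ?_, ?_, ?_⟩,
    U₀.subgroupOf X, fun u hu => h₀ hu, ?_, ?_⟩
  · have h1 : Cfsg.fittingHallOf X = X := by rw [Cfsg.fittingHallOf, h, ← MonoidHom.range_eq_map, range_subtype]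
    refine le_bot_iff.mp (hc.2.2.1 ▸ ?_)
    rw [h1]
    exact le_inf hUX le_rfl
  · exact le_bot_iff.mp (fun u hu => by
      have h1 : (⟨u, hUX hu⟩ : X) ∈ U.subgroupOf X := hu
      rw [h, mem_bot] at h1
      exact congrArg Subtype.val h1)
  · refine isComplement'_of_card_mul_and_disjoint ?_ ?_
    · rw [hcard hUX, hF, ← compl_card hc]
    · rw [disjoint_iff]
      refine le_bot_iff.mp fun u hu => ?_
      have h1 : (u : G) ∈ Cfsg.fittingHallOf X ⊓ U := ⟨coe_mem_fittingHallOf.mpr hu.1, hu.2⟩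
      rw [hc.2.2.1, mem_bot] at h1
      exact Subtype.ext h1
  · intro u hu
    refine mem_normalizer_iff.mpr fun w => ?_
    simp only [mem_subgroupOf, Subgroup.coe_mul, Subgroup.coe_inv]
    exact mem_normalizer_iff.mp (h₁n hu) w
  · exact ⟨⟨fun a b => Subtype.ext (Subtype.ext (by
      simpa using congrArg Subtype.val
        (h₁c.is_comm.comm (⟨((a : X) : G), a.2⟩ : U₁) ⟨((b : X) : G), b.2⟩)))⟩⟩
  · intro x hx hx1 u hu
    exact h₁x x (coe_mem_fittingHallOf.mpr hx) (fun e => hx1 (Subtype.ext e)) ⟨hu.1,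
      mem_centralizer_singleton_iff.mpr (congrArg Subtype.val (mem_centralizer_singleton_iff.mp hu.2))⟩
  · rw [Monoid.exponent_eq_of_mulEquiv (subgroupOfEquivOfLe (h₀.trans hUX)),
      Monoid.exponent_eq_of_mulEquiv (subgroupOfEquivOfLe hUX), h₀e]
  · intro u hu hu1 x hx hc'
    exact Subtype.ext (h₀f u hu (fun e => hu1 (Subtype.ext e)) x (coe_mem_fittingHallOf.mpr hx)
      (congrArg Subtype.val hc'))

/-- The data of Frobenius type, inside `G`. -/
theorem typeF_data (h : Cfsg.IsOfTypeF X) :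
    ∃ U U₀ : Subgroup G, Cfsg.IsComplIn (Cfsg.fittingHallOf X) U X ∧ U ≠ ⊥ ∧ U₀ ≤ U ∧
      Monoid.exponent U₀ = Monoid.exponent U ∧
      ∀ u ∈ U₀, u ≠ 1 → ∀ x ∈ Cfsg.fittingHallOf X, u * x = x * u → x = 1 := by
  obtain ⟨-, -, -, -, U, hU, hc, -, U₀, h₀, h₀e, h₀f⟩ := h
  refine ⟨U.map X.subtype, U₀.map X.subtype, ⟨map_subtype_le _, map_subtype_le _, ?_, fun m hm => ?_⟩,
    fun h => hU ((map_eq_bot_iff_of_injective _ X.subtype_injective).mp h), map_mono h₀, ?_, ?_⟩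
  · rw [Cfsg.fittingHallOf, ← map_inf _ _ _ X.subtype_injective, hc.disjoint.eq_bot, Subgroup.map_bot]
  · obtain ⟨⟨a, b⟩, hab⟩ := hc.2 (⟨m, hm⟩ : X)
    exact ⟨_, mem_map_of_mem _ a.2, _, mem_map_of_mem _ b.2, congrArg Subtype.val hab.symm⟩
  · rw [← Monoid.exponent_eq_of_mulEquiv (U₀.equivMapOfInjective _ X.subtype_injective),
      ← Monoid.exponent_eq_of_mulEquiv (U.equivMapOfInjective _ X.subtype_injective), h₀e]
  · rintro _ ⟨u, hu, rfl⟩ hu1 _ ⟨x, hx, rfl⟩ hc'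
    exact congrArg Subtype.val (h₀f u hu (fun e => hu1 (by rw [e]; rfl)) x hx (Subtype.ext hc'))

theorem no_kappa_of_bot (hd : Cfsg.IsSigmaDecomposition M K U) (hK : K = ⊥) :
    Cfsg.kappa M = ∅ := by
  refine Set.eq_empty_of_forall_notMem fun r hr => hd.hall.2.2 r hr.1 hr ?_
  rw [hK, relIndex_bot_left]
  exact hr.2.1

/-- A `κ`-element fixes a nonidentity element of `M_F`. -/
theorem kappa_element_fix (hG : Cfsg.IsMinSimpleOddOrder G) (hM : IsCoatom M) (hy : y ∈ M)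
    (hκ : ∀ r : ℕ, r.Prime → r ∣ orderOf y → r ∈ Cfsg.kappa M) :
    ∃ z ∈ Cfsg.fittingHallOf M, z ≠ 1 ∧ y * z = z * y := by
  have hY : ∀ r : ℕ, r.Prime → r ∣ Nat.card ↥(zpowers y) → r ∈ Cfsg.kappa M := fun r hr hd =>
    hκ r hr (Nat.card_zpowers y ▸ hd)
  obtain ⟨E, hE, hyE⟩ := exists_complement_ge hG hM (zpowers_le.mpr hy) fun r hr hd => (hY r hr hd).2.2.1
  obtain ⟨K', U', hyK, hK', -, hd'⟩ := exists_decomp_ge hG hM hE hyE hY
  obtain ⟨z, hz, hz1⟩ := (Subgroup.bot_or_exists_ne_one _).resolve_left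
    (kappa_group_fixed_ne hG hM hK'.1 hK'.2.1)
  exact ⟨z, fix_le_fittingHall hG hM hd' hz, hz1,
    mem_centralizer_iff.mp hz.2 y (hyK (mem_zpowers y))⟩

/-- A subgroup of Frobenius type has no `κ`-primes. -/
theorem kappa_trivial_of_typeF (hG : Cfsg.IsMinSimpleOddOrder G) (hM : IsCoatom M)
    (hd : Cfsg.IsSigmaDecomposition M K U) (h : Cfsg.IsOfTypeF M) : K = ⊥ := by
  by_contra hK
  obtain ⟨r, hr, hdr⟩ := Nat.exists_prime_and_dvd (mt card_eq_one.mp hK)
  haveI := Fact.mk hr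
  have hκ := hd.hall.2.1 r hr hdr
  obtain ⟨V, V₀, hc, -, h₀, h₀e, h₀f⟩ := typeF_data h
  have hrV : r ∣ Nat.card V := by
    have h1 : r ∣ Nat.card (Cfsg.fittingHallOf M) * Nat.card V := compl_card hc ▸ hκ.2.1
    refine (hr.dvd_mul.mp h1).resolve_left fun h2 => hκ.2.2.1 ?_
    exact sigmaCore_isPi r hr (h2.trans (card_dvd_of_le (fittingHallOf_le_sigmaCore hG hM)))
  obtain ⟨v, hv⟩ := exists_prime_orderOf_dvd_card' r hrV
  have h1 : r ∣ Monoid.exponent V₀ := by rw [h₀e, ← hv]; exact Monoid.order_dvd_exponent v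
  obtain ⟨u, hu⟩ : ∃ u : V₀, orderOf u = r := by
    refine exists_prime_orderOf_dvd_card' r ?_
    exact h1.trans Group.exponent_dvd_nat_card
  have huo : orderOf (u : G) = r := (Subgroup.orderOf_coe u).trans hu
  obtain ⟨z, hz, hz1, hc'⟩ := kappa_element_fix hG hM (hc.2.1 (h₀ u.2)) fun s hs hd' => by
    rw [huo] at hd'
    rwa [(Nat.prime_dvd_prime_iff_eq hs hr).mp hd']
  exact hz1 (h₀f u u.2 (fun e => by rw [e, orderOf_one] at huo; exact hr.one_lt.ne huo) z hz hc')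

theorem U_ne_bot (hG : Cfsg.IsMinSimpleOddOrder G) (hM : IsCoatom M)
    (hd : Cfsg.IsSigmaDecomposition M K U) (hK : K = ⊥) : U ≠ ⊥ := fun hU => by
  refine (derived_lt hG hM).not_ge (fun m hm => ?_)
  obtain ⟨a, ha, b, hb, rfl⟩ := hd.compl.2.2.2 m hm
  rw [hK, bot_sup_eq] at hb
  rw [hU, mem_bot] at ha
  rw [ha, one_mul]
  exact sigmaCore_le_derived hG hM hb

theorem fittingHall_eq_of_ne (hG : Cfsg.IsMinSimpleOddOrder G) (hM : IsCoatom M)
    (hd : Cfsg.IsSigmaDecomposition M K U) (hU : U ≠ ⊥) :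
    Cfsg.fittingHallOf M = Cfsg.sigmaCore M := by
  by_contra hne
  exact hU (nonNilpotent_summary hG hM hd hne).1

theorem core_inf_U (hG : Cfsg.IsMinSimpleOddOrder G) (hM : IsCoatom M)
    (hd : Cfsg.IsSigmaDecomposition M K U) : Cfsg.sigmaCore M ⊓ U = ⊥ := by
  refine le_bot_iff.mp fun y hy => ?_
  rw [mem_bot]
  by_contra hy1
  obtain ⟨r, hr, hdr⟩ := exists_pow_prime hy1
  exact ((decomp_hall hG hM hd).2.1 r hr (hdr.trans (Subgroup.orderOf_dvd_natCard U hy.2))).2.2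
    (prime_of_mem_core hy.1 hr hdr)

/-- Frobenius type when `K = 1`. -/
theorem typeF_of_kappa_trivial (hG : Cfsg.IsMinSimpleOddOrder G) (hM : IsCoatom M)
    (hd : Cfsg.IsSigmaDecomposition M K U) (hK : K = ⊥) : Cfsg.IsOfTypeF M := by
  have hU := U_ne_bot hG hM hd hK
  have hF := fittingHall_eq_of_ne hG hM hd hU
  have hc : Cfsg.IsComplIn U (Cfsg.sigmaCore M) M := by
    have := hd.compl
    rwa [hK, bot_sup_eq] at this
  obtain ⟨⟨A₀, hA, hAn, hAc, hAx⟩, E₀, hE₀, hE₀e, hE₀f⟩ :=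
    complement_free_theorem hG hM hc fun e he he1 hτ => by
      by_contra h
      obtain ⟨z, hz, hz1⟩ := (Subgroup.bot_or_exists_ne_one _).resolve_left h
      obtain ⟨r, hr, hre⟩ := exists_pow_prime he1
      haveI := Fact.mk hr
      have hnot : r ∉ Cfsg.tau2 M := fun h2 => by
        rcases hτ r hr hre with h1 | h1
        · exact h2.2.2.2 h1.2.2.2.2
        · exact h2.2.2.2 h1.2.2.2
      have hσ : r ∉ Cfsg.sigma M :=
        not_sigma_of_dvd hG hM hc hr (hre.trans (Subgroup.orderOf_dvd_natCard U he))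
      rcases prime_of_hat hG hM ⟨hc.1 he, z, hz.1, hz1, (mem_centralizer_singleton_iff.mp hz.2).symm⟩ hre hσ
        with h1 | h1
      · exact hnot h1
      · rw [no_kappa_of_bot hd hK] at h1
        exact h1
  refine isOfTypeF_of (U₁ := A₀) (U₀ := E₀) (U := U) ?_ (hG.1.of_dvd_nat (card_subgroup_dvd_card M))
    (hF.symm ▸ sigmaCore_ne_bot hG hM) hU ?_ hA hAn hAc ?_ hE₀ hE₀e ?_
  · exact hG.2.2.2 M hM.1
  · rw [hF]
    refine ⟨sigmaCore_le M, hc.1, core_inf_U hG hM hd, fun m hm => ?_⟩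
    obtain ⟨a, ha, b, hb, rfl⟩ := hc.2.2.2 m hm
    exact ⟨a * b * a⁻¹, (mem_normalizer_iff.mp (le_normalizer_sigmaCore M (hc.1 ha)) b).mp hb, a, ha, by group⟩
  · exact fun x hx hx1 => hAx x (hF ▸ hx) hx1
  · intro u hu hu1 x hx hc'
    have := hE₀f u hu hu1
    have hxm : x ∈ Cfsg.sigmaCore M ⊓ centralizer ({u} : Set G) :=
      ⟨hF ▸ hx, mem_centralizer_singleton_iff.mpr hc'.symm⟩
    rwa [this, mem_bot] at hxm

/-- `M_F` of a normal Hall subgroup containing `M_F`. -/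
theorem fittingHallOf_eq_of_hall {T : Subgroup G} (hTM : T ≤ M) (hn : M ≤ normalizer (T : Set G))
    (hle : Cfsg.fittingHallOf M ≤ T) (hcop : (Nat.card T).Coprime (T.relIndex M)) :
    Cfsg.fittingHallOf T = Cfsg.fittingHallOf M := by
  refine le_antisymm ?_ ?_
  · set V := Cfsg.fittingHallOf T with hV
    have hVT : V ≤ T := map_subtype_le _
    have hVn : M ≤ normalizer (V : Set G) := fun m hm => by
      refine Cfsg.Lib.Coprime.conjMap_eq_self_iff.mp ?_
      show Cfsg.Agent.PF.TypeMap.im (MulAut.conj m) V = V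
      rw [← Cfsg.Agent.PF.TypeMap.fittingHallOf_im,
        show Cfsg.Agent.PF.TypeMap.im (MulAut.conj m) T = T from Cfsg.Lib.Coprime.conjMap_eq_self (hn hm)]
    have hVM : V ≤ M := hVT.trans hTM
    have h1 : V.subgroupOf M ≤ Cfsg.fittingHall M := le_sSup ⟨
      (normal_subgroupOf_iff_le_normalizer hVM).mpr hVn, by
        haveI := fittingHallOf_nilpotent T
        exact Group.nilpotent_of_mulEquiv (subgroupOfEquivOfLe hVM).symm, by
        rw [Nat.card_congr (subgroupOfEquivOfLe hVM).toEquiv]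
        show (Nat.card V).Coprime (V.relIndex M)
        rw [← relIndex_mul_relIndex V T M hVT hTM]
        refine Nat.Coprime.mul_right ?_ (hcop.coprime_dvd_left (card_dvd_of_le hVT))
        rw [hV, Cfsg.fittingHallOf, card_map_of_injective T.subtype_injective, relIndex, subgroupOf,
          comap_map_eq_self_of_injective T.subtype_injective]
        exact Cfsg.Lib.FittingHall.fittingHall_coprime⟩
    exact fun v hv => ⟨⟨v, hVM hv⟩, h1 hv, rfl⟩
  · set V := Cfsg.fittingHallOf M with hV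
    have hVM : V ≤ M := map_subtype_le _
    have h1 : V.subgroupOf T ≤ Cfsg.fittingHall T := le_sSup ⟨
      (normal_subgroupOf_iff_le_normalizer hle).mpr
        (hTM.trans (Cfsg.Lib.FittingHall.le_normalizer_fittingHallOf M)), by
        haveI := fittingHallOf_nilpotent M
        exact Group.nilpotent_of_mulEquiv (subgroupOfEquivOfLe hle).symm, by
        rw [Nat.card_congr (subgroupOfEquivOfLe hle).toEquiv]
        have h2 : (Nat.card V).Coprime (V.relIndex M) := by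
          rw [hV, Cfsg.fittingHallOf, card_map_of_injective M.subtype_injective, relIndex, subgroupOf,
            comap_map_eq_self_of_injective M.subtype_injective]
          exact Cfsg.Lib.FittingHall.fittingHall_coprime
        rw [← relIndex_mul_relIndex V T M hle hTM] at h2
        exact h2.coprime_dvd_right (dvd_mul_right _ _)⟩
    exact fun v hv => ⟨⟨v, hle hv⟩, h1 hv, rfl⟩

/-- A nontrivial nilpotent complement to `M_F` inside `M_σ` has normalizer in `M`. -/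
theorem hall_normalizer_le (hG : Cfsg.IsMinSimpleOddOrder G) (hM : IsCoatom M)
    (hc : Cfsg.IsComplIn (Cfsg.fittingHallOf M) D (Cfsg.sigmaCore M)) (hD : Group.IsNilpotent D)
    (hD1 : D ≠ ⊥) : normalizer (D : Set G) ≤ M := by
  obtain ⟨r, hr, hd⟩ := Nat.exists_prime_and_dvd (mt card_eq_one.mp hD1)
  haveI := Fact.mk hr
  have hσ : r ∈ Cfsg.sigma M := sigmaCore_isPi r hr (hd.trans (card_dvd_of_le hc.2.1))
  have hDH : (Nat.card (Cfsg.fittingHallOf M)).Coprime (Nat.card D) := by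
    have h2 : (Nat.card (Cfsg.fittingHallOf M)).Coprime ((Cfsg.fittingHallOf M).relIndex M) := by
      rw [Cfsg.fittingHallOf, card_map_of_injective M.subtype_injective, relIndex, subgroupOf,
        comap_map_eq_self_of_injective M.subtype_injective]
      exact Cfsg.Lib.FittingHall.fittingHall_coprime
    have h3 : (Cfsg.fittingHallOf M).relIndex (Cfsg.sigmaCore M) = Nat.card D := by
      have h4 := relIndex_mul_relIndex ⊥ (Cfsg.fittingHallOf M) (Cfsg.sigmaCore M) bot_le hc.1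
      rw [relIndex_bot_left, relIndex_bot_left, compl_card hc] at h4
      exact Nat.eq_of_mul_eq_mul_left Nat.card_pos h4
    rw [← h3]
    rw [← relIndex_mul_relIndex _ (Cfsg.sigmaCore M) M hc.1 (sigmaCore_le M)] at h2
    exact h2.coprime_dvd_right (dvd_mul_right _ _)
  obtain ⟨S⟩ : Nonempty (Sylow r D) := inferInstance
  haveI := hD
  haveI := Sylow.normal_of_normalizerCondition Group.normalizerCondition_of_isNilpotent S
  set R := (S : Subgroup D).map D.subtype with hR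
  have hRD : R ≤ D := map_subtype_le _
  have hDR : D ≤ normalizer (R : Set G) := by
    have h1 := Subgroup.le_normalizer_map (H := (S : Subgroup D)) D.subtype
    rwa [normalizer_eq_top (H := (S : Subgroup D)), ← MonoidHom.range_eq_map, range_subtype] at h1
  have hRO : FittingParts.O r D = R := by
    refine le_antisymm ?_ (FittingParts.le_of_isPGroup hRD hDR (S.2.map _))
    exact ((isSylowOf_sylow S).2.2 _ ((S.2.map _).to_sup_of_normal_left' (FittingParts.isPGroup D)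
      ((PiCoreOf.le _ D).trans hDR)) (sup_le hRD (PiCoreOf.le _ D)) le_sup_left).le.trans' le_sup_right
  have hRM : IsSylowOf r R M := by
    obtain ⟨T, hT, hRT⟩ := exists_sylowOf (p := r) (S.2.map D.subtype) (hRD.trans (hc.2.1.trans (sigmaCore_le M)))
    have hTσ := le_sigmaCore_of_pgroup hG hM hσ hT.2.1 hT.1
    suffices h : Nat.card T ∣ Nat.card R by
      have h0 : R = T := Cfsg.Lib.Coprime.eq_of_le_of_card_eq hRT (Nat.dvd_antisymm (card_dvd_of_le hRT) h)
      exact h0 ▸ hT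
    obtain ⟨k, hk⟩ := IsPGroup.iff_card.mp hT.2.1
    have h1 : Nat.card T ∣ Nat.card (Cfsg.fittingHallOf M) * Nat.card D :=
      compl_card hc ▸ card_dvd_of_le hTσ
    rw [hk] at h1 ⊢
    have hnd : ¬ r ∣ Nat.card (Cfsg.fittingHallOf M) := fun h2 =>
      hr.one_lt.ne' (Nat.dvd_one.mp (hDH.gcd_eq_one ▸ Nat.dvd_gcd h2 hd))
    have h2 : r ^ k ∣ Nat.card D := ((Nat.Coprime.pow_left k (hr.coprime_iff_not_dvd.mpr hnd))).dvd_of_dvd_mul_left h1
    rw [hR, card_map_of_injective D.subtype_injective, S.card_eq_multiplicity]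
    exact Nat.pow_dvd_pow r ((hr.pow_dvd_iff_le_factorization Nat.card_pos.ne').mp h2)
  exact (PiCoreOf.normalizer_le {r} D).trans ((congrArg (fun T : Subgroup G => normalizer (T : Set G)) hRO).le.trans
    (normalizer_le hσ hRM))

/-- A `W₁`-invariant nilpotent complement to `M_F` in `M'`. -/
theorem exists_invariant_derived_compl (hG : Cfsg.IsMinSimpleOddOrder G) (hM : IsCoatom M)
    (hKM : K ≤ M) (hK : ∀ r : ℕ, r.Prime → r ∣ Nat.card K → r ∉ Cfsg.sigma M) :
    ∃ D : Subgroup G, Group.IsNilpotent D ∧ K ≤ normalizer (D : Set G) ∧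
      Cfsg.IsComplIn (Cfsg.fittingHallOf M) D ⁅M, M⁆ := by
  obtain ⟨-, hFσ, hσ', -, hnil⟩ := fittingHall_theorem hG hM
  set F := Cfsg.fittingHallOf M with hF
  have hFM : F ≤ M := map_subtype_le _
  have hFn := Cfsg.Lib.FittingHall.le_normalizer_fittingHallOf M
  have hcop : (Nat.card F).Coprime (F.relIndex M) := by
    rw [hF, Cfsg.fittingHallOf, card_map_of_injective M.subtype_injective, relIndex, subgroupOf,
      comap_map_eq_self_of_injective M.subtype_injective]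
    exact Cfsg.Lib.FittingHall.fittingHall_coprime
  obtain ⟨C, hCM, hCsup, hCc⟩ := Cfsg.Lib.Coprime.exists_complement_in hFM hFn hcop
  have hFK : (Nat.card F).Coprime (Nat.card K) := Nat.coprime_of_dvd fun r hr h1 h2 =>
    hK r hr h2 (sigmaCore_isPi r hr (h1.trans (card_dvd_of_le hFσ)))
  obtain ⟨w, hw, hKC⟩ := Cfsg.Lib.Coprime.exists_conj_le_of_coprime (hCM.trans hFn) (hCc ▸ hcop)
    (Or.inl (Cfsg.Lib.Coprime.isSolvable_of_le hFM (hG.2.2.2 M hM.1))) (hCsup.symm ▸ hKM) hFK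
  set C' := conjMap w C with hC'
  have hC'M : C' ≤ M := (Cfsg.Lib.Coprime.conjMap_mono hCM).trans
    (Cfsg.Lib.Coprime.conjMap_eq_self (le_normalizer (hFM hw))).le
  have hinf : F ⊓ C' = ⊥ := Cfsg.Lib.Coprime.inf_eq_bot_of_coprime
    (by rw [hC', Cfsg.Lib.Coprime.card_conjMap, hCc]; exact hcop)
  have hsup : F ⊔ C' = M := by
    rw [hC', ← Cfsg.Lib.Coprime.conjMap_eq_self (le_normalizer hw : w ∈ normalizer (F : Set G)),
      ← Cfsg.Lib.Coprime.conjMap_sup, hCsup, Cfsg.Lib.Coprime.conjMap_eq_self (le_normalizer (hFM hw))]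
  refine ⟨C' ⊓ ⁅M, M⁆, ?_, Cfsg.Lib.Coprime.le_normalizer_inf (hKC.trans le_normalizer)
    (hKM.trans (commutator_normal M)), hFσ.trans hσ', inf_le_right, ?_, fun y hy => ?_⟩
  · set f : ↥(C' ⊓ ⁅M, M⁆) →* ↥M ⧸ Cfsg.fittingHall ↥M :=
      (QuotientGroup.mk' _).comp (inclusion (inf_le_left.trans hC'M)) with hf
    have hinj : Function.Injective f := by
      refine (injective_iff_map_eq_one f).mpr fun a ha => ?_
      have h1 : (a : G) ∈ F ⊓ C' :=
        ⟨coe_mem_fittingHallOf.mpr ((QuotientGroup.eq_one_iff _).mp ha : inclusion _ a ∈ _), a.2.1⟩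
      rw [hinf, mem_bot] at h1
      exact Subtype.ext h1
    have hle : f.range ≤ (commutator ↥M).map (QuotientGroup.mk' (Cfsg.fittingHall ↥M)) := by
      rintro _ ⟨a, rfl⟩
      refine ⟨inclusion (inf_le_left.trans hC'M) a, ?_, rfl⟩
      have h1 : (commutator ↥M).map M.subtype = ⁅M, M⁆ := map_subtype_commutator M
      obtain ⟨b, hb, he⟩ := h1.ge a.2.2
      have : b = inclusion (inf_le_left.trans hC'M) a := Subtype.ext he
      exact this ▸ hb
    haveI := hnil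
    haveI : Group.IsNilpotent ↥f.range := CN.nilpotent_of_le hle hnil
    exact Group.nilpotent_of_mulEquiv (MonoidHom.ofInjective hinj).symm
  · exact le_bot_iff.mp ((inf_le_inf_left _ inf_le_left).trans hinf.le)
  · obtain ⟨a, ha, c, hc, rfl⟩ := (Cfsg.Lib.Coprime.mem_sup_of_le_normalizer (hC'M.trans hFn)).mp
      (hsup.symm ▸ Subgroup.commutator_le_self M hy : y ∈ F ⊔ C')
    exact ⟨a, ha, c, ⟨hc, by simpa using mul_mem (inv_mem ((hFσ.trans hσ') ha)) hy⟩, rfl⟩

/-- `M' ∩ K = 1` and `M = M' K`. -/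
theorem derived_kappa_compl (hG : Cfsg.IsMinSimpleOddOrder G) (hM : IsCoatom M)
    (hd : Cfsg.IsSigmaDecomposition M K U) (hK : K ≠ ⊥) :
    Cfsg.IsComplIn ⁅M, M⁆ K M ∧ (Nat.card ↥⁅M, M⁆).Coprime (⁅M, M⁆.relIndex M) ∧
      (Nat.card K).Coprime (K.relIndex M) := by
  obtain ⟨hder, -⟩ := derived_theorem hG hM hd hK
  have hKM : K ≤ M := hd.hall.1
  have hKh : (Nat.card K).Coprime (K.relIndex M) :=
    Nat.coprime_of_dvd fun r hr h1 h2 => hd.hall.2.2 r hr (hd.hall.2.1 r hr h1) h2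
  have hcop : (Nat.card ↥⁅M, M⁆).Coprime (Nat.card K) := Nat.coprime_of_dvd fun r hr h1 h2 => by
    have hκ := hd.hall.2.1 r hr h2
    rw [hder] at h1
    rcases dvd_card_sup (hd.compl.1.trans (le_normalizer_sigmaCore M)) hr (sup_comm U _ ▸ h1) with h3 | h3
    · exact hκ.2.2.1 (sigmaCore_isPi r hr h3)
    · exact ((decomp_hall hG hM hd).2.1 r hr h3).2.1 hκ
  have hc : Cfsg.IsComplIn ⁅M, M⁆ K M := ⟨Subgroup.commutator_le_self M, hKM,
    Cfsg.Lib.Coprime.inf_eq_bot_of_coprime hcop, fun m hm => by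
      obtain ⟨a, ha, b, hb, rfl⟩ := hd.compl.2.2.2 m hm
      obtain ⟨s, hs, k, hk, rfl⟩ := (Cfsg.Lib.Coprime.mem_sup_of_le_normalizer
        (hKM.trans (le_normalizer_sigmaCore M))).mp (sup_comm K (Cfsg.sigmaCore M) ▸ hb)
      exact ⟨a * s, hder.symm ▸ mul_mem_sup ha hs, k, hk, by group⟩⟩
  refine ⟨hc, ?_, hKh⟩
  have h1 := relIndex_mul_relIndex ⊥ ⁅M, M⁆ M bot_le (Subgroup.commutator_le_self M)
  rw [relIndex_bot_left, relIndex_bot_left, compl_card hc] at h1
  rwa [Nat.eq_of_mul_eq_mul_left Nat.card_pos h1]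

/-- The data of type P. -/
theorem typePWith_of (hG : Cfsg.IsMinSimpleOddOrder G) (hM : IsCoatom M)
    (hd : Cfsg.IsSigmaDecomposition M K U) (hK : K ≠ ⊥) (hDn : Group.IsNilpotent D)
    (hKD : K ≤ normalizer (D : Set G)) (hDc : Cfsg.IsComplIn (Cfsg.fittingHallOf M) D ⁅M, M⁆) :
    Cfsg.IsTypePWith M K D (fix(M, K)) := by
  obtain ⟨hc, -, hKh⟩ := derived_kappa_compl hG hM hd hK
  obtain ⟨hFcyc, hFne, hFle, hHnc⟩ := fix_theorem hG hM hd hK
  obtain ⟨h2, heq, hle⟩ := fitting_theorem hG hM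
  have hκne : (Cfsg.kappa M).Nonempty := by
    obtain ⟨r, hr, hd'⟩ := Nat.exists_prime_and_dvd (mt card_eq_one.mp hK)
    exact ⟨r, hd.hall.2.1 r hr hd'⟩
  have hp : KappaPair M K := ⟨hM, hd.hall, hK⟩
  obtain ⟨L, d⟩ := hp.exists_dual hG
  have hFM' : fix(M, K) ≤ ⁅M, M⁆ := inf_le_left.trans (sigmaCore_le_derived hG hM)
  refine ⟨hK, hd.cyclic, hKh, hc, hDn, hKD, hDc, hHnc, ?_, ?_, hle hκne,
    le_inf hFle (derived_theorem hG hM hd hK).2, fun x hx hx1 => le_antisymm ?_ ?_,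
    hK, hFne, hp.disjoint, fun a ha b hb => d.comm hG (mem_sup_left ha) (mem_sup_right hb),
    d.cyclic hG, fun X hX hne => le_antisymm ?_ ?_⟩
  · rw [sup_comm, ← heq]; exact h2
  · rw [sup_comm, ← heq]
  · intro y hy
    have h1 : y ∈ M ⊓ centralizer ({x} : Set G) := ⟨Subgroup.commutator_le_self M hy.1, hy.2⟩
    rw [((kappa_centralizer hG hM hd.cyclic hd.hall).2 hK x hx hx1)] at h1
    obtain ⟨k, hk, f, hf, rfl⟩ := hp.exists_mul h1
    have hf' : f ∈ ⁅M, M⁆ := hFM' hf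
    have hy' : k * f ∈ ⁅M, M⁆ := hy.1
    have h3 : k ∈ ⁅M, M⁆ ⊓ K := ⟨by simpa using mul_mem hy' (inv_mem hf'), hk⟩
    rw [hc.2.2.1, mem_bot] at h3
    rwa [h3, one_mul]
  · exact fun y hy => ⟨hFM' hy, mem_centralizer_singleton_iff.mpr (mem_centralizer_iff.mp hy.2 x hx).symm⟩
  · intro n hn
    obtain ⟨z, hz⟩ := hne
    have hti := d.hat_ti hG
    rw [← hti.2]
    by_contra hnn
    have h1 := hti.1 n hnn z (hX hz) (hX ((Subgroup.mem_set_normalizer_iff.mp hn z).mp hz))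
    exact (hX hz).2 (Or.inl (h1 ▸ one_mem _))
  · intro n hn
    refine Subgroup.mem_set_normalizer_iff.mpr fun z => ?_
    constructor <;> intro hz
    · rw [d.comm hG hn (hX hz).1, mul_inv_cancel_right]; exact hz
    · have h1 : z = n * z * n⁻¹ := by
        have h2 := d.comm hG (inv_mem hn) (hX hz).1
        calc z = n⁻¹ * (n * z * n⁻¹) * n := by group
          _ = n * z * n⁻¹ := by rw [h2, inv_mul_cancel_right]
      rwa [h1]

/-- In a subgroup with data of type P the set `κ(M)` is not empty. -/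
theorem kappa_of_typeP (hG : Cfsg.IsMinSimpleOddOrder G) (hM : IsCoatom M)
    (hd : Cfsg.IsSigmaDecomposition M K U) (hP : Cfsg.IsTypePWith M W₁ D W₂) : K ≠ ⊥ := fun hK => by
  obtain ⟨r, hr, hdr⟩ := Nat.exists_prime_and_dvd (mt card_eq_one.mp hP.W₁_ne)
  haveI := Fact.mk hr
  have hW₁M : W₁ ≤ M := hP.W₁_compl.2.1
  obtain ⟨u, hu⟩ := exists_prime_orderOf_dvd_card' r hdr
  have huo : orderOf (u : G) = r := (Subgroup.orderOf_coe u).trans hu
  have hu1 : (u : G) ≠ 1 := fun e => by rw [e, orderOf_one] at huo; exact hr.one_lt.ne huo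
  obtain ⟨z, hz, hz1⟩ := (Subgroup.bot_or_exists_ne_one W₂).resolve_left hP.selfNormalizing.2.1
  have hzσ : z ∈ Cfsg.sigmaCore M := fittingHallOf_le_sigmaCore hG hM (hP.W₂_le hz).1
  have huz : (u : G) * z = z * u := hP.selfNormalizing.2.2.2.1 u u.2 z hz
  have hrd : ¬ r ∣ Nat.card ↥⁅M, M⁆ := fun h => by
    have h1 := hP.W₁_hall
    have h2 := relIndex_mul_relIndex ⊥ W₁ M bot_le hW₁M
    rw [relIndex_bot_left, relIndex_bot_left, compl_card hP.W₁_compl, mul_comm (Nat.card ↥⁅M, M⁆)] at h2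
    rw [Nat.eq_of_mul_eq_mul_left Nat.card_pos h2] at h1
    exact hr.one_lt.ne' (Nat.dvd_one.mp (h1.gcd_eq_one ▸ Nat.dvd_gcd hdr h))
  have hσ : r ∉ Cfsg.sigma M := fun h => hrd (by
    have h1 : (u : G) ∈ Cfsg.sigmaCore M := le_sigmaCore_of_pgroup hG hM h
      (isPGroup_of_card (p := r) (by rw [Nat.card_zpowers, huo])) (zpowers_le.mpr (hW₁M u.2)) (mem_zpowers _)
    exact huo ▸ (Subgroup.orderOf_dvd_natCard _ (sigmaCore_le_derived hG hM h1)))
  rcases prime_of_hat hG hM ⟨hW₁M u.2, z, hzσ, hz1, huz⟩ (huo ▸ dvd_rfl) hσ with hτ | hκ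
  · haveI := hP.W₁_cyclic
    refine hτ.2.2.2 ?_
    by_contra h
    obtain ⟨E, hEM, hE, hEc⟩ := exists_elementary h
    obtain ⟨S, hS, hES⟩ := exists_sylowOf (isPGroup_of_pow hE.2) hEM
    obtain ⟨k, hk⟩ := IsPGroup.iff_card.mp hS.2.1
    have h1 : r ^ k ∣ Nat.card ↥⁅M, M⁆ * Nat.card W₁ := compl_card hP.W₁_compl ▸ hk ▸ card_dvd_of_le hS.1
    have h2 : r ^ k ∣ Nat.card W₁ := (Nat.Coprime.pow_left k (hr.coprime_iff_not_dvd.mpr hrd)).dvd_of_dvd_mul_left h1
    obtain ⟨T⟩ : Nonempty (Sylow r W₁) := inferInstance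
    have hTM : IsSylowOf r ((T : Subgroup W₁).map W₁.subtype) M := by
      obtain ⟨T', hT', hle⟩ := exists_sylowOf (T.2.map W₁.subtype) ((map_subtype_le _).trans hW₁M)
      obtain ⟨k', hk'⟩ := IsPGroup.iff_card.mp hT'.2.1
      have h3 : r ^ k' ∣ Nat.card ↥⁅M, M⁆ * Nat.card W₁ := compl_card hP.W₁_compl ▸ hk' ▸ card_dvd_of_le hT'.1
      have h4 : r ^ k' ∣ Nat.card W₁ :=
        (Nat.Coprime.pow_left k' (hr.coprime_iff_not_dvd.mpr hrd)).dvd_of_dvd_mul_left h3
      have h5 : Nat.card T' ∣ Nat.card ↥((T : Subgroup W₁).map W₁.subtype) := by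
        rw [hk', card_map_of_injective W₁.subtype_injective, T.card_eq_multiplicity]
        exact Nat.pow_dvd_pow r ((hr.pow_dvd_iff_le_factorization Nat.card_pos.ne').mp h4)
      rw [Cfsg.Lib.Coprime.eq_of_le_of_card_eq hle (Nat.dvd_antisymm (card_dvd_of_le hle) h5)]
      exact hT'
    haveI : IsCyclic ↥((T : Subgroup W₁).map W₁.subtype) :=
      isCyclic_of_injective (inclusion (map_subtype_le (T : Subgroup W₁))) (inclusion_injective _)
    exact not_le_of_pRank_one_cyclic hTM hE hEc hEM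
  · rw [no_kappa_of_bot hd hK] at hκ
    exact hκ
where
  not_le_of_pRank_one_cyclic {r : ℕ} [Fact r.Prime] {T M E : Subgroup G} (hT : IsSylowOf r T M) [hc : IsCyclic T]
      (hE : Cfsg.IsElementaryAbelian r E) (hEc : r ^ 2 ≤ Nat.card E) (hEM : E ≤ M) : False :=
    not_pRankLE_of hE hEM hEc (pRankLE_one_of_sylow_cyclic hT hc)

end Cfsg.Lib.OddLocal.RankTwoMax
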