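import Cfsg.Agent.OddLocal.ScnUniqueness

/-!
# The uniqueness theorem
-/

set_option linter.unusedSectionVars false
set_option linter.style.haveILetI false

namespace Cfsg.Lib.OddLocal.ScnUniqueness

open Subgroup Uniqueness

universe u

variable {G : Type u} [Group G] [Finite G] {p : ℕ} [hp : Fact p.Prime]

/-- An abelian `p`-group of rank three lies in a unique maximal subgroup. -/
theorem unique_of_abelian (hG : Cfsg.IsMinSimpleOddOrder G) {E : Subgroup G}
    (hE : Cfsg.IsElementaryAbelian p E) (hEc : p ^ 3 ≤ Nat.card E) : Cfsg.InUniqueMaximal E := by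
  have h23 : p ^ 2 ≤ p ^ 3 := Nat.pow_le_pow_right hp.out.pos (by norm_num)
  have hEp : IsPGroup p E := isPGroup_of_pow hE.2
  have hnc : ¬ IsCyclic E := not_isCyclic_of_card hE.2 (h23.trans hEc)
  have hE1 : E ≠ ⊥ := fun h0 => hnc (by rw [h0]; infer_instance)
  obtain ⟨P, hEP⟩ := hEp.exists_le_sylow
  obtain ⟨A, hA, hA3⟩ := exists_scn3 (ne_two hG hEp hE1) P.2 (not_pRankLE_of hE hEP hEc)
  exact unique_of_rank_three hG (P.2.to_le hA.1) (mul_comm_of_scn hA) hA3
    (Hyp.unique_scn ⟨hG, hA, hA3⟩) hEp hnc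
    (not_pRankLE_of hE (fun a ha => mem_centralizer_iff.mpr fun b hb =>
      ThompsonTransitivity.mul_comm_of hE.1 hb ha) hEc)

/-- The uniqueness theorem. -/
theorem unique_of_rankLE (hG : Cfsg.IsMinSimpleOddOrder G) {K : Subgroup G} (hK : K ≠ ⊤)
    (hK2 : ¬ Cfsg.RankLE 1 K)
    (hK3 : ¬ Cfsg.RankLE 2 K ∨ ¬ Cfsg.RankLE 2 (centralizer (K : Set G))) :
    Cfsg.InUniqueMaximal K := by
  simp only [Cfsg.RankLE, not_forall] at hK2 hK3
  rcases hK3 with ⟨q, hq, hq3⟩ | ⟨q, hq, hq3⟩ <;> haveI := Fact.mk hq <;>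
    obtain ⟨E, hEK, hE, hEc⟩ := exists_elementary hq3
  · exact unique_of_le (unique_of_abelian hG hE hEc) hEK hK
  · obtain ⟨s, hs, hs2⟩ := hK2
    haveI := Fact.mk hs
    obtain ⟨B, hBK, hB, hBc⟩ := exists_elementary hs2
    exact unique_of_centralizes hG (unique_of_abelian hG hE hEc) (le_centralizer_iff.mp hEK) hBK hB hBc

end Cfsg.Lib.OddLocal.ScnUniqueness
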